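import Mathlib.GroupTheory.Transfer
import Mathlib.Data.ZMod.Basic
import Mathlib.GroupTheory.SpecificGroups.Cyclic
import Mathlib.Tactic.Group

/-!
# Splitting of a central subgroup of order two over a subgroup of odd index  (U-M, piece (D))

The case of Gaschuetz's theorem needed for the uniqueness of the involution centraliser.
-/

set_option autoImplicit false

namespace Cfsg.Agent.MonsterU.Gasch

/-- If a homomorphism `χ : H →* A` to a commutative group does not kill the central involution
`z ∈ H` and `H` has odd index in `G`, then some homomorphism `G →* A` does not kill `z`;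
in fact the transfer agrees with `χ` at `z`. -/
theorem transfer_center {G A : Type*} [Group G] [CommGroup A] {H : Subgroup G} [H.FiniteIndex]
    (χ : H →* A) {z : G} (hz : z * z = 1) (hc : ∀ g, g * z = z * g) (hodd : Odd H.index)
    (hzH : z ∈ H) : χ.transfer z = χ ⟨z, hzH⟩ := by
  have key : ∀ (k : ℕ) (g₀ : G), g₀⁻¹ * z ^ k * g₀ ∈ H → g₀⁻¹ * z ^ k * g₀ = z ^ k := by
    intro k g₀ _
    have : Commute g₀ (z ^ k) := (show Commute g₀ z from hc g₀).pow_right k
    rw [mul_assoc, ← this.eq, inv_mul_cancel_left]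
  rw [MonoidHom.transfer_eq_pow χ z key]
  congr 1
  apply Subtype.ext
  obtain ⟨k, hk⟩ := hodd
  simp only [hk, pow_succ, pow_mul, pow_two, hz, one_pow, one_mul]

/-- A central involution which has a complement in a subgroup of odd index has a complement:
there is a homomorphism `G →* A` which does not kill it. -/
theorem exists_hom {G A : Type*} [Group G] [CommGroup A] {H : Subgroup G} [H.FiniteIndex]
    (χ : H →* A) {z : G} (hz : z * z = 1) (hc : ∀ g, g * z = z * g) (hodd : Odd H.index)
    (hzH : z ∈ H) (hχ : χ ⟨z, hzH⟩ ≠ 1) : ∃ ψ : G →* A, ψ z = χ ⟨z, hzH⟩ ∧ ψ z ≠ 1 :=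
  ⟨χ.transfer, transfer_center χ hz hc hodd hzH, by
    rw [transfer_center χ hz hc hodd hzH]; exact hχ⟩

/-- **Splitting**: `R` is a group with a central involution `z`, `π : R →* X` is onto with kernel
`{1, z}`, `F ≤ X` has odd index and there is a section `s : F →* R` of `π` over `F`.
Then there is a section `X →* R` of `π`. -/
theorem exists_section {R X : Type*} [Group R] [Group X] [Finite X] (π : R →* X)
    (hπ : Function.Surjective π) {z : R} (hker : ∀ r, π r = 1 ↔ r = 1 ∨ r = z) (hz1 : z ≠ 1)
    (F : Subgroup X) (hodd : Odd F.index) (s : F →* R) (hs : ∀ f : F, π (s f) = f) :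
    ∃ S : X →* R, ∀ x, π (S x) = x := by
  classical
  have hπz : π z = 1 := (hker z).2 (Or.inr rfl)
  have hz : z * z = 1 := by
    rcases (hker (z * z)).1 (by rw [map_mul, hπz, one_mul]) with h | h
    · exact h
    · exact absurd (mul_eq_left.1 h) hz1
  have hc : ∀ g, g * z = z * g := by
    intro g
    rcases (hker (g * z * g⁻¹)).1 (by rw [map_mul, map_mul, hπz, mul_one, map_inv,
      mul_inv_cancel]) with h | h
    · exact absurd (by simpa using h) hz1
    · calc g * z = g * z * g⁻¹ * g := by group
        _ = z * g := by rw [h]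
  have eq_or : ∀ a b : R, π a = π b → a = b ∨ a = z * b := by
    intro a b h
    rcases (hker (a * b⁻¹)).1 (by rw [map_mul, map_inv, h, mul_inv_cancel]) with h1 | h1
    · exact Or.inl (by rwa [mul_inv_eq_one] at h1)
    · exact Or.inr (by rw [← h1]; group)
  -- the sign on the preimage of `F`
  let H : Subgroup R := F.comap π
  have hH : H.index = F.index := Subgroup.index_comap_of_surjective F hπ
  have : H.FiniteIndex := ⟨by rw [hH]; exact Nat.ne_of_gt (Nat.pos_of_ne_zero (by
    intro h; rw [h] at hodd; exact (by decide : ¬ Odd 0) hodd))⟩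
  let sg : H → Multiplicative (ZMod 2) := fun h =>
    if (h : R) = s ⟨π h, h.2⟩ then 1 else Multiplicative.ofAdd 1
  have sg_one : ∀ h : H, sg h = 1 ↔ (h : R) = s ⟨π h, h.2⟩ := by
    intro h
    simp only [sg]
    split_ifs with h1
    · exact iff_of_true rfl h1
    · exact iff_of_false (by decide) h1
  have two : ∀ a : Multiplicative (ZMod 2), a = 1 ∨ a = Multiplicative.ofAdd 1 := by decide
  have alt : ∀ h : H, (h : R) = s ⟨π h, h.2⟩ ∨ (h : R) = z * s ⟨π h, h.2⟩ := fun h =>
    eq_or _ _ (by rw [hs])
  have ne : ∀ a : R, a ≠ z * a := fun a h => hz1 (right_eq_mul.1 h)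
  let χ : H →* Multiplicative (ZMod 2) :=
    { toFun := sg
      map_one' := (sg_one 1).2 (by
        have : (⟨π ((1 : H) : R), (1 : H).2⟩ : F) = 1 := Subtype.ext (by simp)
        rw [this, map_one]; rfl)
      map_mul' := by
        intro a b
        have hab : s ⟨π ((a * b : H) : R), (a * b).2⟩ = s ⟨π a, a.2⟩ * s ⟨π b, b.2⟩ := by
          rw [← map_mul]
          congr 1
          exact Subtype.ext (by simp)
        have m1 : sg (a * b) = 1 ↔ (a : R) * b = s ⟨π a, a.2⟩ * s ⟨π b, b.2⟩ := by
          rw [sg_one, hab]; rfl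
        rcases alt a with ha | ha <;> rcases alt b with hb | hb
        · rw [(sg_one a).2 ha, (sg_one b).2 hb, one_mul, m1, ← ha, ← hb]
        · have h1 : sg b ≠ 1 := fun h => ne _ (((sg_one b).1 h).symm.trans hb)
          have h2 : sg (a * b) ≠ 1 := fun h => by
            rw [m1, ← ha] at h
            exact ne _ ((mul_left_cancel h).symm.trans hb)
          rw [(sg_one a).2 ha, one_mul, (two _).resolve_left h1, (two _).resolve_left h2]
        · have h1 : sg a ≠ 1 := fun h => ne _ (((sg_one a).1 h).symm.trans ha)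
          have h2 : sg (a * b) ≠ 1 := fun h => by
            rw [m1, ← hb] at h
            exact ne _ ((mul_right_cancel h).symm.trans ha)
          rw [(sg_one b).2 hb, mul_one, (two _).resolve_left h1, (two _).resolve_left h2]
        · have h1 : sg a ≠ 1 := fun h => ne _ (((sg_one a).1 h).symm.trans ha)
          have h3 : sg b ≠ 1 := fun h => ne _ (((sg_one b).1 h).symm.trans hb)
          rw [(two _).resolve_left h1, (two _).resolve_left h3,
            show (Multiplicative.ofAdd (1 : ZMod 2)) * Multiplicative.ofAdd 1 = 1 by decide, m1]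
          conv_lhs => rw [ha, hb]
          calc z * s ⟨π a, a.2⟩ * (z * s ⟨π b, b.2⟩)
              = z * (s ⟨π a, a.2⟩ * z) * s ⟨π b, b.2⟩ := by group
            _ = z * (z * s ⟨π a, a.2⟩) * s ⟨π b, b.2⟩ := by rw [hc]
            _ = (z * z) * (s ⟨π a, a.2⟩ * s ⟨π b, b.2⟩) := by group
            _ = _ := by rw [hz, one_mul] }
  have hzH : z ∈ H := by
    show π z ∈ F
    rw [hπz]; exact F.one_mem
  have hχz : χ ⟨z, hzH⟩ ≠ 1 := by
    intro h
    have h1 := (sg_one ⟨z, hzH⟩).1 h
    have h2 : (⟨π z, hzH⟩ : F) = 1 := Subtype.ext hπz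
    simp only [h2, map_one] at h1
    exact hz1 h1
  obtain ⟨ψ, -, hψ⟩ := exists_hom χ hz hc (by rw [hH]; exact hodd) hzH hχz
  -- for each `x` there is exactly one lift in the kernel of `ψ`
  have ex : ∀ x : X, ∃ r : R, π r = x ∧ ψ r = 1 := by
    intro x
    obtain ⟨r, rfl⟩ := hπ x
    by_cases h : ψ r = 1
    · exact ⟨r, rfl, h⟩
    · refine ⟨z * r, by rw [map_mul, hπz, one_mul], ?_⟩
      rw [map_mul, (two _).resolve_left hψ, (two _).resolve_left h]
      decide
  have uniq : ∀ r r' : R, π r = π r' → ψ r = 1 → ψ r' = 1 → r = r' := by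
    intro r r' h h1 h2
    rcases eq_or r r' h with h3 | h3
    · exact h3
    · exfalso
      rw [h3, map_mul, h2, mul_one] at h1
      exact hψ h1
  choose S hS1 hS2 using ex
  exact ⟨{ toFun := S
           map_one' := uniq _ _ (by rw [hS1, map_one]) (hS2 _) (map_one _)
           map_mul' := fun x y => uniq _ _ (by rw [hS1, map_mul, hS1, hS1]) (hS2 _)
             (by rw [map_mul, hS2, hS2, one_mul]) }, hS1⟩

end Cfsg.Agent.MonsterU.Gasch
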