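import Cfsg.Agent.MonsterU.ModRel
import Cfsg.Agent.MonsterU.ModGen

/-!
# The uniqueness of the 24-dimensional module of `Co1` over the field with two elements
-/

set_option autoImplicit false

universe u

namespace Cfsg.Agent.MonsterU.ModFinal

open Cfsg Cfsg.Spor Cfsg.Agent.MonsterU.Lam2 Cfsg.Agent.MonsterX.FrameAct
open Cfsg.Agent.MonsterX.Lin24

/-- An element of `Co1` acting through the matrix `c` comes from an element of `Co0` with the code matrix `c`. -/
theorem lift_rp {g : Co1} {c : ℕ} (h : ModCode.Rp g c) :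
    ∃ A : Co0, (QuotientGroup.mk A : Co1) = g ∧ ModGen.Rp A c := by
  obtain ⟨A, rfl⟩ := QuotientGroup.mk_surjective g
  refine ⟨A, rfl, fun v => ?_⟩
  have h1 := h (cl v)
  rw [mk_smul, smul_cl, ModCode.code_cl, ModCode.code_cl] at h1
  exact h1

theorem mt_eq : Nat.beq (ModCode.mt 0) ModGen.e0C = true ∧ Nat.beq (ModCode.mt 1) ModGen.e1C = true ∧
    Nat.beq (ModCode.mt 7) ModGen.l1C = true ∧ Nat.beq (ModCode.mt 8) ModGen.l2C = true ∧
    Nat.beq (ModCode.mt 9) ModGen.hC = true := by decide +kernel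

/-- Generation. -/
theorem gen (S : Subgroup Co1) (h0 : ModRel.el 0 ∈ S) (h1 : ModRel.el 1 ∈ S) (h7 : ModRel.el 7 ∈ S)
    (h8 : ModRel.el 8 ∈ S) (h9 : ModRel.el 9 ∈ S) : S = ⊤ := by
  have key : ∀ a < 13, ModRel.el a ∈ S → ∀ c, Nat.beq (ModCode.mt a) c = true →
      ∃ A : Co0, (QuotientGroup.mk A : Co1) ∈ S ∧ ModGen.Rp A c := by
    intro a ha hS c hc
    obtain ⟨A, hA, hr⟩ := lift_rp (ModRel.rp_el ha)
    rw [Nat.eq_of_beq_eq_true hc] at hr
    exact ⟨A, by rw [hA]; exact hS, hr⟩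
  apply ModGen.eq_top1 S
  intro c hc
  simp only [List.mem_cons, List.not_mem_nil, or_false] at hc
  rcases hc with rfl | rfl | rfl | rfl | rfl
  · exact key 0 (by norm_num) h0 _ mt_eq.1
  · exact key 1 (by norm_num) h1 _ mt_eq.2.1
  · exact key 7 (by norm_num) h7 _ mt_eq.2.2.1
  · exact key 8 (by norm_num) h8 _ mt_eq.2.2.2.1
  · exact key 9 (by norm_num) h9 _ mt_eq.2.2.2.2

/-- **(A1)** Every nontrivial 24-dimensional module of `Co1` over the field with two elements is `Λ / 2Λ`. -/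
theorem moduleThm : Ch.ModuleThm.{u} := (ModRel.rels gen).moduleThm

end Cfsg.Agent.MonsterU.ModFinal
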