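import Cfsg.Agent.MonsterU.CoFrameL2

/-!
# Orders and irreducibility for the frame flag

`card_W1 = 2`, `card_W12 = 2^12`, `card_W23 = 2^23`, `card_E = 2^11`; the element `X` of order 23 acts
fixed-point-freely on `W12/W1`, `W23/W12`, `E`, hence irreducibly (counting modulo 23); the subgroups of
`Λ/2Λ` invariant under the stabiliser `F` of the frame are `0, W1, W12, W23, Λ/2Λ`.
-/

set_option autoImplicit false
open Cfsg

namespace Cfsg.Agent.MonsterU.CoFrameIrr

open Cfsg.Agent.MonsterU.CoFrame
open Cfsg.Agent.MonsterU.CoFrameAct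
open Cfsg.Agent.MonsterU.CoFrameSep
open Cfsg.Agent.MonsterU.CoFrameL2
open Cfsg.Agent.SporadicA
open Cfsg.Agent.SporadicA.Co0Mono
open Cfsg.Agent.SporadicA.Co1Simple
open Cfsg.Agent.SporadicStructure.Co0Base (e8 e8_coe)
open Cfsg.Agent.SporadicStructure.LeechBase (zmod2_cases)
open Cfsg.Agent.CoOneType.SignFacts
open Cfsg.Agent.CoOneType.CoOneE (pr pr_surjective E mem_E pr_sign_eq_iff pr_eq_iff)
open Cfsg.Agent.MonsterU.Lam2 (L2 cl cl_surjective cl_eq smul_cl bf bf_cl_eq_zero card_L2 mem_twoL
  cl_eq_zero)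

/-! ### Orders -/

/-- The parity homomorphism. -/
def par : leechLattice →+ ZMod 2 where
  toFun v := (((v : GolayPt → ℤ) none : ℤ) : ZMod 2)
  map_zero' := by
    show (((0 : ℤ)) : ZMod 2) = 0
    simp
  map_add' u v := by
    show (((u : GolayPt → ℤ) none + (v : GolayPt → ℤ) none : ℤ) : ZMod 2) = _
    rw [Int.cast_add]

theorem ker_par : par.ker = V23 := by
  ext v
  rw [AddMonoidHom.mem_ker]
  show (((v : GolayPt → ℤ) none : ℤ) : ZMod 2) = 0 ↔ _
  rw [ZMod.intCast_zmod_eq_zero_iff_dvd]
  constructor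
  · intro h
    exact mem_V23_of_one (i := none) (by exact_mod_cast h)
  · intro h
    have := h none
    exact_mod_cast this

theorem par_surjective : Function.Surjective par := by
  intro a
  rcases zmod2_cases a with rfl | rfl
  · exact ⟨0, map_zero _⟩
  · refine ⟨u0, ?_⟩
    show (((u0 : GolayPt → ℤ) none : ℤ) : ZMod 2) = 1
    rw [u0_coe, if_pos rfl]; decide

theorem index_V23 : V23.index = 2 := by
  rw [← ker_par, AddSubgroup.index_ker, AddMonoidHom.range_eq_top.2 par_surjective]
  simp [Nat.card_eq_fintype_card, ZMod.card]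

/-- The word as a homomorphism. -/
def hwHom : V23 →+ golayCode where
  toFun v := ⟨hw v, hw_mem v.2⟩
  map_zero' := by
    apply Subtype.ext
    funext i
    show (((0 : ℤ) / 2 : ℤ) : ZMod 2) = 0
    simp
  map_add' u v := Subtype.ext (hw_add u.2)

theorem hwHom_surjective : Function.Surjective hwHom := by
  intro c
  obtain ⟨v, hv, h⟩ := exists_hw c
  exact ⟨⟨v, hv⟩, Subtype.ext h⟩

/-- The subgroup `{0, 1}` of the code. -/
def Z : AddSubgroup golayCode where
  carrier := {c | c = 0 ∨ c = allOne}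
  zero_mem' := Or.inl rfl
  add_mem' := by
    rintro a b (rfl | rfl) (rfl | rfl)
    · left; simp
    · right; simp
    · right; simp
    · left; exact Cfsg.Agent.CoOneType.CoOneE.allOne_add_self
  neg_mem' := by
    rintro a (rfl | rfl)
    · left; simp
    · right
      exact neg_eq_of_add_eq_zero_left Cfsg.Agent.CoOneType.CoOneE.allOne_add_self

theorem allOne_ne_zero : allOne ≠ 0 := by
  intro h
  have h1 := congrArg (fun c : golayCode => (c : GolayPt → ZMod 2) none) h
  exact absurd (show (1 : ZMod 2) = 0 from h1) (by decide)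

theorem card_Z : Nat.card Z = 2 := by
  have h : (Z : Set golayCode) = {0, allOne} := by
    ext c; exact Iff.rfl
  have h1 : (Z : Set golayCode).ncard = 2 := by
    rw [h, Set.ncard_pair allOne_ne_zero.symm]
  exact h1

theorem index_Z : Z.index = 2048 := by
  have h := Z.card_mul_index
  rw [card_Z, Cfsg.Agent.S0358.card_golayCode] at h
  omega

theorem comap_Z : Z.comap hwHom = V12.addSubgroupOf V23 := by
  ext v
  rw [AddSubgroup.mem_comap, AddSubgroup.mem_addSubgroupOf]
  show (hwHom v = 0 ∨ hwHom v = allOne) ↔ _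
  rw [mem_V12_iff_hw v.2]
  constructor
  · rintro (h | h)
    · left; exact congrArg Subtype.val h
    · right; exact congrArg Subtype.val h
  · rintro (h | h)
    · left; exact Subtype.ext h
    · right; exact Subtype.ext h

theorem index_V12 : V12.index = 4096 := by
  have h1 : V12.relIndex V23 = 2048 := by
    rw [AddSubgroup.relIndex, ← comap_Z, AddSubgroup.index_comap_of_surjective _ hwHom_surjective,
      index_Z]
  rw [← AddSubgroup.relIndex_mul_index V12_le_V23, h1, index_V23]

theorem ker_cl_le {U : AddSubgroup leechLattice} (h : V1 ≤ U) : cl.ker ≤ U := by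
  intro v hv
  rw [AddMonoidHom.mem_ker, cl_eq_zero] at hv
  obtain ⟨w, rfl⟩ := hv
  exact h (two_smul_mem_V1 w)

theorem card_W12 : Nat.card W12 = 2 ^ 12 := by
  have h1 : W12.index = 4096 := by
    rw [W12, AddSubgroup.index_map_eq _ cl_surjective (ker_cl_le V1_le_V12), index_V12]
  have h2 := W12.card_mul_index
  rw [h1, card_L2] at h2
  exact Nat.eq_of_mul_eq_mul_right (by norm_num : 0 < 4096) (h2.trans (by norm_num))

theorem card_W23 : Nat.card W23 = 2 ^ 23 := by
  have h1 : W23.index = 2 := by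
    rw [W23, AddSubgroup.index_map_eq _ cl_surjective (ker_cl_le (V1_le_V12.trans V12_le_V23)),
      index_V23]
  have h2 := W23.card_mul_index
  rw [h1, card_L2] at h2
  exact Nat.eq_of_mul_eq_mul_right (by norm_num : 0 < 2) (h2.trans (by norm_num))

theorem card_W1 : Nat.card W1 = 2 := by
  have h : (W1 : Set L2) = {0, f0} := by
    ext x; exact mem_W1 x
  have h1 : (W1 : Set L2).ncard = 2 := by
    rw [h, Set.ncard_pair f0_ne.symm]
  exact h1

/-- The sign changes as a homomorphism. -/
def signHom : Multiplicative golayCode →* Spor.Co1 where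
  toFun c := pr (signCo0 c.toAdd)
  map_one' := by
    show pr (signCo0 0) = 1
    rw [signCo0_zero, map_one]
  map_mul' a b := by
    show pr (signCo0 (a.toAdd + b.toAdd)) = _
    rw [signCo0_add, map_mul]

theorem range_signHom : signHom.range = E := by
  ext s
  rw [mem_E]
  constructor
  · rintro ⟨c, rfl⟩; exact ⟨c.toAdd, rfl⟩
  · rintro ⟨c, rfl⟩; exact ⟨Multiplicative.ofAdd c, rfl⟩

theorem card_E : Nat.card E = 2 ^ 11 := by
  have h1 : Nat.card signHom.ker = 2 := by
    have h : (signHom.ker : Set (Multiplicative golayCode)) =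
        {1, Multiplicative.ofAdd allOne} := by
      ext c
      rw [SetLike.mem_coe, MonoidHom.mem_ker]
      show pr (signCo0 c.toAdd) = 1 ↔ c = 1 ∨ c = Multiplicative.ofAdd allOne
      have h2 : (1 : Spor.Co1) = pr (signCo0 0) := by rw [signCo0_zero, map_one]
      rw [h2, pr_sign_eq_iff]
      constructor
      · rintro (h | h)
        · left
          exact Multiplicative.toAdd.injective h.symm
        · right
          apply Multiplicative.toAdd.injective
          show c.toAdd = allOne
          have h3 : c.toAdd + allOne + allOne = 0 + allOne := by rw [← h]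
          rw [zero_add, add_assoc, Cfsg.Agent.CoOneType.CoOneE.allOne_add_self, add_zero] at h3
          exact h3
      · rintro (rfl | rfl)
        · left; rfl
        · right
          show 0 = allOne + allOne
          exact Cfsg.Agent.CoOneType.CoOneE.allOne_add_self.symm
    have h4 : (signHom.ker : Set (Multiplicative golayCode)).ncard = 2 := by
      rw [h, Set.ncard_pair]
      intro h5
      exact allOne_ne_zero (congrArg Multiplicative.toAdd h5).symm
    exact h4
  have h2 := signHom.ker.card_mul_index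
  rw [h1, Subgroup.index_ker, range_signHom] at h2
  have h3 : Nat.card (Multiplicative golayCode) = 4096 := Cfsg.Agent.S0358.card_golayCode
  rw [h3] at h2
  norm_num
  omega

/-! ### The element of order 23 -/

/-- The element of order 23 of `Co1`. -/
def X : Spor.Co1 := pr x23

theorem X_mem_F : X ∈ F := pr_mem_F x23_mem_N

theorem X_pow : X ^ 23 = 1 := by
  rw [X, ← map_pow, x23_pow, map_one]

theorem X_smul_cl (v : leechLattice) : X • cl v = cl (x23 • v) := rfl

theorem shift_symm_none : ((shift : M24) : Equiv.Perm GolayPt).symm none = none := by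
  rw [Equiv.symm_apply_eq]; rfl

theorem shift_symm_some (a : ZMod 23) :
    ((shift : M24) : Equiv.Perm GolayPt).symm (some (a + 1)) = some a := by
  rw [Equiv.symm_apply_eq]; rfl

/-- A code word invariant modulo the all-one word under the translation is `0` or `1`. -/
theorem word_fixed {w : GolayPt → ZMod 2} (hw : w ∈ golayCode)
    (h : (∀ i, w (((shift : M24) : Equiv.Perm GolayPt).symm i) = w i) ∨
      (∀ i, w (((shift : M24) : Equiv.Perm GolayPt).symm i) = w i + 1)) : w = 0 ∨ w = 1 := by
  have h1 : ∀ i, w (((shift : M24) : Equiv.Perm GolayPt).symm i) = w i := by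
    rcases h with h | h
    · exact h
    · have h2 := h none
      rw [shift_symm_none] at h2
      exfalso
      have key : ∀ a : ZMod 2, a ≠ a + 1 := by decide
      exact key _ h2
  have h2 : ∀ a : ZMod 23, w (some (a + 1)) = w (some a) := by
    intro a
    have := h1 (some (a + 1))
    rw [shift_symm_some] at this
    exact this.symm
  have h3 : ∀ n : ℕ, w (some (n : ZMod 23)) = w (some 0) := by
    intro n
    induction n with
    | zero => simp
    | succ n ih => rw [Nat.cast_succ, h2, ih]
  have h4 : ∀ a : ZMod 23, w (some a) = w (some 0) := by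
    intro a
    have := h3 a.val
    rwa [ZMod.natCast_zmod_val] at this
  rcases zmod2_cases (w (some 0)) with h0 | h0
  · left
    refine eq_zero_of_lt hw {none} (fun i hi => ?_) (by simp)
    cases i with
    | none => simp
    | some a => exact absurd ((h4 a).trans h0) hi
  · right
    have h5 : w + 1 ∈ golayCode :=
      golayCode.add_mem hw Cfsg.Agent.SporadicStructure.LeechBase.one_mem_golayCode
    have h6 := eq_zero_of_lt h5 {none} (fun i hi => by
      cases i with
      | none => simp
      | some a =>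
        exfalso
        apply hi
        show w (some a) + 1 = 0
        rw [h4 a, h0]; decide) (by simp)
    funext i
    have h7 := congrFun h6 i
    have key : ∀ a : ZMod 2, a + 1 = 0 → a = 1 := by decide
    exact key _ h7

theorem fix_V23 {v : leechLattice} (hv : v ∈ V23) (h : x23 • v - v ∈ V12) : v ∈ V12 := by
  rw [mem_V12_iff_hw hv]
  apply word_fixed (hw_mem hv)
  have hx : x23 • v ∈ V23 := perm_mem_V23 shift hv
  have h1 : hw (x23 • v) = hw (x23 • v - v) + hw v := by
    rw [← hw_add (V12_le_V23 h), sub_add_cancel]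
  have h2 : ∀ i, hw v (((shift : M24) : Equiv.Perm GolayPt).symm i) = hw (x23 • v) i :=
    fun i => (hw_perm shift v i).symm
  rcases (mem_V12_iff_hw (V12_le_V23 h)).1 h with h0 | h0
  · left
    intro i
    rw [h2, h1, h0, zero_add]
  · right
    intro i
    rw [h2, h1, h0, Pi.add_apply, Pi.one_apply, add_comm]

/-- The generators of the code. -/
def qw (t : ZMod 23) : golayCode :=
  ⟨qrWord t, Submodule.subset_span (Or.inl ⟨t, rfl⟩)⟩

theorem wordPerm_qw (t : ZMod 23) : wordPerm shift (qw t) = qw (t + 1) := by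
  apply Subtype.ext
  funext i
  rw [wordPerm_apply]
  cases i with
  | none => rw [shift_symm_none]; rfl
  | some a =>
    have e : some a = some ((a - 1) + 1) := by rw [sub_add_cancel]
    rw [e, shift_symm_some]
    show (if ∃ r : ZMod 23, a - 1 = r ^ 2 + t then (1 : ZMod 2) else 0) =
      if ∃ r : ZMod 23, (a - 1) + 1 = r ^ 2 + (t + 1) then 1 else 0
    have h : (∃ r : ZMod 23, a - 1 = r ^ 2 + t) ↔ ∃ r : ZMod 23, (a - 1) + 1 = r ^ 2 + (t + 1) := by
      constructor
      · rintro ⟨r, hr⟩; exact ⟨r, by rw [hr]; ring⟩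
      · rintro ⟨r, hr⟩
        refine ⟨r, ?_⟩
        have : a - 1 = (a - 1 + 1) - 1 := by ring
        rw [this, hr]; ring
    simp only [h]

theorem sum_qw_apply : ∀ p : GolayPt, (∑ t : ZMod 23, if
    Cfsg.Agent.SporadicStructure.GolayEven.qf t p = true then (1 : ZMod 2) else 0) = 0 := by
  decide +kernel

theorem sum_qw : ∑ t : ZMod 23, qw t = 0 := by
  apply Subtype.ext
  funext p
  rw [AddSubmonoidClass.coe_finsetSum, Finset.sum_apply]
  have h : ∀ t : ZMod 23, ((qw t : golayCode) : GolayPt → ZMod 2) p =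
      if Cfsg.Agent.SporadicStructure.GolayEven.qf t p = true then (1 : ZMod 2) else 0 :=
    fun t => Cfsg.Agent.SporadicStructure.GolayEven.qrWord_eq t p
  rw [Finset.sum_congr rfl fun t _ => h t, sum_qw_apply]
  rfl

/-- A vector of `V12` orthogonal to the generators is in `V1`. -/
theorem mem_V1_of_qw {v : leechLattice} (hv : v ∈ V12) (h : ∀ t, pair v (qw t) = 0) : v ∈ V1 := by
  rw [mem_V1_iff_pair hv]
  have key : ∀ w : GolayPt → ZMod 2, ∀ hw : w ∈ golayCode, pair v ⟨w, hw⟩ = 0 := by
    intro w hw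
    induction hw using Submodule.span_induction with
    | mem x hx =>
      rcases hx with ⟨t, rfl⟩ | hx
      · exact h t
      · have hx' : x = 1 := hx
        subst hx'
        exact pair_allOne hv
    | zero => 
      have := pair_add_right hv 0 0
      rw [add_zero] at this
      have key2 : ∀ a : ZMod 2, a = a + a → a = 0 := by decide
      exact key2 _ this
    | add x y hx hy hx' hy' =>
      have h1 := pair_add_right hv ⟨x, hx⟩ ⟨y, hy⟩
      rw [hx', hy', add_zero] at h1
      exact h1
    | smul a x hx hx' =>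
      rcases zmod2_cases a with rfl | rfl
      · have e : (⟨(0 : ZMod 2) • x, golayCode.smul_mem 0 hx⟩ : golayCode) = 0 :=
          Subtype.ext (zero_smul _ x)
        have h2 : pair v 0 = 0 := by
          have := pair_add_right hv 0 0
          rw [add_zero] at this
          have key2 : ∀ a : ZMod 2, a = a + a → a = 0 := by decide
          exact key2 _ this
        rw [e]; exact h2
      · have e : (⟨(1 : ZMod 2) • x, golayCode.smul_mem 1 hx⟩ : golayCode) = ⟨x, hx⟩ :=
          Subtype.ext (one_smul _ x)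
        rw [e]; exact hx'
  exact fun c => key c c.2

theorem pair_sum_right {v : leechLattice} (hv : v ∈ V12) {ι : Type*} (s : Finset ι)
    (f : ι → golayCode) : pair v (∑ i ∈ s, f i) = ∑ i ∈ s, pair v (f i) := by
  classical
  have h0 : pair v 0 = 0 := by
    have := pair_add_right hv 0 0
    rw [add_zero] at this
    have key2 : ∀ a : ZMod 2, a = a + a → a = 0 := by decide
    exact key2 _ this
  induction s using Finset.induction_on with
  | empty => simp [h0]
  | insert a s ha ih => rw [Finset.sum_insert ha, Finset.sum_insert ha, pair_add_right hv, ih]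

theorem fix_V12 {v : leechLattice} (hv : v ∈ V12) (h : x23 • v - v ∈ V1) : v ∈ V1 := by
  have h1 : ∀ c, pair v (wordPerm shift c) = pair v c := by
    intro c
    have h2 := pair_V1 h (wordPerm shift c)
    rw [pair_sub, x23, pair_perm] at h2
    have key : ∀ a b : ZMod 2, a + b = 0 → b = a := by decide
    exact key _ _ h2
  have h2 : ∀ n : ℕ, pair v (qw (n : ZMod 23)) = pair v (qw 0) := by
    intro n
    induction n with
    | zero => simp
    | succ n ih => rw [Nat.cast_succ, ← wordPerm_qw, h1, ih]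
  have h3 : ∀ t : ZMod 23, pair v (qw t) = pair v (qw 0) := by
    intro t
    have := h2 t.val
    rwa [ZMod.natCast_zmod_val] at this
  have h4 := pair_sum_right hv Finset.univ (fun t : ZMod 23 => qw t)
  rw [sum_qw, Finset.sum_congr rfl fun t _ => h3 t, Finset.sum_const, Finset.card_univ, ZMod.card]
    at h4
  have h0 : pair v 0 = 0 := by
    have := pair_add_right hv 0 0
    rw [add_zero] at this
    have key2 : ∀ a : ZMod 2, a = a + a → a = 0 := by decide
    exact key2 _ this
  rw [h0] at h4
  have h5 : pair v (qw 0) = 0 := by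
    have key : ∀ a : ZMod 2, 0 = 23 • a → a = 0 := by decide
    exact key _ h4
  exact mem_V1_of_qw hv fun t => (h3 t).trans h5

/-- `X` has no fixed points on `W12/W1`. -/
theorem fix_W12 {x : L2} (hx : x ∈ W12) (h : X • x - x ∈ W1) : x ∈ W1 := by
  obtain ⟨v, rfl⟩ := cl_surjective x
  exact cl_mem_W1.2 (fix_V12 (cl_mem_W12.1 hx) (cl_mem_W1.1 h))

/-- `X` has no fixed points on `W23/W12`. -/
theorem fix_W23 {x : L2} (hx : x ∈ W23) (h : X • x - x ∈ W12) : x ∈ W12 := by
  obtain ⟨v, rfl⟩ := cl_surjective x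
  exact cl_mem_W12.2 (fix_V23 (cl_mem_W23.1 hx) (cl_mem_W12.1 h))

/-- `X` has no fixed points on `E`. -/
theorem fix_E {s : Spor.Co1} (hs : s ∈ E) (h : X * s * X⁻¹ = s) : s = 1 := by
  obtain ⟨c, rfl⟩ := hs
  have h1 : X * pr (signCo0 c) * X⁻¹ = pr (signCo0 (wordPerm shift c)) := by
    rw [X, ← map_inv, ← map_mul, ← map_mul, x23, perm_mul_sign_mul_inv]
  rw [h1, pr_sign_eq_iff] at h
  have h2 := word_fixed c.2 (by
    rcases h with h | h
    · left
      intro i
      have := congrArg (fun t : golayCode => (t : GolayPt → ZMod 2) i) h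
      exact this.symm
    · right
      intro i
      have h3 := congrArg (fun t : golayCode => (t : GolayPt → ZMod 2) i) h
      have h4 : (c : GolayPt → ZMod 2) i =
        (c : GolayPt → ZMod 2) (((shift : M24) : Equiv.Perm GolayPt).symm i) + 1 := h3
      have key : ∀ a b : ZMod 2, a = b + 1 → b = a + 1 := by decide
      exact key _ _ h4)
  have h3 : pr (signCo0 c) = pr (signCo0 0) := by
    rw [pr_sign_eq_iff]
    rcases h2 with h2 | h2
    · left; exact (Subtype.ext h2 : c = 0).symm
    · right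
      have : c = allOne := Subtype.ext h2
      rw [this, Cfsg.Agent.CoOneType.CoOneE.allOne_add_self]
  rw [h3, signCo0_zero, map_one]

/-! ### Counting modulo 23 -/

theorem card_mod {α : Type*} [Finite α] (S : Set α) (f : α → α) (hS : ∀ x ∈ S, f x ∈ S)
    (h23 : ∀ x ∈ S, f^[23] x = x) :
    Nat.card S ≡ Nat.card {x : α // x ∈ S ∧ f x = x} [MOD 23] := by
  classical
  have : Fintype α := Fintype.ofFinite α
  have : Fact (Nat.Prime 23) := ⟨by norm_num⟩
  let g : Function.End S := fun x => ⟨f x, hS x x.2⟩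
  have hg : ∀ (n : ℕ) (x : S), ((g ^ n) x : α) = f^[n] x := by
    intro n
    induction n with
    | zero => intro x; rfl
    | succ n ih =>
      intro x
      rw [pow_succ, Function.iterate_succ_apply]
      exact ih (g x)
  have h1 : g ^ 23 ^ 1 = 1 := by
    rw [pow_one]
    funext x
    apply Subtype.ext
    rw [hg]
    exact h23 x x.2
  have h2 := Equiv.Perm.card_fixedPoints_modEq h1
  rw [← Nat.card_eq_fintype_card, ← Nat.card_eq_fintype_card] at h2
  have h3 : Nat.card (Function.fixedPoints g) = Nat.card {x : α // x ∈ S ∧ f x = x} := by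
    refine Nat.card_congr
      { toFun := fun x => ⟨x.1.1, x.1.2, congrArg Subtype.val x.2⟩
        invFun := fun x => ⟨⟨x.1, x.2.1⟩, Subtype.ext x.2.2⟩
        left_inv := fun x => rfl
        right_inv := fun x => rfl }
  rw [← h3]
  exact h2

theorem X_iter (n : ℕ) (x : L2) : (fun y : L2 => X • y)^[n] x = X ^ n • x := by
  induction n generalizing x with
  | zero => simp
  | succ n ih => rw [Function.iterate_succ_apply, ih, pow_succ, mul_smul]

/-- A subgroup of `W23` invariant under `X` and containing `W1` has order congruent to `2`. -/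
theorem card_U_mod (U : AddSubgroup L2) (h1 : W1 ≤ U) (h23 : U ≤ W23)
    (hU : ∀ x ∈ U, X • x ∈ U) : Nat.card U ≡ 2 [MOD 23] := by
  have h := card_mod (U : Set L2) (fun y => X • y) hU (fun x _ => by
    rw [X_iter, X_pow, one_smul])
  have h2 : Nat.card {x : L2 // x ∈ (U : Set L2) ∧ X • x = x} = Nat.card W1 := by
    refine Nat.card_congr (Equiv.subtypeEquivRight fun x => ?_)
    constructor
    · rintro ⟨hx, hX⟩
      have h3 : x ∈ W12 := fix_W23 (h23 hx) (by rw [hX, sub_self]; exact W12.zero_mem)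
      exact fix_W12 h3 (by rw [hX, sub_self]; exact W1.zero_mem)
    · intro hx
      refine ⟨h1 hx, ?_⟩
      rcases (mem_W1 x).1 hx with rfl | rfl
      · exact smul_zero _
      · exact smul_f0 X_mem_F
  rw [h2, card_W1] at h
  exact h

theorem pow_mod {k : ℕ} (hk : k ≤ 23) (h1 : 1 ≤ k) (h : 2 ^ k ≡ 2 [MOD 23]) :
    k = 1 ∨ k = 12 ∨ k = 23 := by
  unfold Nat.ModEq at h
  interval_cases k <;> simp at h ⊢

/-- `X` is irreducible on `W12/W1`. -/
theorem irr_W12 (U : AddSubgroup L2) (h1 : W1 ≤ U) (h2 : U ≤ W12) (hU : ∀ x ∈ U, X • x ∈ U) :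
    U = W1 ∨ U = W12 := by
  have hm := card_U_mod U h1 (h2.trans W12_le_W23) hU
  have hd : Nat.card U ∣ 2 ^ 12 := by
    rw [← card_W12]; exact AddSubgroup.card_dvd_of_le h2
  obtain ⟨k, hk, hkU⟩ := (Nat.dvd_prime_pow Nat.prime_two).1 hd
  have hd2 : 2 ∣ Nat.card U := by
    rw [← card_W1]; exact AddSubgroup.card_dvd_of_le h1
  have hk1 : 1 ≤ k := by
    by_contra h0
    have : k = 0 := by omega
    rw [hkU, this] at hd2
    norm_num at hd2
  rw [hkU] at hm
  rcases pow_mod (by omega) hk1 hm with rfl | rfl | rfl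
  · left
    exact (AddSubgroup.eq_of_le_of_card_ge h1 (by rw [hkU, card_W1]; norm_num)).symm
  · right
    exact AddSubgroup.eq_of_le_of_card_ge h2 (by rw [hkU, card_W12])
  · omega

/-- `X` is irreducible on `W23/W12`. -/
theorem irr_W23 (U : AddSubgroup L2) (h1 : W12 ≤ U) (h2 : U ≤ W23) (hU : ∀ x ∈ U, X • x ∈ U) :
    U = W12 ∨ U = W23 := by
  have hm := card_U_mod U (W1_le_W12.trans h1) h2 hU
  have hd : Nat.card U ∣ 2 ^ 23 := by
    rw [← card_W23]; exact AddSubgroup.card_dvd_of_le h2
  obtain ⟨k, hk, hkU⟩ := (Nat.dvd_prime_pow Nat.prime_two).1 hd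
  have hd2 : 2 ^ 12 ∣ 2 ^ k := by
    rw [← hkU, ← card_W12]; exact AddSubgroup.card_dvd_of_le h1
  have hk1 : 12 ≤ k := (Nat.pow_dvd_pow_iff_le_right (by norm_num)).1 hd2
  rw [hkU] at hm
  rcases pow_mod hk (by omega) hm with rfl | rfl | rfl
  · omega
  · left
    exact (AddSubgroup.eq_of_le_of_card_ge h1 (by rw [hkU, card_W12])).symm
  · right
    exact AddSubgroup.eq_of_le_of_card_ge h2 (by rw [hkU, card_W23])

/-- `X` is irreducible on `E`. -/
theorem irr_E (H : Subgroup Spor.Co1) (hH : H ≤ E) (hX : ∀ s ∈ H, X * s * X⁻¹ ∈ H) :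
    H = ⊥ ∨ H = E := by
  have hit : ∀ (n : ℕ) (s : Spor.Co1), (fun t => X * t * X⁻¹)^[n] s = X ^ n * s * (X ^ n)⁻¹ := by
    intro n
    induction n with
    | zero => intro s; simp
    | succ n ih =>
      intro s
      rw [Function.iterate_succ_apply, ih, pow_succ]
      group
  have h := card_mod (H : Set Spor.Co1) (fun t => X * t * X⁻¹) hX (fun s _ => by
    rw [hit, X_pow]; simp)
  have h2 : Nat.card {s : Spor.Co1 // s ∈ (H : Set Spor.Co1) ∧ X * s * X⁻¹ = s} = 1 := by
    rw [Nat.card_eq_one_iff_unique]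
    refine ⟨⟨fun a b => Subtype.ext ?_⟩, ⟨⟨1, H.one_mem, by simp⟩⟩⟩
    rw [fix_E (hH a.2.1) a.2.2, fix_E (hH b.2.1) b.2.2]
  rw [h2] at h
  have hd : Nat.card H ∣ 2 ^ 11 := by
    rw [← card_E]; exact Subgroup.card_dvd_of_le hH
  obtain ⟨k, hk, hkU⟩ := (Nat.dvd_prime_pow Nat.prime_two).1 hd
  have h3 : Nat.card H ≡ 1 [MOD 23] := h
  rw [hkU] at h3
  unfold Nat.ModEq at h3
  have hk2 : k = 0 ∨ k = 11 := by
    interval_cases k <;> simp at h3 ⊢
  rcases hk2 with rfl | rfl
  · left
    exact Subgroup.card_eq_one.1 hkU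
  · right
    exact Subgroup.eq_of_le_of_card_ge hH (by rw [hkU, card_E])

/-! ### The invariant subgroups -/

theorem exists_E_not_W12 {x : L2} (hx : x ∉ W23) : ∃ s ∈ E, s • x - x ∉ W12 := by
  obtain ⟨v, rfl⟩ := cl_surjective x
  have hv : v ∉ V23 := fun h => hx (cl_mem_W23.2 h)
  obtain ⟨c, hc, hp, -⟩ := exists_octad none none
  refine ⟨pr (signCo0 c), (mem_E _).2 ⟨c, rfl⟩, ?_⟩
  show cl (signCo0 c • v) - cl v ∉ W12
  rw [← map_sub, cl_mem_W12]
  intro h
  have h1 := hw_sign_sub hv c
  rcases (mem_V12_iff_hw (V12_le_V23 h)).1 h with h2 | h2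
  · rw [h2] at h1
    have h3 := congrFun h1 none
    rw [hp] at h3
    exact absurd h3 (by decide)
  · rw [h2] at h1
    have h3 : c = allOne := Subtype.ext h1.symm
    have h4 := wt_add_allOne c
    have h5 : wt (c + allOne) = 0 := by
      rw [h3, Cfsg.Agent.CoOneType.CoOneE.allOne_add_self]
      unfold wt
      rw [Cfsg.Agent.CoOneType.CoOneE.sup_zero, Finset.card_empty]
    omega

/-- The subgroups of `Λ/2Λ` invariant under the stabiliser of the frame. -/
theorem uniserial (U : AddSubgroup L2) (hU : ∀ s ∈ F, ∀ x ∈ U, s • x ∈ U) :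
    U = ⊥ ∨ U = W1 ∨ U = W12 ∨ U = W23 ∨ U = ⊤ := by
  -- first steps
  have hin : ∀ (U : AddSubgroup L2), (∀ s ∈ F, ∀ x ∈ U, s • x ∈ U) → ∀ s ∈ E, ∀ x ∈ U,
      s • x - x ∈ U := fun U hU s hs x hx => U.sub_mem (hU s (E_le_F hs) x hx) hx
  have c1 : ∀ U : AddSubgroup L2, (∀ s ∈ F, ∀ x ∈ U, s • x ∈ U) → U ≤ W12 → ¬ U ≤ W1 →
      U = W12 := by
    intro U hU h12 h1
    obtain ⟨x, hx, hx1⟩ := SetLike.not_le_iff_exists.1 h1
    have h2 : ∃ s ∈ E, s • x ≠ x := by
      by_contra hn
      push Not at hn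
      exact hx1 (mem_W1_of_E hn)
    obtain ⟨s, hs, hsx⟩ := h2
    have h3 : f0 ∈ U := by
      have h4 := hin U hU s hs x hx
      rcases (mem_W1 _).1 (E_sub_mem_W1 hs (h12 hx)) with h5 | h5
      · exact absurd (sub_eq_zero.1 h5) hsx
      · rwa [h5] at h4
    have h4 : W1 ≤ U := by
      intro y hy
      rcases (mem_W1 y).1 hy with rfl | rfl
      · exact U.zero_mem
      · exact h3
    rcases irr_W12 U h4 h12 (hU X X_mem_F) with h5 | h5
    · exact absurd h5.le h1
    · exact h5
  have c2 : ∀ U : AddSubgroup L2, (∀ s ∈ F, ∀ x ∈ U, s • x ∈ U) → U ≤ W23 → ¬ U ≤ W12 →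
      U = W23 := by
    intro U hU h23 h12
    obtain ⟨x, hx, hx1⟩ := SetLike.not_le_iff_exists.1 h12
    have h2 : ∃ s ∈ E, s • x - x ∉ W1 := by
      by_contra hn
      push Not at hn
      exact hx1 (mem_W12_of_E (h23 hx) hn)
    obtain ⟨s, hs, hsx⟩ := h2
    have h3 : U ⊓ W12 = W12 := by
      refine c1 (U ⊓ W12) (fun t ht y hy => ⟨hU t ht y hy.1, F_mem_W12 ht hy.2⟩) inf_le_right ?_
      intro hle
      exact hsx (hle ⟨hin U hU s hs x hx, E_sub_mem_W12 hs (h23 hx)⟩)
    have h4 : W12 ≤ U := inf_eq_right.1 h3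
    rcases irr_W23 U h4 h23 (hU X X_mem_F) with h5 | h5
    · exact absurd h5.le h12
    · exact h5
  by_cases h1 : U ≤ W1
  · by_cases h0 : f0 ∈ U
    · right; left
      refine le_antisymm h1 fun y hy => ?_
      rcases (mem_W1 y).1 hy with rfl | rfl
      · exact U.zero_mem
      · exact h0
    · left
      rw [eq_bot_iff]
      intro y hy
      rcases (mem_W1 y).1 (h1 hy) with rfl | rfl
      · exact AddSubgroup.zero_mem _
      · exact absurd hy h0
  by_cases h12 : U ≤ W12
  · exact Or.inr (Or.inr (Or.inl (c1 U hU h12 h1)))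
  by_cases h23 : U ≤ W23
  · exact Or.inr (Or.inr (Or.inr (Or.inl (c2 U hU h23 h12))))
  right; right; right; right
  obtain ⟨x, hx, hx1⟩ := SetLike.not_le_iff_exists.1 h23
  obtain ⟨s, hs, hsx⟩ := exists_E_not_W12 hx1
  have h3 : U ⊓ W23 = W23 := by
    refine c2 (U ⊓ W23) (fun t ht y hy => ⟨hU t ht y hy.1, F_mem_W23 ht hy.2⟩) inf_le_right ?_
    intro hle
    exact hsx (hle ⟨hin U hU s hs x hx, E_sub_mem_W23 hs x⟩)
  have h4 : W23 ≤ U := inf_eq_right.1 h3
  rw [eq_top_iff]
  intro y _
  by_cases hy : y ∈ W23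
  · exact h4 hy
  · have h5 : y - x ∈ W23 := by
      obtain ⟨v, rfl⟩ := cl_surjective x
      obtain ⟨w, rfl⟩ := cl_surjective y
      rw [← map_sub, cl_mem_W23]
      exact sub_mem_V23 (fun h => hy (cl_mem_W23.2 h)) (fun h => hx1 (cl_mem_W23.2 h))
    have h6 := U.add_mem (h4 h5) hx
    rwa [sub_add_cancel] at h6

end Cfsg.Agent.MonsterU.CoFrameIrr
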