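import Mathlib

/-!
# An element of order three in the centraliser of `x`

Abstract part: `z, y` commuting involutions, `B = C(z, y)`, `x ∈ B` of order 23 with `C_B(x) = ⟨z, y⟩ ⟨x⟩`, `t` acting
on `⟨z, y⟩` as `z → y → z y` and normalising `⟨x⟩`, `q₀` an involution commuting with `x` and `z` with
`q₀ y q₀⁻¹ = z y`.  Then there is `τ` of order three commuting with `x`, acting as `t` on `⟨z, y⟩`, inverted by `q₀`.
-/

set_option autoImplicit false

namespace Cfsg.Agent.MonsterU.AmalTau

open scoped Pointwise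

/-! ### conjugacy of elements of order `p` -/

theorem exists_conj_pow {B : Type*} [Group B] [Finite B] (p : ℕ) [Fact p.Prime]
    (hp : ¬ p ^ 2 ∣ Nat.card B) {x x' : B} (hx : orderOf x = p) (hx' : x' ^ p = 1) :
    ∃ b : B, ∃ k : ℕ, b * x' * b⁻¹ = x ^ k := by
  have hcard : Nat.card (Subgroup.zpowers x) = p := by rw [Nat.card_zpowers, hx]
  have h1 : IsPGroup p (Subgroup.zpowers x) := IsPGroup.of_card (n := 1) (by rw [hcard, pow_one])
  have h2 : ¬ p ∣ (Subgroup.zpowers x).index := by
    rintro ⟨m, hm⟩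
    apply hp
    refine ⟨m, ?_⟩
    rw [← (Subgroup.zpowers x).card_mul_index, hcard, hm]
    ring
  have h3 : IsPGroup p (Subgroup.zpowers x') := by
    rintro ⟨g, hg⟩
    obtain ⟨n, rfl⟩ := hg
    refine ⟨1, Subtype.ext ?_⟩
    show (x' ^ n) ^ p ^ 1 = 1
    rw [pow_one, ← zpow_natCast, ← zpow_mul, mul_comm, zpow_mul, zpow_natCast, hx', one_zpow]
  obtain ⟨S, hS⟩ := h3.exists_le_sylow
  obtain ⟨b, hb⟩ := MulAction.exists_smul_eq B S (h1.toSylow h2)
  refine ⟨b, ?_⟩
  have h4 : b * x' * b⁻¹ ∈ Subgroup.zpowers x := by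
    have h5 : MulAut.conj b • x' ∈ MulAut.conj b • (S : Subgroup B) :=
      Subgroup.smul_mem_pointwise_smul _ _ _ (hS (Subgroup.mem_zpowers x'))
    have h6 : MulAut.conj b • (S : Subgroup B) = Subgroup.zpowers x := by
      have := congrArg (fun P : Sylow p B => (P : Subgroup B)) hb
      exact this
    rw [h6] at h5
    exact h5
  rw [← mem_powers_iff_mem_zpowers] at h4
  obtain ⟨k, hk⟩ := h4
  exact ⟨k, hk.symm⟩

/-! ### the element `τ` -/

variable {G : Type*} [Group G] {z y x q t : G}

theorem cube_mul (a b : G) : a ^ 3 * b = a * (a * (a * b)) := by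
  rw [pow_succ, pow_two]; simp only [mul_assoc]

theorem mul_cube (a b : G) : b * a ^ 3 = b * a * a * a := by
  rw [pow_succ, pow_two]; simp only [mul_assoc]

/-- **The element of order three.** -/
theorem exists_tau (hzz : z * z = 1) (hyy : y * y = 1) (hzy : z * y = y * z) (hyz : y ≠ z)
    (hxz : x * z = z * x) (hxy : x * y = y * x) (hx : orderOf x = 23)
    (hcent : ∀ c, c * z = z * c → c * y = y * c → c * x = x * c →
      ∃ v, (v = 1 ∨ v = z ∨ v = y ∨ v = z * y) ∧ ∃ n : ℕ, c = v * x ^ n)
    (htz : t * z * t⁻¹ = y) (hty : t * y * t⁻¹ = z * y) {k : ℕ} (htx : t * x * t⁻¹ = x ^ k)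
    (hqq : q * q = 1) (hqz : q * z * q⁻¹ = z) (hqy : q * y * q⁻¹ = z * y) (hqx : q * x = x * q) :
    ∃ τ, τ * τ * τ = 1 ∧ τ * z * τ⁻¹ = y ∧ τ * y * τ⁻¹ = z * y ∧ τ * x = x * τ ∧
      q * τ * q⁻¹ = τ⁻¹ := by
  -- `t ^ 3` acts trivially
  have htz' : t * z = y * t := by rw [← htz]; group
  have hty' : t * y = z * y * t := by rw [← hty]; group
  have htzy' : t * (z * y) = z * t := by
    rw [← mul_assoc, htz', mul_assoc, hty', ← mul_assoc, ← mul_assoc, ← hzy, mul_assoc z, hyy, mul_one]
  have ht3z : Commute (t ^ 3) z := by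
    show t ^ 3 * z = z * t ^ 3
    rw [cube_mul, mul_cube, htz', ← mul_assoc t y t, hty', mul_assoc (z * y) t t,
      ← mul_assoc t (z * y), htzy']
    simp only [mul_assoc]
  have ht3y : Commute (t ^ 3) y := by
    show t ^ 3 * y = y * t ^ 3
    rw [cube_mul, mul_cube, hty', ← mul_assoc t (z * y) t, htzy', mul_assoc z t t,
      ← mul_assoc t z, htz']
    simp only [mul_assoc]
  -- powers of `t` on `x`
  have hpow : ∀ n : ℕ, t ^ n * x = x ^ (k ^ n) * t ^ n := by
    intro n
    induction n with
    | zero => rw [pow_zero, one_mul, mul_one, pow_zero, pow_one]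
    | succ n ih =>
      have h1 : t * x ^ (k ^ n) = (x ^ k) ^ (k ^ n) * t := by
        rw [← htx, conj_pow]; group
      rw [pow_succ' t n, mul_assoc, ih, ← mul_assoc, h1, ← pow_mul, ← pow_succ', mul_assoc]
  have hx1 : x ≠ 1 := by
    intro h
    rw [h, orderOf_one] at hx
    exact absurd hx (by norm_num)
  have hk : ¬ 23 ∣ k := by
    intro h
    rw [← hx] at h
    rw [orderOf_dvd_iff_pow_eq_one.1 h, mul_inv_eq_one, mul_eq_left] at htx
    exact hx1 htx
  have hk22 : x ^ (k ^ 22) = x := by
    have h1 : (k : ZMod 23) ≠ 0 := fun h => hk ((ZMod.natCast_eq_zero_iff _ _).1 h)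
    have : Fact (Nat.Prime 23) := ⟨by norm_num⟩
    have h2 : (k : ZMod 23) ^ 22 = 1 := ZMod.pow_card_sub_one_eq_one h1
    have h3 : k ^ 22 ≡ 1 [MOD 23] := by
      rw [← ZMod.natCast_eq_natCast_iff]
      push_cast
      exact h2
    have h4 : x ^ (k ^ 22) = x ^ 1 := by
      rw [pow_eq_pow_iff_modEq, hx]
      exact h3
    rw [h4, pow_one]
  have ht22 : Commute (t ^ 22) x := by
    show t ^ 22 * x = x * t ^ 22
    rw [hpow, hk22]
  -- the first approximation
  set s := t ^ 1012 with hs
  have hs1 : s = (t ^ 3) ^ 337 * t := by rw [← pow_mul, ← pow_succ]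
  have hs2 : s = (t ^ 22) ^ 46 := by rw [← pow_mul]
  have hsz : s * z = y * s := by
    rw [hs1, mul_assoc, htz', ← mul_assoc, (ht3y.pow_left 337).eq, mul_assoc]
  have hsy : s * y = z * y * s := by
    rw [hs1, mul_assoc, hty', ← mul_assoc, ← mul_assoc, (ht3z.pow_left 337).eq, mul_assoc z,
      (ht3y.pow_left 337).eq]
    simp only [mul_assoc]
  have hsx : Commute s x := by rw [hs2]; exact ht22.pow_left 46
  have hvx : ∀ v, (v = 1 ∨ v = z ∨ v = y ∨ v = z * y) → Commute v x := by
    rintro v (hv | hv | hv | hv) <;> rw [hv]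
    · exact Commute.one_left _
    · exact hxz.symm
    · exact hxy.symm
    · exact Commute.mul_left hxz.symm hxy.symm
  have hvv : ∀ v, (v = 1 ∨ v = z ∨ v = y ∨ v = z * y) → v * v = 1 := by
    rintro v (hv | hv | hv | hv) <;> rw [hv]
    · exact mul_one _
    · exact hzz
    · exact hyy
    · rw [mul_assoc, ← mul_assoc y, ← hzy, ← mul_assoc, ← mul_assoc, hzz, one_mul, hyy]
  have hx23 : x ^ 23 = 1 := by rw [← hx]; exact pow_orderOf_eq_one x
  have hs3 : s * s * s = 1 := by
    have h1 : s * s * s = (t ^ 66) ^ 46 := by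
      rw [hs, ← pow_add, ← pow_add, ← pow_mul]
    have h66 : t ^ 66 = (t ^ 3) ^ 22 := by rw [← pow_mul]
    have h66' : t ^ 66 = (t ^ 22) ^ 3 := by rw [← pow_mul]
    obtain ⟨v, hv, n, hn⟩ := hcent (t ^ 66) (by rw [h66]; exact (ht3z.pow_left 22).eq)
      (by rw [h66]; exact (ht3y.pow_left 22).eq) (by rw [h66']; exact (ht22.pow_left 3).eq)
    rw [h1, hn, ((hvx v hv).pow_right n).mul_pow]
    have h2 : v ^ 46 = 1 := by
      have : v ^ 46 = (v * v) ^ 23 := by rw [← pow_two, ← pow_mul]
      rw [this, hvv v hv, one_pow]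
    have h3 : (x ^ n) ^ 46 = 1 := by
      have : (x ^ n) ^ 46 = (x ^ 23) ^ (2 * n) := by
        rw [← pow_mul, ← pow_mul]
        congr 1
        ring
      rw [this, hx23, one_pow]
    rw [h2, h3, one_mul]
  -- rewriting rules
  have hszy : s * (z * y) = z * s := by
    rw [← mul_assoc, hsz, mul_assoc, hsy, ← mul_assoc, ← mul_assoc, ← hzy, mul_assoc z, hyy, mul_one]
  have hqi : q⁻¹ = q := inv_eq_of_mul_eq_one_left hqq
  have hqz' : q * z = z * q := by
    rw [← mul_inv_eq_iff_eq_mul]; exact hqz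
  have hqy' : q * y = z * y * q := by
    rw [← mul_inv_eq_iff_eq_mul]; exact hqy
  have hqzy' : q * (z * y) = y * q := by
    rw [← mul_assoc, hqz', mul_assoc, hqy', ← mul_assoc, ← mul_assoc, hzz, one_mul]
  -- `(v s) ^ 3 = 1`
  have hv3 : ∀ v, (v = 1 ∨ v = z ∨ v = y ∨ v = z * y) → (v * s) * (v * s) * (v * s) = 1 := by
    rintro v (hv | hv | hv | hv) <;> rw [hv]
    · rw [one_mul]; exact hs3
    · calc z * s * (z * s) * (z * s) = z * (s * z) * s * z * s := by simp only [mul_assoc]
        _ = z * (y * s) * s * z * s := by rw [hsz]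
        _ = z * y * s * (s * z) * s := by simp only [mul_assoc]
        _ = z * y * s * (y * s) * s := by rw [hsz]
        _ = z * y * (s * y) * s * s := by simp only [mul_assoc]
        _ = z * y * (z * y * s) * s * s := by rw [hsy]
        _ = (z * y) * (z * y) * (s * s * s) := by simp only [mul_assoc]
        _ = 1 := by rw [hvv _ (Or.inr (Or.inr (Or.inr rfl))), hs3, one_mul]
    · calc y * s * (y * s) * (y * s) = y * (s * y) * s * y * s := by simp only [mul_assoc]
        _ = y * (z * y * s) * s * y * s := by rw [hsy]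
        _ = y * z * y * s * (s * y) * s := by simp only [mul_assoc]
        _ = y * z * y * s * (z * y * s) * s := by rw [hsy]
        _ = y * z * y * (s * (z * y)) * s * s := by simp only [mul_assoc]
        _ = y * z * y * (z * s) * s * s := by rw [hszy]
        _ = y * z * (y * z) * (s * s * s) := by simp only [mul_assoc]
        _ = 1 := by
          rw [← hzy, hvv _ (Or.inr (Or.inr (Or.inr rfl))), hs3, one_mul]
    · calc z * y * s * (z * y * s) * (z * y * s)
          = z * y * (s * (z * y)) * s * (z * y) * s := by simp only [mul_assoc]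
        _ = z * y * (z * s) * s * (z * y) * s := by rw [hszy]
        _ = z * y * z * s * (s * (z * y)) * s := by simp only [mul_assoc]
        _ = z * y * z * s * (z * s) * s := by rw [hszy]
        _ = z * y * z * (s * z) * s * s := by simp only [mul_assoc]
        _ = z * y * z * (y * s) * s * s := by rw [hsz]
        _ = z * y * (z * y) * (s * s * s) := by simp only [mul_assoc]
        _ = 1 := by rw [hvv _ (Or.inr (Or.inr (Or.inr rfl))), hs3, one_mul]
  -- `r = q s q`
  set r := q * s * q with hr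
  have hrz : r * z = z * y * r := by
    calc r * z = q * s * (q * z) := by rw [hr]; simp only [mul_assoc]
      _ = q * (s * z) * q := by rw [hqz']; simp only [mul_assoc]
      _ = q * y * s * q := by rw [hsz]; simp only [mul_assoc]
      _ = z * y * r := by rw [hqy', hr]; simp only [mul_assoc]
  have hry : r * y = z * r := by
    calc r * y = q * s * (q * y) := by rw [hr]; simp only [mul_assoc]
      _ = q * (s * (z * y)) * q := by rw [hqy']; simp only [mul_assoc]
      _ = q * z * s * q := by rw [hszy]; simp only [mul_assoc]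
      _ = z * r := by rw [hqz', hr]; simp only [mul_assoc]
  have hrx : Commute r x := by
    have hq : Commute q x := hqx
    rw [hr]
    exact (hq.mul_left hsx).mul_left hq
  have hr3 : r * r * r = 1 := by
    calc r * r * r = q * s * (q * q) * s * (q * q) * s * q := by rw [hr]; simp only [mul_assoc]
      _ = q * (s * s * s) * q := by rw [hqq]; simp only [mul_assoc, mul_one]
      _ = 1 := by rw [hs3, mul_one, hqq]
  obtain ⟨v, hv, n, hn⟩ := hcent (s * r)
    (by rw [mul_assoc, hrz, ← mul_assoc, hszy, mul_assoc])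
    (by rw [mul_assoc, hry, ← mul_assoc, hsz, mul_assoc]) (hsx.mul_left hrx).eq
  -- `x ^ n = 1`
  have hxn : x ^ n = 1 := by
    have h1 : r⁻¹ * x ^ n = v * s := by
      have : s * r = v * x ^ n := hn
      have h2 : v * (s * r) = x ^ n := by rw [this, ← mul_assoc, hvv v hv, one_mul]
      have hrn : Commute r (x ^ n) := hrx.pow_right n
      rw [hrn.inv_left.eq, ← h2]
      group
    have h3 := hv3 v hv
    rw [← h1] at h3
    have hrn : Commute r⁻¹ (x ^ n) := (hrx.pow_right n).inv_left
    have h4 : r⁻¹ * x ^ n * (r⁻¹ * x ^ n) * (r⁻¹ * x ^ n) = (r * r * r)⁻¹ * (x ^ n) ^ 3 := by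
      have := hrn.mul_pow 3
      calc r⁻¹ * x ^ n * (r⁻¹ * x ^ n) * (r⁻¹ * x ^ n) = (r⁻¹ * x ^ n) ^ 3 := by
            rw [pow_succ, pow_two]
        _ = r⁻¹ ^ 3 * (x ^ n) ^ 3 := this
        _ = _ := by
            congr 1
            group
    rw [h4, hr3, inv_one, one_mul, ← pow_mul, ← orderOf_dvd_iff_pow_eq_one, hx] at h3
    have h5 : 23 ∣ n := by
      have : Nat.Coprime 23 3 := by norm_num
      exact this.dvd_of_dvd_mul_right h3
    rw [← hx] at h5
    exact orderOf_dvd_iff_pow_eq_one.1 h5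
  rw [hxn, mul_one] at hn
  -- `s r = v`, `r s = q v q`
  have hvq : s * (q * v * q) = v * s := by
    have h1 : r * s = q * v * q := by
      rw [← hn, hr]
      calc q * s * q * s = q * s * q * s * (q * q) := by rw [hqq, mul_one]
        _ = q * (s * (q * s * q)) * q := by simp only [mul_assoc]
    rw [← h1, ← mul_assoc, hn]
  have hsr : ∀ w, s * w = s * z → w = z := fun w h => mul_left_cancel h
  rcases hv with hv | hv | hv | hv <;> rw [hv] at hn hvq
  · -- `v = 1`
    refine ⟨s, hs3, by rw [hsz]; group, by rw [hsy]; group, hsx.eq, ?_⟩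
    rw [hqi]
    exact eq_inv_of_mul_eq_one_right hn
  · -- `v = z`
    exfalso
    rw [hqz', mul_assoc, hqq, mul_one, hsz] at hvq
    exact hyz (mul_right_cancel hvq)
  · -- `v = y`
    exfalso
    rw [hqy', mul_assoc, hqq, mul_one, hszy] at hvq
    exact hyz (mul_right_cancel hvq).symm
  · -- `v = z y`
    have hyi : y⁻¹ = y := inv_eq_of_mul_eq_one_left hyy
    refine ⟨y * s * y⁻¹, ?_, ?_, ?_, ?_, ?_⟩
    · have : y * s * y⁻¹ * (y * s * y⁻¹) * (y * s * y⁻¹) = y * (s * s * s) * y⁻¹ := by group
      rw [this, hs3]; group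
    · have : y * s * y⁻¹ * z = y * (y * s * y⁻¹) := by
        rw [hyi, mul_assoc, ← hzy, ← mul_assoc, mul_assoc y s z, hsz]
        simp only [mul_assoc]
      rw [this]; group
    · have : y * s * y⁻¹ * y = z * y * (y * s * y⁻¹) := by
        rw [hyi, mul_assoc (y * s), hyy, mul_one]
        calc y * s = y * (s * y) * y := by rw [mul_assoc, mul_assoc s, hyy, mul_one]
          _ = y * z * (y * s * y) := by rw [hsy]; simp only [mul_assoc]
          _ = z * y * (y * s * y) := by rw [hzy]
      rw [this]; group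
    · have h1 : Commute y x := hxy.symm
      exact ((h1.mul_left hsx).mul_left h1.inv_left).eq
    · rw [hqi]
      refine eq_inv_of_mul_eq_one_right ?_
      rw [hyi]
      calc y * s * y * (q * (y * s * y) * q)
          = y * s * y * (q * y) * s * (y * q) := by simp only [mul_assoc]
        _ = y * s * y * (z * y * q) * s * (q * (z * y)) := by rw [hqy', hqzy']
        _ = y * s * (y * (y * z)) * (q * s * q) * (z * y) := by rw [hzy]; simp only [mul_assoc]
        _ = y * (s * z) * r * (z * y) := by rw [← mul_assoc y y z, hyy, one_mul, hr]; simp only [mul_assoc]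
        _ = y * y * (s * r) * (z * y) := by rw [hsz]; simp only [mul_assoc]
        _ = 1 := by
          rw [hyy, one_mul, hn]
          exact hvv _ (Or.inr (Or.inr (Or.inr rfl)))

end Cfsg.Agent.MonsterU.AmalTau
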