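import Cfsg.Agent.MonsterU.AmalPerf
import Cfsg.Agent.MonsterU.AmalInf
import Cfsg.Agent.MonsterU.AmalTau

/-!
# The elements `x`, `u`, `q₀`, `τ` of a chart

`h : Chart Q z eta pi`, `y ∈ Q`, `eta y = f0`, `t` with `t z t⁻¹ = y`, `t y t⁻¹ = z y`.
`x` is a lift of order 23 of `X`, `q₀` an involution of `C_Q(x)` with `q₀ y q₀⁻¹ = z y`, `τ` an element of order
three of `C(x)` acting on the four group as `t` does and inverted by `q₀`.
-/

set_option autoImplicit false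

open Cfsg

namespace Cfsg.Agent.MonsterU.AmalElts

open Cfsg.Agent.SporadicA.Co0Mono hiding smul_add smul_sub smul_neg smul_zero
open Cfsg.Agent.SporadicStructure.Co0Base (e8 e8_coe)
open Cfsg.Agent.SporadicA
open Cfsg.Agent.SporadicA.Co1Simple
open Cfsg.Agent.CoOneType.CoOneE (pr E)
open Cfsg.Agent.MonsterU.Lam2 (L2 cl cl_surjective bf qf bf_add_left bf_add_right bf_cl_eq_zero
  bf_comm bf_zero_left bf_zero_right bf_self add_self neg_eq cl_two)
open Cfsg.Agent.MonsterU.CoFrame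
open Cfsg.Agent.MonsterU.CoFrameAct
open Cfsg.Agent.MonsterU.CoFrameL2
open Cfsg.Agent.MonsterU.CoFrameIrr
open Cfsg.Agent.MonsterU.AmalGen
open Cfsg.Agent.MonsterU.AmalSide (cent2 four mem_cent2)
open Cfsg.Agent.MonsterU.Ch
open Cfsg.Spor (Co1)

/-! ### The centraliser of `X` -/

theorem X_eq : X = pr (signCo0 0 * permCo0 shift) := by
  rw [signCo0_zero, one_mul]; rfl

theorem cent_X {s : Co1} (hs : s ∈ F) (hc : s * X = X * s) : ∃ n : ℕ, s = X ^ n := by
  have hF : (F : Subgroup Co1) = CoFrameF.F := rfl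
  have hX' : X ∈ CoFrameF.F := X_mem_F
  have h1 : CoFrameF.toM24 ⟨s, hs⟩ * shift = shift * CoFrameF.toM24 ⟨s, hs⟩ := by
    have h2 : CoFrameF.toM24 ⟨X, hX'⟩ = shift := CoFrameF.toM24_eq X_eq
    have h3 : (⟨s, hs⟩ : CoFrameF.F) * ⟨X, hX'⟩ = ⟨X, hX'⟩ * ⟨s, hs⟩ := Subtype.ext hc
    have h4 := congrArg CoFrameF.toM24 h3
    rwa [map_mul, map_mul, h2] at h4
  obtain ⟨n, hn⟩ := CoFrame23.centralizer_shift h1
  refine ⟨n, ?_⟩
  have h2 : CoFrameF.toM24 ⟨X, hX'⟩ = shift := CoFrameF.toM24_eq X_eq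
  have h5 : CoFrameF.toM24 (⟨s, hs⟩ * (⟨X, hX'⟩ ^ n)⁻¹) = 1 := by
    rw [map_mul, map_inv, map_pow, h2, hn, mul_inv_cancel]
  have h6 : s * (X ^ n)⁻¹ ∈ E := (CoFrameF.toM24_eq_one_iff _).1 h5
  have hc' : Commute s X := hc
  have h7 : X * (s * (X ^ n)⁻¹) * X⁻¹ = s * (X ^ n)⁻¹ := by
    have h8 : Commute X (s * (X ^ n)⁻¹) :=
      hc'.symm.mul_right (((Commute.refl X).pow_right n).inv_right)
    rw [h8.eq, mul_inv_cancel_right]
  have h9 := fix_E h6 h7
  exact mul_inv_eq_one.1 h9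

theorem X_ne_one : X ≠ 1 := by
  intro hX
  apply AmalInf.W12_ne_W1
  intro w hw
  refine fix_W12 hw ?_
  rw [hX, one_smul, sub_self]
  exact W1.zero_mem

/-! ### The class of `u0` -/

theorem qf_u0 : qf (cl u0) = 0 := by
  rw [Lam2.qf_cl_eq_zero]
  have : sqNorm ((u0 : leechLattice) : GolayPt → ℤ) = 32 := by
    have e : ((u0 : leechLattice) : GolayPt → ℤ) = fun i => if i = none then -3 else 1 := funext u0_coe
    rw [e]
    decide
  rw [this]

theorem bf_u0 : bf (cl u0) f0 = 1 := by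
  have h1 : bf (cl u0) f0 ≠ 0 := by
    rw [Ne, ← mem_W23_iff_bf, cl_mem_W23]
    exact u0_not_mem
  rcases AmalPerf.zmod2_cases (bf (cl u0) f0) with e | e
  · exact absurd e h1
  · exact e

/-! ### The order of `C(z)` -/

variable {G : Type*} [Group G] {Q : Subgroup G} {z : G} {eta : G → L2}
  {pi : Subgroup.centralizer ({z} : Set G) →* Co1}

section

variable (h : Chart Q z eta pi)
include h

theorem card_centralizer : Nat.card (Subgroup.centralizer ({z} : Set G)) =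
    2 ^ 25 * 4157776806543360000 := by
  have h1 := pi.ker.card_mul_index
  rw [Subgroup.index_ker, MonoidHom.range_eq_top.2 h.pi_surj, Subgroup.card_top, CoFrameF.card_Co1] at h1
  have hle : Q ≤ Subgroup.centralizer ({z} : Set G) := fun q hq =>
    Subgroup.mem_centralizer_singleton_iff.2 (h.large.comm_z q hq)
  have h2 : pi.ker = Q.subgroupOf (Subgroup.centralizer ({z} : Set G)) := by
    ext c
    rw [MonoidHom.mem_ker, h.pi_eq_one, Subgroup.mem_subgroupOf]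
  have h3 : Nat.card pi.ker = 2 ^ 25 := by
    rw [h2, ← h.card_Q]
    exact Nat.card_congr (Subgroup.subgroupOfEquivOfLe hle).toEquiv
  rw [← h1, h3]

theorem finite_centralizer : Finite (Subgroup.centralizer ({z} : Set G)) := by
  apply Nat.finite_of_card_ne_zero
  rw [card_centralizer h]
  norm_num

variable {y : G}

omit h in
theorem cent2_le (y : G) : cent2 z y ≤ Subgroup.centralizer ({z} : Set G) := inf_le_left

theorem finite_cent2 (y : G) : Finite (cent2 z y) := by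
  have := finite_centralizer h
  exact Finite.of_injective _ (Subgroup.inclusion_injective (cent2_le y))

theorem not_dvd_cent2 (y : G) : ¬ 23 ^ 2 ∣ Nat.card (cent2 z y) := by
  intro h1
  have h2 := h1.trans (Subgroup.card_dvd_of_le (cent2_le y))
  rw [card_centralizer h] at h2
  norm_num at h2

/-! ### The elements `x` and `u` -/

variable (hyQ : y ∈ Q) (hy : eta y = f0)
include hyQ hy

/-- The element `x`. -/
theorem exists_x : ∃ x : Subgroup.centralizer ({z} : Set G), pi x = X ∧ (x : G) ∈ cent2 z y ∧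
    (x : G) ^ 23 = 1 := by
  obtain ⟨b, hb, hb'⟩ := AmalPerf.exists_b h hyQ hy X_mem_F
  refine ⟨b ^ 24, ?_, ?_, ?_⟩
  · rw [map_pow, hb]
    have : X ^ 24 = X ^ 23 * X := pow_succ _ _
    rw [this, X_pow, one_mul]
  · exact Subgroup.pow_mem _ hb' 24
  · have h1 : ((b ^ 23 : Subgroup.centralizer ({z} : Set G)) : G) ∈ Q := by
      rw [← h.pi_eq_one, map_pow, hb, X_pow]
    have h2 : (b : G) ^ 23 ∈ Q := h1
    have h3 : ((b : G) ^ 23) ^ 4 = 1 := by
      have e : ((b : G) ^ 23) ^ 4 = ((b : G) ^ 23 * (b : G) ^ 23) * ((b : G) ^ 23 * (b : G) ^ 23) := by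
        rw [← pow_two, ← pow_two, ← pow_mul, ← pow_mul, ← pow_mul]
      rw [e]
      rcases h.large.sq _ h2 with e1 | e1
      · rw [e1, one_mul]
      · rw [e1, h.large.z_sq]
    show ((b : G) ^ 24) ^ 23 = 1
    have e : ((b : G) ^ 24) ^ 23 = (((b : G) ^ 23) ^ 4) ^ 6 := by
      rw [← pow_mul, ← pow_mul, ← pow_mul]
    rw [e, h3, one_pow]

omit h hyQ hy in
theorem orderOf_x {x : Subgroup.centralizer ({z} : Set G)} (hx : pi x = X)
    (hx23 : (x : G) ^ 23 = 1) : orderOf (x : G) = 23 := by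
  have : Fact (Nat.Prime 23) := ⟨by norm_num⟩
  refine orderOf_eq_prime hx23 ?_
  intro h1
  have h2 : x = 1 := Subtype.ext h1
  rw [h2, map_one] at hx
  exact X_ne_one hx.symm

/-- The element `u`. -/
theorem exists_u {x : Subgroup.centralizer ({z} : Set G)} (hx : pi x = X) :
    ∃ u ∈ cent2 z y, ∃ r ∈ Q, u * (x : G) = r * (x : G) ^ 2 * u := by
  obtain ⟨b, hb, hb'⟩ := AmalPerf.exists_b h hyQ hy (s := pr CoFrame23.u) ⟨CoFrame23.u, CoFrame23.u_mem_N, rfl⟩
  refine ⟨b, hb', (b : G) * x * ((x : G) ^ 2 * b)⁻¹, ?_, by group⟩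
  have h1 : pi (b * x * (x ^ 2 * b)⁻¹) = 1 := by
    rw [map_mul, map_mul, map_inv, map_mul, map_pow, hb, hx, X, ← map_mul, ← map_pow, ← map_mul,
      CoFrame23.u_mul_x, mul_inv_cancel]
  exact (h.pi_eq_one _).1 h1

/-! ### The element `q₀` -/

omit hyQ hy in
/-- An element of odd order with trivial action on `eta q` commutes with `q`. -/
theorem comm_of_eta {x : Subgroup.centralizer ({z} : Set G)} (hx23 : (x : G) ^ 23 = 1) {q : G} (hq : q ∈ Q)
    (hfix : pi x • eta q = eta q) : (x : G) * q = q * x := by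
  have h0 : (x : G) * z = z * x := Subgroup.mem_centralizer_singleton_iff.1 x.2
  have h1 := h.eta_conj x q hq
  rw [hfix] at h1
  have h2 : (x : G) * q * (x : G)⁻¹ ∈ Q := h.large.conj_mem x h0 q hq
  rcases (h.eta_eq h2 hq).1 h1 with e | e
  · rw [mul_inv_eq_iff_eq_mul] at e
    exact e
  · exfalso
    have e1 : (x : G) * q = q * z * x := by rw [mul_inv_eq_iff_eq_mul] at e; exact e
    have h3 : ∀ n : ℕ, (x : G) ^ n * q = q * z ^ n * (x : G) ^ n := by
      intro n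
      induction n with
      | zero => simp
      | succ n ih =>
        have hc : Commute (x : G) z := h0
        calc (x : G) ^ (n + 1) * q = x * ((x : G) ^ n * q) := by rw [pow_succ', mul_assoc]
          _ = (x * q) * (z ^ n * (x : G) ^ n) := by rw [ih]; simp only [mul_assoc]
          _ = q * z * ((x * z ^ n) * (x : G) ^ n) := by rw [e1]; simp only [mul_assoc]
          _ = q * z * ((z ^ n * x) * (x : G) ^ n) := by rw [(hc.pow_right n).eq]
          _ = q * (z * z ^ n) * (x * (x : G) ^ n) := by simp only [mul_assoc]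
          _ = q * z ^ (n + 1) * (x : G) ^ (n + 1) := by rw [← pow_succ', ← pow_succ']
    have h4 := h3 23
    have h5 : z ^ 23 = z := by
      have e2 : z ^ 23 = (z * z) ^ 11 * z := by rw [← pow_two, ← pow_mul, ← pow_succ]
      rw [e2, h.large.z_sq, one_pow, one_mul]
    rw [hx23, one_mul, mul_one, h5] at h4
    exact h.large.z_ne (left_eq_mul.1 h4)

/-- The element `q₀`. -/
theorem exists_q₀ {x : Subgroup.centralizer ({z} : Set G)} (hx : pi x = X) (hx23 : (x : G) ^ 23 = 1) :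
    ∃ q₀ ∈ Q, q₀ * q₀ = 1 ∧ q₀ * y * q₀⁻¹ = z * y ∧ q₀ * (x : G) = x * q₀ := by
  obtain ⟨q, hq, hqe⟩ := h.eta_surj (cl u0)
  refine ⟨q, hq, (h.sq_one hq).2 (by rw [hqe]; exact qf_u0), ?_, ?_⟩
  · have h1 : q * y = y * q * z := (h.comm_z_iff hq hyQ).2 (by rw [hqe, hy]; exact bf_u0)
    rw [h1, mul_assoc y q z, h.large.comm_z q hq, ← mul_assoc, mul_inv_cancel_right]
    exact h.large.comm_z y hyQ
  · refine (comm_of_eta h hx23 hq ?_).symm
    rw [hqe, hx, X_smul_cl, CoFrame23.x23_u0]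

/-! ### The centraliser of `x` -/

theorem cent_x {x : Subgroup.centralizer ({z} : Set G)} (hx : pi x = X) (hxB : (x : G) ∈ cent2 z y) {c : G}
    (hcz : c * z = z * c) (hcy : c * y = y * c) (hcx : c * x = x * c) :
    ∃ v, (v = 1 ∨ v = z ∨ v = y ∨ v = z * y) ∧ ∃ n : ℕ, c = v * (x : G) ^ n := by
  have hc : c ∈ Subgroup.centralizer ({z} : Set G) := Subgroup.mem_centralizer_singleton_iff.2 hcz
  have hF : pi ⟨c, hc⟩ ∈ F := pi_mem_F h hyQ hy ⟨c, hc⟩ hcy
  have hcomm : pi ⟨c, hc⟩ * X = X * pi ⟨c, hc⟩ := by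
    rw [← hx, ← map_mul, ← map_mul]
    congr 1
    exact Subtype.ext hcx
  obtain ⟨n, hn⟩ := cent_X hF hcomm
  have hv : c * ((x : G) ^ n)⁻¹ ∈ Q := by
    have h1 : pi (⟨c, hc⟩ * (x ^ n)⁻¹) = 1 := by
      rw [map_mul, map_inv, map_pow, hx, hn, mul_inv_cancel]
    exact (h.pi_eq_one _).1 h1
  refine ⟨c * ((x : G) ^ n)⁻¹, ?_, n, by group⟩
  rw [← AmalPerf.mem_four h hyQ hy, ← pre_W1 h hyQ hy]
  refine ⟨hv, ?_⟩
  have hxy : Commute (x : G) y := (mem_cent2.1 hxB).2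
  have hxc : Commute (x : G) c := hcx.symm
  have hvx : Commute (x : G) (c * ((x : G) ^ n)⁻¹) :=
    hxc.mul_right (((Commute.refl (x : G)).pow_right n).inv_right)
  have hvy : Commute (c * ((x : G) ^ n)⁻¹) y := by
    have h1 : Commute c y := hcy
    exact h1.mul_left ((hxy.pow_left n).inv_left)
  have h23 : eta (c * ((x : G) ^ n)⁻¹) ∈ W23 := (comm_y h hyQ hy hv).1 hvy.eq
  have h3 := h.eta_conj x _ hv
  rw [hvx.eq, mul_inv_cancel_right, hx] at h3
  have h4 : X • eta (c * ((x : G) ^ n)⁻¹) - eta (c * ((x : G) ^ n)⁻¹) = 0 := by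
    rw [← h3, sub_self]
  exact fix_W12 (fix_W23 h23 (by rw [h4]; exact W12.zero_mem)) (by rw [h4]; exact W1.zero_mem)

/-! ### All the elements -/

/-- **The elements `x, u, q₀, τ`.** -/
theorem exists_elts {t : G} (htz : t * z * t⁻¹ = y) (hty : t * y * t⁻¹ = z * y) :
    ∃ (x : Subgroup.centralizer ({z} : Set G)) (u q₀ τ : G), pi x = X ∧ (x : G) ∈ cent2 z y ∧
      (x : G) ^ 23 = 1 ∧ u ∈ cent2 z y ∧ (∃ r ∈ Q, u * (x : G) = r * (x : G) ^ 2 * u) ∧
      q₀ ∈ Q ∧ q₀ * q₀ = 1 ∧ q₀ * y * q₀⁻¹ = z * y ∧ q₀ * (x : G) = x * q₀ ∧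
      τ * τ * τ = 1 ∧ τ * z * τ⁻¹ = y ∧ τ * y * τ⁻¹ = z * y ∧ τ * (x : G) = x * τ ∧
      q₀ * τ * q₀⁻¹ = τ⁻¹ := by
  obtain ⟨x, hx, hxB, hx23⟩ := exists_x h hyQ hy
  obtain ⟨u, hu, hur⟩ := exists_u h hyQ hy hx
  obtain ⟨q₀, hq, hqq, hqy, hqx⟩ := exists_q₀ h hyQ hy hx hx23
  have hzy : z * y = y * z := AmalPerf.zy h hyQ
  -- conjugation of `x` by `t` stays in `B`
  have hx1 := (mem_cent2.1 hxB).1
  have hx2 := (mem_cent2.1 hxB).2
  have e1 : t⁻¹ * z * t = z * y := AmalInf.τz' h hyQ hy htz hty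
  have e2 : t⁻¹ * y * t = z := AmalInf.τy' h hyQ hy htz hty
  have htxB : t * (x : G) * t⁻¹ ∈ cent2 z y := by
    rw [mem_cent2]
    constructor
    · calc t * (x : G) * t⁻¹ * z = t * (x * (t⁻¹ * z * t)) * t⁻¹ := by group
        _ = t * (x * (z * y)) * t⁻¹ := by rw [e1]
        _ = t * ((z * y) * x) * t⁻¹ := by rw [← mul_assoc (x : G) z y, hx1, mul_assoc z (x : G) y, hx2, mul_assoc z y]
        _ = t * ((t⁻¹ * z * t) * x) * t⁻¹ := by rw [e1]
        _ = z * (t * x * t⁻¹) := by group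
    · calc t * (x : G) * t⁻¹ * y = t * (x * (t⁻¹ * y * t)) * t⁻¹ := by group
        _ = t * (z * x) * t⁻¹ := by rw [e2, hx1]
        _ = t * ((t⁻¹ * y * t) * x) * t⁻¹ := by rw [e2]
        _ = y * (t * x * t⁻¹) := by group
  have := finite_cent2 h y
  have : Fact (Nat.Prime 23) := ⟨by norm_num⟩
  have hox := orderOf_x hx hx23
  have hox' : orderOf (⟨(x : G), hxB⟩ : cent2 z y) = 23 := by
    rw [← hox, ← Subgroup.orderOf_coe]
  have h23' : (⟨t * (x : G) * t⁻¹, htxB⟩ : cent2 z y) ^ 23 = 1 := by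
    apply Subtype.ext
    show (t * (x : G) * t⁻¹) ^ 23 = 1
    rw [conj_pow, hx23, mul_one, mul_inv_cancel]
  obtain ⟨b, k, hbk⟩ := AmalTau.exists_conj_pow 23 (not_dvd_cent2 h y) hox' h23'
  have hb1 := (mem_cent2.1 b.2).1
  have hb2 := (mem_cent2.1 b.2).2
  have hbk' : (b : G) * (t * (x : G) * t⁻¹) * (b : G)⁻¹ = (x : G) ^ k := congrArg Subtype.val hbk
  obtain ⟨τ, hτ1, hτ2, hτ3, hτ4, hτ5⟩ := AmalTau.exists_tau (z := z) (y := y) (x := (x : G)) (q := q₀)
    (t := (b : G) * t) (k := k) h.large.z_sq (AmalPerf.y_sq h hyQ hy) hzy (AmalPerf.y_ne_z h hy)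
    hx1 hx2 hox (fun c h1 h2 h3 => cent_x h hyQ hy hx hxB h1 h2 h3)
    (by
      have : (b : G) * t * z * ((b : G) * t)⁻¹ = b * (t * z * t⁻¹) * (b : G)⁻¹ := by group
      rw [this, htz, hb2, mul_inv_cancel_right])
    (by
      have : (b : G) * t * y * ((b : G) * t)⁻¹ = b * (t * y * t⁻¹) * (b : G)⁻¹ := by group
      rw [this, hty, ← mul_assoc, hb1, mul_assoc z, hb2, ← mul_assoc, mul_inv_cancel_right])
    (by rw [← hbk']; group) hqq
    (by rw [h.large.comm_z q₀ hq, mul_inv_cancel_right]) hqy hqx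
  exact ⟨x, u, q₀, τ, hx, hxB, hx23, hu, hur, hq, hqq, hqy, hqx, hτ1, hτ2, hτ3, hτ4, hτ5⟩

end

end Cfsg.Agent.MonsterU.AmalElts
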