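import Cfsg.Agent.MonsterU.Lam2
import Cfsg.Agent.Co2Type.Quad

/-!
# Charts of extraspecial groups `2^(1+24)` with `Co1` on top

`Chart Q z eta pi` : `Q` is a large extraspecial subgroup of `C_G(z)`, `eta : Q → Λ/2Λ` is the projection with kernel
`⟨z⟩`, `pi : C_G(z) → Co1` is onto with kernel `Q` and `eta` is equivariant.  The squaring and commutator forms of `Q` are
then the forms of the lattice.
-/

set_option autoImplicit false

namespace Cfsg.Agent.MonsterU.Ch

open Cfsg Cfsg.Spor Cfsg.Agent.LeechMat.Core Cfsg.Agent.MonsterU.Lam2 Cfsg.Agent.Co2Type.Quad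

/-! ### uniqueness of the invariant quadratic form -/

/-- (3, -1²³) -/
def vA : GolayPt → ℤ := fun p => if p = none then 3 else -1

/-- (4, 4, 0, 0, …) -/
def vB : GolayPt → ℤ := fun p => if p = none ∨ p = some 0 then 4 else 0

/-- (0, -4, -4, 0, …) -/
def vC : GolayPt → ℤ := fun p => if p = some 0 ∨ p = some 1 then -4 else 0

/-- (-4, 0, 4, 0, …) -/
def vD : GolayPt → ℤ := fun p => if p = none then -4 else if p = some 1 then 4 else 0

/-- (4, 0, 0, 4, …) -/
def vE : GolayPt → ℤ := fun p => if p = none ∨ p = some 2 then 4 else 0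

theorem vA_mem : vA ∈ leechSet := mem_leechSet_of_const_mod_four _ (-1) (-1) (by decide) (by decide) (by decide)
theorem vB_mem : vB ∈ leechSet := mem_leechSet_of_const_mod_four _ 0 0 (by decide) (by decide) (by decide)
theorem vC_mem : vC ∈ leechSet := mem_leechSet_of_const_mod_four _ 0 0 (by decide) (by decide) (by decide)
theorem vD_mem : vD ∈ leechSet := mem_leechSet_of_const_mod_four _ 0 0 (by decide) (by decide) (by decide)
theorem vE_mem : vE ∈ leechSet := mem_leechSet_of_const_mod_four _ 0 0 (by decide) (by decide) (by decide)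

/-- the lattice vectors -/
def lA : leechLattice := ⟨vA, AddSubgroup.subset_closure vA_mem⟩
/-- the lattice vectors -/
def lB : leechLattice := ⟨vB, AddSubgroup.subset_closure vB_mem⟩
/-- the lattice vectors -/
def lC : leechLattice := ⟨vC, AddSubgroup.subset_closure vC_mem⟩
/-- the lattice vectors -/
def lD : leechLattice := ⟨vD, AddSubgroup.subset_closure vD_mem⟩
/-- the lattice vectors -/
def lE : leechLattice := ⟨vE, AddSubgroup.subset_closure vE_mem⟩

/-- an invariant function is constant on each type -/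
theorem const_on_type {q : L2 → ZMod 2} (hq : ∀ (g : Co0) x, q (g • x) = q x) {n : ℤ} (hn : n = 2 ∨ n = 3 ∨ n = 4)
    {x y : L2} (hx : IsType n x) (hy : IsType n y) : q x = q y := by
  obtain ⟨g, rfl⟩ := IsType.trans hn hx hy
  rw [hq]

/-- **Uniqueness of the invariant quadratic form.** -/
theorem form_unique (q : L2 → ZMod 2) (b : L2 → L2 → ZMod 2) (hqb : ∀ x y, q (x + y) = q x + q y + b x y)
    (hb : ∀ x y z, b x (y + z) = b x y + b x z) (hq : ∀ (g : Co0) x, q (g • x) = q x) (hne : ∃ x y, b x y ≠ 0) :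
    ∀ x, q x = qf x := by
  have q0 : q 0 = 0 := by
    have h1 := hqb 0 0
    have h2 := hb 0 0 0
    rw [add_zero] at h1 h2
    have h3 : b 0 0 = 0 := by simpa using h2
    rw [h3] at h1
    simpa using h1
  have hbq : ∀ v w : leechLattice, b (cl v) (cl w) = q (cl (v + w)) + q (cl v) + q (cl w) := by
    intro v w
    have := hqb (cl v) (cl w)
    rw [map_add, this]
    generalize q (cl v) = a
    generalize q (cl w) = c
    generalize b (cl v) (cl w) = d
    revert a c d; decide
  have tB : IsType 2 (cl lB) := ⟨lB, by show sqNorm vB = 16 * 2; decide, rfl⟩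
  have tC : IsType 2 (cl lC) := ⟨lC, by show sqNorm vC = 16 * 2; decide, rfl⟩
  have tD : IsType 2 (cl lD) := ⟨lD, by show sqNorm vD = 16 * 2; decide, rfl⟩
  have tE : IsType 2 (cl lE) := ⟨lE, by show sqNorm vE = 16 * 2; decide, rfl⟩
  have tA : IsType 2 (cl lA) := ⟨lA, by show sqNorm vA = 16 * 2; decide, rfl⟩
  -- the values
  set c2 := q (cl lB) with hc2
  have k2 : ∀ {x}, IsType 2 x → q x = c2 := fun hx => const_on_type hq (Or.inl rfl) hx tB
  -- differences of minimal vectors
  have dsub : ∀ v w : leechLattice, cl (v + w) = cl (v - w) := fun v w => by rw [map_add, cl_sub]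
  -- c4 = 0 from E, B, D
  have e1 : b (cl lE) (cl lB) = c2 := by
    rw [hbq, dsub, k2 tE, k2 tB, k2 (x := cl (lE - lB)) ⟨lE - lB, by show sqNorm (vE - vB) = 16 * 2; decide, rfl⟩]
    generalize c2 = a
    revert a; decide
  have e2 : b (cl lE) (cl lD) = c2 := by
    rw [hbq, k2 tE, k2 tD, k2 (x := cl (lE + lD)) ⟨lE + lD, by show sqNorm (vE + vD) = 16 * 2; decide, rfl⟩]
    generalize c2 = a
    revert a; decide
  have e3 : b (cl lE) (cl (lB + lD)) = q (cl (lE + (lB + lD))) := by
    rw [hbq, k2 tE, k2 (x := cl (lB + lD)) ⟨lB + lD, by show sqNorm (vB + vD) = 16 * 2; decide, rfl⟩]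
    generalize c2 = a
    generalize q _ = d
    revert a d; decide
  have e4 : q (cl (lE + (lB + lD))) = 0 := by
    rw [← e3, map_add, hb, e1, e2]
    generalize c2 = a
    revert a; decide
  have t4 : IsType 4 (cl (lE + (lB + lD))) :=
    ⟨lE + (lB + lD), by show sqNorm (vE + (vB + vD)) = 16 * 4; decide, rfl⟩
  have k4 : ∀ {x}, IsType 4 x → q x = 0 := fun hx => by
    rw [const_on_type hq (Or.inr (Or.inr rfl)) hx t4, e4]
  -- c2 = 0 from A, B, C
  have t3 : IsType 3 (cl (lA - lB)) := ⟨lA - lB, by show sqNorm (vA - vB) = 16 * 3; decide, rfl⟩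
  set c3 := q (cl (lA - lB)) with hc3
  have k3 : ∀ {x}, IsType 3 x → q x = c3 := fun hx => const_on_type hq (Or.inr (Or.inl rfl)) hx t3
  have f1 : b (cl lA) (cl lB) = c3 := by
    rw [hbq, dsub, k2 tA, k2 tB, ← hc3]
    generalize c2 = a
    generalize c3 = d
    revert a d; decide
  have f2 : b (cl lA) (cl lC) = c3 := by
    rw [hbq, dsub, k2 tA, k2 tC, k3 (x := cl (lA - lC)) ⟨lA - lC, by show sqNorm (vA - vC) = 16 * 3; decide, rfl⟩]
    generalize c2 = a
    generalize c3 = d
    revert a d; decide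
  have f3 : b (cl lA) (cl (lB + lC)) = c2 := by
    rw [hbq, dsub, k2 tA, k2 (x := cl (lB + lC)) ⟨lB + lC, by show sqNorm (vB + vC) = 16 * 2; decide, rfl⟩,
      k2 (x := cl (lA - (lB + lC))) ⟨lA - (lB + lC), by show sqNorm (vA - (vB + vC)) = 16 * 2; decide, rfl⟩]
    generalize c2 = a
    revert a; decide
  have f4 : c2 = 0 := by
    rw [← f3, map_add, hb, f1, f2]
    generalize c3 = a
    revert a; decide
  -- c3 = 1
  have f5 : c3 = 1 := by
    by_contra h
    have h0 : c3 = 0 := by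
      generalize c3 = a at h
      revert a; decide
    have hall : ∀ x, q x = 0 := by
      intro x
      rcases type_cases x with rfl | hx | hx | hx
      · exact q0
      · rw [k2 hx, f4]
      · rw [k3 hx, h0]
      · exact k4 hx
    obtain ⟨x, y, hxy⟩ := hne
    apply hxy
    have := hqb x y
    rw [hall, hall, hall, add_zero, zero_add] at this
    exact this.symm
  -- the values of `qf`
  have kq : ∀ {n : ℤ} {x : L2}, IsType n x → qf x = (n : ZMod 2) := by
    rintro n x ⟨v, hv, rfl⟩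
    rw [qf_cl, Lam2.q0, hv, Int.mul_ediv_cancel_left _ (by norm_num)]
  intro x
  rcases type_cases x with rfl | hx | hx | hx
  · rw [q0, qf_zero]
  · rw [k2 hx, f4, kq hx]; rfl
  · rw [k3 hx, f5, kq hx]; rfl
  · rw [k4 hx, kq hx]; rfl

theorem qf_of_type {n : ℤ} {x : L2} (hx : IsType n x) : qf x = (n : ZMod 2) := by
  obtain ⟨v, hv, rfl⟩ := hx
  rw [qf_cl, Lam2.q0, hv, Int.mul_ediv_cancel_left _ (by norm_num)]

/-! ### charts -/

/-- A chart of `Q` and `C_G(z)`. -/
structure Chart {G : Type*} [Group G] (Q : Subgroup G) (z : G) (eta : G → L2)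
    (pi : Subgroup.centralizer ({z} : Set G) →* Co1) : Prop where
  large : Large Q z
  fin : Finite Q
  eta_mul : ∀ x ∈ Q, ∀ y ∈ Q, eta (x * y) = eta x + eta y
  eta_zero : ∀ x ∈ Q, eta x = 0 ↔ x = 1 ∨ x = z
  eta_surj : ∀ v : L2, ∃ x ∈ Q, eta x = v
  eta_conj : ∀ (c : Subgroup.centralizer ({z} : Set G)), ∀ x ∈ Q, eta ((c : G) * x * (c : G)⁻¹) = pi c • eta x
  pi_surj : Function.Surjective pi

namespace Chart

variable {G : Type*} [Group G] {Q : Subgroup G} {z : G} {eta : G → L2}
  {pi : Subgroup.centralizer ({z} : Set G) →* Co1}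

theorem eta_one (h : Chart Q z eta pi) : eta 1 = 0 := (h.eta_zero 1 Q.one_mem).2 (Or.inl rfl)

theorem eta_z (h : Chart Q z eta pi) : eta z = 0 := (h.eta_zero z h.large.z_mem).2 (Or.inr rfl)

theorem eta_inv (h : Chart Q z eta pi) {x : G} (hx : x ∈ Q) : eta x⁻¹ = eta x := by
  have := h.eta_mul x hx x⁻¹ (Q.inv_mem hx)
  rw [mul_inv_cancel, h.eta_one] at this
  exact (eq_of_add_eq_zero this.symm).symm

theorem eta_eq (h : Chart Q z eta pi) {x y : G} (hx : x ∈ Q) (hy : y ∈ Q) : eta x = eta y ↔ x = y ∨ x = y * z := by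
  constructor
  · intro he
    have h1 : eta (y⁻¹ * x) = 0 := by
      rw [h.eta_mul _ (Q.inv_mem hy) _ hx, h.eta_inv hy, he, add_self]
    rcases (h.eta_zero _ (Q.mul_mem (Q.inv_mem hy) hx)).1 h1 with h2 | h2
    · exact Or.inl (inv_mul_eq_one.1 h2).symm
    · right; rw [← h2]; group
  · rintro (rfl | rfl)
    · rfl
    · rw [h.eta_mul y hy z h.large.z_mem, h.eta_z, add_zero]

/-- compare `eta` with `pr` -/
theorem pr_eq_pr (h : Chart Q z eta pi) (x y : Q) : h.large.pr x = h.large.pr y ↔ eta x = eta y := by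
  rw [h.large.pr_eq_pr, h.eta_eq x.2 y.2]

theorem pr_eq_of_eta (h : Chart Q z eta pi) {x y : Q} (he : eta x = eta y) : h.large.pr x = h.large.pr y :=
  (h.pr_eq_pr x y).2 he

/-- a section of `eta` -/
theorem exists_sec (h : Chart Q z eta pi) : ∃ s : L2 → Q, ∀ v, eta (s v) = v := by
  choose f hf using h.eta_surj
  exact ⟨fun v => ⟨f v, (hf v).1⟩, fun v => (hf v).2⟩

/-- the squaring form is the form of the lattice -/
theorem q_eq (h : Chart Q z eta pi) (x : Q) : h.large.q (h.large.pr x) = qf (eta x) := by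
  obtain ⟨s, hs⟩ := h.exists_sec
  have hL := h.large
  have hpr : ∀ x : Q, hL.pr (s (eta x)) = hL.pr x := fun x => h.pr_eq_of_eta (hs _)
  have key := form_unique (fun v => hL.q (hL.pr (s v))) (fun v w => hL.b0 (hL.pr (s v)) (hL.pr (s w))) (by
      intro v w
      show hL.q (hL.pr (s (v + w))) = hL.q (hL.pr (s v)) + hL.q (hL.pr (s w)) + hL.b0 (hL.pr (s v)) (hL.pr (s w))
      rw [← hL.q_add, ← hL.pr_mul]
      congr 1
      apply h.pr_eq_of_eta
      rw [hs, Subgroup.coe_mul, h.eta_mul _ (s v).2 _ (s w).2, hs, hs])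
    (by
      intro v w w'
      show hL.b0 (hL.pr (s v)) (hL.pr (s (w + w'))) = hL.b0 (hL.pr (s v)) (hL.pr (s w)) +
        hL.b0 (hL.pr (s v)) (hL.pr (s w'))
      rw [← hL.b0_add_right, ← hL.pr_mul]
      congr 1
      apply h.pr_eq_of_eta
      rw [hs, Subgroup.coe_mul, h.eta_mul _ (s w).2 _ (s w').2, hs, hs])
    (by
      intro g v
      show hL.q (hL.pr (s (g • v))) = hL.q (hL.pr (s v))
      obtain ⟨c, hc⟩ := h.pi_surj (QuotientGroup.mk g)
      rw [← hL.q_act c (hL.pr (s v)), hL.act_pr]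
      congr 1
      apply h.pr_eq_of_eta
      rw [hs, hL.conjQ_coe, h.eta_conj c _ (s v).2, hs, hc]
      rfl)
    (by
      by_contra hno
      push Not at hno
      -- `Q` is commutative
      have hcomm : ∀ x y : Q, (x : G) * y = y * x := by
        intro x y
        rw [← hL.b0_eq_zero, ← hpr x, ← hpr y]
        exact hno _ _
      -- so every element is `1` or `z`, contradiction with surjectivity
      obtain ⟨x, hx, hxv⟩ := h.eta_surj (cl lA)
      have h1 := hL.cent x hx fun y hy => hcomm ⟨x, hx⟩ ⟨y, hy⟩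
      have h2 := (h.eta_zero x hx).2 h1
      rw [hxv] at h2
      have h3 : bf (cl lA) (cl lB) = 0 := by rw [h2, bf_zero_left]
      rw [bf_cl_eq_zero] at h3
      have h4 : dotInt (lA : GolayPt → ℤ) (lB : GolayPt → ℤ) = 8 := by
        show dotInt vA vB = 8; decide
      rw [h4] at h3
      norm_num at h3)
  have h5 : hL.q (hL.pr (s (eta x))) = qf (eta x) := key (eta x)
  rw [← h5, hpr]

/-- the commutator form is the form of the lattice -/
theorem b_eq (h : Chart Q z eta pi) (x y : Q) : h.large.b0 (h.large.pr x) (h.large.pr y) = bf (eta x) (eta y) := by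
  have h1 := h.large.q_add (h.large.pr x) (h.large.pr y)
  rw [← h.large.pr_mul, h.q_eq, h.q_eq, h.q_eq, Subgroup.coe_mul, h.eta_mul x x.2 y y.2, qf_add] at h1
  exact (add_left_cancel h1).symm

/-- `x² = 1` in terms of the lattice -/
theorem sq_one (h : Chart Q z eta pi) {x : G} (hx : x ∈ Q) : x * x = 1 ↔ qf (eta x) = 0 := by
  rw [← h.q_eq ⟨x, hx⟩, h.large.q_eq_zero]

theorem sq_z (h : Chart Q z eta pi) {x : G} (hx : x ∈ Q) : x * x = z ↔ qf (eta x) = 1 := by
  rw [← h.q_eq ⟨x, hx⟩, h.large.q_eq_one]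

/-- commuting in terms of the lattice -/
theorem comm_iff (h : Chart Q z eta pi) {x y : G} (hx : x ∈ Q) (hy : y ∈ Q) :
    x * y = y * x ↔ bf (eta x) (eta y) = 0 := by
  rw [← h.b_eq ⟨x, hx⟩ ⟨y, hy⟩, h.large.b0_eq_zero]

theorem comm_z_iff (h : Chart Q z eta pi) {x y : G} (hx : x ∈ Q) (hy : y ∈ Q) :
    x * y = y * x * z ↔ bf (eta x) (eta y) = 1 := by
  rw [← h.b_eq ⟨x, hx⟩ ⟨y, hy⟩, h.large.b0_eq_one]

/-- the kernel of `pi` -/
theorem pi_eq_one (h : Chart Q z eta pi) (c : Subgroup.centralizer ({z} : Set G)) : pi c = 1 ↔ (c : G) ∈ Q := by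
  constructor
  · intro hc
    have := h.fin
    apply h.large.mem_of_act
    ext v
    obtain ⟨x, rfl⟩ := h.large.pr_surjective v
    rw [h.large.act_pr]
    show h.large.pr (h.large.conjQ c x) = h.large.pr x
    apply h.pr_eq_of_eta
    rw [h.large.conjQ_coe, h.eta_conj c x x.2, hc, one_smul]
  · intro hc
    apply eq_of_smul
    intro v
    obtain ⟨x, hx, rfl⟩ := h.eta_surj v
    rw [← h.eta_conj c x hx, one_smul, h.eta_mul _ (Q.mul_mem hc hx) _ (Q.inv_mem hc), h.eta_mul _ hc _ hx,
      h.eta_inv hc, add_comm (eta c), add_assoc, add_self, add_zero]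

theorem pi_eq (h : Chart Q z eta pi) {c d : Subgroup.centralizer ({z} : Set G)} :
    pi c = pi d ↔ (c : G)⁻¹ * d ∈ Q := by
  have : pi c = pi d ↔ pi (c⁻¹ * d) = 1 := by rw [map_mul, map_inv, inv_mul_eq_one]
  rw [this, h.pi_eq_one]
  rfl

/-- the order of `Q` -/
theorem card_Q (h : Chart Q z eta pi) : Nat.card Q = 2 ^ 25 := by
  obtain ⟨s, hs⟩ := h.exists_sec
  rw [h.large.card_eq]
  have : Nat.card h.large.V = Nat.card L2 := by
    symm
    apply Nat.card_congr
    refine Equiv.ofBijective (fun v => h.large.pr (s v)) ⟨?_, ?_⟩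
    · intro v w hvw
      have := (h.pr_eq_pr _ _).1 hvw
      rwa [hs, hs] at this
    · intro v
      obtain ⟨x, rfl⟩ := h.large.pr_surjective v
      exact ⟨eta x, h.pr_eq_of_eta (hs _)⟩
  rw [this, card_L2]
  norm_num

/-- change of the chart by an element of `Co1` -/
theorem smul (h : Chart Q z eta pi) (g : Co1) :
    Chart Q z (fun x => g • eta x) ((MulAut.conj g).toMonoidHom.comp pi) where
  large := h.large
  fin := h.fin
  eta_mul x hx y hy := by
    show g • eta (x * y) = g • eta x + g • eta y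
    rw [h.eta_mul x hx y hy, smul_add]
  eta_zero x hx := by
    show g • eta x = 0 ↔ _
    rw [← h.eta_zero x hx]
    constructor
    · intro h1
      have : g⁻¹ • g • eta x = g⁻¹ • (0 : L2) := by rw [h1]
      rwa [inv_smul_smul, smul_zero] at this
    · intro h1; rw [h1, smul_zero]
  eta_surj v := by
    obtain ⟨x, hx, hxv⟩ := h.eta_surj (g⁻¹ • v)
    exact ⟨x, hx, by show g • eta x = v; rw [hxv, smul_inv_smul]⟩
  eta_conj c x hx := by
    show g • eta (c * x * (c : G)⁻¹) = (g * pi c * g⁻¹) • (g • eta x)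
    rw [h.eta_conj c x hx, smul_smul, smul_smul]
    congr 1
    group
  pi_surj := by
    intro k
    obtain ⟨c, hc⟩ := h.pi_surj (g⁻¹ * k * g)
    refine ⟨c, ?_⟩
    show g * pi c * g⁻¹ = k
    rw [hc]; group

end Chart

end Cfsg.Agent.MonsterU.Ch
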