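import Cfsg.Agent.MonsterU.AmalIso
import Cfsg.Agent.MonsterU.Chart
import Cfsg.Agent.MonsterU.CoFrameIrr
import Cfsg.Agent.MonsterU.CoFrameF

/-!
# Generation by commutators in the centralisers of `z` and of `z, y` (helper808)

For a chart of `Q`, `C_G(z)` and `y ∈ Q` over the class of the standard frame: the fields `comm0`, `commQ`, `perf` of
`AmalSide.Side` and the oddness of the index of `PP z y` in the centraliser of `z`.
-/

set_option autoImplicit false

namespace Cfsg.Agent.MonsterU.AmalPerf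

open Cfsg Cfsg.Spor Cfsg.Agent.LeechMat.Core Cfsg.Agent.MonsterU.Lam2 Cfsg.Agent.Co2Type.Quad
open Cfsg.Agent.MonsterU.Ch Cfsg.Agent.MonsterU.AmalSide
open Cfsg.Agent.MonsterU.CoFrameL2 Cfsg.Agent.MonsterU.CoFrameIrr

/-! ### The frame class -/

theorem zmod2_cases (a : ZMod 2) : a = 0 ∨ a = 1 := by
  revert a; decide

theorem qf_f0 : qf f0 = 0 := by
  rw [f0, qf_cl_eq_zero]
  have h : sqNorm ((Cfsg.Agent.SporadicStructure.Co0Base.e8 none : leechLattice) : GolayPt → ℤ) = 64 := by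
    show sqNorm (Pi.single none 8 : GolayPt → ℤ) = 64
    decide
  rw [h]
  norm_num

theorem exists_bf_one {x : L2} (hx : x ≠ 0) : ∃ y, bf x y = 1 := by
  by_contra hno
  push Not at hno
  exact hx (bf_nondeg fun y => (zmod2_cases _).resolve_right (hno y))

/-- A vector orthogonal to `W23` is in `W1`. -/
theorem mem_W1_of_bf {w : L2} (h : ∀ x ∈ W23, bf w x = 0) : w ∈ W1 := by
  obtain ⟨u, hu⟩ := exists_bf_one f0_ne
  rw [mem_W1]
  have key : ∀ w' : L2, (∀ x ∈ W23, bf w' x = 0) → bf w' u = 0 → w' = 0 := by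
    intro w' h' hu'
    apply bf_nondeg
    intro x
    rcases zmod2_cases (bf f0 x) with h1 | h1
    · exact h' x ((mem_W23_iff_bf x).2 (by rw [bf_comm]; exact h1))
    · have h2 : x + u ∈ W23 := (mem_W23_iff_bf _).2 (by
        rw [bf_comm, bf_add_right, h1, hu]; decide)
      have h3 := h' _ h2
      rw [bf_add_right, hu', add_zero] at h3
      exact h3
  rcases zmod2_cases (bf w u) with h1 | h1
  · exact Or.inl (key w h h1)
  · right
    have h2 := key (w + f0) (fun x hx => by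
      rw [bf_add_left, h x hx, zero_add, bf_comm]
      exact (mem_W23_iff_bf x).1 hx) (by rw [bf_add_left, h1, hu]; decide)
    exact eq_of_add_eq_zero h2

/-- Two vectors of `W23` with product one. -/
theorem exists_pair : ∃ v ∈ W23, ∃ w ∈ W23, bf v w = 1 := by
  by_contra hno
  push Not at hno
  have h1 : W23 ≤ W1 := fun v hv => mem_W1_of_bf fun w hw => (zmod2_cases _).resolve_right (hno v hv w hw)
  have h2 := Nat.card_le_card_of_injective (Set.inclusion h1) (Set.inclusion_injective h1)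
  have h3 : Nat.card W23 ≤ Nat.card W1 := h2
  rw [card_W23, card_W1] at h3
  norm_num at h3

/-- The subgroup generated by the `s x - x`, `x ∈ W23`, `s ∈ F`, is `W23`. -/
theorem closure_F : W23 ≤ AddSubgroup.closure {v : L2 | ∃ s ∈ F, ∃ x ∈ W23, v = s • x - x} := by
  set U := AddSubgroup.closure {v : L2 | ∃ s ∈ F, ∃ x ∈ W23, v = s • x - x} with hU
  have hinv : ∀ t ∈ F, ∀ v ∈ U, t • v ∈ U := by
    intro t ht v hv
    induction hv using AddSubgroup.closure_induction with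
    | mem v hv =>
      obtain ⟨s, hs, x, hx, rfl⟩ := hv
      apply AddSubgroup.subset_closure
      refine ⟨t * s * t⁻¹, F.mul_mem (F.mul_mem ht hs) (F.inv_mem ht), t • x, F_mem_W23 ht hx, ?_⟩
      rw [smul_sub, smul_smul, smul_smul]
      congr 2
      group
    | zero => rw [smul_zero]; exact U.zero_mem
    | add v w _ _ hv hw => rw [smul_add]; exact U.add_mem hv hw
    | neg v _ hv => rw [smul_neg]; exact U.neg_mem hv
  have h12 : ¬ U ≤ W12 := by
    intro h
    have h1 : W23 ≤ W12 := fun x hx =>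
      fix_W23 hx (h (AddSubgroup.subset_closure ⟨X, X_mem_F, x, hx, rfl⟩))
    have h2 := Nat.card_le_card_of_injective (Set.inclusion h1) (Set.inclusion_injective h1)
    have h3 : Nat.card W23 ≤ Nat.card W12 := h2
    rw [card_W23, card_W12] at h3
    norm_num at h3
  rcases uniserial U hinv with e | e | e | e | e
  · exact absurd (by rw [e]; exact bot_le) h12
  · exact absurd (by rw [e]; exact W1_le_W12) h12
  · exact absurd e.le h12
  · exact e.ge
  · rw [e]; exact le_top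

/-- The subgroup generated by the `g x - x`, `g ∈ Co1`, is everything. -/
theorem closure_Co1 (v : L2) : v ∈ AddSubgroup.closure {v : L2 | ∃ (s : Co1) (x : L2), v = s • x - x} := by
  set U := AddSubgroup.closure {v : L2 | ∃ (s : Co1) (x : L2), v = s • x - x} with hU
  have hinv : ∀ (t : Co0), ∀ v ∈ U, t • v ∈ U := by
    intro t v hv
    induction hv using AddSubgroup.closure_induction with
    | mem v hv =>
      obtain ⟨s, x, rfl⟩ := hv
      apply AddSubgroup.subset_closure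
      refine ⟨(QuotientGroup.mk t : Co1) * s * (QuotientGroup.mk t : Co1)⁻¹, (QuotientGroup.mk t : Co1) • x, ?_⟩
      show (QuotientGroup.mk t : Co1) • (s • x - x) = _
      rw [smul_sub, smul_smul, smul_smul]
      congr 2
      group
    | zero => rw [smul_zero]; exact U.zero_mem
    | add v w _ _ hv hw => rw [smul_add]; exact U.add_mem hv hw
    | neg v _ hv => rw [smul_neg]; exact U.neg_mem hv
  have hle : W23 ≤ U := closure_F.trans (AddSubgroup.closure_mono (by
    rintro w ⟨s, -, x, -, rfl⟩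
    exact ⟨s, x, rfl⟩))
  rcases irreducible U hinv with e | e
  · exfalso
    rw [e] at hle
    have h1 := hle (W12_le_W23 (W1_le_W12 f0_mem_W1))
    exact f0_ne h1
  · rw [e]; trivial

/-! ### The chart -/

section

variable {G : Type*} [Group G] {Q : Subgroup G} {z : G} {eta : G → L2}
  {pi : Subgroup.centralizer ({z} : Set G) →* Co1} (h : Chart Q z eta pi) {y : G} (hy : y ∈ Q)
  (hf : eta y = f0)

include h hy hf

theorem y_sq : y * y = 1 := (h.sq_one hy).2 (by rw [hf]; exact qf_f0)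

theorem y_ne : y ≠ 1 := by
  rintro rfl
  rw [h.eta_one] at hf
  exact f0_ne hf.symm

omit hy in
theorem y_ne_z : y ≠ z := by
  rintro rfl
  rw [h.eta_z] at hf
  exact f0_ne hf.symm

omit hf in
theorem zy : z * y = y * z := (h.large.comm_z y hy).symm

/-- commuting with `y` -/
theorem comm_y_iff {a : G} (ha : a ∈ Q) : a * y = y * a ↔ eta a ∈ W23 := by
  rw [h.comm_iff ha hy, hf, mem_W23_iff_bf]

theorem exists_not_comm : ∃ q₀ ∈ Q, q₀ * y = y * q₀ * z := by
  obtain ⟨u, hu⟩ := exists_bf_one f0_ne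
  obtain ⟨q₀, hq₀, e⟩ := h.eta_surj u
  refine ⟨q₀, hq₀, (h.comm_z_iff hq₀ hy).2 ?_⟩
  rw [e, hf, bf_comm]; exact hu

omit h hy hf in
theorem coe_comm (c : Subgroup.centralizer ({z} : Set G)) : (c : G) * z = z * c :=
  Subgroup.mem_centralizer_singleton_iff.1 c.2

/-- The image under `pi` of an element normalising `⟨z, y⟩`. -/
theorem pi_mem_F (c : Subgroup.centralizer ({z} : Set G)) :
    pi c ∈ F ↔ (c : G) * y * (c : G)⁻¹ = y ∨ (c : G) * y * (c : G)⁻¹ = y * z := by
  rw [mem_F_iff, ← hf, ← h.eta_conj c y hy]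
  exact h.eta_eq (h.large.conj_mem c (coe_comm c) y hy) hy

/-- Every element of `F` is the image of an element commuting with `y`. -/
theorem exists_b {s : Co1} (hs : s ∈ F) :
    ∃ b : Subgroup.centralizer ({z} : Set G), pi b = s ∧ (b : G) ∈ cent2 z y := by
  obtain ⟨c, rfl⟩ := h.pi_surj s
  rcases (pi_mem_F h hy hf c).1 hs with e | e
  · refine ⟨c, rfl, mem_cent2.2 ⟨coe_comm c, ?_⟩⟩
    calc (c : G) * y = (c : G) * y * (c : G)⁻¹ * c := by group
      _ = y * c := by rw [e]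
  · obtain ⟨q₀, hq₀, e₀⟩ := exists_not_comm h hy hf
    have hz₀ : q₀ ∈ Subgroup.centralizer ({z} : Set G) :=
      Subgroup.mem_centralizer_singleton_iff.2 (h.large.comm_z q₀ hq₀)
    refine ⟨c * ⟨q₀, hz₀⟩, ?_, mem_cent2.2 ⟨coe_comm _, ?_⟩⟩
    · rw [map_mul, (h.pi_eq_one ⟨q₀, hz₀⟩).2 hq₀, mul_one]
    · show (c : G) * q₀ * y = y * (c * q₀)
      have e1 : (c : G) * y = y * z * c := by rw [← e]; group
      have e2 : (c : G) * z = z * c := coe_comm c
      calc (c : G) * q₀ * y = c * (q₀ * y) := by group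
        _ = c * (y * q₀ * z) := by rw [e₀]
        _ = (c * y) * (q₀ * z) := by group
        _ = (y * z * c) * (z * q₀) := by rw [e1, h.large.comm_z q₀ hq₀]
        _ = y * z * (c * z) * q₀ := by group
        _ = y * z * (z * c) * q₀ := by rw [e2]
        _ = y * (z * z) * (c * q₀) := by group
        _ = y * (c * q₀) := by rw [h.large.z_sq, mul_one]

/-- The image of the centraliser of `z, y` is in `F`. -/
theorem pi_cent2 (b : Subgroup.centralizer ({z} : Set G)) (hb : (b : G) ∈ cent2 z y) : pi b ∈ F := by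
  rw [pi_mem_F h hy hf]
  left
  rw [(mem_cent2.1 hb).2]; group

/-- The centre is generated by commutators of elements of `Q` commuting with `y`. -/
theorem z_comm : ∃ q₁ ∈ Q, q₁ * y = y * q₁ ∧ ∃ q₂ ∈ Q, q₂ * y = y * q₂ ∧ z = q₁ * q₂ * q₁⁻¹ * q₂⁻¹ := by
  obtain ⟨v, hv, w, hw, hvw⟩ := exists_pair
  obtain ⟨q₁, hq₁, rfl⟩ := h.eta_surj v
  obtain ⟨q₂, hq₂, rfl⟩ := h.eta_surj w
  refine ⟨q₁, hq₁, (comm_y_iff h hy hf hq₁).2 hv, q₂, hq₂, (comm_y_iff h hy hf hq₂).2 hw, ?_⟩
  have e := (h.comm_z_iff hq₁ hq₂).2 hvw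
  rw [e, mul_assoc (q₂ * q₁) z, ← h.large.comm_z _ (Q.inv_mem hq₁)]
  calc z = z * (q₂ * q₁ * q₁⁻¹ * q₂⁻¹) := by group
    _ = (z * (q₂ * q₁ * q₁⁻¹ * q₂⁻¹)) := rfl
    _ = (q₂ * q₁ * q₁⁻¹ * q₂⁻¹) * z :=
      (h.large.comm_z _ (Q.mul_mem (Q.mul_mem (Q.mul_mem hq₂ hq₁) (Q.inv_mem hq₁)) (Q.inv_mem hq₂))).symm
    _ = q₂ * q₁ * q₁⁻¹ * (q₂⁻¹ * z) := by group
    _ = q₂ * q₁ * q₁⁻¹ * (z * q₂⁻¹) := by rw [h.large.comm_z _ (Q.inv_mem hq₂)]
    _ = q₂ * q₁ * (q₁⁻¹ * z) * q₂⁻¹ := by group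

omit hy hf in
/-- General form: a set of commutators in `Q` containing `z` and covering a subgroup of the lattice. -/
theorem mem_closure_of {S : Set G} {T : Set L2} (hS : ∀ t ∈ S, t ∈ Q) (hz : z ∈ Subgroup.closure S)
    (hT : ∀ v ∈ T, ∃ t ∈ S, eta t = v) {a : G} (ha : a ∈ Q) (hv : eta a ∈ AddSubgroup.closure T) :
    a ∈ Subgroup.closure S := by
  have hle : Subgroup.closure S ≤ Q := (Subgroup.closure_le _).2 hS
  have key : ∀ v ∈ AddSubgroup.closure T, ∃ r ∈ Subgroup.closure S, eta r = v := by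
    intro v hv
    induction hv using AddSubgroup.closure_induction with
    | mem v hv =>
      obtain ⟨t, ht, e⟩ := hT v hv
      exact ⟨t, Subgroup.subset_closure ht, e⟩
    | zero => exact ⟨1, Subgroup.one_mem _, h.eta_one⟩
    | add v w _ _ hv hw =>
      obtain ⟨r, hr, rfl⟩ := hv
      obtain ⟨s, hs, rfl⟩ := hw
      exact ⟨r * s, Subgroup.mul_mem _ hr hs, h.eta_mul r (hle hr) s (hle hs)⟩
    | neg v _ hv =>
      obtain ⟨r, hr, rfl⟩ := hv
      exact ⟨r, hr, (neg_eq _).symm⟩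
  obtain ⟨r, hr, e⟩ := key _ hv
  rcases (h.eta_eq ha (hle hr)).1 e.symm with e1 | e1
  · rw [e1]; exact hr
  · rw [e1]; exact Subgroup.mul_mem _ hr hz

omit hy hf in
/-- The commutator of an element of `Q` and an element commuting with `z`. -/
theorem eta_comm {q : G} (hq : q ∈ Q) (b : Subgroup.centralizer ({z} : Set G)) :
    q * b * q⁻¹ * (b : G)⁻¹ ∈ Q ∧ eta (q * b * q⁻¹ * (b : G)⁻¹) = pi b • eta q - eta q := by
  have h1 : (b : G) * q⁻¹ * (b : G)⁻¹ ∈ Q := h.large.conj_mem b (coe_comm b) _ (Q.inv_mem hq)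
  have h2 : q * b * q⁻¹ * (b : G)⁻¹ = q * ((b : G) * q⁻¹ * (b : G)⁻¹) := by group
  rw [h2]
  refine ⟨Q.mul_mem hq h1, ?_⟩
  rw [h.eta_mul q hq _ h1, h.eta_conj b _ (Q.inv_mem hq), h.eta_inv hq, sub_eq_add_neg, neg_eq, add_comm]

/-- **Field `comm0` of `Side`.** -/
theorem comm0 : ∀ a ∈ Q, a * y = y * a → a ∈ Subgroup.closure
    {t | ∃ q ∈ Q, q * y = y * q ∧ ∃ b ∈ cent2 z y, t = q * b * q⁻¹ * b⁻¹} := by
  intro a ha hay
  refine mem_closure_of h (T := {v : L2 | ∃ s ∈ F, ∃ x ∈ W23, v = s • x - x}) ?_ ?_ ?_ ha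
    (closure_F ((comm_y_iff h hy hf ha).1 hay))
  · rintro t ⟨q, hq, -, b, hb, rfl⟩
    exact (eta_comm h hq ⟨b, Subgroup.mem_centralizer_singleton_iff.2 (mem_cent2.1 hb).1⟩).1
  · obtain ⟨q₁, hq₁, e₁, q₂, hq₂, e₂, e⟩ := z_comm h hy hf
    exact Subgroup.subset_closure ⟨q₁, hq₁, e₁, q₂, mem_cent2.2 ⟨h.large.comm_z q₂ hq₂, e₂⟩, e⟩
  · rintro v ⟨s, hs, x, hx, rfl⟩
    obtain ⟨q, hq, rfl⟩ := h.eta_surj x
    obtain ⟨b, rfl, hb⟩ := exists_b h hy hf hs
    exact ⟨_, ⟨q, hq, (comm_y_iff h hy hf hq).2 hx, b, hb, rfl⟩, (eta_comm h hq b).2⟩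

/-- **Field `commQ` of `Side`.** -/
theorem commQ : ∀ a ∈ Q, a ∈ Subgroup.closure
    {t | ∃ q ∈ Q, ∃ c, c * z = z * c ∧ t = q * c * q⁻¹ * c⁻¹} := by
  intro a ha
  refine mem_closure_of h (T := {v : L2 | ∃ (s : Co1) (x : L2), v = s • x - x}) ?_ ?_ ?_ ha
    (closure_Co1 _)
  · rintro t ⟨q, hq, b, hb, rfl⟩
    exact (eta_comm h hq ⟨b, Subgroup.mem_centralizer_singleton_iff.2 hb⟩).1
  · obtain ⟨q₁, hq₁, -, q₂, hq₂, -, e⟩ := z_comm h hy hf
    exact Subgroup.subset_closure ⟨q₁, hq₁, q₂, h.large.comm_z q₂ hq₂, e⟩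
  · rintro v ⟨s, x, rfl⟩
    obtain ⟨q, hq, rfl⟩ := h.eta_surj x
    obtain ⟨b, rfl⟩ := h.pi_surj s
    exact ⟨_, ⟨q, hq, b, coe_comm b, rfl⟩, (eta_comm h hq b).2⟩

omit h hy hf in
/-- A subgroup "of index at most two" contains the commutators. -/
theorem comm_mem_of {B S : Subgroup G} (hSB : S ≤ B)
    (h2 : ∀ a ∈ B, ∀ b ∈ B, a ∉ S → b ∉ S → a * b ∈ S) {a b : G} (ha : a ∈ B) (hb : b ∈ B) :
    a * b * a⁻¹ * b⁻¹ ∈ S := by
  have hn : ∀ s ∈ S, ∀ g ∈ B, g * s * g⁻¹ ∈ S := by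
    intro s hs g hg
    by_cases hgS : g ∈ S
    · exact S.mul_mem (S.mul_mem hgS hs) (S.inv_mem hgS)
    · by_contra hcon
      have h3 := h2 _ (B.mul_mem (B.mul_mem hg (hSB hs)) (B.inv_mem hg)) g hg hcon hgS
      rw [inv_mul_cancel_right] at h3
      apply hgS
      have := S.mul_mem h3 (S.inv_mem hs)
      rwa [mul_inv_cancel_right] at this
  by_cases haS : a ∈ S
  · have h3 : b * a⁻¹ * b⁻¹ ∈ S := hn _ (S.inv_mem haS) b hb
    have h4 : a * b * a⁻¹ * b⁻¹ = a * (b * a⁻¹ * b⁻¹) := by group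
    rw [h4]
    exact S.mul_mem haS h3
  · by_cases hbS : b ∈ S
    · exact S.mul_mem (hn b hbS a ha) (S.inv_mem hbS)
    · have h3 := h2 a ha b hb haS hbS
      have h4 := h2 _ (B.inv_mem ha) _ (B.inv_mem hb) (fun h => haS (by simpa using S.inv_mem h))
        (fun h => hbS (by simpa using S.inv_mem h))
      have h5 : a * b * a⁻¹ * b⁻¹ = (a * b) * (a⁻¹ * b⁻¹) := by group
      rw [h5]
      exact S.mul_mem h3 h4

/-- **Field `perf` of `Side`.** -/
theorem perf : NoTwo (cent2 z y) := by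
  intro S hSB h2 b hb
  -- `S` contains the elements of `Q` commuting with `y`
  have hQ : ∀ a ∈ Q, a * y = y * a → a ∈ S := by
    intro a ha hay
    refine (Subgroup.closure_le S).2 ?_ (comm0 h hy hf a ha hay)
    rintro t ⟨q, hq, hqy, c, hc, rfl⟩
    exact comm_mem_of hSB h2 (mem_cent2.2 ⟨h.large.comm_z q hq, hqy⟩) hc
  -- the image
  let B' : Subgroup (Subgroup.centralizer ({z} : Set G)) := (cent2 z y).subgroupOf (Subgroup.centralizer {z})
  have hB' : B'.map pi = F := by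
    apply le_antisymm
    · rintro _ ⟨c, hc, rfl⟩
      exact pi_cent2 h hy hf c (Subgroup.mem_subgroupOf.1 hc)
    · intro s hs
      obtain ⟨c, rfl, hc⟩ := exists_b h hy hf hs
      exact ⟨c, Subgroup.mem_subgroupOf.2 hc, rfl⟩
  have h3 : ⁅B', B'⁆.map pi = F := by
    rw [Subgroup.map_commutator, hB']
    exact CoFrameF.perfect_F
  have hbC : b ∈ Subgroup.centralizer ({z} : Set G) := Subgroup.mem_centralizer_singleton_iff.2 (mem_cent2.1 hb).1
  have h4 : pi ⟨b, hbC⟩ ∈ ⁅B', B'⁆.map pi := by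
    rw [h3]; exact pi_cent2 h hy hf _ hb
  obtain ⟨d, hd, e⟩ := h4
  have h5 : ⁅B', B'⁆ ≤ S.comap (Subgroup.centralizer ({z} : Set G)).subtype := by
    rw [Subgroup.commutator_le]
    intro a ha c hc
    exact comm_mem_of hSB h2 (Subgroup.mem_subgroupOf.1 ha) (Subgroup.mem_subgroupOf.1 hc)
  have hdS : (d : G) ∈ S := h5 hd
  have h6 : (d : G)⁻¹ * b ∈ Q := h.pi_eq.1 e
  have h7 : (d : G)⁻¹ * b ∈ cent2 z y := Subgroup.mul_mem _ (Subgroup.inv_mem _ (hSB hdS)) hb
  have h8 := S.mul_mem hdS (hQ _ h6 (mem_cent2.1 h7).2)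
  rwa [mul_inv_cancel_left] at h8

/-- The four group. -/
theorem mem_four {v : G} : v ∈ four z y ↔ v = 1 ∨ v = z ∨ v = y ∨ v = z * y := by
  have z_sq := h.large.z_sq
  have y_sq := y_sq h hy hf
  have zy := zy h hy
  have zy_sq : (z * y) * (z * y) = 1 := by
    have h1 : (z * y) * (z * y) = z * (y * z) * y := by group
    rw [h1, ← zy]
    have h2 : z * (z * y) * y = (z * z) * (y * y) := by group
    rw [h2, z_sq, y_sq, one_mul]
  constructor
  · intro hv
    induction hv using Subgroup.closure_induction with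
    | mem t ht =>
      rcases ht with rfl | ht
      · exact Or.inr (Or.inl rfl)
      · rw [Set.mem_singleton_iff] at ht
        exact Or.inr (Or.inr (Or.inl ht))
    | one => exact Or.inl rfl
    | mul a b _ _ ha hb =>
      have e1 : z * (z * y) = y := by rw [← mul_assoc, z_sq, one_mul]
      have e2 : z * y * z = y := by rw [zy, mul_assoc, z_sq, mul_one]
      have e3 : y * (z * y) = z := by rw [zy, ← mul_assoc, y_sq, one_mul]
      have e4 : z * y * y = z := by rw [mul_assoc, y_sq, mul_one]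
      rcases ha with rfl | rfl | rfl | rfl <;> rcases hb with rfl | rfl | rfl | rfl <;>
        simp [z_sq, y_sq, zy_sq, e1, e2, e3, e4, ← zy]
    | inv a _ ha =>
      rcases ha with rfl | rfl | rfl | rfl
      · simp
      · simp [inv_eq_of_mul_eq_one_left z_sq]
      · simp [inv_eq_of_mul_eq_one_left y_sq]
      · right; right; right; exact inv_eq_of_mul_eq_one_left zy_sq
  · rintro (rfl | rfl | rfl | rfl)
    · exact Subgroup.one_mem _
    · exact Subgroup.subset_closure (by simp)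
    · exact Subgroup.subset_closure (by simp)
    · exact Subgroup.mul_mem _ (Subgroup.subset_closure (by simp)) (Subgroup.subset_closure (by simp))

theorem conj_mem_four {c : G} (hz : c * z = z * c) (hc : c * y * c⁻¹ = y ∨ c * y * c⁻¹ = y * z) :
    ∀ v ∈ four z y, c * v * c⁻¹ ∈ four z y := by
  have hcz : c * z * c⁻¹ = z := by rw [hz]; group
  have e1 : c * y * c⁻¹ ∈ four z y := by
    rw [mem_four h hy hf]
    rcases hc with e | e
    · exact Or.inr (Or.inr (Or.inl e))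
    · right; right; right; rw [e, zy h hy]
  have e2 : c * z * c⁻¹ ∈ four z y := by
    rw [mem_four h hy hf]; exact Or.inr (Or.inl hcz)
  intro v hv
  rcases (mem_four h hy hf).1 hv with rfl | rfl | rfl | rfl
  · rw [mul_one, mul_inv_cancel]; exact Subgroup.one_mem _
  · exact e2
  · exact e1
  · have e3 : c * (z * y) * c⁻¹ = (c * z * c⁻¹) * (c * y * c⁻¹) := by group
    rw [e3]
    exact Subgroup.mul_mem _ e2 e1

theorem mem_PP (c : Subgroup.centralizer ({z} : Set G)) : (c : G) ∈ AmalIso.PP z y ↔ pi c ∈ F := by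
  constructor
  · rintro ⟨h1, h2, -⟩
    rw [pi_mem_F h hy hf]
    rcases (mem_four h hy hf).1 (h2 y ((mem_four h hy hf).2 (Or.inr (Or.inr (Or.inl rfl))))) with e | e | e | e
    · exfalso
      apply y_ne h hy hf
      have e1 : y = (c : G)⁻¹ * ((c : G) * y * (c : G)⁻¹) * c := by group
      rw [e] at e1
      rw [e1]; group
    · exfalso
      apply y_ne_z h hf
      have e1 : y = (c : G)⁻¹ * ((c : G) * y * (c : G)⁻¹) * c := by group
      rw [e] at e1
      rw [e1, mul_assoc, ← h1]; group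
    · exact Or.inl e
    · right; rw [e, zy h hy]
  · intro hc
    have hc' : pi c⁻¹ ∈ F := by rw [map_inv]; exact F.inv_mem hc
    refine ⟨coe_comm c, conj_mem_four h hy hf (coe_comm c) ((pi_mem_F h hy hf c).1 hc), ?_⟩
    have h1 := conj_mem_four h hy hf (coe_comm c⁻¹) ((pi_mem_F h hy hf c⁻¹).1 hc')
    intro v hv
    have h2 := h1 v hv
    rw [Subgroup.coe_inv, inv_inv] at h2
    exact h2

/-- **The index of `PP z y` in the centraliser of `z` is odd.** -/
theorem odd_relIndex : Odd ((AmalIso.PP z y).relIndex (Subgroup.centralizer ({z} : Set G))) := by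
  have h1 : (AmalIso.PP z y).subgroupOf (Subgroup.centralizer ({z} : Set G)) = F.comap pi := by
    ext c
    rw [Subgroup.mem_subgroupOf, Subgroup.mem_comap]
    exact mem_PP h hy hf c
  rw [Subgroup.relIndex, h1, Subgroup.index_comap_of_surjective _ h.pi_surj]
  exact CoFrameF.odd_index_F

end

end Cfsg.Agent.MonsterU.AmalPerf
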