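import Mathlib
import Cfsg.Agent.LargeExtra.Local

/-!
# The four-group `⟨z, a⟩` in a group of Monster type

`p : Pair Q z A a` (`a = z^g ∈ Q`, `A = Q^g`), `|Q| = 2^25`.  If the image `p.X` of `C_A(z)` in `GL(Q/⟨z⟩)` has
order `1` or `2^11` (it is a normal `2`-subgroup of `2^11:M24`), it has order `2^11` and `|Q ∩ A| = 2^13`.
-/

set_option autoImplicit false

namespace Cfsg.Agent.MonsterU.FourG

open Cfsg.Agent.Co2Type.Quad Cfsg.Agent.LargeExtra.Local Cfsg.Agent.LargeExtra.Base

variable {G : Type*} [Group G] {Q A : Subgroup G} {z a : G}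

/-- `C_A(z)` is not contained in `Q` if `D` is not too small. -/
theorem card_X_ne_one [Finite G] (p : Pair Q z A a) (hD : 2 < Nat.card p.D) :
    Nat.card p.X ≠ 1 := by
  intro h1
  have hbot : ∀ f ∈ p.X, f = 1 := by
    intro f hf
    have : Subsingleton p.X := (Nat.card_eq_one_iff_unique.1 h1).1
    exact congrArg Subtype.val (Subsingleton.elim (⟨f, hf⟩ : p.X) 1)
  -- there is an element of `D` different from `0` and `va`
  obtain ⟨v, hv, hv0, hva⟩ : ∃ v ∈ p.D, v ≠ 0 ∧ v ≠ p.va := by
    by_contra hcon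
    push Not at hcon
    have hle : Nat.card p.D ≤ 2 := by
      have : Finite (Fin 2) := inferInstance
      let f : p.D → Fin 2 := fun v => open Classical in if v.1 = 0 then 0 else 1
      have hf : Function.Injective f := by
        rintro ⟨v, hv⟩ ⟨w, hw⟩ h
        apply Subtype.ext
        show v = w
        simp only [f] at h
        by_cases h1 : v = 0
        · by_cases h2 : w = 0
          · rw [h1, h2]
          · rw [if_pos h1, if_neg h2] at h
            exact absurd h (by decide)
        · by_cases h2 : w = 0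
          · rw [if_neg h1, if_pos h2] at h
            exact absurd h (by decide)
          · rw [hcon v hv h1, hcon w hw h2]
      have := Nat.card_le_card_of_injective f hf
      simpa using this
    omega
  -- a functional with `φ va = 0`, `φ v = 1`
  have hli : v ∉ Submodule.span (ZMod 2) {p.va} := by
    intro h
    obtain ⟨c, hc⟩ := Submodule.mem_span_singleton.1 h
    have hc01 : c = 0 ∨ c = 1 := by
      have : ∀ c : ZMod 2, c = 0 ∨ c = 1 := by decide
      exact this c
    rcases hc01 with rfl | rfl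
    · exact hv0 (by rw [← hc, zero_smul])
    · exact hva (by rw [← hc, one_smul])
  obtain ⟨φ, hφv, hφ⟩ := Submodule.exists_le_ker_of_notMem hli
  have hφa : φ p.va = 0 := hφ (Submodule.mem_span_singleton_self _)
  obtain ⟨f, hf, hfD⟩ := p.exists_X φ hφa
  have h2 := hfD v hv
  rw [hbot f hf] at h2
  have h3 : φ v • p.va = 0 := by
    have : (1 : p.lz.V ≃ₗ[ZMod 2] p.lz.V) v = v := rfl
    rw [this] at h2
    exact (left_eq_add.1 h2)
  have h4 : φ v = 1 := by
    have : ∀ c : ZMod 2, c ≠ 0 → c = 1 := by decide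
    exact this _ hφv
  rw [h4, one_smul] at h3
  exact p.va_ne h3

/-- The orders of `X` and `D`. -/
theorem card_X_D [Finite G] (p : Pair Q z A a) (hQ : Nat.card Q = 2 ^ 25)
    (hX : Nat.card p.X = 1 ∨ Nat.card p.X = 2 ^ 11) :
    Nat.card p.X = 2 ^ 11 ∧ Nat.card p.D = 2 ^ 12 := by
  have h1 := p.card_X
  have h2 := p.lz.card_eq
  rw [hQ] at h2
  have hV : Nat.card p.lz.V = 2 ^ 24 := by omega
  rw [hV] at h1
  rcases hX with h | h
  · exfalso
    rw [h] at h1
    exact card_X_ne_one p (by omega) h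
  · rw [h] at h1
    exact ⟨h, by omega⟩

/-- `|Q ∩ A| = 2^13`. -/
theorem card_inf [Finite G] (p : Pair Q z A a) (hQ : Nat.card Q = 2 ^ 25)
    (hX : Nat.card p.X = 1 ∨ Nat.card p.X = 2 ^ 11) : Nat.card ↥(Q ⊓ A) = 2 ^ 13 := by
  have h1 := (card_X_D p hQ hX).2
  have h2 := card_sub p.lz p.z_mem
  have h3 : Nat.card (sub p.lz A) = 2 ^ 12 := h1
  rw [inf_comm, h2, h3]
  norm_num

end Cfsg.Agent.MonsterU.FourG
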