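import Cfsg.Agent.MonsterU.SmallComm
import Cfsg.Agent.MonsterU.Chart
import Cfsg.Agent.MonsterU.FourG
import Cfsg.Agent.LargeExtra.WCLine
import Cfsg.Agent.S0402

/-!
# Fusion of the central involution (piece (B) of the uniqueness of the Monster, helper804)

`exists_type_four` : `G` finite simple, `Chart Q z eta pi` (that is `Q = 2^(1+24)` large in `C_G(z)`, `C_G(z)/Q = Co1`) :
some conjugate `y ≠ z` of `z` lies in `Q` and its image in `Λ/2Λ` is of type 4.
-/

set_option autoImplicit false

namespace Cfsg.Agent.MonsterU.Fused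

open Cfsg Cfsg.Spor Cfsg.Agent.LeechMat.Core Cfsg.Agent.MonsterU.Lam2 Cfsg.Agent.Co2Type.Quad
open Cfsg.Agent.MonsterU.Ch Cfsg.Agent.LargeExtra.Base

/-! ### The commutator map of an involution of `Co1` -/

/-- `x ↦ s x + x` -/
noncomputable def dl (s : Co1) : L2 →+ L2 where
  toFun x := s • x + x
  map_zero' := by rw [smul_zero, add_zero]
  map_add' x y := by rw [smul_add]; abel

theorem dl_apply (s : Co1) (x : L2) : dl s x = s • x + x := rfl

theorem ker_eq (t : Co0) :
    ((dl (QuotientGroup.mk t)).comp cl).ker = SmallComm.Fx t := by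
  ext v
  rw [AddMonoidHom.mem_ker, SmallComm.mem_Fx]
  show (QuotientGroup.mk t : Co1) • cl v + cl v = 0 ↔ _
  rw [mk_smul, smul_cl, ← cl_sub, cl_eq_zero]

/-- **An involution of `Co1` has at least 8 commutators on `Λ/2Λ`.** -/
theorem eight_le_range {s : Co1} (hs : s * s = 1) (h1 : s ≠ 1) : 8 ≤ Nat.card (dl s).range := by
  obtain ⟨t, rfl⟩ := QuotientGroup.mk_surjective s
  have ht : t * t ∈ Subgroup.center Co0 := (QuotientGroup.eq_one_iff (t * t)).1 hs
  have ht1 : t ∉ Subgroup.center Co0 := fun h => h1 ((QuotientGroup.eq_one_iff t).2 h)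
  have h := SmallComm.eight_le_index t ht ht1
  rw [← ker_eq, AddSubgroup.index_ker] at h
  have e : ((dl (QuotientGroup.mk t)).comp cl).range = (dl (QuotientGroup.mk t)).range := by
    ext x
    constructor
    · rintro ⟨v, rfl⟩; exact ⟨cl v, rfl⟩
    · rintro ⟨y, rfl⟩
      obtain ⟨v, rfl⟩ := cl_surjective y
      exact ⟨v, rfl⟩
  rwa [e] at h

section

variable {G : Type*} [Group G] {Q : Subgroup G} {z : G} {eta : G → L2}
  {pi : Subgroup.centralizer ({z} : Set G) →* Co1}

/-- the commutators in `Q / ⟨z⟩` and in the lattice -/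
theorem card_range_le (h : Chart Q z eta pi) (c : Subgroup.centralizer ({z} : Set G)) :
    Nat.card (dl (pi c)).range ≤
      Nat.card (LinearMap.range ((h.large.act c).toLinearMap + LinearMap.id)) := by
  obtain ⟨s, hs⟩ := h.exists_sec
  have hfin := h.fin
  have hfV : Finite h.large.V := Finite.of_surjective _ h.large.pr_surjective
  have key : ∀ w ∈ (dl (pi c)).range,
      h.large.pr (s w) ∈ LinearMap.range ((h.large.act c).toLinearMap + LinearMap.id) := by
    rintro _ ⟨v, rfl⟩
    refine ⟨h.large.pr (s v), ?_⟩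
    show h.large.act c (h.large.pr (s v)) + h.large.pr (s v) = _
    rw [h.large.act_pr, ← h.large.pr_mul]
    refine h.pr_eq_of_eta ?_
    rw [hs]
    show eta ((c : G) * (s v : G) * (c : G)⁻¹ * (s v : G)) = dl (pi c) v
    rw [h.eta_mul _ (h.large.conj_mem_cent c (s v)) _ (s v).2, h.eta_conj c _ (s v).2, hs, dl_apply]
  refine Nat.card_le_card_of_injective
    (fun w : (dl (pi c)).range => (⟨h.large.pr (s w), key w w.2⟩ :
      LinearMap.range ((h.large.act c).toLinearMap + LinearMap.id))) ?_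
  intro w w' hw
  have h1 : h.large.pr (s w) = h.large.pr (s w') := congrArg Subtype.val hw
  rw [h.pr_eq_pr, hs, hs] at h1
  exact Subtype.ext h1

/-- `z` is not weakly closed in `Q` -/
theorem not_weakly_closed [Finite G] [IsSimpleGroup G] (h : Chart Q z eta pi) :
    ∃ g : G, g * z * g⁻¹ ∈ Q ∧ g * z * g⁻¹ ≠ z := by
  by_contra hcon
  push Not at hcon
  have hcard : Nat.card Q = 2 ^ 25 := h.card_Q
  have hnc : ∃ a b : G, a * b ≠ b * a := by
    obtain ⟨x, hx, hxt⟩ : ∃ x ∈ Q, x ≠ 1 ∧ x ≠ z := by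
      obtain ⟨v, hv⟩ : ∃ v : L2, v ≠ 0 := by
        by_contra hc
        push Not at hc
        have : Nat.card L2 = 1 := Nat.card_eq_one_iff_exists.2 ⟨0, hc⟩
        rw [card_L2] at this
        norm_num at this
      obtain ⟨x, hx, rfl⟩ := h.eta_surj v
      refine ⟨x, hx, ?_, ?_⟩
      · rintro rfl; exact hv h.eta_one
      · rintro rfl; exact hv h.eta_z
    obtain ⟨y, -, hyx⟩ := exists_not_comm h.large hx hxt.1 hxt.2
    refine ⟨y, x, fun h1 => ?_⟩
    rw [hyx] at h1
    exact h.large.z_ne (mul_eq_left.1 h1)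
  have hR := LargeExtra.WCIrr.noRefl_of_index h.large (by rw [hcard]; norm_num)
    (fun H => LargeExtra.WCIrr.index_ne_two hnc H)
  obtain ⟨g, hg1, hg2⟩ := Cfsg.Agent.SporRec.LyReduce.exists_conj_ne z (orderOf_z h.large) hnc
  obtain ⟨c, ⟨k, hk⟩, hcQ, hc4, -⟩ := LargeExtra.WCIrr.exists_act_four h.large (by rw [hcard]; norm_num) hR
    hcon ⟨g, hg1, hg2.eq.symm⟩
  have hcc : c * c = 1 := by
    apply Subtype.ext
    show (c : G) * c = 1
    rw [← hk]
    calc k * z * k⁻¹ * (k * z * k⁻¹) = k * (z * z) * k⁻¹ := by group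
      _ = 1 := by rw [h.large.z_sq]; group
  have h1 : pi c * pi c = 1 := by rw [← map_mul, hcc, map_one]
  have h2 : pi c ≠ 1 := fun h3 => hcQ ((h.pi_eq_one c).1 h3)
  have h3 := (eight_le_range h1 h2).trans (card_range_le h c)
  rw [hc4] at h3
  omega

end

/-! ### Type 2 is impossible -/

/-- congruent minimal vectors are equal up to sign -/
theorem eq_or_neg {v w : leechLattice} (hv : sqNorm (v : GolayPt → ℤ) = 32) (hw : sqNorm (w : GolayPt → ℤ) = 32)
    (h : cl v = cl w) : v = w ∨ v = -w := by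
  obtain ⟨u, hu⟩ := cl_eq.1 h
  have h1 : sqNorm ((v - w : leechLattice) : GolayPt → ℤ) = 4 * sqNorm (u : GolayPt → ℤ) := by
    rw [hu, sqNorm, sqNorm, Finset.mul_sum]
    refine Finset.sum_congr rfl fun i _ => ?_
    rw [AddSubgroup.coe_nsmul, Pi.smul_apply, nsmul_eq_mul]
    push_cast; ring
  have h2 : sqNorm ((v + w : leechLattice) : GolayPt → ℤ) = 4 * sqNorm ((u + w : leechLattice) : GolayPt → ℤ) := by
    have : v + w = 2 • (u + w) := by rw [nsmul_add, ← hu, two_nsmul]; abel
    rw [this, sqNorm, sqNorm, Finset.mul_sum]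
    refine Finset.sum_congr rfl fun i _ => ?_
    rw [AddSubgroup.coe_nsmul, Pi.smul_apply, nsmul_eq_mul]
    push_cast; ring
  have h3 : sqNorm ((v - w : leechLattice) : GolayPt → ℤ) + sqNorm ((v + w : leechLattice) : GolayPt → ℤ) = 128 := by
    have e : sqNorm ((v - w : leechLattice) : GolayPt → ℤ) + sqNorm ((v + w : leechLattice) : GolayPt → ℤ) =
        2 * sqNorm (v : GolayPt → ℤ) + 2 * sqNorm (w : GolayPt → ℤ) := by
      rw [sqNorm, sqNorm, sqNorm, sqNorm, ← Finset.sum_add_distrib, Finset.mul_sum, Finset.mul_sum,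
        ← Finset.sum_add_distrib]
      refine Finset.sum_congr rfl fun i _ => ?_
      rw [AddSubgroup.coe_sub, AddSubgroup.coe_add, Pi.sub_apply, Pi.add_apply]
      ring
    rw [e, hv, hw]; norm_num
  by_cases hu0 : u = 0
  · left
    rw [hu0, nsmul_zero] at hu
    exact sub_eq_zero.1 hu
  · by_cases huw : u + w = 0
    · right
      have : v + w = 2 • (u + w) := by rw [nsmul_add, ← hu, two_nsmul]; abel
      rw [huw, nsmul_zero] at this
      exact eq_neg_of_add_eq_zero_left this
    · exfalso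
      have h4 : (32 : ℤ) ≤ sqNorm (u : GolayPt → ℤ) :=
        Cfsg.Agent.S0391.result u u.2 (fun h => hu0 (Subtype.ext h))
      have h5 : (32 : ℤ) ≤ sqNorm ((u + w : leechLattice) : GolayPt → ℤ) :=
        Cfsg.Agent.S0391.result _ (u + w).2 (fun h => huw (Subtype.ext h))
      omega

/-- The stabiliser in `Co1` of a class of type 2 has no nontrivial normal 2-subgroup. -/
theorem eq_bot_of_type_two {x : L2} (hx : IsType 2 x) (N : Subgroup Co1) (hN : ∀ s ∈ N, s • x = x)
    (hnorm : ∀ s : Co1, s • x = x → ∀ n ∈ N, s * n * s⁻¹ ∈ N) (h2 : IsPGroup 2 N) : N = ⊥ := by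
  obtain ⟨v, hv, rfl⟩ := hx
  rw [show (16 : ℤ) * 2 = 32 by norm_num] at hv
  have hco2 := Cfsg.Agent.S0402.result v hv
  have hsimple : IsSimpleGroup (MulAction.stabilizer Co0 v) := hco2.1
  have hcard : Nat.card (MulAction.stabilizer Co0 v) = 42305421312000 := hco2.2
  let f : MulAction.stabilizer Co0 v →* Co1 :=
    (QuotientGroup.mk' (Subgroup.center Co0)).comp (MulAction.stabilizer Co0 v).subtype
  have hf : ∀ g, f g = QuotientGroup.mk (g : Co0) := fun g => rfl
  have hfx : ∀ g, f g • cl v = cl v := by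
    intro g
    rw [hf, mk_smul, smul_cl]
    exact congrArg cl (MulAction.mem_stabilizer_iff.1 g.2)
  -- every element of the stabiliser comes from the stabiliser of `v`
  have hsurj : ∀ s : Co1, s • cl v = cl v → ∃ g, f g = s := by
    intro s hs
    obtain ⟨t, rfl⟩ := QuotientGroup.mk_surjective s
    rw [mk_smul, smul_cl] at hs
    rcases eq_or_neg (by rw [co0_sqNorm, hv]) hv hs with h | h
    · exact ⟨⟨t, h⟩, rfl⟩
    · refine ⟨⟨t * Cfsg.Agent.SporadicA.Co0Basic.negCo0, ?_⟩, ?_⟩
      · rw [MulAction.mem_stabilizer_iff, mul_smul]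
        have : Cfsg.Agent.SporadicA.Co0Basic.negCo0 • v = -v := rfl
        rw [this, SmallComm.smul_neg', h, neg_neg]
      · rw [hf]
        refine (QuotientGroup.eq.2 ?_)
        show (t * Cfsg.Agent.SporadicA.Co0Basic.negCo0)⁻¹ * t ∈ _
        rw [mul_inv_rev, inv_mul_cancel_right]
        apply Subgroup.inv_mem
        exact Cfsg.Agent.SporadicA.Co0Basic.negCo0_mem_center
  have hinj : Function.Injective f := by
    rw [injective_iff_map_eq_one]
    intro g hg
    rw [hf, QuotientGroup.eq_one_iff] at hg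
    rcases Cfsg.Agent.SporadicA.Co0Basic.eq_one_or_neg_of_mem_center hg with h | h
    · exact Subtype.ext h
    · exfalso
      have h1 := MulAction.mem_stabilizer_iff.1 g.2
      rw [h] at h1
      have h3 : Cfsg.Agent.SporadicA.Co0Basic.negCo0 • v = -v := rfl
      rw [h3] at h1
      have h4 : v = 0 := by
        apply Subtype.ext
        funext i
        have := congrArg (fun u : leechLattice => (u : GolayPt → ℤ) i) h1
        simp only [AddSubgroup.coe_neg, Pi.neg_apply] at this
        show (v : GolayPt → ℤ) i = 0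
        omega
      rw [h4] at hv
      have : sqNorm ((0 : leechLattice) : GolayPt → ℤ) = 0 := by
        rw [sqNorm]
        exact Finset.sum_eq_zero fun i _ => by rw [AddSubgroup.coe_zero, Pi.zero_apply]; norm_num
      rw [this] at hv
      norm_num at hv
  have hNn : (N.comap f).Normal := ⟨fun n hn g => by
    rw [Subgroup.mem_comap] at hn ⊢
    rw [map_mul, map_mul, map_inv]
    exact hnorm _ (hfx g) _ hn⟩
  rcases hNn.eq_bot_or_eq_top with h | h
  · rw [eq_bot_iff]
    intro s hs
    obtain ⟨g, rfl⟩ := hsurj s (hN s hs)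
    have : g ∈ N.comap f := hs
    rw [h, Subgroup.mem_bot] at this
    rw [this, map_one]
    exact Subgroup.mem_bot.2 rfl
  · exfalso
    have h3 : IsPGroup 2 (N.comap f) := h2.comap_of_injective f hinj
    have hfin : Finite (MulAction.stabilizer Co0 v) := Nat.finite_of_card_ne_zero (by rw [hcard]; norm_num)
    rw [h] at h3
    obtain ⟨n, hn⟩ := IsPGroup.iff_card.1 h3
    rw [Subgroup.card_top, hcard] at hn
    have h5 : (5 : ℕ) ∣ 2 ^ n := by rw [← hn]; norm_num
    have h6 := (Nat.Prime.dvd_of_dvd_pow (by norm_num) h5)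
    norm_num at h6

section

variable {G : Type*} [Group G] {Q : Subgroup G} {z : G} {eta : G → L2}
  {pi : Subgroup.centralizer ({z} : Set G) →* Co1}

/-- every element of the stabiliser of the image of `y` in `Co1` is induced by `C_G(z) ∩ C_G(y)` -/
theorem exists_lift (h : Chart Q z eta pi) {y : G} (hy : y ∈ Q) (hy1 : y ≠ 1) (hyz : y ≠ z) {s : Co1}
    (hs : s • eta y = eta y) : ∃ c : Subgroup.centralizer ({z} : Set G), (c : G) * y = y * c ∧ pi c = s := by
  obtain ⟨c, rfl⟩ := h.pi_surj s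
  rw [← h.eta_conj c y hy, h.eta_eq (h.large.conj_mem_cent c ⟨y, hy⟩) hy] at hs
  rcases hs with hs | hs
  · exact ⟨c, mul_inv_eq_iff_eq_mul.1 hs, rfl⟩
  · obtain ⟨q, hq, hqy⟩ := exists_not_comm h.large hy hy1 hyz
    have hqz : q * z = z * q := h.large.comm_z q hq
    refine ⟨⟨q, Subgroup.mem_centralizer_singleton_iff.2 hqz⟩ * c, ?_, ?_⟩
    · have h1 : (c : G) * y = y * z * c := mul_inv_eq_iff_eq_mul.1 hs
      show q * (c : G) * y = y * (q * c)
      calc q * (c : G) * y = q * (c * y) := by group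
        _ = (q * y) * z * c := by rw [h1]; group
        _ = y * (q * (z * z)) * c := by
          rw [hqy]
          calc y * q * z * z * (c : G) = y * (q * (z * z)) * c := by group
            _ = _ := rfl
        _ = y * (q * c) := by rw [h.large.z_sq]; group
    · rw [map_mul]
      have : pi ⟨q, Subgroup.mem_centralizer_singleton_iff.2 hqz⟩ = 1 := (h.pi_eq_one _).2 hq
      rw [this, one_mul]

/-- conjugates of `z` in `Q` are not of type 2 -/
theorem not_type_two [Finite G] (h : Chart Q z eta pi) {g : G} (hin : g * z * g⁻¹ ∈ Q)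
    (hne : g * z * g⁻¹ ≠ z) : ¬ IsType 2 (eta (g * z * g⁻¹)) := by
  intro ht
  have p := pair_of_conj h.large hin hne
  set a := g * z * g⁻¹ with ha
  set A := Q.map (MulAut.conj g).toMonoidHom with hA
  have hz : z ∈ A := p.z_mem
  have haz : a * z = z * a := h.large.comm_z a hin
  -- the image of `C_A(z)` in `Co1`
  let N : Subgroup Co1 := (A.subgroupOf (Subgroup.centralizer ({z} : Set G))).map pi
  have hNfix : ∀ s ∈ N, s • eta a = eta a := by
    rintro _ ⟨c, hc, rfl⟩
    have hc' : (c : G) ∈ A := hc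
    rw [← h.eta_conj c a hin]
    have : (c : G) * a * (c : G)⁻¹ = a := by rw [p.la.comm_z c hc']; group
    rw [this]
  have hnorm : ∀ s : Co1, s • eta a = eta a → ∀ n ∈ N, s * n * s⁻¹ ∈ N := by
    rintro s hs _ ⟨c, hc, rfl⟩
    have hc' : (c : G) ∈ A := hc
    obtain ⟨d, hd, rfl⟩ := exists_lift h hin p.la.z_ne hne hs
    refine ⟨d * c * d⁻¹, ?_, by rw [map_mul, map_mul, map_inv]⟩
    show ((d * c * d⁻¹ : Subgroup.centralizer ({z} : Set G)) : G) ∈ A
    exact p.la.conj_mem d hd c hc'
  have h2 : IsPGroup 2 N := by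
    have hA2 : IsPGroup 2 A := isPGroup p.la
    have : IsPGroup 2 (A.subgroupOf (Subgroup.centralizer ({z} : Set G))) :=
      hA2.comap_of_injective _ (Subgroup.subtype_injective _)
    exact this.map pi
  have hbot := eq_bot_of_type_two ht N hNfix hnorm h2
  have hX : Nat.card p.X = 1 := by
    rw [Nat.card_eq_one_iff_unique]
    refine ⟨⟨fun f f' => ?_⟩, ⟨1⟩⟩
    have key : ∀ f : p.X, (f : p.lz.V ≃ₗ[ZMod 2] p.lz.V) = 1 := by
      intro f
      obtain ⟨c, hc, hcf⟩ := p.mem_X.1 f.2
      have h3 : pi c ∈ N := ⟨c, hc, rfl⟩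
      rw [hbot, Subgroup.mem_bot] at h3
      have h4 : (c : G) ∈ Q := (h.pi_eq_one c).1 h3
      rw [← hcf]
      ext v
      obtain ⟨x, rfl⟩ := p.lz.pr_surjective v
      show p.lz.act c (p.lz.pr x) = p.lz.pr x
      rw [p.lz.act_pr, p.lz.pr_eq_pr, p.lz.conjQ_coe]
      rcases p.lz.comm c h4 x x.2 with h5 | h5
      · left; rw [h5]; group
      · right
        rw [h5]
        calc (x : G) * c * z * (c : G)⁻¹ = x * (c * z * (c : G)⁻¹) := by group
          _ = x * z := by rw [p.lz.comm_z c h4]; group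
    exact Subtype.ext ((key f).trans (key f').symm)
  have h3 := p.card_X
  have h4 := p.lz.card_eq
  rw [h.card_Q] at h4
  rw [hX] at h3
  exact FourG.card_X_ne_one p (by omega) hX

/-- **Piece (B)**: `z` is conjugate to an element of `Q` of type 4. -/
theorem exists_type_four [Finite G] [IsSimpleGroup G] (h : Chart Q z eta pi) :
    ∃ g : G, g * z * g⁻¹ ∈ Q ∧ g * z * g⁻¹ ≠ z ∧ IsType 4 (eta (g * z * g⁻¹)) := by
  obtain ⟨g, hin, hne⟩ := not_weakly_closed h
  refine ⟨g, hin, hne, ?_⟩
  have hsq : g * z * g⁻¹ * (g * z * g⁻¹) = 1 := by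
    calc g * z * g⁻¹ * (g * z * g⁻¹) = g * (z * z) * g⁻¹ := by group
      _ = 1 := by rw [h.large.z_sq]; group
  rcases type_cases (eta (g * z * g⁻¹)) with h0 | h2 | h3 | h4
  · exfalso
    rcases (h.eta_zero _ hin).1 h0 with h1 | h1
    · apply h.large.z_ne
      calc z = g⁻¹ * (g * z * g⁻¹) * g := by group
        _ = 1 := by rw [h1]; group
    · exact hne h1
  · exact absurd h2 (not_type_two h hin hne)
  · exfalso
    have h5 := (h.sq_one hin).1 hsq
    rw [qf_of_type h3] at h5
    revert h5; decide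
  · exact h4

/-- every conjugate of `z` in `Q` different from `z` is of type 4 -/
theorem type_four_of_conj [Finite G] (h : Chart Q z eta pi) {g : G} (hin : g * z * g⁻¹ ∈ Q)
    (hne : g * z * g⁻¹ ≠ z) : IsType 4 (eta (g * z * g⁻¹)) := by
  have hsq : g * z * g⁻¹ * (g * z * g⁻¹) = 1 := by
    calc g * z * g⁻¹ * (g * z * g⁻¹) = g * (z * z) * g⁻¹ := by group
      _ = 1 := by rw [h.large.z_sq]; group
  rcases type_cases (eta (g * z * g⁻¹)) with h0 | h2 | h3 | h4
  · exfalso
    rcases (h.eta_zero _ hin).1 h0 with h1 | h1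
    · apply h.large.z_ne
      calc z = g⁻¹ * (g * z * g⁻¹) * g := by group
        _ = 1 := by rw [h1]; group
    · exact hne h1
  · exact absurd h2 (not_type_two h hin hne)
  · exfalso
    have h5 := (h.sq_one hin).1 hsq
    rw [qf_of_type h3] at h5
    revert h5; decide
  · exact h4

end

end Cfsg.Agent.MonsterU.Fused
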