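import Cfsg.Agent.MonsterU.AmalInf
import Cfsg.Agent.MonsterU.AmalPerf
import Cfsg.Agent.MonsterU.AmalElts
import Cfsg.Agent.MonsterU.Fused

/-!
# The facts on one group from a chart

`exists_frame`: after changing the chart by an element of `Co1` there are `y ∈ Q` over the frame class and a
cyclic permutation of `z, y, z y`.
-/

set_option autoImplicit false

open Cfsg

namespace Cfsg.Agent.MonsterU.AmalSideOf

open Cfsg.Agent.SporadicA
open Cfsg.Agent.SporadicA.Co1Simple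
open Cfsg.Agent.CoOneType.CoOneE (pr E)
open Cfsg.Agent.MonsterU.Lam2 (L2 IsType)
open Cfsg.Agent.MonsterU.CoFrameL2
open Cfsg.Agent.MonsterU.CoFrameIrr
open Cfsg.Agent.MonsterU.AmalSide (cent2 four mem_cent2 Side)
open Cfsg.Agent.MonsterU.Ch
open Cfsg.Spor (Co1)

variable {G : Type*} [Group G] {Q : Subgroup G} {z : G} {eta : G → L2}
  {pi : Subgroup.centralizer ({z} : Set G) →* Co1}

theorem type_f0 : IsType 4 f0 :=
  ⟨SporadicStructure.Co0Base.e8 none, sqNorm_e8 none, rfl⟩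

/-- The type four classes are conjugate to the frame class. -/
theorem exists_smul_f0 {v : L2} (hv : IsType 4 v) : ∃ s : Co1, s • v = f0 := by
  obtain ⟨g, hg⟩ := IsType.trans (Or.inr (Or.inr rfl)) hv type_f0
  exact ⟨QuotientGroup.mk g, hg⟩

/-- The four group `⟨z, y⟩` with `y` over the frame class. -/
theorem exists_frame [Finite G] (h : Chart Q z eta pi) {y : G} (hyQ : y ∈ Q) (hne : y ≠ z)
    (hconj : ∃ g, g * z * g⁻¹ = y) :
    ∃ (s : Co1) (τ : G), τ * z * τ⁻¹ = y ∧ τ * y * τ⁻¹ = z * y ∧ s • eta y = f0 := by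
  obtain ⟨g, rfl⟩ := hconj
  obtain ⟨s, hs⟩ := exists_smul_f0 (Fused.type_four_of_conj h hyQ hne)
  obtain ⟨τ, h1, h2, h3⟩ := (LargeExtra.Base.pair_of_conj h.large hyQ hne).cycle
  refine ⟨s, τ, h1, ?_, hs⟩
  rw [h2]
  exact h.large.comm_z _ hyQ

/-- The facts on the elements `τ, x, u, q₀`. -/
structure Elts (Q : Subgroup G) (z y : G) (pi : Subgroup.centralizer ({z} : Set G) →* Co1)
    (τ x u q₀ : G) : Prop where
  τ3 : τ * τ * τ = 1
  τz : τ * z * τ⁻¹ = y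
  τy : τ * y * τ⁻¹ = z * y
  q₀Q : q₀ ∈ Q
  q₀_sq : q₀ * q₀ = 1
  q₀y : q₀ * y * q₀⁻¹ = z * y
  q₀τ : q₀ * τ * q₀⁻¹ = τ⁻¹
  q₀x : q₀ * x = x * q₀
  xB : x ∈ cent2 z y
  uB : u ∈ cent2 z y
  x23 : x ^ 23 = 1
  τx : τ * x = x * τ
  ux : ∃ r ∈ Q, u * x = r * x ^ 2 * u
  pi_x : ∀ c : Subgroup.centralizer ({z} : Set G), (c : G) = x → pi c = X

/-- **The facts on one group.** -/
theorem side_of (h : Chart Q z eta pi) {y : G} (hyQ : y ∈ Q) (hy : eta y = f0) {τ x u q₀ : G}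
    (e : Elts Q z y pi τ x u q₀) {e₁ a₁ : G} (he₁ : e₁ ∈ Q ∧ eta e₁ ∈ W12 ∧ eta e₁ ∉ W1)
    (ha₁ : a₁ ∈ Q ∧ eta a₁ ∈ W23 ∧ eta a₁ ∉ W12) :
    Side Q (AmalGen.EE h) z y τ x u q₀ e₁ a₁ := by
  have hxc : x ∈ Subgroup.centralizer ({z} : Set G) :=
    Subgroup.mem_centralizer_singleton_iff.2 (mem_cent2.1 e.xB).1
  have hx : pi ⟨x, hxc⟩ = X := e.pi_x _ rfl
  have hL := h.large
  exact
    { z_sq := hL.z_sq
      z_ne := hL.z_ne
      y_sq := AmalPerf.y_sq h hyQ hy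
      y_ne := AmalPerf.y_ne h hyQ hy
      y_ne_z := AmalPerf.y_ne_z h hy
      yQ := hyQ
      zQ := hL.z_mem
      Qz := hL.comm_z
      Qn := hL.conj_mem
      Qsq := hL.sq
      Qcomm := fun a ha b hb => AmalInf.comm_Q' h hyQ hy e.τz e.τy ha hb
      centQ := fun c hc hq => hL.cent c (hL.self c hc hq) hq
      τ3 := e.τ3
      τz := e.τz
      τy := e.τy
      q₀Q := e.q₀Q
      q₀_sq := e.q₀_sq
      q₀y := e.q₀y
      q₀τ := e.q₀τ
      q₀x := e.q₀x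
      xB := e.xB
      uB := e.uB
      x23 := e.x23
      τx := e.τx
      ux := e.ux
      EQ := AmalGen.EQ h
      En := AmalGen.En h hyQ hy
      zE := AmalGen.zE h
      yE := AmalGen.yE h hyQ hy
      Ey := AmalGen.Ey h hyQ hy
      Eab := AmalGen.Eab h
      Eτ := AmalInf.Eτ h hyQ hy e.τz e.τy
      Eself := AmalGen.Eself h
      Einf := AmalInf.Einf h hyQ hy e.τz e.τy
      cent := AmalInf.cent h hyQ hy e.τz e.τy
      sep0 := AmalInf.sep0 h hyQ hy e.τz e.τy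
      sep1 := AmalInf.sep1 h hyQ hy e.τz e.τy
      e₁E := ⟨he₁.1, he₁.2.1⟩
      genE := AmalGen.genE h hyQ hy hxc hx he₁.1 he₁.2.1 he₁.2.2
      a₁Q := ha₁.1
      a₁y := (AmalGen.comm_y h hyQ hy ha₁.1).2 ha₁.2.1
      gen0 := AmalGen.gen0 h hyQ hy hxc hx ha₁.1 ha₁.2.1 ha₁.2.2
      qrE := AmalGen.qrE h hyQ hy hxc hx
      qr0 := AmalGen.qr0 h hyQ hy hxc hx
      perf := AmalPerf.perf h hyQ hy
      comm0 := AmalPerf.comm0 h hyQ hy
      commQ := AmalPerf.commQ h hyQ hy }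

/-- The elements exist. -/
theorem exists_elts (h : Chart Q z eta pi) {y : G} (hyQ : y ∈ Q) (hy : eta y = f0) {t : G}
    (htz : t * z * t⁻¹ = y) (hty : t * y * t⁻¹ = z * y) : ∃ τ x u q₀, Elts Q z y pi τ x u q₀ := by
  obtain ⟨x, u, q₀, τ, h1, h2, h3, h4, h5, h6, h7, h8, h9, h10, h11, h12, h13, h14⟩ :=
    AmalElts.exists_elts h hyQ hy htz hty
  refine ⟨τ, x, u, q₀, ?_⟩
  exact ⟨h10, h11, h12, h6, h7, h8, h14, h9, h2, h4, h3, h13, h5, fun c hc => by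
    have : c = x := Subtype.ext hc
    rw [this]; exact h1⟩

/-- **The facts on one group**, for a conjugate `y ∈ Q` of `z`. -/
theorem exists_side [Finite G] (h : Chart Q z eta pi) {y : G} (hyQ : y ∈ Q) (hne : y ≠ z)
    (hconj : ∃ g, g * z * g⁻¹ = y) :
    ∃ (eta' : G → L2) (pi' : Subgroup.centralizer ({z} : Set G) →* Co1) (h' : Chart Q z eta' pi')
      (τ x u q₀ e₁ a₁ : G), Side Q (AmalGen.EE h') z y τ x u q₀ e₁ a₁ ∧ eta' y = f0 ∧
      ∀ c : Subgroup.centralizer ({z} : Set G), (c : G) = x → pi' c = X := by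
  obtain ⟨s, t, htz, hty, hs⟩ := exists_frame h hyQ hne hconj
  have h' := h.smul s
  obtain ⟨τ, x, u, q₀, e⟩ := exists_elts h' hyQ hs htz hty
  obtain ⟨e₁, he₁⟩ := AmalGen.exists_e₁ h'
  obtain ⟨a₁, ha₁⟩ := AmalGen.exists_a₁ h'
  exact ⟨_, _, h', τ, x, u, q₀, e₁, a₁, side_of h' hyQ hs e he₁ ha₁, hs, e.pi_x⟩

end Cfsg.Agent.MonsterU.AmalSideOf
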