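import Cfsg.Agent.MonsterU.ModFinal
import Cfsg.Agent.MonsterX.MainPack

/-!
# The chart of the model
-/

set_option autoImplicit false

open Cfsg

namespace Cfsg.Agent.MonsterU.ModelChart

open Cfsg.Agent.MonsterX.Model Cfsg.Agent.MonsterX.MainPack Cfsg.Agent.MonsterX.MainSimple
  Cfsg.Agent.MonsterX.MainBasic
open Cfsg.Agent.MonsterU.Lam2 (L2)
open Cfsg.Agent.MonsterU.Ch
open Cfsg.Agent.Co2Type.Quad
open Cfsg.Spor (Co1)

variable {W : Type} [AddCommGroup W] [Module ℚ W] {M : MData W} {K₀ : Type} [Group K₀]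

/-- `C` normalises `Q`. -/
theorem conj_Q (hG : MGroup M K₀) {g : W ≃ₗ[ℚ] W} (hg : g ∈ M.C) {x : W ≃ₗ[ℚ] W} (hx : x ∈ M.Q) :
    g * x * g⁻¹ ∈ M.Q := by
  obtain ⟨π, -, hπ⟩ := hG.quot
  have h1 := (hπ ⟨x, hG.Q_le hx⟩).2 hx
  have h2 := (hπ (⟨g, hg⟩ * ⟨x, hG.Q_le hx⟩ * ⟨g, hg⟩⁻¹)).1 (by
    rw [map_mul, map_mul, h1, mul_one, ← map_mul, mul_inv_cancel, map_one])
  exact h2

/-- The centraliser of `Q` in `C`. -/
theorem mem_Q_of_comm (hG : MGroup M K₀) (hR : MRep M) {g : W ≃ₗ[ℚ] W} (hg : g ∈ M.C)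
    (hc : ∀ x ∈ M.Q, g * x = x * g) : g ∈ M.Q := by
  have key : ∀ s ∈ M.S, M.F M.a₀ s = 0 → g s = s := by
    rintro s ⟨h, hh, rfl⟩ -
    have h1 := hc _ (conj_Q hG hh hR.t₀_mem)
    have h2 : (h⁻¹ * g * h) * M.t₀ = M.t₀ * (h⁻¹ * g * h) := by
      calc (h⁻¹ * g * h) * M.t₀ = h⁻¹ * (g * (h * M.t₀ * h⁻¹)) * h := by group
        _ = h⁻¹ * (h * M.t₀ * h⁻¹ * g) * h := by rw [h1]
        _ = M.t₀ * (h⁻¹ * g * h) := by group
    have h3 := hR.a₀_fix _ (M.C.mul_mem (M.C.mul_mem (M.C.inv_mem hh) hg) hh) h2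
    have h4 : (h * (h⁻¹ * g * h)) M.a₀ = h M.a₀ := by
      rw [LinearEquiv.mul_apply, h3]
    have h5 : h * (h⁻¹ * g * h) = g * h := by group
    rw [h5, LinearEquiv.mul_apply] at h4
    exact h4
  rcases hR.fix_perp g hg key with h | h | h | h
  · rw [h]; exact M.Q.one_mem
  · rw [h]; exact hG.z_mem
  · rw [h]; exact hR.t₀_mem
  · rw [h]; exact M.Q.mul_mem hG.z_mem hR.t₀_mem

/-- `Q` is a large extraspecial subgroup of the model. -/
theorem large (hG : MGroup M K₀) (hR : MRep M) (hL : MLat M) (hO : MOrbit M) (hT : MTrans M) :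
    Large (M.Q.subgroupOf M.G) (zG hG) where
  z_mem := hG.z_mem
  z_ne := fun h => hG.z_ne (congrArg Subtype.val h)
  z_sq := Subtype.ext hG.z_sq
  comm_z := fun x hx => Subtype.ext (hG.z_comm _ (hG.Q_le hx))
  conj_mem := by
    intro g hg x hx
    have hgC : (g : W ≃ₗ[ℚ] W) ∈ M.C :=
      (mem_cent_iff hG hR hL hO hT g).1 (Subgroup.mem_centralizer_singleton_iff.2 hg)
    exact conj_Q hG hgC hx
  sq := fun x hx => (hG.Q_sq _ hx).imp Subtype.ext Subtype.ext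
  comm := fun x hx y hy => (hG.Q_comm _ hx _ hy).imp Subtype.ext Subtype.ext
  cent := by
    intro x hx h
    exact (hG.Q_center _ hx fun y hy => congrArg Subtype.val
      (h ⟨y, C_le (hG.Q_le hy)⟩ hy)).imp Subtype.ext Subtype.ext
  self := by
    intro g hg h
    have hgC : (g : W ≃ₗ[ℚ] W) ∈ M.C :=
      (mem_cent_iff hG hR hL hO hT g).1 (Subgroup.mem_centralizer_singleton_iff.2 hg)
    exact mem_Q_of_comm hG hR hgC fun y hy => congrArg Subtype.val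
      (h ⟨y, C_le (hG.Q_le hy)⟩ hy)

/-- **The chart of the model.** -/
theorem chart (hG : MGroup M Co1) (hR : MRep M) (hL : MLat M) (hO : MOrbit M) (hT : MTrans M) :
    ∃ (eta : M.G → L2) (pi : Subgroup.centralizer ({zG hG} : Set M.G) →* Co1),
      Chart (M.Q.subgroupOf M.G) (zG hG) eta pi := by
  obtain ⟨π, hs, hπ⟩ := hG.quot
  have hcard : Nat.card (M.Q.subgroupOf M.G) = 2 ^ 25 := by
    rw [← hG.Q_card]
    exact Nat.card_congr (Subgroup.subgroupOfEquivOfLe (hG.Q_le.trans C_le)).toEquiv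
  let ι : Subgroup.centralizer ({zG hG} : Set M.G) →* M.C :=
    { toFun := fun x => ⟨(x : M.G), (mem_cent_iff hG hR hL hO hT _).1 x.2⟩
      map_one' := rfl
      map_mul' := fun _ _ => rfl }
  have hι : Function.Surjective ι := fun c =>
    ⟨⟨⟨c, C_le c.2⟩, (mem_cent_iff hG hR hL hO hT _).2 c.2⟩, rfl⟩
  obtain ⟨eta, h⟩ := exists_chart_of_large ModFinal.moduleThm (large hG hR hL hO hT) hcard
    (π.comp ι) (hs.comp hι) (fun c => hπ (ι c))
  exact ⟨eta, _, h⟩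

end Cfsg.Agent.MonsterU.ModelChart
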