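import Cfsg.Agent.MonsterX.KLift
import Cfsg.Agent.MonsterX.FrameKS
import Cfsg.Agent.SporadicA.Co0Mono

/-!
# The involutions of the model group `M`: common definitions

`M : KS G V P W` with `Lift M θ`, `Γ ≤ G` the model group with `M.K = C_Γ(M.z)`, `τ ∈ Γ` the additional element
and `y` the element of `P` over the class of `8 e_∞` with `τ z τ⁻¹ = ι y`.  The group `τ ι(P) τ⁻¹` is called `Y`.
-/

set_option autoImplicit false

namespace Cfsg.Agent.MonsterU.InvTwo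

open Cfsg Cfsg.Agent.LeechMat.Core Cfsg.Agent.MonsterX.KSide Cfsg.Agent.MonsterX.KLift
open Cfsg.Agent.MonsterX.FrameKS Cfsg.Agent.SporadicStructure.Co0Base
open Cfsg.Agent.SporadicA.Co0Mono

variable {G V P W : Type*} [Group G] [AddCommGroup V] [Module ℚ V]
  [DistribMulAction G V] [SMulCommClass G ℚ V] [Group P] [AddCommGroup W] [Module ℚ W]

/-- What is used of the element `τ`. -/
structure TauHyp (M : KS G V P W) (θ : leechLattice → P) (Γ : Subgroup G) (τ : G) (y : P) : Prop where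
  K_le : M.K ≤ Γ
  τ_mem : τ ∈ Γ
  cent : ∀ g ∈ Γ, g * M.z = M.z * g → g ∈ M.K
  y_eq : Eqz M y (θ (e8 none))
  τ_z : τ * M.z * τ⁻¹ = M.ι y
  z_mem : ∃ q, M.z = τ * M.ι q * τ⁻¹
  E_mem : ∀ x : leechLattice, (∀ p, (4 : ℤ) ∣ (x : GolayPt → ℤ) p) → ∃ q, M.ι (θ x) = τ * M.ι q * τ⁻¹
  sgn : ∀ c : golayCode, ∃ q : P, τ * M.ι q * τ⁻¹ ∈ M.K ∧ Ind M (τ * M.ι q * τ⁻¹) (signCo0 c)

/-- `u` is conjugate in `Γ` to the central involution `z` of `K` or to a short element of `ι P`. -/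
def Con (M : KS G V P W) (Γ : Subgroup G) (u : G) : Prop :=
  (∃ g ∈ Γ, g * u * g⁻¹ = M.z) ∨ ∃ g ∈ Γ, ∃ t ∈ M.Sh, g * u * g⁻¹ = M.ι t

variable {M : KS G V P W} {θ : leechLattice → P} {Γ : Subgroup G}

theorem Con.conj {u g : G} (hg : g ∈ Γ) (h : Con M Γ (g * u * g⁻¹)) : Con M Γ u := by
  rcases h with ⟨k, hk, e⟩ | ⟨k, hk, t, ht, e⟩
  · exact Or.inl ⟨k * g, Γ.mul_mem hk hg, by rw [← e]; group⟩
  · exact Or.inr ⟨k * g, Γ.mul_mem hk hg, t, ht, by rw [← e]; group⟩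

theorem Con.conj_inv {u g : G} (hg : g ∈ Γ) (h : Con M Γ u) : Con M Γ (g * u * g⁻¹) := by
  apply Con.conj (Γ.inv_mem hg)
  rwa [show g⁻¹ * (g * u * g⁻¹) * g⁻¹⁻¹ = u by group]

/-- The second alternative of `Con` for a fixed short element. -/
theorem Con.to {u : G} (L : Lift M θ) (hK : M.K ≤ Γ) {t₀ : P} (ht₀ : t₀ ∈ M.Sh) (h : Con M Γ u) :
    (∃ g ∈ Γ, g * u * g⁻¹ = M.z) ∨ ∃ g ∈ Γ, g * u * g⁻¹ = M.ι t₀ := by
  rcases h with h | ⟨g, hg, t, ht, e⟩
  · exact Or.inl h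
  · right
    obtain ⟨k, hk, A, α, T, hA, hα⟩ := trans_Sh L t t₀ ht ht₀
    refine ⟨k * g, Γ.mul_mem (hK hk) hg, ?_⟩
    have h1 := conj_ι hA t
    rw [hα] at h1
    rw [show k * g * u * (k * g)⁻¹ = k * (g * u * g⁻¹) * k⁻¹ by group, e, h1, mul_inv_cancel_right]

theorem ι_inj (L : Lift M θ) : Function.Injective M.ι :=
  M.ι_injective fun p hp => L.center p fun y => mul_inv_eq_iff_eq_mul.1 (hp y)

/-- Vectors with the same image modulo the centre are congruent. -/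
theorem congr_of_eqz (L : Lift M θ) {v w : leechLattice} (h : Eqz M (θ v) (θ w)) :
    ∃ t : leechLattice, v - w = 2 • t := by
  apply L.ker
  have h1 : Eqz M (θ (v + -w)) (θ v * θ (-w)) := L.add v (-w)
  have h2 : Eqz M (θ v * θ (-w)) (θ w * θ w) := h.mul (θ_neg L w)
  have h3 : Eqz M (θ w * θ w) 1 := by
    rcases L.sq (θ w) with h | h
    · exact Or.inl h
    · right; rw [h, mul_one]
  have h4 := (h1.trans h2).trans h3
  rw [← sub_eq_add_neg] at h4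
  rcases h4 with h4 | h4
  · exact Or.inl h4
  · right; rw [h4, mul_one]

theorem eqz_of_congr (L : Lift M θ) {v w : leechLattice} (h : ∃ t : leechLattice, v - w = 2 • t) :
    Eqz M (θ v) (θ w) := by
  obtain ⟨t, ht⟩ := h
  have h1 : v = w + 2 • t := by rw [← ht]; abel
  rw [h1]
  have h2 : Eqz M (θ (w + 2 • t)) (θ w * θ (2 • t)) := L.add _ _
  have h3 := h2.trans ((Eqz.refl (M := M) (θ w)).mul (θ_two L t))
  rwa [mul_one] at h3

/-- Equality in `G` up to `z`. -/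
def Zq (M : KS G V P W) (a b : G) : Prop := a = b ∨ a = M.z * b

theorem Zq.of_eqz {a b : P} (h : Eqz M a b) : Zq M (M.ι a) (M.ι b) := by
  rcases h with h | h
  · exact Or.inl (by rw [h])
  · exact Or.inr (by rw [h, map_mul]; rfl)

end Cfsg.Agent.MonsterU.InvTwo
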