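import Cfsg.Agent.MonsterU.TwoCls
import Cfsg.Agent.MonsterU.InvTwo
import Cfsg.Agent.CoOneType.ClosingFacts

/-!
# Involutions of the Monster: reduction to `K`, involutions in the extraspecial group

* `exists_conj_of_odd` : an involution of a finite group is conjugate into a subgroup of odd index;
* `aut` : conjugation of `ι P` by an element of `K` inducing `A`;
* `two_Q` : an involution of `ι P` is conjugate to `z` or a short element;
* `reg`, `reg_z`, `reg_one` : the elements over an element of `Co0` acting freely on `Λ / 2Λ`.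
-/

set_option autoImplicit false

namespace Cfsg.Agent.MonsterU.TwoQ

open Cfsg Cfsg.Spor Cfsg.Agent.LeechMat.Core Cfsg.Agent.MonsterX.KSide Cfsg.Agent.MonsterX.KLift
open Cfsg.Agent.MonsterX.FrameKS Cfsg.Agent.MonsterX.KModel
open Cfsg.Agent.MonsterU.Lam2 Cfsg.Agent.MonsterU.TwoCls Cfsg.Agent.MonsterU.InvTwo
open Cfsg.Agent.SporadicA.Co0Mono Cfsg.Agent.SporadicA.Co1Simple
open Cfsg.Agent.CoOneType.ClosingFacts Cfsg.Agent.SporadicStructure.Co0Base

/-! ### Subgroups of odd index -/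

/-- An involution is conjugate into a subgroup of odd index. -/
theorem exists_conj_of_odd {Γ : Type*} [Group Γ] [Finite Γ] (K : Subgroup Γ) (hK : ¬ 2 ∣ K.index)
    (u : Γ) (hu : u * u = 1) : ∃ g : Γ, g * u * g⁻¹ ∈ K := by
  have hp : IsPGroup 2 (Subgroup.zpowers u) := by
    have h7 : orderOf u ∣ 2 ^ 1 := by
      apply orderOf_dvd_of_pow_eq_one
      rw [pow_one, pow_two]
      exact hu
    obtain ⟨k, _, hk⟩ := (Nat.dvd_prime_pow Nat.prime_two).1 h7
    exact IsPGroup.of_card (n := k) (by rw [Nat.card_zpowers, hk])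
  have : Fact (Nat.Prime 2) := ⟨Nat.prime_two⟩
  obtain ⟨x, hx⟩ := hp.nonempty_fixed_point_of_prime_not_dvd_card (Γ ⧸ K)
    (by rw [← Subgroup.index_eq_card]; exact hK)
  obtain ⟨g, rfl⟩ := QuotientGroup.mk_surjective x
  have h8 := hx ⟨u, Subgroup.mem_zpowers _⟩
  have h9 : (QuotientGroup.mk (u * g) : Γ ⧸ K) = QuotientGroup.mk g := h8
  have h10 := QuotientGroup.eq.1 h9.symm
  refine ⟨g⁻¹, ?_⟩
  rw [inv_inv]
  rwa [← mul_assoc] at h10

/-- The same for subgroups `K ≤ Γ` of a group. -/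
theorem exists_conj_of_odd' {G : Type*} [Group G] {K Γ : Subgroup G} (hΓ : Finite Γ)
    (hK : ¬ 2 ∣ K.relIndex Γ) {u : G} (hu : u ∈ Γ) (hu2 : u * u = 1) :
    ∃ g ∈ Γ, g * u * g⁻¹ ∈ K := by
  obtain ⟨g, hg⟩ := exists_conj_of_odd (K.subgroupOf Γ) hK ⟨u, hu⟩ (Subtype.ext hu2)
  exact ⟨g, g.2, hg⟩

variable {G V P W : Type*} [Group G] [AddCommGroup V] [Module ℚ V]
  [DistribMulAction G V] [SMulCommClass G ℚ V] [Group P] [AddCommGroup W] [Module ℚ W]
  {M : KS G V P W} {θ : leechLattice → P}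

/-! ### Elements of `K` over elements of `Co0` -/

theorem ind_ι (p : P) : Ind M (M.ι p) 1 := fun v => by rw [M.ι_u, one_smul]

theorem exists_ind (M : KS G V P W) (A : Co0) : ∃ g ∈ M.K, Ind M g A := M.onto A

theorem ind_exists {g : G} (hg : g ∈ M.K) : ∃ A, Ind M g A := by
  obtain ⟨A, α, T, hA⟩ := M.acts g hg
  exact ⟨A, hA.act_u⟩

theorem Ind_conj {g h : G} {A B : Co0} (hg : Ind M g A) (hh : Ind M h B) :
    Ind M (h * g * h⁻¹) (B * A * B⁻¹) := (hh.mul hg).mul hh.inv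

theorem mk_of_u {A B : Co0} (h : ∀ v, M.u (A • v) = M.u (B • v)) : mk A = mk B := by
  have h1 : ∀ v, M.u ((B⁻¹ * A) • v) = M.u v := by
    obtain ⟨k, hk, hkB⟩ := M.onto B
    intro v
    have h2 : k • M.u ((B⁻¹ * A) • v) = k • M.u v := by
      rw [hkB, hkB, mul_smul, smul_inv_smul]
      exact h v
    have h3 := congrArg (k⁻¹ • ·) h2
    simpa using h3
  have h2 := mem_center_of_pm (B⁻¹ * A) (M.pm_of_u _ h1)
  exact (QuotientGroup.eq.2 h2).symm

theorem Ind_mk_eq {g : G} {A B : Co0} (h : Ind M g A) (h' : Ind M g B) : mk A = mk B :=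
  mk_of_u fun v => by rw [← h, h']

theorem Ind_of_mk {g : G} {A B : Co0} (h : Ind M g A) (e : mk A = mk B) : Ind M g B := by
  intro v
  rw [h]
  rcases (Cfsg.Agent.CoOneType.ClosingFacts.mk_eq A B).1 e with rfl | rfl
  · rfl
  · rw [mul_smul]
    have h1 : signCo0 allOne • v = -v := allOne_smul v
    rw [h1, Cfsg.Agent.LeechMat.Core.co0_smul_neg, M.u_neg]

theorem Ind_eq_ι {g h : G} {A : Co0} (hgK : g ∈ M.K) (hhK : h ∈ M.K) (hg : Ind M g A)
    (hh : Ind M h A) : ∃ p, g = M.ι p * h := by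
  obtain ⟨q, hq⟩ := M.mem_ι_of_trivial (g * h⁻¹) (M.K.mul_mem hgK (M.K.inv_mem hhK)) (fun v => by
    have h2 := (hg.mul hh.inv) v
    rwa [mul_inv_cancel, one_smul] at h2)
  exact ⟨q, by rw [← hq, inv_mul_cancel_right]⟩

/-- an element of `K` is in `ι P` exactly when it induces `± 1` -/
theorem Ind_mem_iff {g : G} {A : Co0} (hgK : g ∈ M.K) (hg : Ind M g A) :
    (∃ p, g = M.ι p) ↔ mk A = 1 := by
  constructor
  · rintro ⟨p, rfl⟩
    exact Ind_mk_eq hg (ind_ι p)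
  · intro h
    obtain ⟨p, hp⟩ := Ind_eq_ι hgK M.K.one_mem (Ind_of_mk hg h) (Ind.one M)
    exact ⟨p, by rw [hp, mul_one]⟩

/-- Conjugation of `ι P` by an element inducing `A`. -/
theorem aut (L : Lift M θ) {g : G} {A : Co0} (hgK : g ∈ M.K) (hg : Ind M g A) :
    ∃ α : P ≃* P, (∀ p, g * M.ι p = M.ι (α p) * g) ∧ ∀ p, clP L (α p) = A • clP L p := by
  obtain ⟨B, α, T, hB⟩ := M.acts g hgK
  refine ⟨α, conj_ι hB, fun p => ?_⟩
  rw [clP_act L hB]
  have h1 : Ind M g B := hB.act_u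
  exact smul_eq_of_mk (Ind_mk_eq h1 hg) _

theorem z_comm (k : G) (hk : k ∈ M.K) : k * M.z = M.z * k := M.z_comm_K k hk

theorem z_comm_ι (q : P) : M.ι q * M.z = M.z * M.ι q := M.z_comm_K _ (M.ι_mem q)

theorem z_ne_one (L : Lift M θ) : M.z ≠ 1 := by
  intro e
  apply M.zc_ne
  apply ι_inj L
  rw [map_one]
  exact e

/-! ### Involutions in `ι P` -/

theorem conj_in_Q (L : Lift M θ) {p p' : P} (h0 : clP L p' ≠ 0)
    (h : ∃ A : Co0, A • clP L p = clP L p') : ∃ g ∈ M.K, g * M.ι p * g⁻¹ = M.ι p' := by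
  obtain ⟨A, hA⟩ := h
  obtain ⟨g, hgK, hg⟩ := exists_ind M A
  obtain ⟨α, h1, h2⟩ := aut L hgK hg
  have h3 : clP L (α p) = clP L p' := by rw [h2, hA]
  have h4 : g * M.ι p * g⁻¹ = M.ι (α p) := by rw [h1, mul_inv_cancel_right]
  rcases (clP_eq' L).1 h3 with e | e
  · exact ⟨g, hgK, by rw [h4, e]⟩
  · obtain ⟨q, hq⟩ := exists_flip' L p' h0
    have hq' : q * (M.zc * p') * q⁻¹ = p' := by
      have h5 : q * (M.zc * p') * q⁻¹ = M.zc * (q * p' * q⁻¹) := by
        rw [← mul_assoc q, ← M.zc_comm q]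
        group
      rw [h5, hq, M.zc_zc]
    refine ⟨M.ι q * g, M.K.mul_mem (M.ι_mem q) hgK, ?_⟩
    have h6 : M.ι q * g * M.ι p * (M.ι q * g)⁻¹ = M.ι q * (g * M.ι p * g⁻¹) * (M.ι q)⁻¹ := by
      group
    rw [h6, h4, e, ← map_inv, ← map_mul, ← map_mul, hq']

theorem isType_e8 : IsType 4 (cl (e8 none)) := by
  refine ⟨e8 none, ?_, rfl⟩
  decide +kernel

/-- **An involution of `ι P` is conjugate to `z` or to a short element.** -/
theorem two_Q (L : Lift M θ) {Γ : Subgroup G} {τ : G} {y : P} (H : TauHyp M θ Γ τ y) (q : P)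
    (hq : M.ι q * M.ι q = 1) (hq1 : M.ι q ≠ 1) : Con M Γ (M.ι q) := by
  have hp2 : q * q = 1 := by
    apply ι_inj L
    rw [map_mul, hq, map_one]
  have hqf := (sq_iff_qf L q).1 hp2
  rcases type_cases (clP L q) with h | h | h | h
  · rcases (clP_eq_zero L).1 h with e | e
    · exact absurd (by rw [e, map_one]) hq1
    · left
      exact ⟨1, Γ.one_mem, by rw [e, one_mul, inv_one, mul_one]; rfl⟩
  · right
    exact ⟨1, Γ.one_mem, q, (mem_Sh_iff L q).2 h, by rw [one_mul, inv_one, mul_one]⟩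
  · exact absurd hqf (qf_type3 h)
  · left
    have h1 : clP L y = cl (e8 none) := (clP_eq_cl L).2 H.y_eq
    have h4 : IsType 4 (clP L y) := by rw [h1]; exact isType_e8
    have h0 : clP L y ≠ 0 := by
      intro e
      rcases (clP_eq_zero L).1 e with e' | e'
      · have h2 := H.τ_z
        rw [e', map_one, mul_inv_eq_one, mul_eq_left] at h2
        exact z_ne_one L h2
      · -- then `y` is central and of type 4
        rw [h1] at e
        obtain ⟨v, hv⟩ := cl_eq_zero.1 e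
        have h5 : sqNorm ((e8 none : leechLattice) : GolayPt → ℤ) = 4 * sqNorm (v : GolayPt → ℤ) := by
          have : ((2 • v : leechLattice) : GolayPt → ℤ) = (2 : ℤ) • (v : GolayPt → ℤ) := by
            rw [two_smul, two_smul]; rfl
          rw [hv, this, Cfsg.Agent.LeechMat.Core.sqNorm_smul]; norm_num
        have h6 : sqNorm ((e8 none : leechLattice) : GolayPt → ℤ) = 64 := by decide +kernel
        rw [h6] at h5
        have h7 : sqNorm (v : GolayPt → ℤ) = 16 := by omega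
        have hv0 : (v : GolayPt → ℤ) ≠ 0 := by
          intro e0
          rw [e0] at h7
          revert h7
          decide +kernel
        have h8 := Cfsg.Agent.S0391.result v v.2 hv0
        omega
    obtain ⟨g, hg, e⟩ := conj_in_Q L h0 (h.trans (Or.inr (Or.inr rfl)) h4)
    refine ⟨τ⁻¹ * g, Γ.mul_mem (Γ.inv_mem H.τ_mem) (H.K_le hg), ?_⟩
    calc τ⁻¹ * g * M.ι q * (τ⁻¹ * g)⁻¹ = τ⁻¹ * (g * M.ι q * g⁻¹) * τ := by group
      _ = M.z := by rw [e, ← H.τ_z]; group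

/-! ### Elements over an element of `Co0` acting freely on `Λ / 2Λ` -/

/-- `A` acts freely on `Λ / 2Λ`: the fixed points are the commutators. -/
def Free (A : Co0) : Prop := ∀ x : L2, A • x = x → ∃ y : L2, x = A • y + y

/-- The class of the factor in `ι P` of an element with central square is fixed. -/
theorem fixed_of_sq (L : Lift M θ) {A : Co0} {k₀ : G} {p : P} (hk₀ : k₀ ∈ M.K) (hk : Ind M k₀ A)
    (hk2 : k₀ * k₀ = 1 ∨ k₀ * k₀ = M.z)
    (hu2 : M.ι p * k₀ * (M.ι p * k₀) = 1 ∨ M.ι p * k₀ * (M.ι p * k₀) = M.z) :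
    A • clP L p = clP L p := by
  obtain ⟨α, h1, h2⟩ := aut L hk₀ hk
  have h4 : M.ι p * k₀ * (M.ι p * k₀) = M.ι (p * α p) * (k₀ * k₀) := by
    rw [map_mul]
    calc M.ι p * k₀ * (M.ι p * k₀) = M.ι p * (k₀ * M.ι p) * k₀ := by group
      _ = M.ι p * (M.ι (α p) * k₀) * k₀ := by rw [h1]
      _ = _ := by group
  have h5 : M.ι (p * α p) = 1 ∨ M.ι (p * α p) = M.z := by
    have h6 : M.ι (p * α p) = M.ι p * k₀ * (M.ι p * k₀) * (k₀ * k₀)⁻¹ := by
      rw [h4]; group
    rw [h6]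
    rcases hu2 with e | e <;> rcases hk2 with e' | e' <;> rw [e, e']
    · left; group
    · right; rw [one_mul]; exact inv_eq_of_mul_eq_one_left M.z_mul
    · right; group
    · left; group
  have h6 : clP L (p * α p) = 0 := by
    rw [clP_eq_zero]
    rcases h5 with e | e
    · left; apply ι_inj L; rw [e, map_one]
    · right; apply ι_inj L; rw [e]; rfl
  rw [clP_mul, h2] at h6
  exact (eq_of_add_eq_zero h6).symm

/-- If `k₀` lies over `A`, `k₀²` is central and `A` acts freely on `Λ / 2Λ` then all elements `u`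
over `A` with `u²` central are conjugate under `ι P` to `k₀` or `z k₀`. -/
theorem reg (L : Lift M θ) {A : Co0} (hA : Free A) {k₀ u : G} (hk₀ : k₀ ∈ M.K)
    (hk : Ind M k₀ A) (huK : u ∈ M.K) (hu : Ind M u A) (hk2 : k₀ * k₀ = 1 ∨ k₀ * k₀ = M.z)
    (hu2 : u * u = 1 ∨ u * u = M.z) :
    ∃ q, u = M.ι q * k₀ * (M.ι q)⁻¹ ∨ u = M.z * (M.ι q * k₀ * (M.ι q)⁻¹) := by
  obtain ⟨p, rfl⟩ := Ind_eq_ι huK hk₀ hu hk
  have h3 := fixed_of_sq L hk₀ hk hk2 hu2
  obtain ⟨α, h1, h2⟩ := aut L hk₀ hk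
  obtain ⟨y, hy⟩ := hA _ h3
  obtain ⟨q, rfl⟩ := clP_surjective L y
  have h7 : clP L p = clP L (q * (α q)⁻¹) := by
    rw [hy, clP_mul, clP_inv, h2, add_comm]
  have h8 : M.ι q * k₀ * (M.ι q)⁻¹ = M.ι (q * (α q)⁻¹) * k₀ := by
    have h9 : k₀ * (M.ι q)⁻¹ = (M.ι (α q))⁻¹ * k₀ := by
      rw [← map_inv, h1, map_inv, map_inv]
    rw [mul_assoc, h9, map_mul, map_inv]
    group
  refine ⟨q, ?_⟩
  rw [h8]
  rcases (clP_eq' L).1 h7 with e | e
  · left; rw [← e]
  · right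
    rw [e, map_mul, mul_assoc]
    rfl

end Cfsg.Agent.MonsterU.TwoQ
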