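import Cfsg.Agent.CoOneType.InvMain
import Cfsg.Agent.CoOneType.SignFacts
import Cfsg.Agent.Leech.Index
import Cfsg.Agent.Leech.Code

/-!
# Commutators of involutions of `Co₁` on `Λ / 2Λ`

`Fx g` is the group of the vectors of the Leech lattice `Λ` whose class modulo `2Λ` is fixed by `g`; its index is the
order of `[Λ/2Λ, g]`.  For every `g` inducing an involution on `Λ/2Λ` the index is at least `2 ^ 8` (helper804).
-/

set_option autoImplicit false
open Cfsg

namespace Cfsg.Agent.MonsterU.SmallComm

open Cfsg.Agent.SporadicA.GolayBase Cfsg.Agent.SporadicA.Co0Mono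
open Cfsg.Agent.SporadicA Cfsg.Agent.SporadicA.Co1Simple
open Cfsg.Agent.CoOneType.SignFacts

/-- the lattice map of an element of `Co0` -/
def hom (g : Co0) : leechLattice →+ leechLattice :=
  AddMonoidHom.mk' (fun v => g • v) (fun v w => g.2.1 v w)

theorem hom_apply (g : Co0) (v : leechLattice) : hom g v = g • v := rfl

theorem smul_add' (g : Co0) (v w : leechLattice) : g • (v + w) = g • v + g • w := map_add (hom g) v w

theorem smul_sub' (g : Co0) (v w : leechLattice) : g • (v - w) = g • v - g • w := map_sub (hom g) v w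

theorem smul_neg' (g : Co0) (v : leechLattice) : g • (-v) = -(g • v) := map_neg (hom g) v

theorem smul_zero' (g : Co0) : g • (0 : leechLattice) = 0 := map_zero (hom g)

theorem smul_nsmul' (g : Co0) (n : ℕ) (v : leechLattice) : g • (n • v) = n • (g • v) := map_nsmul (hom g) n v

/-- the vectors whose class modulo `2Λ` is fixed by `g` -/
def Fx (g : Co0) : AddSubgroup leechLattice where
  carrier := {v | ∃ w : leechLattice, g • v - v = 2 • w}
  add_mem' := by
    rintro v v' ⟨w, hw⟩ ⟨w', hw'⟩
    refine ⟨w + w', ?_⟩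
    rw [smul_add', nsmul_add, ← hw, ← hw']
    abel
  zero_mem' := ⟨0, by rw [smul_zero', sub_zero, nsmul_zero]⟩
  neg_mem' := by
    rintro v ⟨w, hw⟩
    refine ⟨-w, ?_⟩
    rw [smul_neg', neg_nsmul, ← hw]
    abel

theorem mem_Fx (g : Co0) (v : leechLattice) : v ∈ Fx g ↔ ∃ w : leechLattice, g • v - v = 2 • w := Iff.rfl

/-- the map `v ↦ g v - v` -/
def cm (g : Co0) : leechLattice →+ leechLattice := hom g - AddMonoidHom.id _

theorem cm_apply (g : Co0) (v : leechLattice) : cm g v = g • v - v := rfl

theorem Fx_conj (g h : Co0) : Fx (h * g * h⁻¹) = (Fx g).comap (hom h⁻¹) := by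
  ext v
  rw [AddSubgroup.mem_comap, mem_Fx, mem_Fx, hom_apply]
  constructor
  · rintro ⟨w, hw⟩
    refine ⟨h⁻¹ • w, ?_⟩
    rw [← smul_nsmul', ← hw, smul_sub', smul_smul, smul_smul]
    congr 2
    group
  · rintro ⟨w, hw⟩
    refine ⟨h • w, ?_⟩
    rw [← smul_nsmul', ← hw, smul_sub', smul_smul, smul_smul, smul_smul, mul_inv_cancel, one_smul, mul_assoc]

theorem hom_surjective (g : Co0) : Function.Surjective (hom g) := fun v => ⟨g⁻¹ • v, by
  rw [hom_apply, smul_smul, mul_inv_cancel, one_smul]⟩

theorem hom_injective (g : Co0) : Function.Injective (hom g) := fun v w h => by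
  have h' : g • v = g • w := h
  exact MulAction.injective g h'

theorem index_conj (g h : Co0) : (Fx (h * g * h⁻¹)).index = (Fx g).index := by
  rw [Fx_conj]
  exact AddSubgroup.index_comap_of_surjective _ (hom_surjective _)

theorem Fx_neg (g : Co0) : Fx (g * signCo0 allOne) = Fx g := by
  ext v
  rw [mem_Fx, mem_Fx, mul_smul, allOne_smul, smul_neg']
  constructor
  · rintro ⟨w, hw⟩
    refine ⟨-w - v, ?_⟩
    rw [nsmul_sub, neg_nsmul, ← hw]
    abel
  · rintro ⟨w, hw⟩
    refine ⟨-w - v, ?_⟩
    rw [nsmul_sub, neg_nsmul, ← hw]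
    abel

/-! ### Sign changes -/

/-- restriction of a vector to a word -/
def res (c : golayCode) (x : GolayPt → ℤ) : GolayPt → ℤ := fun i => if (c : GolayPt → ZMod 2) i = 0 then 0 else x i

theorem mem_Fx_sign (c : golayCode) (v : leechLattice) :
    v ∈ Fx (signCo0 c) ↔ res c (v : GolayPt → ℤ) ∈ leechLattice := by
  rw [mem_Fx]
  have key : ∀ i, ((signCo0 c • v - v : leechLattice) : GolayPt → ℤ) i = -2 * res c (v : GolayPt → ℤ) i := by
    intro i
    rw [AddSubgroup.coe_sub, signCo0_smul, Pi.sub_apply, signMap_apply]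
    unfold res
    by_cases h : (c : GolayPt → ZMod 2) i = 0
    · rw [if_pos h, h, sgn_zero]; ring
    · rw [if_neg h]
      have : (c : GolayPt → ZMod 2) i = 1 := by
        revert h
        generalize (c : GolayPt → ZMod 2) i = a
        revert a; decide
      rw [this, sgn_one]; ring
  constructor
  · rintro ⟨w, hw⟩
    have : res c (v : GolayPt → ℤ) = ((-w : leechLattice) : GolayPt → ℤ) := by
      funext i
      have h1 := key i
      rw [hw, AddSubgroup.coe_nsmul, Pi.smul_apply, nsmul_eq_mul] at h1
      rw [AddSubgroup.coe_neg, Pi.neg_apply]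
      push_cast at h1
      linarith
    rw [this]
    exact (-w).2
  · intro h
    refine ⟨-⟨_, h⟩, ?_⟩
    apply Subtype.ext
    funext i
    rw [key i, AddSubgroup.coe_nsmul, Pi.smul_apply, AddSubgroup.coe_neg, Pi.neg_apply, nsmul_eq_mul]
    push_cast
    ring


/-! ### The index of `2Λ` -/

/-- `2Λ` -/
def two : AddSubgroup leechLattice := (nsmulAddMonoidHom (α := leechLattice) 2).range

theorem mem_two (v : leechLattice) : v ∈ two ↔ ∃ w : leechLattice, v = 2 • w := by
  unfold two
  rw [AddMonoidHom.mem_range]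
  constructor
  · rintro ⟨w, rfl⟩; exact ⟨w, rfl⟩
  · rintro ⟨w, rfl⟩; exact ⟨w, rfl⟩

theorem index_two : two.index = 2 ^ 24 := by
  have h1 : (two.map leechLattice.subtype).index = 2 ^ 24 * 2 ^ 36 := by
    have h2 : two.map leechLattice.subtype = leechLattice.map Leech.Index.dbl := by
      ext x
      rw [AddSubgroup.mem_map, AddSubgroup.mem_map]
      constructor
      · rintro ⟨v, hv, rfl⟩
        obtain ⟨w, rfl⟩ := (mem_two v).1 hv
        refine ⟨w, w.2, ?_⟩
        funext i
        simp [Leech.Index.dbl]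
      · rintro ⟨w, hw, rfl⟩
        refine ⟨2 • ⟨w, hw⟩, (mem_two _).2 ⟨_, rfl⟩, ?_⟩
        funext i
        simp [Leech.Index.dbl]
    rw [h2, ← AddSubgroup.relIndex_mul_index (K := Leech.Index.K1) (H := leechLattice.map Leech.Index.dbl),
      Leech.Index.K1_index]
    · rw [Leech.Index.K1_eq_map, AddSubgroup.relIndex_map_map_of_injective _ _ Leech.Index.dbl_injective,
        AddSubgroup.relIndex_top_right, Leech.Index.leech_index, mul_comm]
    · rw [Leech.Index.K1_eq_map]
      exact AddSubgroup.map_mono le_top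
  have h3 := AddSubgroup.relIndex_mul_index (H := two.map leechLattice.subtype) (K := leechLattice)
    (by rintro _ ⟨v, _, rfl⟩; exact v.2)
  rw [h1, Leech.Index.leech_index] at h3
  have h4 : (two.map leechLattice.subtype).relIndex leechLattice = two.index := by
    have h5 : (two.map leechLattice.subtype).addSubgroupOf leechLattice = two := by
      ext v
      rw [AddSubgroup.mem_addSubgroupOf, AddSubgroup.mem_map]
      constructor
      · rintro ⟨w, hw, h⟩
        have : w = v := Subtype.ext h
        rwa [← this]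
      · intro h
        exact ⟨v, h, rfl⟩
    rw [AddSubgroup.relIndex, h5]
  rw [h4] at h3
  exact Nat.eq_of_mul_eq_mul_right (by norm_num) h3

theorem two_le (g : Co0) : two ≤ Fx g := by
  intro v hv
  obtain ⟨w, rfl⟩ := (mem_two v).1 hv
  refine ⟨g • w - w, ?_⟩
  rw [smul_nsmul', nsmul_sub]

theorem index_ne_zero (g : Co0) : (Fx g).index ≠ 0 := by
  intro h
  have := AddSubgroup.index_dvd_of_le (two_le g)
  rw [h, index_two, zero_dvd_iff] at this
  norm_num at this

theorem index_dvd (g : Co0) : (Fx g).index ∣ 2 ^ 24 := by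
  have := AddSubgroup.index_dvd_of_le (two_le g)
  rwa [index_two] at this

/-! ### Elements of square `-1` -/

theorem nsmul_inj {v w : leechLattice} (h : 2 • v = 2 • w) : v = w := by
  apply Subtype.ext
  funext i
  have h1 := congrArg (fun u : leechLattice => (u : GolayPt → ℤ) i) h
  simp only [AddSubgroup.coe_nsmul, Pi.smul_apply, nsmul_eq_mul, Nat.cast_ofNat] at h1
  linarith

theorem cm_cm {g : Co0} (hg : g * g = signCo0 allOne) (v : leechLattice) : cm g (cm g v) = 2 • (-(g • v)) := by
  rw [cm_apply, cm_apply, smul_sub', smul_smul, hg, allOne_smul, neg_nsmul, two_nsmul]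
  abel

theorem index_sq_neg {g : Co0} (hg : g * g = signCo0 allOne) : (Fx g).index = 2 ^ 12 := by
  have hinj2 : Function.Injective fun v : leechLattice => cm g (cm g v) := by
    intro v w h
    simp only [cm_cm hg] at h
    have h1 := nsmul_inj h
    exact MulAction.injective g (neg_injective h1)
  have hinj : Function.Injective (cm g) := fun v w h => hinj2 (by simp only [h])
  have hFx : Fx g = AddSubgroup.map (cm g) ⊤ := by
    ext v
    rw [mem_Fx, AddSubgroup.mem_map]
    constructor
    · rintro ⟨w, hw⟩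
      refine ⟨-(g⁻¹ • w), AddSubgroup.mem_top _, ?_⟩
      apply hinj
      rw [cm_cm hg, cm_apply g v, hw, smul_neg', smul_smul, mul_inv_cancel, one_smul, neg_neg]
    · rintro ⟨u, -, rfl⟩
      exact ⟨_, cm_cm hg u⟩
  have htwo : two = AddSubgroup.map (cm g) (AddSubgroup.map (cm g) ⊤) := by
    ext v
    rw [mem_two, AddSubgroup.mem_map]
    constructor
    · rintro ⟨w, rfl⟩
      refine ⟨cm g (-(g⁻¹ • w)), ⟨_, AddSubgroup.mem_top _, rfl⟩, ?_⟩
      rw [cm_cm hg, smul_neg', smul_smul, mul_inv_cancel, one_smul, neg_neg]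
    · rintro ⟨_, ⟨u, -, rfl⟩, rfl⟩
      exact ⟨_, cm_cm hg u⟩
  have h1 := AddSubgroup.relIndex_mul_index (H := two) (K := Fx g) (two_le g)
  rw [htwo, hFx, AddSubgroup.relIndex_map_map_of_injective _ _ hinj, AddSubgroup.relIndex_top_right, ← htwo,
    index_two, ← hFx] at h1
  have h2 : (Fx g).index * (Fx g).index = 2 ^ 12 * 2 ^ 12 := by rw [h1]; norm_num
  exact Nat.mul_self_inj.1 h2


/-! ### Sign changes: the index -/

open Cfsg.Agent.Leech.Code (Words)

/-- the even vectors -/
def L1 : AddSubgroup leechLattice := Leech.Index.K3.addSubgroupOf leechLattice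

theorem mem_L1 (v : leechLattice) : v ∈ L1 ↔ ∀ i, (v : GolayPt → ℤ) i % 2 = 0 := by
  unfold L1 Leech.Index.K3
  rw [AddSubgroup.mem_addSubgroupOf, AddSubgroup.mem_inf, Leech.Index.mem_K1]
  exact ⟨fun h => h.2, fun h => ⟨v.2, h⟩⟩

theorem index_L1 : L1.index = 2 := Leech.Index.K3_relIndex_leech

theorem parity (v : leechLattice) :
    (∀ i, (v : GolayPt → ℤ) i % 2 = 0) ∨ (∀ i, (v : GolayPt → ℤ) i % 2 = 1) :=
  Leech.Norm.parity_of_mem ((LeechSet.mem_leechLattice_iff _).1 v.2)

theorem res_apply (c : golayCode) (x : GolayPt → ℤ) (i : GolayPt) :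
    res c x i = if (c : GolayPt → ZMod 2) i = 0 then 0 else x i := rfl

/-- the word of an even vector is a code word -/
theorem word_mem {x : GolayPt → ℤ} (hx : x ∈ leechLattice) (h2 : ∀ i, x i % 2 = 0) :
    (fun i => ((x i / 2 : ℤ) : ZMod 2)) ∈ golayCode := by
  have h := ((Leech.Norm.mem_iff_of_even h2).1 ((LeechSet.mem_leechLattice_iff _).1 hx)).2
  rw [Leech.Norm.mem_GS_iff] at h
  have e : (fun i => ((x i / 2 : ℤ) : ZMod 2)) =
      Leech.Norm.indic (Finset.univ.filter fun i => x i % 4 = 2) := by
    funext i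
    unfold Leech.Norm.indic
    have := h2 i
    by_cases h4 : x i % 4 = 2
    · rw [if_pos (by simpa using h4), Leech.Index.intCast_eq_one_iff]
      omega
    · rw [if_neg (by simpa using h4), Leech.Index.intCast_eq_zero_iff]
      omega
  rw [e]
  exact h

/-- vectors of `Fx (signCo0 c)` are even -/
theorem Fx_sign_le {c : golayCode} {i j : GolayPt} (hi : (c : GolayPt → ZMod 2) i ≠ 0)
    (hj : (c : GolayPt → ZMod 2) j = 0) : Fx (signCo0 c) ≤ L1 := by
  intro v hv
  rw [mem_Fx_sign] at hv
  rw [mem_L1]
  rcases parity v with h | h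
  · exact h
  · exfalso
    have h1 := h i
    rcases parity ⟨_, hv⟩ with h2 | h2
    · have := h2 i
      simp only [res_apply, if_neg hi] at this
      omega
    · have := h2 j
      simp only [res_apply, if_pos hj] at this
      omega

/-- the class `(4, 4)` vector -/
theorem exists_four (i j : GolayPt) : ∃ v : leechLattice, ∀ k, (v : GolayPt → ℤ) k =
    (if k = i then 4 else 0) + (if k = j then 4 else 0) := by
  refine ⟨⟨fun k => (if k = i then 4 else 0) + (if k = j then 4 else 0), ?_⟩, fun k => rfl⟩
  have he : ∀ k : GolayPt, ((if k = i then (4 : ℤ) else 0) + (if k = j then 4 else 0)) % 2 = 0 := by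
    intro k; split_ifs <;> norm_num
  rw [LeechSet.mem_leechLattice_iff, Leech.Norm.mem_iff_of_even he]
  constructor
  · rw [Finset.sum_add_distrib, Finset.sum_ite_eq', Finset.sum_ite_eq']
    simp
  · have : (Finset.univ.filter fun k : GolayPt => ((if k = i then (4 : ℤ) else 0) + (if k = j then 4 else 0)) % 4 = 2)
        = ∅ := by
      ext k
      simp only [Finset.mem_filter, Finset.mem_univ, true_and, Finset.notMem_empty, iff_false]
      split_ifs <;> norm_num
    rw [this]
    exact Leech.Norm.empty_mem_GS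

/-- a word cut by `c` -/
theorem exists_cut {c : golayCode} {i j : GolayPt} (hi : (c : GolayPt → ZMod 2) i ≠ 0)
    (hj : (c : GolayPt → ZMod 2) j = 0) :
    ∃ d ∈ Words, (Finset.univ.filter fun k => k ∈ d ∧ (c : GolayPt → ZMod 2) k ≠ 0) ∉ Words := by
  have hij : i ≠ j := by rintro rfl; exact hi hj
  obtain ⟨T, hT, -, hT5⟩ := Finset.exists_subsuperset_card_eq (s := {i, j}) (t := Finset.univ) (n := 5)
    (Finset.subset_univ _) (by rw [Finset.card_pair hij]; norm_num) (by decide)
  obtain ⟨O, ⟨hO, hTO⟩, -⟩ := Leech.Code.steiner.2 T hT5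
  refine ⟨O, hO.1, fun h => ?_⟩
  have h8 : O.card = 8 := hO.2
  have h1 := Leech.Code.eight_le_card h ⟨i, by
    rw [Finset.mem_filter]
    exact ⟨Finset.mem_univ _, hTO (hT (Finset.mem_insert_self _ _)), hi⟩⟩
  have h2 : (Finset.univ.filter fun k => k ∈ O ∧ (c : GolayPt → ZMod 2) k ≠ 0) ⊆ O.erase j := by
    intro k hk
    rw [Finset.mem_filter] at hk
    rw [Finset.mem_erase]
    refine ⟨?_, hk.2.1⟩
    rintro rfl
    exact hk.2.2 hj
  have h3 := Finset.card_le_card h2
  rw [Finset.card_erase_of_mem (hTO (hT (by simp))), h8] at h3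
  omega

/-- the vector `2` on a word -/
theorem exists_two {d : Finset GolayPt} (hd : d ∈ Words) : ∃ v : leechLattice, ∀ k, (v : GolayPt → ℤ) k =
    if k ∈ d then 2 else 0 := by
  refine ⟨⟨fun k => if k ∈ d then 2 else 0, ?_⟩, fun k => rfl⟩
  have he : ∀ k : GolayPt, (if k ∈ d then (2 : ℤ) else 0) % 2 = 0 := by
    intro k; split_ifs <;> norm_num
  rw [LeechSet.mem_leechLattice_iff, Leech.Norm.mem_iff_of_even he]
  constructor
  · rw [Finset.sum_ite_mem, Finset.univ_inter, Finset.sum_const, nsmul_eq_mul]
    obtain ⟨m, hm⟩ := Leech.Code.four_dvd_card hd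
    rw [hm]
    push_cast
    omega
  · have : (Finset.univ.filter fun k : GolayPt => (if k ∈ d then (2 : ℤ) else 0) % 4 = 2) = d := by
      ext k
      simp only [Finset.mem_filter, Finset.mem_univ, true_and]
      split_ifs with h <;> simp [h]
    rw [this]
    exact hd

theorem index_sign {c : golayCode} {i j : GolayPt} (hi : (c : GolayPt → ZMod 2) i ≠ 0)
    (hj : (c : GolayPt → ZMod 2) j = 0) : 8 ≤ (Fx (signCo0 c)).index := by
  have hij : i ≠ j := by rintro rfl; exact hi hj
  -- the intermediate subgroup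
  let M : AddSubgroup leechLattice :=
    { carrier := {v | v ∈ L1 ∧ (fun k => (c : GolayPt → ZMod 2) k * (((v : GolayPt → ℤ) k / 2 : ℤ) : ZMod 2)) ∈ golayCode}
      zero_mem' := ⟨L1.zero_mem, by
        have : (fun k => (c : GolayPt → ZMod 2) k * ((((0 : leechLattice) : GolayPt → ℤ) k / 2 : ℤ) : ZMod 2)) = 0 := by
          funext k; simp
        rw [this]; exact Submodule.zero_mem _⟩
      add_mem' := by
        rintro v w ⟨hv, hv'⟩ ⟨hw, hw'⟩
        refine ⟨L1.add_mem hv hw, ?_⟩
        have : (fun k => (c : GolayPt → ZMod 2) k * ((((v + w : leechLattice) : GolayPt → ℤ) k / 2 : ℤ) : ZMod 2)) =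
            (fun k => (c : GolayPt → ZMod 2) k * (((v : GolayPt → ℤ) k / 2 : ℤ) : ZMod 2)) +
            (fun k => (c : GolayPt → ZMod 2) k * (((w : GolayPt → ℤ) k / 2 : ℤ) : ZMod 2)) := by
          funext k
          rw [Pi.add_apply, ← mul_add, AddSubgroup.coe_add, Pi.add_apply]
          have h1 := (mem_L1 v).1 hv k
          have h2 := (mem_L1 w).1 hw k
          have h3 : ((v : GolayPt → ℤ) k + (w : GolayPt → ℤ) k) / 2 = (v : GolayPt → ℤ) k / 2 + (w : GolayPt → ℤ) k / 2 := by
            omega
          rw [h3]; push_cast; rfl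
        rw [this]
        exact Submodule.add_mem _ hv' hw'
      neg_mem' := by
        rintro v ⟨hv, hv'⟩
        refine ⟨L1.neg_mem hv, ?_⟩
        have : (fun k => (c : GolayPt → ZMod 2) k * ((((-v : leechLattice) : GolayPt → ℤ) k / 2 : ℤ) : ZMod 2)) =
            -(fun k => (c : GolayPt → ZMod 2) k * (((v : GolayPt → ℤ) k / 2 : ℤ) : ZMod 2)) := by
          funext k
          rw [Pi.neg_apply, ← mul_neg, AddSubgroup.coe_neg, Pi.neg_apply]
          have h1 := (mem_L1 v).1 hv k
          have h3 : (-(v : GolayPt → ℤ) k) / 2 = -((v : GolayPt → ℤ) k / 2) := by omega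
          rw [h3]; push_cast; rfl
        rw [this]
        exact Submodule.neg_mem _ hv' }
  have hFM : Fx (signCo0 c) ≤ M := by
    intro v hv
    have hv1 := Fx_sign_le hi hj hv
    refine ⟨hv1, ?_⟩
    rw [mem_Fx_sign] at hv
    have h2 : ∀ k, res c (v : GolayPt → ℤ) k % 2 = 0 := by
      intro k
      rw [res_apply]
      split_ifs
      · norm_num
      · exact (mem_L1 v).1 hv1 k
    have := word_mem hv h2
    have e : (fun k => (c : GolayPt → ZMod 2) k * (((v : GolayPt → ℤ) k / 2 : ℤ) : ZMod 2)) =
        fun k => ((res c (v : GolayPt → ℤ) k / 2 : ℤ) : ZMod 2) := by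
      funext k
      rw [res_apply]
      by_cases h : (c : GolayPt → ZMod 2) k = 0
      · rw [if_pos h, h]; simp
      · rw [if_neg h]
        have : (c : GolayPt → ZMod 2) k = 1 := by
          revert h
          generalize (c : GolayPt → ZMod 2) k = a
          revert a; decide
        rw [this, one_mul]
    rw [e]
    exact this
  have hML : M ≤ L1 := fun v hv => hv.1
  -- `Fx ≠ M`
  have h1 : ¬ M ≤ Fx (signCo0 c) := by
    intro h
    obtain ⟨v, hv⟩ := exists_four i j
    have hvM : v ∈ M := by
      refine ⟨(mem_L1 v).2 fun k => by rw [hv k]; split_ifs <;> norm_num, ?_⟩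
      have : (fun k => (c : GolayPt → ZMod 2) k * (((v : GolayPt → ℤ) k / 2 : ℤ) : ZMod 2)) = 0 := by
        funext k
        have : (((v : GolayPt → ℤ) k / 2 : ℤ) : ZMod 2) = 0 := by
          rw [Leech.Index.intCast_eq_zero_iff, hv k]; split_ifs <;> norm_num
        rw [this, mul_zero]; rfl
      rw [this]
      exact Submodule.zero_mem _
    have h2 := h hvM
    rw [mem_Fx_sign] at h2
    have he : ∀ k, res c (v : GolayPt → ℤ) k % 2 = 0 := by
      intro k
      rw [res_apply, hv k]; split_ifs <;> norm_num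
    have h3 := ((Leech.Norm.mem_iff_of_even he).1 ((LeechSet.mem_leechLattice_iff _).1 h2)).1
    have h4 : ∑ k, res c (v : GolayPt → ℤ) k = 4 := by
      rw [Finset.sum_eq_single i]
      · rw [res_apply, if_neg hi, hv i, if_pos rfl, if_neg hij, add_zero]
      · intro k _ hk
        rw [res_apply, hv k, if_neg hk, zero_add]
        by_cases hkj : k = j
        · subst hkj; rw [if_pos hj]
        · rw [if_neg hkj, ite_self]
      · intro h; exact absurd (Finset.mem_univ _) h
    rw [h4] at h3
    norm_num at h3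
  -- `M ≠ L1`
  have h2 : ¬ L1 ≤ M := by
    intro h
    obtain ⟨d, hd, hcut⟩ := exists_cut hi hj
    obtain ⟨v, hv⟩ := exists_two hd
    have hvL : v ∈ L1 := (mem_L1 v).2 fun k => by rw [hv k]; split_ifs <;> norm_num
    have h3 := (h hvL).2
    apply hcut
    rw [Leech.Code.mem_words_iff]
    have e : Leech.Code.ind (Finset.univ.filter fun k => k ∈ d ∧ (c : GolayPt → ZMod 2) k ≠ 0) =
        fun k => (c : GolayPt → ZMod 2) k * (((v : GolayPt → ℤ) k / 2 : ℤ) : ZMod 2) := by
      funext k
      rw [Leech.Code.ind_apply, hv k]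
      by_cases hk : k ∈ d
      · rw [if_pos hk]
        by_cases h : (c : GolayPt → ZMod 2) k = 0
        · rw [h, if_neg (by simp [h])]; simp
        · rw [if_pos (by simp [hk, h])]
          have : (c : GolayPt → ZMod 2) k = 1 := by
            revert h
            generalize (c : GolayPt → ZMod 2) k = a
            revert a; decide
          rw [this]; simp
      · rw [if_neg hk, if_neg (by simp [hk])]; simp
    rw [e]
    exact h3
  have e1 := AddSubgroup.relIndex_mul_index hFM
  have e2 := AddSubgroup.relIndex_mul_index hML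
  rw [index_L1] at e2
  have hne := index_ne_zero (signCo0 c)
  have n1 : (Fx (signCo0 c)).relIndex M ≠ 1 := fun h => h1 (AddSubgroup.relIndex_eq_one.1 h)
  have n2 : M.relIndex L1 ≠ 1 := fun h => h2 (AddSubgroup.relIndex_eq_one.1 h)
  rw [← e2] at e1
  have n3 : (Fx (signCo0 c)).relIndex M ≠ 0 := by
    intro h; rw [h, zero_mul] at e1; exact hne e1.symm
  have n4 : M.relIndex L1 ≠ 0 := by
    intro h; rw [h, zero_mul, mul_zero] at e1; exact hne e1.symm
  rw [← e1]
  have a1 : 2 ≤ (Fx (signCo0 c)).relIndex M := by omega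
  have a2 : 2 ≤ M.relIndex L1 := by omega
  calc 8 = 2 * (2 * 2) := by norm_num
    _ ≤ _ := Nat.mul_le_mul a1 (Nat.mul_le_mul a2 le_rfl)

/-! ### The general statement -/

/-- **Main statement**: an element of `Co0` inducing an involution on `Λ/2Λ` has at least 8 commutators. -/
theorem eight_le_index (t : Co0) (ht : t * t ∈ Subgroup.center Co0) (ht1 : t ∉ Subgroup.center Co0) :
    8 ≤ (Fx t).index := by
  have hz : t * t = 1 ∨ t * t = signCo0 allOne := by
    rcases Co0Basic.eq_one_or_neg_of_mem_center ht with h | h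
    · exact Or.inl h
    · right
      rw [h]
      apply Co0Mono.ext
      intro v
      rw [allOne_smul]
      rfl
  rcases hz with h | h
  · obtain ⟨g, c, hc⟩ := CoOneType.InvMain.conj_sign_of_sq_one t h
    rw [← index_conj t g, hc]
    by_cases h0 : ∃ i, (c : GolayPt → ZMod 2) i ≠ 0
    · obtain ⟨i, hi⟩ := h0
      by_cases h1 : ∃ j, (c : GolayPt → ZMod 2) j = 0
      · obtain ⟨j, hj⟩ := h1
        exact index_sign hi hj
      · exfalso
        push Not at h1
        have : c = allOne := by
          apply Subtype.ext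
          funext k
          have := h1 k
          revert this
          show (c : GolayPt → ZMod 2) k ≠ 0 → (c : GolayPt → ZMod 2) k = 1
          generalize (c : GolayPt → ZMod 2) k = a
          revert a; decide
        rw [this] at hc
        apply ht1
        have h3 : t = signCo0 allOne := by
          have h4 := (Subgroup.mem_center_iff.1 allOne_mem_center g)
          have h5 : g * t = signCo0 allOne * g := by rw [← hc]; group
          rw [← h4] at h5
          exact mul_left_cancel h5
        rw [h3]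
        exact allOne_mem_center
    · exfalso
      push Not at h0
      have : c = 0 := Subtype.ext (funext h0)
      rw [this, signCo0_zero] at hc
      apply ht1
      have h3 : t = 1 := by
        have h5 : g * t = g := by
          calc g * t = g * t * g⁻¹ * g := by group
            _ = g := by rw [hc, one_mul]
        exact mul_eq_left.1 h5
      rw [h3]
      exact Subgroup.one_mem _
  · rw [index_sq_neg h]
    norm_num

end Cfsg.Agent.MonsterU.SmallComm
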