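import Cfsg.Agent.MonsterU.TwoDod
import Cfsg.Agent.MonsterU.SmallComm
import Cfsg.Agent.CoOneType.InvBridge

/-!
# Facts on `Λ / 2Λ` and the involutions of `Co1` used in the closing arguments
-/

set_option autoImplicit false

namespace Cfsg.Agent.MonsterU.CloseFacts

open Cfsg Cfsg.Spor Cfsg.Agent.MonsterU.Lam2 Cfsg.Agent.MonsterU.InvTwoLat
open Cfsg.Agent.MonsterU.TwoDod
open Cfsg.Agent.SporadicA.Co0Mono (signCo0)
open Cfsg.Agent.SporadicA.Co1Simple
open Cfsg.Agent.CoOneType.ClosingFacts Cfsg.Agent.CoOneType.SignFacts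

theorem type_pr {i j : GolayPt} (hij : i ≠ j) : IsType 2 (cl (pr i j)) :=
  ⟨pr i j, by rw [sqNorm_pr hij]; norm_num, rfl⟩

/-- **(alpha)** An element of `Co0` of square 1 different from `-1` fixes a class of type 2. -/
theorem alpha {A : Co0} (hA : A * A = 1) (hne : A ≠ signCo0 allOne) :
    ∃ x : L2, IsType 2 x ∧ A • x = x := by
  obtain ⟨g, c, hg⟩ := Cfsg.Agent.CoOneType.InvBridge.conj_sign A hA
  have hc : c ≠ allOne := by
    intro e
    apply hne
    rw [e] at hg
    have hz : g * signCo0 allOne = signCo0 allOne * g :=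
      (Subgroup.mem_center_iff.1 allOne_mem_center g)
    have : A = g⁻¹ * (g * A * g⁻¹) * g := by group
    rw [this, hg, mul_assoc, ← hz, inv_mul_cancel_left]
  have hcard : (support₂ (c : GolayPt → ZMod 2)).card ≤ 16 := by
    have h1 : wt c = (support₂ (c : GolayPt → ZMod 2)).card := rfl
    rcases wt_cases c with h | h | h | h | h
    · omega
    · omega
    · omega
    · omega
    · exact absurd (eq_allOne_of_wt h) hc
  have h2 : 1 < ((support₂ (c : GolayPt → ZMod 2))ᶜ).card := by
    rw [Finset.card_compl, Cfsg.Agent.Leech.Code.card_golayPt]; omega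
  obtain ⟨i, hi, j, hj, hij⟩ := Finset.one_lt_card.1 h2
  rw [Finset.mem_compl] at hi hj
  have h3 : signCo0 c • pr i j = pr i j := by
    apply Subtype.ext
    funext m
    rw [isEps_sign c]
    by_cases hm : m ∈ support₂ (c : GolayPt → ZMod 2)
    · have h1 : m ≠ i := fun e => hi (e ▸ hm)
      have h2 : m ≠ j := fun e => hj (e ▸ hm)
      rw [if_pos hm, pr_coe, if_neg h1, if_neg h2]; norm_num
    · rw [if_neg hm]
  refine ⟨g⁻¹ • cl (pr i j), (type_pr hij).smul _, ?_⟩
  have h4 : A = g⁻¹ * signCo0 c * g := by rw [← hg]; group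
  rw [h4, mul_smul, mul_smul, smul_inv_smul, smul_cl (signCo0 c), h3]

/-- An element over an involution of `Co1` fixing no class of type 2 has square `-1`. -/
theorem sq_neg_of_no {A : Co0} (hA : mk (A * A) = 1) (h1 : mk A ≠ 1)
    (hno : ∀ x : L2, IsType 2 x → A • x ≠ x) : A * A = signCo0 allOne := by
  rcases (mk_eq_one _).1 hA with h | h
  · exfalso
    have h2 : A ≠ signCo0 allOne := fun e => h1 ((mk_eq_one A).2 (Or.inr e))
    obtain ⟨x, hx, hAx⟩ := alpha h h2
    exact hno x hx hAx
  · exact h

theorem allOne_comm (g : Co0) : g * signCo0 allOne = signCo0 allOne * g :=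
  Subgroup.mem_center_iff.1 allOne_mem_center g

theorem allOne_sq : signCo0 allOne * signCo0 allOne = 1 := by
  rw [← Cfsg.Agent.SporadicA.Co0Mono.signCo0_add]
  have : (allOne + allOne : golayCode) = 0 := by
    apply Subtype.ext
    funext i
    show (1 : ZMod 2) + 1 = 0
    decide
  rw [this, Cfsg.Agent.SporadicA.Co0Mono.signCo0_zero]

/-- Elements of square `-1` whose product has square `-1` anticommute. -/
theorem anticomm {a b : Co0} (ha : a * a = signCo0 allOne) (hb : b * b = signCo0 allOne)
    (hab : a * b * (a * b) = signCo0 allOne) : b * a = signCo0 allOne * (a * b) := by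
  have h1 : a * (a * b * (a * b)) * b = (a * a) * (b * a) * (b * b) := by group
  rw [hab, ha, hb] at h1
  have h2 : a * signCo0 allOne * b = signCo0 allOne * (a * b) := by rw [allOne_comm, mul_assoc]
  have h3 : signCo0 allOne * (b * a) * signCo0 allOne = b * a := by
    rw [mul_assoc, allOne_comm (b * a), ← mul_assoc, allOne_sq, one_mul]
  rw [h2, h3] at h1
  exact h1.symm

/-- **(gamma)** -/
theorem gamma {a b c : Co0} (ha : a * a = signCo0 allOne) (hb : b * b = signCo0 allOne)
    (hc : c * c = signCo0 allOne) (hab : a * b * (a * b) = signCo0 allOne)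
    (hac : a * c * (a * c) = signCo0 allOne) (hbc : b * c * (b * c) = signCo0 allOne) :
    a * b * c * (a * b * c) = 1 := by
  have h1 := anticomm ha hc hac
  have h2 := anticomm hb hc hbc
  have hn := allOne_comm
  calc a * b * c * (a * b * c) = a * b * (c * a) * b * c := by group
    _ = a * b * (signCo0 allOne * (a * c)) * b * c := by rw [h1]
    _ = a * b * signCo0 allOne * a * (c * b) * c := by group
    _ = a * b * signCo0 allOne * a * (signCo0 allOne * (b * c)) * c := by rw [h2]
    _ = a * b * signCo0 allOne * (a * signCo0 allOne) * b * (c * c) := by group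
    _ = a * b * signCo0 allOne * (signCo0 allOne * a) * b * signCo0 allOne := by rw [hn a, hc]
    _ = a * b * (signCo0 allOne * signCo0 allOne) * a * b * signCo0 allOne := by group
    _ = (a * b * (a * b)) * signCo0 allOne := by rw [allOne_sq]; group
    _ = 1 := by rw [hab, allOne_sq]

theorem sqNorm_diff {i j : GolayPt} (hij : i ≠ j) :
    sqNorm ((-pr i none + pr j none : leechLattice) : GolayPt → ℤ) = 32 := by
  unfold sqNorm
  have h4 : ∀ k, ((-pr i none + pr j none : leechLattice) : GolayPt → ℤ) k ^ 2 =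
      (if k = i then 16 else 0) + (if k = j then 16 else 0) := by
    intro k
    rw [coe_add, coe_neg, pr_coe, pr_coe]
    by_cases hki : k = i
    · have hkj : k ≠ j := fun e => hij (hki ▸ e)
      rw [if_pos hki, if_neg hkj, if_pos hki, if_neg hkj]
      ring
    · by_cases hkj : k = j
      · rw [if_neg hki, if_pos hkj, if_neg hki, if_pos hkj]
        ring
      · rw [if_neg hki, if_neg hkj, if_neg hki, if_neg hkj]
        ring
  rw [Finset.sum_congr rfl fun k _ => h4 k, Finset.sum_add_distrib, Finset.sum_ite_eq',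
    Finset.sum_ite_eq']
  simp

/-- **(hF)** Subgroups of `Λ / 2Λ` without classes of type 2 have index at least `2 ^ 5`. -/
theorem codim (F : AddSubgroup L2) (hF : ∀ x ∈ F, ¬ IsType 2 x) : Nat.card F ≤ 2 ^ 19 := by
  classical
  have hfin : Finite L2 := Nat.finite_of_card_ne_zero (by rw [card_L2]; norm_num)
  -- 24 different cosets
  let f : GolayPt → L2 ⧸ F := fun i => if i = none then 0 else QuotientAddGroup.mk (cl (pr i none))
  have hinj : Function.Injective f := by
    intro i j h
    by_contra hij
    have key : ∀ i j : GolayPt, i ≠ j → i ≠ none → j ≠ none →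
        (QuotientAddGroup.mk (cl (pr i none)) : L2 ⧸ F) ≠ QuotientAddGroup.mk (cl (pr j none)) := by
      intro i j hij hi hj he
      rw [QuotientAddGroup.eq] at he
      apply hF _ he
      rw [← map_neg, ← map_add]
      exact ⟨_, by rw [sqNorm_diff hij]; norm_num, rfl⟩
    have key0 : ∀ i : GolayPt, i ≠ none → (QuotientAddGroup.mk (cl (pr i none)) : L2 ⧸ F) ≠ 0 := by
      intro i hi he
      rw [QuotientAddGroup.eq_zero_iff] at he
      exact hF _ he (type_pr hi)
    by_cases hi : i = none
    · subst hi
      have hj : j ≠ none := fun e => hij e.symm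
      simp only [f, if_true, if_neg hj] at h
      exact key0 j hj h.symm
    · by_cases hj : j = none
      · subst hj
        simp only [f, if_true, if_neg hi] at h
        exact key0 i hi h
      · simp only [f, if_neg hi, if_neg hj] at h
        exact key i j hij hi hj h
  have h24 : 24 ≤ Nat.card (L2 ⧸ F) := by
    have := Nat.card_le_card_of_injective f hinj
    rwa [Nat.card_eq_fintype_card, Cfsg.Agent.Leech.Code.card_golayPt] at this
  have hmul : Nat.card L2 = Nat.card (L2 ⧸ F) * Nat.card F := AddSubgroup.card_eq_card_quotient_mul_card_addSubgroup F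
  rw [card_L2] at hmul
  obtain ⟨k, hk, hk'⟩ := (Nat.dvd_prime_pow Nat.prime_two).1 (Dvd.intro _ hmul.symm : Nat.card (L2 ⧸ F) ∣ 2 ^ 24)
  rw [hk'] at h24 hmul
  have h5 : 5 ≤ k := by
    by_contra hlt
    have : 2 ^ k ≤ 2 ^ 4 := Nat.pow_le_pow_right (by norm_num) (by omega)
    omega
  have h6 : 2 ^ 5 * Nat.card F ≤ 2 ^ 5 * 2 ^ 19 := by
    calc 2 ^ 5 * Nat.card F ≤ 2 ^ k * Nat.card F :=
          Nat.mul_le_mul_right _ (Nat.pow_le_pow_right (by norm_num) h5)
      _ = 2 ^ 24 := hmul.symm
      _ = 2 ^ 5 * 2 ^ 19 := by norm_num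
  exact Nat.le_of_mul_le_mul_left h6 (by norm_num)

/-- The number of classes fixed by an element. -/
theorem card_fixed (g : Co0) : Nat.card {x : L2 // g • x = x} * (SmallComm.Fx g).index = 2 ^ 24 := by
  let F : AddSubgroup L2 :=
    { carrier := {x | g • x = x}
      add_mem' := by
        intro a b ha hb
        show g • (a + b) = a + b
        rw [smul_add, ha, hb]
      zero_mem' := smul_zero g
      neg_mem' := by
        intro a ha
        show g • (-a) = -a
        rw [smul_neg, ha] }
  have h1 : SmallComm.Fx g = F.comap cl := by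
    ext v
    rw [SmallComm.mem_Fx, AddSubgroup.mem_comap]
    show _ ↔ g • cl v = cl v
    rw [smul_cl, cl_eq]
  rw [h1, AddSubgroup.index_comap_of_surjective _ cl_surjective]
  have h2 : Nat.card F * F.index = Nat.card L2 := F.card_mul_index
  rw [card_L2] at h2
  exact h2

/-- **(beta)** -/
theorem beta {g : Co0} (hg : g * g = signCo0 allOne) : Nat.card {x : L2 // g • x = x} = 2 ^ 12 := by
  have h1 := card_fixed g
  rw [SmallComm.index_sq_neg hg] at h1
  have h2 : Nat.card {x : L2 // g • x = x} * 2 ^ 12 = 2 ^ 12 * 2 ^ 12 := by rw [h1]; norm_num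
  exact Nat.eq_of_mul_eq_mul_right (by norm_num) h2

end Cfsg.Agent.MonsterU.CloseFacts
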