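import Cfsg.Agent.Leech.Basic
import Cfsg.Agent.SporadicA.Co0Mono
import Cfsg.Agent.SporadicA.Co0Card
import Cfsg.Agent.SporadicStructure.MonoSigns
import Cfsg.Agent.S0367
import Cfsg.Agent.SporadicA.XiSextet

/-!
Lattice vectors modulo 4 and the sign change on an octad: the lemmas on the lattice used for the involutions of
the Monster over the class of the sign changes on octads.
-/

set_option autoImplicit false

namespace Cfsg.Agent.MonsterU.InvTwoLat

open Cfsg Cfsg.Agent.Leech.Basic Cfsg.Agent.Leech.Code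
open Cfsg.Agent.SporadicStructure.Co0Base
open Cfsg.Agent.SporadicStructure
open scoped Pointwise

/-- `x ≡ 2 χ_B` modulo 4. -/
def Cl (x : GolayPt → ℤ) (B : Finset GolayPt) : Prop := ∀ i, (4 : ℤ) ∣ x i - 2 * chi B i

theorem Cl.add {x y : GolayPt → ℤ} {B C : Finset GolayPt} (hx : Cl x B) (hy : Cl y C) :
    Cl (x + y) (symmDiff B C) := by
  intro i
  have h1 := hx i
  have h2 := hy i
  show (4 : ℤ) ∣ x i + y i - _
  unfold chi at *
  by_cases hB : i ∈ B <;> by_cases hC : i ∈ C <;> simp only [hB, hC, Finset.mem_symmDiff, if_true,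
    if_false, not_true_eq_false, not_false_eq_true, and_true, and_false,
    or_false, or_true] at h1 h2 ⊢ <;> omega

theorem Cl.of_congr {x y : GolayPt → ℤ} {B : Finset GolayPt} (hx : Cl x B)
    (h : ∀ i, (4 : ℤ) ∣ y i - x i) : Cl y B := fun i => by
  have h1 := hx i
  have h2 := h i
  have : y i - 2 * chi B i = (y i - x i) + (x i - 2 * chi B i) := by ring
  rw [this]
  exact dvd_add h2 h1

theorem cl_zero {x : GolayPt → ℤ} (h : ∀ i, (4 : ℤ) ∣ x i) : Cl x ∅ := fun i => by
  have := h i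
  simpa [chi] using this

theorem Cl.dvd {x : GolayPt → ℤ} (h : Cl x ∅) (i : GolayPt) : (4 : ℤ) ∣ x i := by
  have := h i
  simpa [chi] using this

/-- Even lattice vectors have a class. -/
theorem exists_cl {x : GolayPt → ℤ} (h : IsLeech 0 x) : ∃ B ∈ Words, Cl x B := by
  obtain ⟨A, hA, a, ha, -⟩ := exists_form h (Or.inl rfl)
  exact ⟨A, hA, fun i => ⟨a i, by rw [ha i]; ring⟩⟩

theorem cl_unique {x : GolayPt → ℤ} {B C : Finset GolayPt} (hB : Cl x B) (hC : Cl x C) : B = C := by
  ext i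
  have h1 := hB i
  have h2 := hC i
  unfold chi at h1 h2
  by_cases h3 : i ∈ B <;> by_cases h4 : i ∈ C <;> simp only [h3, h4, if_true, if_false] at h1 h2 ⊢
  · omega
  · omega

theorem mem_form {A : Finset GolayPt} (hA : A ∈ Words) (a : GolayPt → ℤ) (ha : (2 : ℤ) ∣ ∑ i, a i) :
    (fun i => 2 * chi A i + 4 * a i : GolayPt → ℤ) ∈ leechLattice := by
  refine IsLeech.mem (m := 0) (isLeech_of_cls ?_ ?_ ?_)
  · intro i
    rw [Int.modEq_iff_dvd]
    exact ⟨-(chi A i + 2 * a i), by ring⟩
  · have h1 : ∑ i, (2 * chi A i + 4 * a i) = 2 * (A.card : ℤ) + 4 * ∑ i, a i := by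
      rw [Finset.sum_add_distrib, ← Finset.mul_sum, ← Finset.mul_sum, sum_chi]
    have h2 : (4 : ℤ) ∣ (A.card : ℤ) := by exact_mod_cast four_dvd_card hA
    rw [h1, Int.modEq_iff_dvd]
    omega
  · have h1 : cls (fun i => 2 * chi A i + 4 * a i) 0 = Aᶜ := by
      ext i
      rw [mem_cls, Finset.mem_compl, Int.modEq_iff_dvd]
      unfold chi
      by_cases h : i ∈ A <;> simp only [h, if_true, if_false, not_true_eq_false, not_false_eq_true] <;>
        constructor <;> intro h' <;> first | omega | trivial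
    rw [h1]
    exact compl_mem hA

/-- The vector `2 χ_A`. -/
def two (A : Finset GolayPt) (hA : A ∈ Words) : leechLattice :=
  ⟨fun i => 2 * chi A i + 4 * (0 : GolayPt → ℤ) i, mem_form hA 0 (by simp)⟩

theorem two_coe (A : Finset GolayPt) (hA : A ∈ Words) (i : GolayPt) :
    ((two A hA : leechLattice) : GolayPt → ℤ) i = 2 * chi A i := by
  show 2 * chi A i + 4 * (0 : GolayPt → ℤ) i = _
  simp

/-- The vector with coordinate `-3` at `∞` and `1` elsewhere. -/
def r₀ : leechLattice := ⟨_, minus3_mem none⟩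

theorem r₀_coe (i : GolayPt) : ((r₀ : leechLattice) : GolayPt → ℤ) i = if i = none then -3 else 1 := rfl

/-- `ε` is the sign change on the set `O`. -/
def IsEps (ε : Co0) (O : Finset GolayPt) : Prop :=
  ∀ (v : leechLattice) (i : GolayPt), ((ε • v : leechLattice) : GolayPt → ℤ) i =
    if i ∈ O then -(v : GolayPt → ℤ) i else (v : GolayPt → ℤ) i

theorem isEps_sign (c : golayCode) :
    IsEps (Cfsg.Agent.SporadicA.Co0Mono.signCo0 c) (support₂ (c : GolayPt → ZMod 2)) := by
  intro v i
  rw [Cfsg.Agent.SporadicA.Co0Mono.signCo0_smul, Cfsg.Agent.SporadicA.Co0Mono.signMap_apply]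
  unfold Cfsg.Agent.SporadicA.Co0Mono.sgn
  by_cases h : (c : GolayPt → ZMod 2) i = 0
  · have h1 : i ∉ support₂ (c : GolayPt → ZMod 2) := by rw [mem_support₂]; simp [h]
    rw [if_pos h, if_neg h1, one_mul]
  · have h1 : i ∈ support₂ (c : GolayPt → ZMod 2) := by rw [mem_support₂]; exact h
    rw [if_neg h, if_pos h1, neg_one_mul]

theorem coe_sub (v w : leechLattice) (i : GolayPt) :
    ((v - w : leechLattice) : GolayPt → ℤ) i = (v : GolayPt → ℤ) i - (w : GolayPt → ℤ) i := rfl

theorem coe_add (v w : leechLattice) (i : GolayPt) :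
    ((v + w : leechLattice) : GolayPt → ℤ) i = (v : GolayPt → ℤ) i + (w : GolayPt → ℤ) i := rfl

theorem coe_neg (v : leechLattice) (i : GolayPt) :
    ((-v : leechLattice) : GolayPt → ℤ) i = -(v : GolayPt → ℤ) i := rfl

theorem coe_two (v : leechLattice) (i : GolayPt) :
    ((2 • v : leechLattice) : GolayPt → ℤ) i = 2 * (v : GolayPt → ℤ) i := by
  rw [two_smul, coe_add]; ring

theorem IsEps.sub {ε : Co0} {O : Finset GolayPt} (h : IsEps ε O) (v : leechLattice) (i : GolayPt) :
    ((v - ε • v : leechLattice) : GolayPt → ℤ) i = 2 * (chi O i * (v : GolayPt → ℤ) i) := by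
  rw [coe_sub, h v i]
  unfold chi
  by_cases hi : i ∈ O <;> simp only [hi, if_true, if_false] <;> ring

theorem cl_r₀_sub {ε : Co0} {O : Finset GolayPt} (h : IsEps ε O) :
    Cl ((r₀ - ε • r₀ : leechLattice) : GolayPt → ℤ) O := by
  intro i
  rw [h.sub, r₀_coe]
  unfold chi
  split_ifs <;> norm_num

theorem cl_two_r₀ : Cl ((2 • r₀ : leechLattice) : GolayPt → ℤ) Finset.univ := by
  intro i
  rw [coe_two, r₀_coe, chi_mem (Finset.mem_univ i)]
  split_ifs <;> norm_num

theorem add_coe (v w : leechLattice) :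
    ((v + w : leechLattice) : GolayPt → ℤ) = (v : GolayPt → ℤ) + (w : GolayPt → ℤ) := rfl

theorem card_words {B : Finset GolayPt} (hB : B ∈ Words) :
    B.card = 0 ∨ B.card = 8 ∨ B.card = 12 ∨ B.card = 16 ∨ B.card = 24 :=
  Cfsg.Agent.SporadicA.GolayBase.card_of_mem_supports hB

/-- A lattice vector vanishing somewhere is even. -/
theorem even_of_zero {t : leechLattice} {j : GolayPt} (h : (t : GolayPt → ℤ) j = 0) :
    IsLeech 0 (t : GolayPt → ℤ) := by
  rcases isLeech_zero_or_one t.2 with h1 | h1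
  · exact h1
  · exfalso
    have h2 := h1.par j
    rw [h] at h2
    unfold Int.ModEq at h2
    omega

/-- **Lemma X.** -/
theorem exists_form_mod {O : Finset GolayPt} (hO : O ∈ octads) {ε : Co0} (hε : IsEps ε O)
    (x : leechLattice) (hx : ∃ t : leechLattice, x - ε • x = 2 • t) :
    ∃ (r w : leechLattice) (d : Finset GolayPt), (d = ∅ ∨ d ∈ octads) ∧ Disjoint d O ∧
      Cl ((x + (r - ε • r) + 2 • w : leechLattice) : GolayPt → ℤ) d := by
  obtain ⟨hOw, hO8⟩ := hO
  obtain ⟨t, ht⟩ := hx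
  have ht' : ∀ i, (t : GolayPt → ℤ) i = chi O i * (x : GolayPt → ℤ) i := by
    intro i
    have h1 := congrArg (fun v : leechLattice => (v : GolayPt → ℤ) i) ht
    simp only [hε.sub, coe_two] at h1
    omega
  obtain ⟨i₀, hi₀⟩ : O.Nonempty := by rw [← Finset.card_pos]; omega
  obtain ⟨j₀, hj₀⟩ : ∃ j, j ∉ O := by
    by_contra hcon
    push Not at hcon
    have h1 : O = Finset.univ := Finset.eq_univ_of_forall hcon
    rw [h1, Finset.card_univ, card_golayPt] at hO8
    omega
  have ht0 : IsLeech 0 (t : GolayPt → ℤ) := even_of_zero (j := j₀) (by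
    rw [ht', chi_not_mem hj₀, zero_mul])
  have hx0 : IsLeech 0 (x : GolayPt → ℤ) := by
    rcases isLeech_zero_or_one x.2 with h1 | h1
    · exact h1
    · exfalso
      have h2 := h1.par i₀
      have h3 := ht0.par i₀
      rw [ht', chi_mem hi₀, one_mul] at h3
      unfold Int.ModEq at h2 h3
      omega
  obtain ⟨B, hB, hxB⟩ := exists_cl hx0
  have hBO : B ∩ O ∈ Words := by
    obtain ⟨B', hB', htB'⟩ := exists_cl ht0
    have h1 : Cl (t : GolayPt → ℤ) (B ∩ O) := by
      intro i
      have h2 := hxB i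
      rw [ht']
      unfold chi at h2 ⊢
      by_cases h3 : i ∈ O <;> by_cases h4 : i ∈ B <;> simp only [h3, h4, Finset.mem_inter, if_true,
        if_false, and_true, and_false, and_self] at h2 ⊢ <;> omega
    rwa [cl_unique h1 htB']
  -- make `B` disjoint from `O`
  obtain ⟨r₁, B₁, hB₁, hB₁O, hx₁⟩ : ∃ (r : leechLattice) (B₁ : Finset GolayPt), B₁ ∈ Words ∧
      Disjoint B₁ O ∧ Cl ((x + (r - ε • r) : leechLattice) : GolayPt → ℤ) B₁ := by
    have hle : (B ∩ O).card ≤ 8 := hO8 ▸ Finset.card_le_card Finset.inter_subset_right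
    have hc : (B ∩ O).card = 0 ∨ (B ∩ O).card = 8 := by
      rcases card_words hBO with h | h | h | h | h <;> omega
    rcases hc with h | h
    · refine ⟨0, B, hB, Finset.disjoint_iff_inter_eq_empty.2 (Finset.card_eq_zero.1 h), ?_⟩
      have : x + (0 - ε • (0 : leechLattice)) = x := by
        rw [Cfsg.Agent.SporadicStructure.Co0Base.co0_smul_zero]; abel
      rw [this]
      exact hxB
    · have hsub : O ⊆ B := by
        have h1 : B ∩ O = O := Finset.eq_of_subset_of_card_le Finset.inter_subset_right (by omega)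
        rw [← h1]; exact Finset.inter_subset_left
      refine ⟨r₀, symmDiff B O, symmDiff_mem hB hOw, ?_, ?_⟩
      · rw [Finset.disjoint_left]
        intro i hi hiO
        rw [Finset.mem_symmDiff] at hi
        rcases hi with ⟨-, h2⟩ | ⟨-, h2⟩
        · exact h2 hiO
        · exact h2 (hsub hiO)
      · rw [add_coe]
        exact hxB.add (cl_r₀_sub hε)
  have hcard : B₁.card = 0 ∨ B₁.card = 8 ∨ B₁.card = 16 := by
    have h1 : symmDiff B₁ O = B₁ ∪ O := by
      rw [← Finset.sup_eq_union]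
      exact hB₁O.symmDiff_eq_sup
    have h2 := symmDiff_mem hB₁ hOw
    have h3 : (symmDiff B₁ O).card = B₁.card + 8 := by
      rw [h1, Finset.card_union_of_disjoint hB₁O, hO8]
    have h4 := card_words h2
    have h5 := card_words hB₁
    rw [h3] at h4
    omega
  rcases hcard with h | h | h
  · refine ⟨r₁, 0, ∅, Or.inl rfl, Finset.disjoint_empty_left _, ?_⟩
    rw [smul_zero, add_zero]
    rwa [Finset.card_eq_zero.1 h] at hx₁
  · refine ⟨r₁, 0, B₁, Or.inr ⟨hB₁, h⟩, hB₁O, ?_⟩
    rw [smul_zero, add_zero]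
    exact hx₁
  · have hB₁' : symmDiff B₁ (symmDiff O Finset.univ) = ∅ := by
      have h1 : B₁ = Oᶜ := by
        apply Finset.eq_of_subset_of_card_le
        · intro i hi
          rw [Finset.mem_compl]
          exact Finset.disjoint_left.1 hB₁O hi
        · rw [Finset.card_compl, card_golayPt]; omega
      rw [h1]
      ext i
      simp only [Finset.mem_symmDiff, Finset.mem_compl, Finset.mem_univ, Finset.notMem_empty,
        iff_false]
      tauto
    refine ⟨r₁ + r₀, r₀, ∅, Or.inl rfl, Finset.disjoint_empty_left _, ?_⟩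
    have e : x + (r₁ + r₀ - ε • (r₁ + r₀)) + 2 • r₀ =
        (x + (r₁ - ε • r₁)) + ((r₀ - ε • r₀) + 2 • r₀) := by
      rw [Cfsg.Agent.SporadicStructure.Co0Base.co0_smul_add]; abel
    rw [e, add_coe, ← hB₁']
    refine hx₁.add ?_
    rw [add_coe]
    exact (cl_r₀_sub hε).add cl_two_r₀

/-! ### Traces of code words on octads -/

/-- Every even subset of an octad is the trace of a code word. -/
theorem exists_trace {O : Finset GolayPt} (hO : O ∈ octads) {S : Finset GolayPt} (hS : S ⊆ O)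
    (he : Even S.card) : ∃ d ∈ Words, d ∩ O = S := by
  obtain ⟨g, hg, rfl⟩ := MonoPerms.exists_M24_octad hO
  obtain ⟨d, hd, h⟩ := MonoSigns.sign_O2 (S := g⁻¹ • S)
    (by rwa [Finset.subset_smul_finset_iff] at hS) (by rwa [Finset.card_smul_finset])
  refine ⟨g • d, (Cfsg.Agent.SporadicA.GolayPerm.smul_mem_supports hg).2 hd, ?_⟩
  rw [← Finset.smul_finset_inter, h, smul_inv_smul]

/-- The trace in terms of functions. -/
theorem exists_trace_fun {O : Finset GolayPt} (hO : O ∈ octads) (f : GolayPt → ℤ)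
    (hf : (2 : ℤ) ∣ ∑ i ∈ O, f i) : ∃ d ∈ Words, ∀ i ∈ O, (2 : ℤ) ∣ f i - chi d i := by
  have hpar : ∀ i, (2 : ℤ) ∣ f i - (if (2 : ℤ) ∣ f i then 0 else 1) := by
    intro i; split_ifs <;> omega
  obtain ⟨d, hd, h⟩ := exists_trace hO (S := O.filter fun i => ¬ (2 : ℤ) ∣ f i)
    (Finset.filter_subset _ _) (by
      have h1 : (2 : ℤ) ∣ ∑ i ∈ O, (f i - (if (2 : ℤ) ∣ f i then 0 else 1)) :=
        Finset.dvd_sum fun i _ => hpar i
      rw [Finset.sum_sub_distrib] at h1
      have h2 : ∑ i ∈ O, (if (2 : ℤ) ∣ f i then (0 : ℤ) else 1) =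
          ((O.filter fun i => ¬ (2 : ℤ) ∣ f i).card : ℤ) := by
        rw [Finset.card_filter, Nat.cast_sum]
        refine Finset.sum_congr rfl fun i _ => ?_
        by_cases h : (2 : ℤ) ∣ f i <;> simp [h]
      rw [h2] at h1
      have h3 : (2 : ℤ) ∣ ((O.filter fun i => ¬ (2 : ℤ) ∣ f i).card : ℤ) := by omega
      rw [even_iff_two_dvd]
      exact_mod_cast h3)
  refine ⟨d, hd, fun i hi => ?_⟩
  have h1 : i ∈ d ↔ ¬ (2 : ℤ) ∣ f i := by
    have h2 := congrArg (fun s => i ∈ s) h
    simpa [hi] using h2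
  have h2 := hpar i
  unfold chi
  by_cases h3 : (2 : ℤ) ∣ f i
  · rw [if_neg (fun h4 => h1.1 h4 h3)]; simpa using h3
  · rw [if_pos (h1.2 h3)]; rwa [if_neg h3] at h2

theorem even_sum_chi {d O : Finset GolayPt} (hd : d ∈ Words) (hO : O ∈ Words) :
    (2 : ℤ) ∣ ∑ i ∈ O, chi d i := by
  have h1 : ∑ i ∈ O, chi d i = ((d ∩ O).card : ℤ) := by
    rw [← sum_chi_chi, ← sum_chi_mul]
    exact Finset.sum_congr rfl fun i _ => mul_comm _ _
  rw [h1]
  have := even_inter hd hO
  rw [even_iff_two_dvd] at this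
  exact_mod_cast this

/-- **Lemma R**: an integer function with even sums over the three octads of a trio. -/
theorem exists_three {O d d' : Finset GolayPt} (hO : O ∈ octads) (hd : d ∈ octads) (hd' : d' ∈ octads)
    (h1 : Disjoint O d) (h2 : Disjoint O d') (h3 : Disjoint d d') (hall : ∀ i, i ∈ O ∨ i ∈ d ∨ i ∈ d')
    (f : GolayPt → ℤ) (hfO : (2 : ℤ) ∣ ∑ i ∈ O, f i) (hfd : (2 : ℤ) ∣ ∑ i ∈ d, f i)
    (hfd' : (2 : ℤ) ∣ ∑ i ∈ d', f i) :
    ∃ A ∈ Words, ∃ B ∈ Words, ∃ C ∈ Words,
      ∀ i, (2 : ℤ) ∣ f i - chi A i - chi d i * chi B i - chi O i * chi C i := by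
  obtain ⟨A, hA, hAf⟩ := exists_trace_fun hd' f hfd'
  obtain ⟨B, hB, hBf⟩ := exists_trace_fun hd (fun i => f i - chi A i) (by
    rw [Finset.sum_sub_distrib]; exact dvd_sub hfd (even_sum_chi hA hd.1))
  obtain ⟨C, hC, hCf⟩ := exists_trace_fun hO (fun i => f i - chi A i) (by
    rw [Finset.sum_sub_distrib]; exact dvd_sub hfO (even_sum_chi hA hO.1))
  refine ⟨A, hA, B, hB, C, hC, fun i => ?_⟩
  rcases hall i with hi | hi | hi
  · have h4 : i ∉ d := Finset.disjoint_left.1 h1 hi
    have h5 := hCf i hi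
    rw [chi_mem hi, chi_not_mem h4]
    omega
  · have h4 : i ∉ O := Finset.disjoint_right.1 h1 hi
    have h5 := hBf i hi
    rw [chi_mem hi, chi_not_mem h4]
    omega
  · have h4 : i ∉ O := Finset.disjoint_right.1 h2 hi
    have h6 : i ∉ d := Finset.disjoint_right.1 h3 hi
    have h5 := hAf i hi
    rw [chi_not_mem h4, chi_not_mem h6]
    omega

/-! ### Vectors with coordinates divisible by 4 -/

theorem even_of_four (v : leechLattice) (a : GolayPt → ℤ) (h : ∀ i, (v : GolayPt → ℤ) i = 4 * a i) :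
    (2 : ℤ) ∣ ∑ i, a i := by
  have h0 : IsLeech 0 (v : GolayPt → ℤ) := by
    rcases isLeech_zero_or_one v.2 with h1 | h1
    · exact h1
    · exfalso
      have h2 := h1.par none
      rw [h none] at h2
      unfold Int.ModEq at h2
      omega
  have h1 := h0.sum
  simp only [h] at h1
  rw [← Finset.mul_sum, Int.modEq_iff_dvd] at h1
  omega

/-- The vector `4 a`. -/
def four (a : GolayPt → ℤ) (ha : (2 : ℤ) ∣ ∑ i, a i) : leechLattice :=
  ⟨fun i => 2 * chi ∅ i + 4 * a i, mem_form empty_mem a ha⟩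

theorem four_coe (a : GolayPt → ℤ) (ha : (2 : ℤ) ∣ ∑ i, a i) (i : GolayPt) :
    ((four a ha : leechLattice) : GolayPt → ℤ) i = 4 * a i := by
  show 2 * chi ∅ i + 4 * a i = _
  rw [chi_not_mem (Finset.notMem_empty i)]; ring

/-- The vector `4 e_i + 4 e_j`. -/
def pr (i j : GolayPt) : leechLattice :=
  four (fun k => (if k = i then 1 else 0) + (if k = j then 1 else 0)) (by
    rw [Finset.sum_add_distrib, Finset.sum_ite_eq', Finset.sum_ite_eq']
    simp)

theorem pr_coe (i j k : GolayPt) : ((pr i j : leechLattice) : GolayPt → ℤ) k =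
    4 * ((if k = i then 1 else 0) + (if k = j then 1 else 0)) := four_coe _ _ _

theorem exists_of_eight {O : Finset GolayPt} {ε : Co0} (hε : IsEps ε O) {o p : GolayPt} (ho : o ∈ O)
    (hp : p ∉ O) (v : leechLattice) (η : GolayPt → ℤ) (h : ∀ i, (v : GolayPt → ℤ) i = 8 * η i) :
    ∃ r w : leechLattice, v = (r - ε • r) + 2 • w := by
  by_cases hev : (2 : ℤ) ∣ ∑ i, η i
  · refine ⟨0, four η hev, ?_⟩
    rw [Cfsg.Agent.SporadicStructure.Co0Base.co0_smul_zero, sub_zero, zero_add]
    apply Subtype.ext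
    funext i
    rw [coe_two, four_coe, h]; ring
  · have h1 : (2 : ℤ) ∣ ∑ i, (η i - if i = o then 1 else 0) := by
      rw [Finset.sum_sub_distrib, Finset.sum_ite_eq']
      simp only [Finset.mem_univ, if_true]
      omega
    refine ⟨pr o p, four _ h1, ?_⟩
    apply Subtype.ext
    funext i
    rw [coe_add, hε.sub, pr_coe, coe_two, four_coe, h]
    by_cases hio : i = o
    · subst hio
      have hip : i ≠ p := fun e => hp (e ▸ ho)
      rw [chi_mem ho]
      simp [hip]; ring
    · by_cases hip : i = p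
      · subst hip
        rw [chi_not_mem hp]
        simp [hio]; ring
      · simp [hio, hip]; ring

theorem exists_third {O d : Finset GolayPt} (hO : O ∈ octads) (hd : d ∈ octads)
    (h : Disjoint O d) : (O ∪ d)ᶜ ∈ octads := by
  have e : O ∪ d = symmDiff O d := by
    rw [← Finset.sup_eq_union]
    exact h.symmDiff_eq_sup.symm
  refine ⟨?_, ?_⟩
  · rw [e]
    exact compl_mem (symmDiff_mem hO.1 hd.1)
  · rw [Finset.card_compl, Finset.card_union_of_disjoint h, card_golayPt, hO.2, hd.2]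

/-- **Lemma Z**: two vectors of the same class modulo 4. -/
theorem exists_conj_form {O d : Finset GolayPt} (hO : O ∈ octads) (hd : d ∈ octads)
    (hdis : Disjoint O d) {ε : Co0} (hε : IsEps ε O) (x y : leechLattice)
    (hx : Cl (x : GolayPt → ℤ) d) (hy : Cl (y : GolayPt → ℤ) d)
    (ht : ∃ t : leechLattice, (y - x) - ε • (y - x) = 2 • t)
    (hdot : (16 : ℤ) ∣ dotInt (x : GolayPt → ℤ) ((y - x : leechLattice) : GolayPt → ℤ)) :
    ∃ B ∈ Words, ∀ εB : Co0, IsEps εB B →
      ∃ r w : leechLattice, y = εB • x + (r - ε • r) + 2 • w := by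
  have hδ : ∀ i, ∃ δ : ℤ, (y : GolayPt → ℤ) i = (x : GolayPt → ℤ) i + 4 * δ := by
    intro i
    obtain ⟨a, ha⟩ := hx i
    obtain ⟨b, hb⟩ := hy i
    exact ⟨b - a, by linarith⟩
  choose δ hδ using hδ
  choose a ha using hx
  have ha' : ∀ i, (x : GolayPt → ℤ) i = 2 * chi d i + 4 * a i := fun i => by linarith [ha i]
  obtain ⟨o, ho⟩ : O.Nonempty := by rw [← Finset.card_pos, hO.2]; norm_num
  obtain ⟨p, hp⟩ : d.Nonempty := by rw [← Finset.card_pos, hd.2]; norm_num
  have hpO : p ∉ O := Finset.disjoint_right.1 hdis hp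
  have h0 : (2 : ℤ) ∣ ∑ i, δ i := even_of_four (y - x) δ fun i => by rw [coe_sub, hδ]; ring
  have h1 : (2 : ℤ) ∣ ∑ i ∈ O, δ i := by
    obtain ⟨t, ht⟩ := ht
    have h2 := even_of_four t (fun i => chi O i * δ i) (fun i => by
      have h3 := congrArg (fun v : leechLattice => (v : GolayPt → ℤ) i) ht
      simp only [hε.sub, coe_two, coe_sub, hδ] at h3
      linarith)
    rwa [sum_chi_mul] at h2
  have h2 : (2 : ℤ) ∣ ∑ i ∈ d, δ i := by
    have h3 : dotInt (x : GolayPt → ℤ) ((y - x : leechLattice) : GolayPt → ℤ) =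
        8 * ∑ i ∈ d, δ i + 16 * ∑ i, a i * δ i := by
      unfold dotInt
      rw [← sum_chi_mul d δ, Finset.mul_sum, Finset.mul_sum, ← Finset.sum_add_distrib]
      refine Finset.sum_congr rfl fun i _ => ?_
      rw [coe_sub, hδ, ha' i]; ring
    rw [h3] at hdot
    omega
  have h3 : (2 : ℤ) ∣ ∑ i ∈ (O ∪ d)ᶜ, δ i := by
    have h4 := Finset.sum_add_sum_compl (O ∪ d) δ
    rw [Finset.sum_union hdis] at h4
    omega
  obtain ⟨A, hA, B, hB, C, hC, hall⟩ := exists_three hO hd (exists_third hO hd hdis) hdis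
    (by rw [Finset.disjoint_left]; intro i hi hi'; rw [Finset.mem_compl, Finset.mem_union] at hi'
        exact hi' (Or.inl hi))
    (by rw [Finset.disjoint_left]; intro i hi hi'; rw [Finset.mem_compl, Finset.mem_union] at hi'
        exact hi' (Or.inr hi))
    (fun i => by rw [Finset.mem_compl, Finset.mem_union]; tauto) δ h1 h2 h3
  refine ⟨B, hB, fun εB hεB => ?_⟩
  choose η hη using hall
  have hv : ∀ i, ((y - εB • x - (two C hC - ε • two C hC) - 2 • two A hA : leechLattice) :
      GolayPt → ℤ) i = 8 * (η i + chi d i * chi B i + chi B i * a i) := by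
    intro i
    have e1 : (y : GolayPt → ℤ) i - ((εB • x : leechLattice) : GolayPt → ℤ) i =
        4 * δ i + 2 * (chi B i * (x : GolayPt → ℤ) i) := by
      have := hεB.sub x i
      rw [coe_sub] at this
      rw [hδ]; linarith
    rw [coe_sub, coe_sub, hε.sub, coe_two, two_coe, two_coe, coe_sub, e1, ha' i]
    linear_combination 4 * hη i
  obtain ⟨r, w, hrw⟩ := exists_of_eight hε ho hpO _ _ hv
  refine ⟨r + two C hC, w + two A hA, ?_⟩
  rw [Cfsg.Agent.SporadicStructure.Co0Base.co0_smul_add]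
  have e : y = (y - εB • x - (two C hC - ε • two C hC) - 2 • two A hA) + εB • x +
      (two C hC - ε • two C hC) + 2 • two A hA := by abel
  rw [e, hrw]
  simp only [smul_add]
  abel

/-- A vector orthogonal modulo 16 to the class of the frame and to all vectors divisible by 4. -/
theorem exists_dvd_of_dot (x : leechLattice)
    (h0 : (16 : ℤ) ∣ dotInt (x : GolayPt → ℤ) ((e8 none : leechLattice) : GolayPt → ℤ))
    (h : ∀ v : leechLattice, (∀ i, (4 : ℤ) ∣ (v : GolayPt → ℤ) i) →
      (16 : ℤ) ∣ dotInt (x : GolayPt → ℤ) (v : GolayPt → ℤ)) :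
    ∃ w : leechLattice, ∀ i, (4 : ℤ) ∣ ((x + 2 • w : leechLattice) : GolayPt → ℤ) i := by
  have hx0 : IsLeech 0 (x : GolayPt → ℤ) := by
    rcases isLeech_zero_or_one x.2 with h1 | h1
    · exact h1
    · exfalso
      have h2 := h1.par none
      have h3 : dotInt (x : GolayPt → ℤ) ((e8 none : leechLattice) : GolayPt → ℤ) =
          8 * (x : GolayPt → ℤ) none := by
        unfold dotInt
        rw [e8_coe, Finset.sum_eq_single none]
        · rw [Pi.single_eq_same]; ring
        · intro b _ hb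
          rw [Pi.single_eq_of_ne hb, mul_zero]
        · intro h; exact absurd (Finset.mem_univ _) h
      rw [h3] at h0
      unfold Int.ModEq at h2
      omega
  obtain ⟨B, hB, hxB⟩ := exists_cl hx0
  have hpair : ∀ i j : GolayPt, i ≠ j → (4 : ℤ) ∣ (x : GolayPt → ℤ) i + (x : GolayPt → ℤ) j := by
    intro i j hij
    have h1 := h (pr i j) (fun k => ⟨_, pr_coe i j k⟩)
    have h3 : dotInt (x : GolayPt → ℤ) ((pr i j : leechLattice) : GolayPt → ℤ) =
        4 * ((x : GolayPt → ℤ) i + (x : GolayPt → ℤ) j) := by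
      unfold dotInt
      have h4 : ∀ k, (x : GolayPt → ℤ) k * ((pr i j : leechLattice) : GolayPt → ℤ) k =
          (if k = i then 4 * (x : GolayPt → ℤ) k else 0) +
            (if k = j then 4 * (x : GolayPt → ℤ) k else 0) := by
        intro k
        rw [pr_coe]
        split_ifs <;> ring
      simp only [h4]
      rw [Finset.sum_add_distrib, Finset.sum_ite_eq', Finset.sum_ite_eq']
      simp only [Finset.mem_univ, if_true]
      ring
    rw [h3] at h1
    omega
  by_cases hn : (none : GolayPt) ∈ B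
  · refine ⟨r₀, ?_⟩
    have hBu : B = Finset.univ := by
      apply Finset.eq_univ_of_forall
      intro i
      by_contra hi
      have h1 := hpair none i (fun e => hi (e ▸ hn))
      have h2 := hxB none
      have h3 := hxB i
      rw [chi_mem hn] at h2
      rw [chi_not_mem hi] at h3
      omega
    have h1 := hxB.add cl_two_r₀
    rw [hBu, symmDiff_self] at h1
    exact h1.dvd
  · refine ⟨0, ?_⟩
    have hBu : B = ∅ := by
      rw [Finset.eq_empty_iff_forall_notMem]
      intro i hi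
      have h1 := hpair i none (fun e => hn (e ▸ hi))
      have h2 := hxB none
      have h3 := hxB i
      rw [chi_not_mem hn] at h2
      rw [chi_mem hi] at h3
      omega
    rw [smul_zero, add_zero]
    rw [hBu] at hxB
    exact hxB.dvd

/-! ### The sextet element -/

open Cfsg.Agent.SporadicA.Xi

theorem xi_comm {T : GolayPt → Fin 6} (hT : IsSextet T) {ε : Co0}
    (hε : IsEps ε (fib T 0 ∪ fib T 1)) : xiCo0 T hT * ε = ε * xiCo0 T hT := by
  apply Cfsg.Agent.SporadicA.Co0Mono.ext
  intro v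
  apply Subtype.ext
  funext i
  rw [mul_smul, mul_smul, hε]
  have h1 := two_xiCo0_smul T hT (ε • v) i
  have h2 := two_xiCo0_smul T hT v i
  rw [hε] at h1
  have hmem : ∀ j, j ∈ fib T 0 ∪ fib T 1 ↔ (T j = 0 ∨ T j = 1) := fun j => by
    rw [Finset.mem_union, mem_fib, mem_fib]
  by_cases hi : i ∈ fib T 0 ∪ fib T 1
  · have h3 : ∑ j ∈ fib T (T i), ((ε • v : leechLattice) : GolayPt → ℤ) j =
        -∑ j ∈ fib T (T i), (v : GolayPt → ℤ) j := by
      rw [← Finset.sum_neg_distrib]
      refine Finset.sum_congr rfl fun j hj => ?_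
      rw [hε, if_pos ((hmem j).2 (by rw [mem_fib.1 hj]; exact (hmem i).1 hi))]
    rw [h3] at h1
    simp only [if_pos hi] at h1 ⊢
    split_ifs at h1 h2 <;> linarith
  · have h3 : ∑ j ∈ fib T (T i), ((ε • v : leechLattice) : GolayPt → ℤ) j =
        ∑ j ∈ fib T (T i), (v : GolayPt → ℤ) j := by
      refine Finset.sum_congr rfl fun j hj => ?_
      rw [hε, if_neg fun h => hi ((hmem i).2 (by rw [← mem_fib.1 hj]; exact (hmem j).1 h))]
    rw [h3] at h1
    simp only [if_neg hi] at h1 ⊢
    split_ifs at h1 h2 <;> linarith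

theorem cl_xi_pr {T : GolayPt → Fin 6} (hT : IsSextet T) {i j : GolayPt} (hi : T i = 2) (hj : T j = 3) :
    Cl ((xiCo0 T hT • pr i j : leechLattice) : GolayPt → ℤ) (fib T 2 ∪ fib T 3) := by
  intro k
  have h1 := two_xiCo0_smul T hT (pr i j) k
  have hij : i ≠ j := fun e => by rw [e, hj] at hi; exact absurd hi (by decide)
  have hsum : ∑ l ∈ fib T (T k), ((pr i j : leechLattice) : GolayPt → ℤ) l =
      4 * ((if T k = 2 then 1 else 0) + (if T k = 3 then 1 else 0)) := by
    have h2 : ∀ l, ((pr i j : leechLattice) : GolayPt → ℤ) l =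
        (if l = i then 4 else 0) + (if l = j then 4 else 0) := by
      intro l; rw [pr_coe]; split_ifs <;> ring
    simp only [h2]
    rw [Finset.sum_add_distrib, Finset.sum_ite_eq', Finset.sum_ite_eq']
    simp only [mem_fib, hi, hj]
    by_cases h3 : T k = 2
    · simp [h3]
    · by_cases h4 : T k = 3
      · simp [h4]
      · simp [h3, h4, Ne.symm h3, Ne.symm h4]
  rw [hsum, pr_coe] at h1
  have hchi : chi (fib T 2 ∪ fib T 3) k = (if T k = 2 then 1 else 0) + (if T k = 3 then 1 else 0) := by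
    unfold chi
    simp only [Finset.mem_union, mem_fib]
    by_cases h3 : T k = 2
    · simp [h3]
    · by_cases h4 : T k = 3
      · simp [h4]
      · simp [h3, h4]
  rw [hchi]
  set X := ((xiCo0 T hT • pr i j : leechLattice) : GolayPt → ℤ) k with hX
  have h5 : T k = 2 → T k ≠ 3 := fun h => by rw [h]; decide
  by_cases h3 : T k = 2
  · have h4 := h5 h3
    rw [if_pos h3, if_neg h4] at h1 ⊢
    split_ifs at h1 <;> omega
  · by_cases h4 : T k = 3
    · rw [if_neg h3, if_pos h4] at h1 ⊢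
      split_ifs at h1 <;> omega
    · rw [if_neg h3, if_neg h4] at h1 ⊢
      have hki : k ≠ i := fun e => h3 (e ▸ hi)
      have hkj : k ≠ j := fun e => h4 (e ▸ hj)
      rw [if_neg hki, if_neg hkj] at h1
      split_ifs at h1 <;> omega

end Cfsg.Agent.MonsterU.InvTwoLat
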