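import Cfsg.Agent.MonsterU.Fused
import Cfsg.Agent.CoOneType.InvMain

/-!
# Facts on `Λ/2Λ` and the involutions of `Co1` for the closing arguments of the Monster

* `Neg s` : `s ∈ Co1` lifts to an element of square `-1` of `Co0`;
* `fixes_type_two` (alpha) : an element of square `1` of `Co1` is `Neg` or fixes a class of type 2;
* `card_fixed` (beta) : a `Neg` element fixes `2^12` classes;
* `gamma`, `card_le_four` (gamma) : a subgroup of `Co1` all of whose nontrivial elements are `Neg` has order at most 4;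
* `card_le_of_no_two` : a subgroup of `Λ/2Λ` without classes of type 2 has at most `2^19` elements;
-/

set_option autoImplicit false

namespace Cfsg.Agent.MonsterU.CloseLat

open Cfsg Cfsg.Spor Cfsg.Agent.LeechMat.Core Cfsg.Agent.MonsterU.Lam2 Cfsg.Agent.MonsterU.Ch
open Cfsg.Agent.SporadicA.GolayBase Cfsg.Agent.SporadicA.Co0Mono
open Cfsg.Agent.SporadicA Cfsg.Agent.SporadicA.Co1Simple
open Cfsg.Agent.CoOneType.SignFacts

/-- classes of the elements of square `-1` -/
def Neg (s : Co1) : Prop := ∃ g : Co0, (QuotientGroup.mk g : Co1) = s ∧ g * g = signCo0 allOne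

theorem allOne_ne_one : signCo0 allOne ≠ 1 := by
  intro h
  obtain ⟨v, hv⟩ := SmallComm.exists_four none none
  have h1 : signCo0 allOne • v = -v := allOne_smul v
  rw [h, one_smul] at h1
  have h2 := congrArg (fun u : leechLattice => (u : GolayPt → ℤ) none) h1
  simp only [AddSubgroup.coe_neg, Pi.neg_apply] at h2
  have h3 := hv none
  simp only [if_true] at h3
  omega

theorem allOne_mul_self : signCo0 allOne * signCo0 allOne = 1 := signCo0_mul_self _

theorem allOne_comm (g : Co0) : g * signCo0 allOne = signCo0 allOne * g :=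
  Subgroup.mem_center_iff.1 allOne_mem_center g

theorem neg_eq_allOne : Co0Basic.negCo0 = signCo0 allOne := by
  rcases Co0Basic.eq_one_or_neg_of_mem_center allOne_mem_center with h | h
  · exact absurd h allOne_ne_one
  · exact h.symm

theorem mk_eq_iff {g h : Co0} : (QuotientGroup.mk g : Co1) = QuotientGroup.mk h ↔
    h = g ∨ h = g * signCo0 allOne := by
  rw [mk_eq_mk]
  constructor
  · rintro ⟨c, hc, rfl⟩
    rcases Co0Basic.eq_one_or_neg_of_mem_center hc with rfl | rfl
    · left; rw [mul_one]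
    · right; rw [neg_eq_allOne]
  · rintro (rfl | rfl)
    · exact ⟨1, Subgroup.one_mem _, (mul_one _).symm⟩
    · exact ⟨_, allOne_mem_center, rfl⟩

theorem Neg.sq {s : Co1} (h : Neg s) : s * s = 1 := by
  obtain ⟨g, rfl, hg⟩ := h
  have : g * g ∈ Subgroup.center Co0 := by rw [hg]; exact allOne_mem_center
  exact (QuotientGroup.eq_one_iff (g * g)).2 this

theorem Neg.conj {s : Co1} (h : Neg s) (k : Co1) : Neg (k * s * k⁻¹) := by
  obtain ⟨g, rfl, hg⟩ := h
  obtain ⟨k, rfl⟩ := QuotientGroup.mk_surjective k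
  refine ⟨k * g * k⁻¹, rfl, ?_⟩
  have h1 : k * g * k⁻¹ * (k * g * k⁻¹) = k * (g * g) * k⁻¹ := by group
  rw [h1, hg, Subgroup.mem_center_iff.1 allOne_mem_center k, mul_inv_cancel_right]

/-- every lift of a `Neg` element has square `-1` -/
theorem Neg.lift {g : Co0} (h : Neg (QuotientGroup.mk g : Co1)) : g * g = signCo0 allOne := by
  obtain ⟨k, hk, hk2⟩ := h
  rcases mk_eq_iff.1 hk with rfl | rfl
  · exact hk2
  · calc k * signCo0 allOne * (k * signCo0 allOne) = k * (signCo0 allOne * k) * signCo0 allOne := by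
          simp only [mul_assoc]
      _ = k * k * (signCo0 allOne * signCo0 allOne) := by rw [← allOne_comm]; simp only [mul_assoc]
      _ = signCo0 allOne := by rw [allOne_mul_self, mul_one, hk2]

theorem not_neg_one : ¬ Neg 1 := by
  intro h
  have h1 : Neg (QuotientGroup.mk (1 : Co0) : Co1) := h
  have h2 := h1.lift
  rw [mul_one] at h2
  exact allOne_ne_one h2.symm

/-- two points in the same part of a word -/
theorem exists_same (c : golayCode) : ∃ i j : GolayPt, i ≠ j ∧
    (c : GolayPt → ZMod 2) i = (c : GolayPt → ZMod 2) j := by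
  by_contra hcon
  push Not at hcon
  have h1 := hcon (some 0) (some 1) (by decide)
  have h2 := hcon (some 0) (some 2) (by decide)
  have h3 := hcon (some 1) (some 2) (by decide)
  revert h1 h2 h3
  generalize (c : GolayPt → ZMod 2) (some 0) = a
  generalize (c : GolayPt → ZMod 2) (some 1) = b
  generalize (c : GolayPt → ZMod 2) (some 2) = d
  revert a b d
  decide

theorem sqNorm_four {i j : GolayPt} (hij : i ≠ j) {v : leechLattice}
    (hv : ∀ k, (v : GolayPt → ℤ) k = (if k = i then 4 else 0) + (if k = j then 4 else 0)) :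
    sqNorm (v : GolayPt → ℤ) = 32 := by
  have h : (v : GolayPt → ℤ) = fun k => (if k = i then 4 else 0) + (if k = j then 4 else 0) := funext hv
  rw [h]
  clear hv h
  revert i j
  decide

/-- **(alpha)** an element of square `1` of `Co1` is `Neg` or fixes a class of type 2 -/
theorem fixes_type_two {s : Co1} (hs : s * s = 1) : Neg s ∨ ∃ x, IsType 2 x ∧ s • x = x := by
  obtain ⟨g, rfl⟩ := QuotientGroup.mk_surjective s
  have hg : g * g ∈ Subgroup.center Co0 := (QuotientGroup.eq_one_iff (g * g)).1 hs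
  rcases Co0Basic.eq_one_or_neg_of_mem_center hg with h | h
  · right
    obtain ⟨k, c, hk⟩ := CoOneType.InvMain.conj_sign_of_sq_one g h
    obtain ⟨i, j, hij, hc⟩ := exists_same c
    obtain ⟨v, hv⟩ := SmallComm.exists_four i j
    have hn := sqNorm_four hij hv
    have ht : IsType 2 (cl v) := ⟨v, by rw [hn]; norm_num, rfl⟩
    refine ⟨k⁻¹ • cl v, ht.smul k⁻¹, ?_⟩
    have hsv : signCo0 c • cl v = cl v := by
      rw [smul_cl]
      by_cases hz : (c : GolayPt → ZMod 2) i = 0
      · congr 1
        apply Subtype.ext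
        rw [signCo0_smul]
        funext l
        rw [signMap_apply, hv l]
        by_cases hl : l = i
        · rw [hl, hz, sgn_zero, one_mul]
        · by_cases hl2 : l = j
          · rw [hl2, ← hc, hz, sgn_zero, one_mul]
          · rw [if_neg hl, if_neg hl2]; ring
      · have h1 : ∀ a : ZMod 2, a ≠ 0 → a = 1 := by decide
        have hz1 := h1 _ hz
        rw [← cl_neg]
        congr 1
        apply Subtype.ext
        rw [AddSubgroup.coe_neg, signCo0_smul]
        funext l
        rw [Pi.neg_apply, signMap_apply, hv l]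
        by_cases hl : l = i
        · rw [hl, hz1, sgn_one]; ring
        · by_cases hl2 : l = j
          · rw [hl2, ← hc, hz1, sgn_one]; ring
          · rw [if_neg hl, if_neg hl2]; ring
    rw [Lam2.mk_smul, smul_smul]
    have h2 : g * k⁻¹ = k⁻¹ * signCo0 c := by rw [← hk]; group
    rw [h2, mul_smul, hsv]
  · left
    exact ⟨g, rfl, by rw [h, neg_eq_allOne]⟩

/-- **(beta)** a `Neg` element fixes `2^12` classes -/
theorem card_fixed {s : Co1} (hs : Neg s) : Nat.card {x : L2 // s • x = x} = 2 ^ 12 := by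
  obtain ⟨g, rfl, hg⟩ := hs
  have h1 := SmallComm.index_sq_neg hg
  rw [← Fused.ker_eq, AddSubgroup.index_ker] at h1
  have e : ((Fused.dl (QuotientGroup.mk g)).comp cl).range = (Fused.dl (QuotientGroup.mk g)).range := by
    ext x
    constructor
    · rintro ⟨v, rfl⟩; exact ⟨cl v, rfl⟩
    · rintro ⟨y, rfl⟩
      obtain ⟨v, rfl⟩ := cl_surjective y
      exact ⟨v, rfl⟩
  rw [e] at h1
  have h2 := (Fused.dl (QuotientGroup.mk g)).ker.card_mul_index
  rw [AddSubgroup.index_ker, h1, card_L2] at h2
  have h3 : Nat.card (Fused.dl (QuotientGroup.mk g)).ker = 2 ^ 12 := by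
    have : Nat.card (Fused.dl (QuotientGroup.mk g)).ker * 2 ^ 12 = 2 ^ 12 * 2 ^ 12 := by
      rw [h2]; norm_num
    exact Nat.eq_of_mul_eq_mul_right (by norm_num) this
  rw [← h3]
  apply Nat.card_congr
  refine Equiv.subtypeEquivRight fun x => ?_
  rw [AddMonoidHom.mem_ker, Fused.dl_apply]
  constructor
  · intro h; rw [h, add_self]
  · intro h; exact eq_of_add_eq_zero h

/-- **(gamma)** -/
theorem gamma {a b c : Co1} (hab : a * b = b * a) (hac : a * c = c * a) (hbc : b * c = c * b)
    (ha : Neg a) (hb : Neg b) (hc : Neg c) (nab : Neg (a * b)) (nac : Neg (a * c)) (nbc : Neg (b * c)) :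
    ¬ Neg (a * b * c) := by
  intro habc
  obtain ⟨x, rfl⟩ := QuotientGroup.mk_surjective a
  obtain ⟨y, rfl⟩ := QuotientGroup.mk_surjective b
  obtain ⟨w, rfl⟩ := QuotientGroup.mk_surjective c
  have hx : x * x = signCo0 allOne := ha.lift
  have hy : y * y = signCo0 allOne := hb.lift
  have hw : w * w = signCo0 allOne := hc.lift
  have hxy : (x * y) * (x * y) = signCo0 allOne := Neg.lift (g := x * y) nab
  have hxw : (x * w) * (x * w) = signCo0 allOne := Neg.lift (g := x * w) nac
  have hyw : (y * w) * (y * w) = signCo0 allOne := Neg.lift (g := y * w) nbc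
  have hxyw : (x * y * w) * (x * y * w) = signCo0 allOne := Neg.lift (g := x * y * w) habc
  -- anticommutation
  have key : ∀ {u v : Co0}, u * u = signCo0 allOne → v * v = signCo0 allOne →
      (u * v) * (u * v) = signCo0 allOne → v * u = u * v * signCo0 allOne := by
    intro u v hu hv huv
    have h1 : u * (v * u) * v = signCo0 allOne := by rw [← huv]; group
    have h2 : u * u * (v * u) * (v * v) = u * (u * (v * u) * v) * v := by group
    rw [h1, hu, hv, allOne_comm u, mul_assoc (signCo0 allOne) u v] at h2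
    rw [mul_assoc (signCo0 allOne), mul_right_inj] at h2
    calc v * u = v * u * signCo0 allOne * signCo0 allOne := by
          rw [mul_assoc, allOne_mul_self, mul_one]
      _ = _ := by rw [h2]
  have h1 : w * (x * y) = (x * y) * w := by
    calc w * (x * y) = (w * x) * y := by group
      _ = x * (w * signCo0 allOne) * y := by rw [key hx hw hxw]; group
      _ = x * (w * y) * signCo0 allOne := by rw [allOne_comm w]; rw [mul_assoc, mul_assoc, ← allOne_comm]; group
      _ = x * (y * w * signCo0 allOne) * signCo0 allOne := by rw [key hy hw hyw]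
      _ = x * y * w * (signCo0 allOne * signCo0 allOne) := by group
      _ = (x * y) * w := by rw [allOne_mul_self, mul_one]
  have h2 : (x * y * w) * (x * y * w) = 1 := by
    calc (x * y * w) * (x * y * w) = (x * y) * (w * (x * y)) * w := by group
      _ = ((x * y) * (x * y)) * (w * w) := by rw [h1]; group
      _ = 1 := by rw [hxy, hw, allOne_mul_self]
  rw [h2] at hxyw
  exact allOne_ne_one hxyw.symm

/-- **(gamma)**, as a bound -/
theorem card_le_four (E : Subgroup Co1) (hE : ∀ s ∈ E, s ≠ 1 → Neg s) : Nat.card E ≤ 4 := by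
  have hsq : ∀ s ∈ E, s * s = 1 := by
    intro s hs
    by_cases h : s = 1
    · rw [h, mul_one]
    · exact (hE s hs h).sq
  have hcomm : ∀ s ∈ E, ∀ t ∈ E, s * t = t * s := by
    intro s hs t ht
    have h1 := hsq _ (E.mul_mem hs ht)
    have h2 := hsq s hs
    have h3 := hsq t ht
    calc s * t = s * (s * t * (s * t)) * t := by rw [h1, mul_one]
      _ = (s * s) * (t * s) * (t * t) := by group
      _ = t * s := by rw [h2, h3, one_mul, mul_one]
  by_contra hcon
  push Not at hcon
  have hmul : ∀ {s t : Co1}, s ∈ E → t ∈ E → s * t = 1 → s = t := by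
    intro s t hs ht h
    calc s = s * (t * t) := by rw [hsq t ht, mul_one]
      _ = (s * t) * t := by group
      _ = t := by rw [h, one_mul]
  -- three independent elements
  have hfin : Finite E := (Nat.card_pos_iff.1 (by omega)).2
  have pick : ∀ S : Set Co1, S.ncard ≤ 4 → S.Finite → ∃ s ∈ E, s ∉ S := by
    intro S hS hSf
    by_contra hc
    push Not at hc
    have h1 : (E : Set Co1) ⊆ S := fun s hs => hc s hs
    have h2 := Set.ncard_le_ncard h1 hSf
    have h3 : (E : Set Co1).ncard = Nat.card E := rfl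
    omega
  obtain ⟨a, ha, ha1⟩ := pick {1} (by rw [Set.ncard_singleton]; norm_num) (Set.toFinite _)
  obtain ⟨b, hb, hb1⟩ := pick {1, a} ((Set.ncard_insert_le _ _).trans (by
    rw [Set.ncard_singleton]; norm_num)) (Set.toFinite _)
  obtain ⟨c, hc, hc1⟩ := pick {1, a, b, a * b} (by
    refine (Set.ncard_insert_le _ _).trans ?_
    have h1 : ({a, b, a * b} : Set Co1).ncard ≤ ({b, a * b} : Set Co1).ncard + 1 := Set.ncard_insert_le _ _
    have h2 : ({b, a * b} : Set Co1).ncard ≤ ({a * b} : Set Co1).ncard + 1 := Set.ncard_insert_le _ _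
    rw [Set.ncard_singleton] at h2
    omega) (Set.toFinite _)
  simp only [Set.mem_insert_iff, Set.mem_singleton_iff, not_or] at ha1 hb1 hc1
  obtain ⟨hb1, hba⟩ := hb1
  obtain ⟨hc1, hca, hcb, hcab⟩ := hc1
  have hab : a * b ≠ 1 := fun h => hba (hmul ha hb h).symm
  have hac : a * c ≠ 1 := fun h => hca (hmul ha hc h).symm
  have hbc : b * c ≠ 1 := fun h => hcb (hmul hb hc h).symm
  have habc : a * b * c ≠ 1 := fun h => hcab (hmul (E.mul_mem ha hb) hc h).symm
  exact gamma (hcomm a ha b hb) (hcomm a ha c hc) (hcomm b hb c hc) (hE a ha ha1) (hE b hb hb1) (hE c hc hc1)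
    (hE _ (E.mul_mem ha hb) hab) (hE _ (E.mul_mem ha hc) hac) (hE _ (E.mul_mem hb hc) hbc)
    (hE _ (E.mul_mem (E.mul_mem ha hb) hc) habc)

/-- differences of the vectors `4e_∞ + 4e_i` -/
theorem sqNorm_diff {i j k : GolayPt} (hij : i ≠ j) (hi : i ≠ k) (hj : j ≠ k) {v w : leechLattice}
    (hv : ∀ l, (v : GolayPt → ℤ) l = (if l = i then 4 else 0) + (if l = k then 4 else 0))
    (hw : ∀ l, (w : GolayPt → ℤ) l = (if l = j then 4 else 0) + (if l = k then 4 else 0)) :
    sqNorm ((v - w : leechLattice) : GolayPt → ℤ) = 32 := by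
  have h : ((v - w : leechLattice) : GolayPt → ℤ) =
      fun l => (if l = i then 4 else 0) + (if l = j then -4 else 0) := by
    funext l
    rw [AddSubgroup.coe_sub, Pi.sub_apply, hv l, hw l]
    by_cases h1 : l = i
    · subst h1
      rw [if_pos rfl, if_neg hij, if_neg hi, if_neg hij]; ring
    · rw [if_neg h1]
      by_cases h2 : l = j
      · subst h2
        rw [if_pos rfl, if_neg hj, if_pos rfl]; ring
      · rw [if_neg h2, if_neg h2]; ring
  rw [h]
  clear hv hw h
  revert hij
  clear hi hj
  revert i j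
  decide

/-- **(small)** a subgroup of `Λ/2Λ` without classes of type 2 has at most `2^19` elements -/
theorem card_le_of_no_two (U : AddSubgroup L2) (hU : ∀ x ∈ U, ¬ IsType 2 x) : Nat.card U ≤ 2 ^ 19 := by
  choose v hv using fun i : GolayPt => SmallComm.exists_four i none
  have hfin : Finite (L2 ⧸ U) := inferInstance
  have hinj : Function.Injective (fun i : {i : GolayPt // i ≠ none} => (QuotientAddGroup.mk (cl (v i)) : L2 ⧸ U)) := by
    intro i j hij
    by_contra hne
    have hne' : (i : GolayPt) ≠ j := fun h => hne (Subtype.ext h)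
    have h1 : -(cl (v i)) + cl (v j) ∈ U := QuotientAddGroup.eq.1 hij
    rw [neg_eq, ← cl_sub] at h1
    exact hU _ h1 ⟨v i - v j, by rw [sqNorm_diff hne' i.2 j.2 (hv i) (hv j)]; norm_num, rfl⟩
  have h1 := Nat.card_le_card_of_injective _ hinj
  have h2 : Nat.card {i : GolayPt // i ≠ none} = 23 := by
    rw [Nat.card_eq_fintype_card]
    decide
  rw [h2] at h1
  have h3 := U.card_mul_index
  rw [card_L2, AddSubgroup.index_eq_card] at h3
  have h4 : Nat.card (L2 ⧸ U) ∣ 2 ^ 24 := ⟨Nat.card U, by rw [mul_comm]; exact h3.symm⟩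
  obtain ⟨k, hk, hk2⟩ := (Nat.dvd_prime_pow Nat.prime_two).1 h4
  have h5 : 5 ≤ k := by
    by_contra hc
    push Not at hc
    have : 2 ^ k ≤ 2 ^ 4 := Nat.pow_le_pow_right (by norm_num) (by omega)
    rw [← hk2] at this
    omega
  have h6 : 2 ^ 5 ≤ Nat.card (L2 ⧸ U) := by
    rw [hk2]; exact Nat.pow_le_pow_right (by norm_num) h5
  by_contra hc
  push Not at hc
  have h7 : 2 ^ 19 * 2 ^ 5 < Nat.card U * Nat.card (L2 ⧸ U) := by
    calc 2 ^ 19 * 2 ^ 5 < Nat.card U * 2 ^ 5 := Nat.mul_lt_mul_of_pos_right hc (by norm_num)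
      _ ≤ Nat.card U * Nat.card (L2 ⧸ U) := Nat.mul_le_mul_left _ h6
  rw [h3] at h7
  norm_num at h7

/-! ### types -/

theorem exists_two : ∃ x, IsType 2 x := by
  obtain ⟨v, hv⟩ := SmallComm.exists_four (some 0) none
  exact ⟨cl v, v, by rw [sqNorm_four (by decide) hv]; norm_num, rfl⟩

theorem qf_two {x : L2} (h : IsType 2 x) : qf x = 0 := by rw [qf_of_type h]; rfl

theorem qf_three {x : L2} (h : IsType 3 x) : qf x = 1 := by rw [qf_of_type h]; rfl

theorem qf_four {x : L2} (h : IsType 4 x) : qf x = 0 := by rw [qf_of_type h]; rfl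

theorem exists_three : ∃ x, IsType 3 x :=
  ⟨cl (lA - lB), lA - lB, by show sqNorm (vA - vB) = 16 * 3; decide, rfl⟩

theorem exists_four_type : ∃ x, IsType 4 x :=
  ⟨cl (lE + (lB + lD)), lE + (lB + lD), by show sqNorm (vE + (vB + vD)) = 16 * 4; decide, rfl⟩

theorem exists_qf_one : ∃ x, qf x = 1 := by
  obtain ⟨x, hx⟩ := exists_three
  exact ⟨x, qf_three hx⟩

theorem exists_bf_ne {x : L2} (hx : x ≠ 0) : ∃ y, bf x y = 1 := by
  by_contra hcon
  push Not at hcon
  apply hx
  apply bf_nondeg
  intro y
  have h1 : ∀ a : ZMod 2, a ≠ 1 → a = 0 := by decide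
  exact h1 _ (hcon y)

theorem ne_zero_of_two {x : L2} (h : IsType 2 x) : x ≠ 0 := by
  rintro rfl
  obtain ⟨v, hv, h0⟩ := h
  obtain ⟨u, rfl⟩ := cl_eq_zero.1 h0
  have h1 : sqNorm ((2 • u : leechLattice) : GolayPt → ℤ) = 4 * sqNorm (u : GolayPt → ℤ) := by
    unfold sqNorm
    rw [Finset.mul_sum]
    apply Finset.sum_congr rfl
    intro i _
    rw [AddSubgroup.coe_nsmul, Pi.smul_apply, nsmul_eq_mul]
    push_cast
    ring
  rw [h1] at hv
  obtain ⟨k, hk⟩ := dvd_norm u
  omega

/-- the type 2 classes generate -/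
theorem closure_two : AddSubgroup.closure {x : L2 | IsType 2 x} = ⊤ := by
  rcases irreducible (AddSubgroup.closure {x : L2 | IsType 2 x}) (by
    intro g x hx
    have h1 : AddSubgroup.closure {x : L2 | IsType 2 x} ≤
        (AddSubgroup.closure {x : L2 | IsType 2 x}).comap (DistribSMul.toAddMonoidHom L2 g) := by
      rw [AddSubgroup.closure_le]
      intro y hy
      exact AddSubgroup.subset_closure (IsType.smul hy g)
    exact h1 hx) with h | h
  · exfalso
    obtain ⟨x, hx⟩ := exists_two
    have h1 : x ∈ AddSubgroup.closure {x : L2 | IsType 2 x} := AddSubgroup.subset_closure hx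
    rw [h, AddSubgroup.mem_bot] at h1
    exact ne_zero_of_two hx h1
  · exact h

end Cfsg.Agent.MonsterU.CloseLat
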