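import Cfsg.Agent.MonsterU.InvPairCls
import Mathlib.GroupTheory.GroupAction.ConjAct

/-!
# The index of `C_K(t)` in `C_Γ(t)` is odd

`t = ι t₀` with `t₀` short has `196560 = 2^4 * 12285` conjugates in `K`. If `K` has odd index in `Γ` and
the class of `t` in `Γ` has order divisible by `2^4`, then `K ∩ C(t)` has odd index in `Γ ∩ C(t)` and `t`
is not conjugate to `z`.
-/

namespace Cfsg.Agent.MonsterU.InvPair

open Cfsg Cfsg.Agent.LeechMat.Core Cfsg.Agent.MonsterX.KSide Cfsg.Agent.MonsterX.KLift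
open Cfsg.Agent.MonsterX.FrameKS Cfsg.Agent.MonsterU.InvTwo
open Cfsg.Agent.MonsterX.KModel

/-- The number of conjugates. -/
theorem relIndex_cent {G : Type*} [Group G] (K : Subgroup G) (x : G) :
    (K ⊓ Subgroup.centralizer {x}).relIndex K = {w : G | ∃ k ∈ K, k * x * k⁻¹ = w}.ncard := by
  let _i : MulAction K G := MulAction.compHom G ((ConjAct.toConjAct (G := G)).toMonoidHom.comp K.subtype)
  have hsm : ∀ (k : K) (g : G), k • g = (k : G) * g * (k : G)⁻¹ := fun k g => rfl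
  have h1 : (K ⊓ Subgroup.centralizer {x}).subgroupOf K = MulAction.stabilizer K x := by
    ext k
    rw [Subgroup.mem_subgroupOf, MulAction.mem_stabilizer_iff, hsm, Subgroup.mem_inf,
      Subgroup.mem_centralizer_singleton_iff, mul_inv_eq_iff_eq_mul]
    exact ⟨fun h => h.2, fun h => ⟨k.2, h⟩⟩
  have h2 : {w : G | ∃ k ∈ K, k * x * k⁻¹ = w} = MulAction.orbit K x := by
    ext w
    constructor
    · rintro ⟨k, hk, e⟩
      exact ⟨⟨k, hk⟩, e⟩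
    · rintro ⟨k, e⟩
      exact ⟨k, k.2, e⟩
  rw [Subgroup.relIndex, h1, h2, MulAction.index_stabilizer]

theorem odd_core {G : Type*} [Group G] {K Γ C : Subgroup G} (hKΓ : K ≤ Γ) (hK : ¬ 2 ∣ K.relIndex Γ)
    (hKn : (K ⊓ C).relIndex K = 196560) (hΓn : 2 ^ 4 ∣ (Γ ⊓ C).relIndex Γ) :
    ¬ 2 ∣ (K ⊓ C).relIndex (Γ ⊓ C) := by
  intro h
  have h1 := Subgroup.relIndex_mul_relIndex (K ⊓ C) K Γ inf_le_left hKΓ
  have h2 := Subgroup.relIndex_mul_relIndex (K ⊓ C) (Γ ⊓ C) Γ (inf_le_inf_right C hKΓ) inf_le_left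
  rw [hKn] at h1
  obtain ⟨a, ha⟩ := h
  obtain ⟨b, hb⟩ := hΓn
  rw [ha, hb, ← h1] at h2
  have h3 : 32 * (a * b) = 196560 * K.relIndex Γ := by rw [← h2]; ring
  apply hK
  omega

variable {G V P W : Type*} [Group G] [AddCommGroup V] [Module ℚ V]
  [DistribMulAction G V] [SMulCommClass G ℚ V] [Group P] [AddCommGroup W] [Module ℚ W]
  {M : KS G V P W} {θ : leechLattice → P} {Γ : Subgroup G}

theorem orbit_K (L : Lift M θ) {t₀ : P} (ht₀ : t₀ ∈ M.Sh) :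
    {w : G | ∃ k ∈ M.K, k * M.ι t₀ * k⁻¹ = w} = M.ι '' M.Sh := by
  ext w
  constructor
  · rintro ⟨k, hk, rfl⟩
    obtain ⟨A, α, T, hA⟩ := M.acts k hk
    refine ⟨α t₀, hA.act_sh t₀ ht₀, ?_⟩
    rw [conj_ι hA, mul_inv_cancel_right]
  · rintro ⟨t, ht, rfl⟩
    obtain ⟨k, hk, A, α, T, hA, hα⟩ := trans_Sh L t₀ t ht₀ ht
    refine ⟨k, hk, ?_⟩
    rw [conj_ι hA, hα, mul_inv_cancel_right]

theorem relIndex_K (L : Lift M θ) {t₀ : P} (ht₀ : t₀ ∈ M.Sh) :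
    (M.K ⊓ Subgroup.centralizer {M.ι t₀}).relIndex M.K = 196560 := by
  rw [relIndex_cent, orbit_K L ht₀, Set.ncard_image_of_injective _ (ι_inj L), Sh_ncard]

/-- **`hodd` of `classes`** (and of `RealCom`: see `odd'`). -/
theorem odd (L : Lift M θ) (hKΓ : M.K ≤ Γ) (hK : ¬ 2 ∣ M.K.relIndex Γ) {t₀ : P} (ht₀ : t₀ ∈ M.Sh)
    (hn : 2 ^ 4 ∣ {w : G | ∃ g ∈ Γ, g * M.ι t₀ * g⁻¹ = w}.ncard) :
    ¬ 2 ∣ (M.K ⊓ Subgroup.centralizer {M.ι t₀}).relIndex (Γ ⊓ Subgroup.centralizer {M.ι t₀}) :=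
  odd_core hKΓ hK (relIndex_K L ht₀) (by rwa [relIndex_cent])

theorem odd' (L : Lift M θ) (hKΓ : M.K ≤ Γ) (hK : ¬ 2 ∣ M.K.relIndex Γ) {t₀ : P} (ht₀ : t₀ ∈ M.Sh)
    (hn : 2 ^ 4 ∣ {w : G | ∃ g ∈ Γ, g * M.ι t₀ * g⁻¹ = w}.ncard) :
    ¬ 2 ∣ M.K.relIndex (Γ ⊓ Subgroup.centralizer {M.ι t₀}) := by
  have h1 := odd L hKΓ hK ht₀ hn
  have h2 : M.K.relIndex (Γ ⊓ Subgroup.centralizer {M.ι t₀}) =
      (M.K ⊓ Subgroup.centralizer {M.ι t₀}).relIndex (Γ ⊓ Subgroup.centralizer {M.ι t₀}) := by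
    rw [← Subgroup.inf_relIndex_right M.K, ← Subgroup.inf_relIndex_right (M.K ⊓ _)]
    congr 1
    ext g
    simp only [Subgroup.mem_inf]
    tauto
  rwa [h2]

/-- **`hne` of `classes`.** -/
theorem not_conj_z (hz : ∀ k ∈ M.K, k * M.z = M.z * k) (hKΓ : M.K ≤ Γ) (hK : ¬ 2 ∣ M.K.relIndex Γ)
    {x : G} (hn : 2 ∣ {w : G | ∃ g ∈ Γ, g * x * g⁻¹ = w}.ncard) :
    ¬ ∃ g ∈ Γ, g * x * g⁻¹ = M.z := by
  rintro ⟨g, hg, e⟩
  have h1 : {w : G | ∃ g ∈ Γ, g * x * g⁻¹ = w} = {w : G | ∃ g ∈ Γ, g * M.z * g⁻¹ = w} := by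
    ext w
    constructor
    · rintro ⟨h, hh, rfl⟩
      refine ⟨h * g⁻¹, Γ.mul_mem hh (Γ.inv_mem hg), ?_⟩
      rw [← e]; group
    · rintro ⟨h, hh, rfl⟩
      refine ⟨h * g, Γ.mul_mem hh hg, ?_⟩
      rw [← e]; group
  rw [h1, ← relIndex_cent] at hn
  apply hK
  have h2 : M.K ≤ Γ ⊓ Subgroup.centralizer {M.z} := fun k hk =>
    ⟨hKΓ hk, Subgroup.mem_centralizer_singleton_iff.2 (hz k hk)⟩
  exact hn.trans (Dvd.intro_left _ (Subgroup.relIndex_mul_relIndex M.K _ Γ h2 inf_le_left))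

end Cfsg.Agent.MonsterU.InvPair
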