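import Cfsg.Agent.MonsterU.InvPairK
import Cfsg.Agent.MonsterU.TwoQ
import Cfsg.Agent.Leech.TransPair

/-!
Pairs `(t, u)` of commuting involutions in `ι P`, `t` short: the orbits of the centraliser of `t`.
-/

set_option autoImplicit false

namespace Cfsg.Agent.MonsterU.InvPair

open Cfsg Cfsg.Agent.LeechMat.Core Cfsg.Agent.MonsterX.KSide Cfsg.Agent.MonsterX.KLift
open Cfsg.Agent.MonsterX.FrameKS Cfsg.Agent.MonsterU.InvTwo
open Cfsg.Agent.MonsterX.KModel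
open Cfsg.Agent.MonsterU.Lam2 Cfsg.Agent.MonsterU.TwoCls Cfsg.Agent.MonsterU.TwoQ
open Cfsg.Agent.SporadicStructure.Co0Base (e8 e8_coe)
open Cfsg.Agent.SporadicA.Co0Mono (signCo0 permCo0 permCo0_smul)
open Cfsg.Agent.MonsterU.InvTwoLat (isEps_sign exists_trace exists_trace_fun coe_add coe_sub coe_neg coe_two IsEps)
open Cfsg.Agent.Leech.Basic (chi chi_mem chi_not_mem)
open Cfsg.Agent.Leech.Min

/-! ### Types -/

theorem norm_two (r : leechLattice) : sqNorm ((2 • r : leechLattice) : GolayPt → ℤ) =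
    4 * sqNorm (r : GolayPt → ℤ) := by
  unfold sqNorm
  rw [Finset.mul_sum]
  exact Finset.sum_congr rfl fun i _ => by rw [coe_two]; ring

theorem norm_cases (r : leechLattice) : r = 0 ∨ 32 ≤ sqNorm (r : GolayPt → ℤ) := by
  by_cases h : (r : GolayPt → ℤ) = 0
  · exact Or.inl (Subtype.ext h)
  · exact Or.inr (Cfsg.Agent.S0391.result r r.2 h)

theorem norm_zero : sqNorm ((0 : leechLattice) : GolayPt → ℤ) = 0 := by
  unfold sqNorm
  exact Finset.sum_eq_zero fun i _ => by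
    show (0 : ℤ) ^ 2 = 0
    norm_num

theorem norm_add (v w : leechLattice) : sqNorm ((v + w : leechLattice) : GolayPt → ℤ) =
    sqNorm (v : GolayPt → ℤ) + sqNorm (w : GolayPt → ℤ) + 2 * dot v w := by
  show sqNorm _ = _ + _ + 2 * dotInt _ _
  unfold sqNorm dotInt
  rw [Finset.mul_sum, ← Finset.sum_add_distrib, ← Finset.sum_add_distrib]
  exact Finset.sum_congr rfl fun i _ => by rw [coe_add]; ring

theorem dot_neg (v w : leechLattice) : dot v (-w) = -dot v w := by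
  show dotInt _ _ = -dotInt _ _
  unfold dotInt
  rw [← Finset.sum_neg_distrib]
  exact Finset.sum_congr rfl fun i _ => by rw [coe_neg]; ring

theorem norm_neg (v : leechLattice) : sqNorm ((-v : leechLattice) : GolayPt → ℤ) =
    sqNorm (v : GolayPt → ℤ) := by
  unfold sqNorm
  exact Finset.sum_congr rfl fun i _ => by rw [coe_neg]; ring

theorem norm_sub (v w : leechLattice) : sqNorm ((v - w : leechLattice) : GolayPt → ℤ) =
    sqNorm (v : GolayPt → ℤ) + sqNorm (w : GolayPt → ℤ) - 2 * dot v w := by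
  rw [sub_eq_add_neg, norm_add, norm_neg, dot_neg]; ring

theorem not_zero_two : ¬ IsType 2 0 := by
  rintro ⟨v, hv, h⟩
  obtain ⟨r, rfl⟩ := cl_eq_zero.1 h
  rw [norm_two] at hv
  rcases norm_cases r with rfl | h1
  · rw [norm_zero] at hv; norm_num at hv
  · omega

theorem not_zero_four : ¬ IsType 4 0 := by
  rintro ⟨v, hv, h⟩
  obtain ⟨r, rfl⟩ := cl_eq_zero.1 h
  rw [norm_two] at hv
  rcases norm_cases r with rfl | h1
  · rw [norm_zero] at hv; norm_num at hv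
  · omega

theorem not_two_four {x : L2} (h2 : IsType 2 x) (h4 : IsType 4 x) : False := by
  obtain ⟨v, hv, rfl⟩ := h2
  obtain ⟨w, hw, h⟩ := h4
  obtain ⟨r, hr⟩ := cl_eq.1 h.symm
  have h1 : v + w = 2 • (r + w) := by
    rw [smul_add, ← hr, two_smul]; abel
  have h2 := norm_sub v w
  have h3 := norm_add v w
  rw [hr, norm_two, hv, hw] at h2
  rw [h1, norm_two, hv, hw] at h3
  rcases norm_cases r with h4 | h4
  · rw [h4, smul_zero, sub_eq_zero] at hr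
    rw [hr, hw] at hv
    norm_num at hv
  · rcases norm_cases (r + w) with h5 | h5
    · rw [h5, smul_zero] at h1
      have : v = -w := eq_neg_of_add_eq_zero_left h1
      rw [this, norm_neg, hw] at hv
      norm_num at hv
    · omega

/-- Inner products of short vectors. -/
theorem dot_cases {v w : leechLattice} (hv : sqNorm (v : GolayPt → ℤ) = 32)
    (hw : sqNorm (w : GolayPt → ℤ) = 32) (h : (16 : ℤ) ∣ dot v w) :
    v = w ∨ v = -w ∨ dot v w = 16 ∨ dot v w = -16 ∨ dot v w = 0 := by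
  have h1 := norm_sub v w
  have h2 := norm_add v w
  rw [hv, hw] at h1 h2
  rcases norm_cases (v - w) with h3 | h3
  · exact Or.inl (sub_eq_zero.1 h3)
  · rcases norm_cases (v + w) with h4 | h4
    · exact Or.inr (Or.inl (eq_neg_of_add_eq_zero_left h4))
    · right; right
      rw [h1] at h3
      rw [h2] at h4
      omega

/-! ### Prescribed inner products -/

theorem exists_bf {x y : L2} (hx : x ≠ 0) (hy : y ≠ 0) (hxy : x ≠ y) (a b : ZMod 2) :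
    ∃ r, bf r x = a ∧ bf r y = b := by
  have key : ∀ z : L2, z ≠ 0 → ∃ r, bf r z = 1 := by
    intro z hz
    by_contra hcon
    push Not at hcon
    apply hz
    apply bf_nondeg
    intro r
    rcases zmod2 (bf z r) with h | h
    · exact h
    · exact absurd (by rw [bf_comm]; exact h) (hcon r)
  have h11 : (1 : ZMod 2) + 1 = 0 := rfl
  obtain ⟨e₁, h1, h2⟩ : ∃ r, bf r x = 1 ∧ bf r y = 0 := by
    obtain ⟨r₁, hr₁⟩ := key x hx
    rcases zmod2 (bf r₁ y) with h | h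
    · exact ⟨r₁, hr₁, h⟩
    · obtain ⟨r₃, hr₃⟩ := key (x + y) (fun e => hxy (eq_of_add_eq_zero e))
      rw [bf_add_right] at hr₃
      rcases zmod2 (bf r₃ y) with h' | h'
      · rw [h', add_zero] at hr₃
        exact ⟨r₃, hr₃, h'⟩
      · have h3 : bf r₃ x = 0 := by
          rw [h'] at hr₃
          rcases zmod2 (bf r₃ x) with h4 | h4
          · exact h4
          · rw [h4, h11] at hr₃; exact absurd hr₃ (by decide)
        exact ⟨r₁ + r₃, by rw [bf_add_left, hr₁, h3, add_zero], by rw [bf_add_left, h, h', h11]⟩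
  obtain ⟨e₂, h3, h4⟩ : ∃ r, bf r x = 0 ∧ bf r y = 1 := by
    obtain ⟨r₂, hr₂⟩ := key y hy
    rcases zmod2 (bf r₂ x) with h | h
    · exact ⟨r₂, h, hr₂⟩
    · exact ⟨r₂ + e₁, by rw [bf_add_left, h, h1, h11], by rw [bf_add_left, hr₂, h2, add_zero]⟩
  rcases zmod2 a with rfl | rfl <;> rcases zmod2 b with rfl | rfl
  · exact ⟨0, bf_zero_left _, bf_zero_left _⟩
  · exact ⟨e₂, h3, h4⟩
  · exact ⟨e₁, h1, h2⟩
  · exact ⟨e₁ + e₂, by rw [bf_add_left, h1, h3, add_zero], by rw [bf_add_left, h2, h4, zero_add]⟩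

/-! ### The group part -/

variable {G V P W : Type*} [Group G] [AddCommGroup V] [Module ℚ V]
  [DistribMulAction G V] [SMulCommClass G ℚ V] [Group P] [AddCommGroup W] [Module ℚ W]
  {M : KS G V P W} {θ : leechLattice → P} {Γ : Subgroup G} {τ : G} {y : P}

variable (L : Lift M θ) (H : TauHyp M θ Γ τ y)

include L in
theorem exists_r {p q : P} (hp : clP L p ≠ 0) (hq : clP L q ≠ 0) (hpq : clP L p ≠ clP L q)
    {p' q' : P} (h1 : p' = p ∨ p' = M.zc * p) (h2 : q' = q ∨ q' = M.zc * q) :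
    ∃ r, r * p' * r⁻¹ = p ∧ r * q' * r⁻¹ = q := by
  have key : ∀ (p p' : P), clP L p ≠ 0 → (p' = p ∨ p' = M.zc * p) → ∃ a : ZMod 2, ∀ r,
      bf (clP L r) (clP L p) = a → r * p' * r⁻¹ = p := by
    intro p p' _ h
    rcases h with rfl | rfl
    · refine ⟨0, fun r hr => ?_⟩
      rw [(comm_iff_bf L r p').2 hr, mul_inv_cancel_right]
    · refine ⟨1, fun r hr => ?_⟩
      have h3 : r * (M.zc * p) * r⁻¹ = M.zc * (r * p * r⁻¹) := by
        rw [← mul_assoc r, ← M.zc_comm r]; group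
      rw [h3]
      rcases M.comm_or r p with h | h
      · exfalso
        have h4 : r * p = p * r := mul_inv_eq_iff_eq_mul.1 h
        rw [(comm_iff_bf L r p).1 h4] at hr
        exact absurd hr (by decide)
      · rw [h, M.zc_zc]
  obtain ⟨a, ha⟩ := key p p' hp h1
  obtain ⟨b, hb⟩ := key q q' hq h2
  obtain ⟨x, hx1, hx2⟩ := exists_bf hp hq hpq a b
  obtain ⟨r, rfl⟩ := clP_surjective L x
  exact ⟨r, ha r hx1, hb r hx2⟩

include L in
/-- Two pairs of elements of `ι P` whose classes are conjugate under `Co0`. -/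
theorem conj_pair {p q p₁ q₁ : P} (hp : clP L p₁ ≠ 0) (hq : clP L q₁ ≠ 0)
    (hpq : clP L p₁ ≠ clP L q₁) (h : ∃ A : Co0, A • clP L p = clP L p₁ ∧ A • clP L q = clP L q₁) :
    ∃ k ∈ M.K, k * M.ι p * k⁻¹ = M.ι p₁ ∧ k * M.ι q * k⁻¹ = M.ι q₁ := by
  obtain ⟨A, hA1, hA2⟩ := h
  obtain ⟨g, hgK, hg⟩ := exists_ind M A
  obtain ⟨α, h1, h2⟩ := aut L hgK hg
  obtain ⟨r, hr1, hr2⟩ := exists_r L hp hq hpq ((clP_eq' L).1 (by rw [h2, hA1] : clP L (α p) = clP L p₁))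
    ((clP_eq' L).1 (by rw [h2, hA2] : clP L (α q) = clP L q₁))
  refine ⟨M.ι r * g, M.K.mul_mem (M.ι_mem r) hgK, ?_, ?_⟩
  · have e : M.ι r * g * M.ι p * (M.ι r * g)⁻¹ = M.ι r * (g * M.ι p * g⁻¹) * (M.ι r)⁻¹ := by group
    rw [e, h1, mul_inv_cancel_right, ← map_inv, ← map_mul, ← map_mul, hr1]
  · have e : M.ι r * g * M.ι q * (M.ι r * g)⁻¹ = M.ι r * (g * M.ι q * g⁻¹) * (M.ι r)⁻¹ := by group
    rw [e, h1, mul_inv_cancel_right, ← map_inv, ← map_mul, ← map_mul, hr2]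

include H in
theorem y_cl : clP L y = cl (e8 none) := (clP_eq_cl L).2 H.y_eq

include L H in
theorem y_type : IsType 4 (clP L y) := by rw [y_cl L H]; exact isType_e8

include L H in
theorem y_ne_zero : clP L y ≠ 0 := fun e => not_zero_four (e ▸ y_type L H)

include L H in
theorem conj_y {q : P} (h : IsType 4 (clP L q)) : ∃ k ∈ M.K, k * M.ι q * k⁻¹ = M.ι y :=
  conj_in_Q L (y_ne_zero L H) (h.trans (Or.inr (Or.inr rfl)) (y_type L H))

include L H in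
/-- A conjugate of `ι t₀` in `ι P` is short. -/
theorem mem_Sh_of_conj {t₀ p : P} (ht₀ : t₀ ∈ M.Sh)
    (hne : ¬ ∃ g ∈ Γ, g * M.ι t₀ * g⁻¹ = M.z) {g : G} (hg : g ∈ Γ) (h : g * M.ι t₀ * g⁻¹ = M.ι p) :
    p ∈ M.Sh := by
  have hpp : p * p = 1 := by
    apply ι_inj L
    rw [map_mul, ← h, map_one, show g * M.ι t₀ * g⁻¹ * (g * M.ι t₀ * g⁻¹) =
      g * (M.ι t₀ * M.ι t₀) * g⁻¹ by group, ← map_mul, L.sh_sq t₀ ht₀, map_one]
    group
  have hqf := (sq_iff_qf L p).1 hpp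
  rcases type_cases (clP L p) with h1 | h1 | h1 | h1
  · rcases (clP_eq_zero L).1 h1 with e | e
    · exfalso
      rw [e, map_one, mul_inv_eq_one, mul_eq_left] at h
      have h2 : t₀ = 1 := ι_inj L (by rw [h, map_one])
      have h3 := (mem_Sh_iff L t₀).1 ht₀
      rw [h2, clP_one] at h3
      exact not_zero_two h3
    · exact absurd ⟨g, hg, by rw [h, e]; rfl⟩ hne
  · exact (mem_Sh_iff L p).2 h1
  · exact absurd hqf (qf_type3 h1)
  · exfalso
    obtain ⟨k, hk, e⟩ := conj_y L H h1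
    refine hne ⟨τ⁻¹ * k * g, Γ.mul_mem (Γ.mul_mem (Γ.inv_mem H.τ_mem) (H.K_le hk)) hg, ?_⟩
    calc τ⁻¹ * k * g * M.ι t₀ * (τ⁻¹ * k * g)⁻¹ = τ⁻¹ * (k * (g * M.ι t₀ * g⁻¹) * k⁻¹) * τ := by group
      _ = M.z := by rw [h, e, ← H.τ_z]; group

include L in
theorem exists_K_Sh {t₀ p : P} (ht₀ : t₀ ∈ M.Sh) (hp : p ∈ M.Sh) :
    ∃ k ∈ M.K, k * M.ι p * k⁻¹ = M.ι t₀ ∧ ∀ q, ∃ q', k * M.ι q * k⁻¹ = M.ι q' := by
  obtain ⟨k, hk, A, α, T, hA, hα⟩ := trans_Sh L p t₀ hp ht₀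
  refine ⟨k, hk, ?_, fun q => ⟨α q, ?_⟩⟩
  · rw [conj_ι hA p, hα, mul_inv_cancel_right]
  · rw [conj_ι hA q, mul_inv_cancel_right]

include L H in
/-- Pairs in `Y` are conjugate to pairs in `ι P` with the same first element. -/
theorem toQ {t₀ : P} (ht₀ : t₀ ∈ M.Sh) (hne : ¬ ∃ g ∈ Γ, g * M.ι t₀ * g⁻¹ = M.z) {u : G}
    (h : GYP M τ (M.ι t₀) u) :
    ∃ g ∈ Γ, g * M.ι t₀ * g⁻¹ = M.ι t₀ ∧ ∃ q, g * u * g⁻¹ = M.ι q := by
  obtain ⟨k, hk, ⟨p, hp⟩, ⟨q, hq⟩⟩ := h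
  have hg₁ : τ⁻¹ * k ∈ Γ := Γ.mul_mem (Γ.inv_mem H.τ_mem) (H.K_le hk)
  have h1 : (τ⁻¹ * k) * M.ι t₀ * (τ⁻¹ * k)⁻¹ = M.ι p := by
    calc (τ⁻¹ * k) * M.ι t₀ * (τ⁻¹ * k)⁻¹ = τ⁻¹ * (k * M.ι t₀ * k⁻¹) * τ := by group
      _ = M.ι p := by rw [hp]; group
  have h2 : (τ⁻¹ * k) * u * (τ⁻¹ * k)⁻¹ = M.ι q := by
    calc (τ⁻¹ * k) * u * (τ⁻¹ * k)⁻¹ = τ⁻¹ * (k * u * k⁻¹) * τ := by group
      _ = M.ι q := by rw [hq]; group
  have hpS := mem_Sh_of_conj L H ht₀ hne hg₁ h1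
  obtain ⟨k₂, hk₂, h3, h4⟩ := exists_K_Sh L ht₀ hpS
  obtain ⟨q', hq'⟩ := h4 q
  refine ⟨k₂ * (τ⁻¹ * k), Γ.mul_mem (H.K_le hk₂) hg₁, ?_, q', ?_⟩
  · rw [show k₂ * (τ⁻¹ * k) * M.ι t₀ * (k₂ * (τ⁻¹ * k))⁻¹ =
      k₂ * ((τ⁻¹ * k) * M.ι t₀ * (τ⁻¹ * k)⁻¹) * k₂⁻¹ by group, h1, h3]
  · rw [show k₂ * (τ⁻¹ * k) * u * (k₂ * (τ⁻¹ * k))⁻¹ =
      k₂ * ((τ⁻¹ * k) * u * (τ⁻¹ * k)⁻¹) * k₂⁻¹ by group, h2, hq']

include L in
/-- A short vector over an element of `Sh`. -/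
theorem exists_short {t₀ : P} (ht₀ : t₀ ∈ M.Sh) :
    ∃ v : leechLattice, sqNorm (v : GolayPt → ℤ) = 32 ∧ clP L t₀ = cl v := by
  obtain ⟨v, hv, e⟩ := (mem_Sh_iff L t₀).1 ht₀
  exact ⟨v, by rw [hv]; norm_num, e.symm⟩

include L in
theorem zq_of_cl {t₀ : P} {v : leechLattice} (h : clP L t₀ = cl v) : Zq M (M.ι t₀) (phi M θ v) :=
  Zq.of_eqz ((clP_eq_cl L).1 h)

/-- The class of a vector of shape `(±2)^8` plus the class of the frame has type 4. -/
theorem type_add_e8 {v : leechLattice} (h : Type2 (v : GolayPt → ℤ)) :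
    IsType 4 (cl v + cl (e8 none)) := by
  obtain ⟨A, hA, h2, h0, hev⟩ := h
  obtain ⟨i, hi⟩ : A.Nonempty := by rw [← Finset.card_pos, hA.2]; norm_num
  have hsq : ∀ s : ℤ, (v : GolayPt → ℤ) i * s = 2 → s ^ 2 = 1 → ∀ w : leechLattice,
      (∀ m, (w : GolayPt → ℤ) m = (v : GolayPt → ℤ) m - (if m = i then 8 * s else 0)) →
      sqNorm (w : GolayPt → ℤ) = 64 := by
    intro s hs hs2 w hw
    have hv32 : sqNorm (v : GolayPt → ℤ) = 32 := sqNorm_of_type2 ⟨A, hA, h2, h0, hev⟩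
    have h3 : sqNorm (w : GolayPt → ℤ) = sqNorm (v : GolayPt → ℤ) +
        ∑ m, (if m = i then (-(16 * ((v : GolayPt → ℤ) m * s)) + 64 * s ^ 2) else 0) := by
      unfold sqNorm
      rw [← Finset.sum_add_distrib]
      refine Finset.sum_congr rfl fun m _ => ?_
      rw [hw]
      split_ifs <;> ring
    rw [h3, Finset.sum_ite_eq', if_pos (Finset.mem_univ i), hs, hs2, hv32]
    norm_num
  have he : cl (e8 none) = cl (e8 i) := cl_eq.2 (e8_congr none i)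
  rcases h2 i hi with h | h
  · refine ⟨v - e8 i, ?_, ?_⟩
    · rw [hsq 1 (by rw [h]; norm_num) (by norm_num) (v - e8 i) (fun m => by
        rw [coe_sub, e8_coe, Pi.single_apply]; split_ifs <;> ring)]
      norm_num
    · rw [cl_sub, he]
  · refine ⟨v + e8 i, ?_, ?_⟩
    · rw [hsq (-1) (by rw [h]; norm_num) (by norm_num) (v + e8 i) (fun m => by
        rw [coe_add, e8_coe, Pi.single_apply]; split_ifs <;> ring)]
      norm_num
    · rw [map_add, he]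

/-- The class of a vector of shape `(±4)^2` plus the class of the frame is short. -/
theorem type_add_e8' {v : leechLattice} (h : Type4 (v : GolayPt → ℤ)) :
    IsType 2 (cl v + cl (e8 none)) := by
  have hv32 : sqNorm (v : GolayPt → ℤ) = 32 := sqNorm_of_type4 h
  obtain ⟨p, q, hpq, hp, hq, hz⟩ := h
  have hsq : ∀ s : ℤ, (v : GolayPt → ℤ) p * s = 4 → s ^ 2 = 1 → ∀ w : leechLattice,
      (∀ m, (w : GolayPt → ℤ) m = (v : GolayPt → ℤ) m - (if m = p then 8 * s else 0)) →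
      sqNorm (w : GolayPt → ℤ) = 32 := by
    intro s hs hs2 w hw
    have h3 : sqNorm (w : GolayPt → ℤ) = sqNorm (v : GolayPt → ℤ) +
        ∑ m, (if m = p then (-(16 * ((v : GolayPt → ℤ) m * s)) + 64 * s ^ 2) else 0) := by
      unfold sqNorm
      rw [← Finset.sum_add_distrib]
      refine Finset.sum_congr rfl fun m _ => ?_
      rw [hw]
      split_ifs <;> ring
    rw [h3, Finset.sum_ite_eq', if_pos (Finset.mem_univ p), hs, hs2, hv32]
    norm_num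
  have he : cl (e8 none) = cl (e8 p) := cl_eq.2 (e8_congr none p)
  rcases hp with h | h
  · refine ⟨v - e8 p, ?_, ?_⟩
    · rw [hsq 1 (by rw [h]; norm_num) (by norm_num) (v - e8 p) (fun m => by
        rw [coe_sub, e8_coe, Pi.single_apply]; split_ifs <;> ring)]
      norm_num
    · rw [cl_sub, he]
  · refine ⟨v + e8 p, ?_, ?_⟩
    · rw [hsq (-1) (by rw [h]; norm_num) (by norm_num) (v + e8 p) (fun m => by
        rw [coe_add, e8_coe, Pi.single_apply]; split_ifs <;> ring)]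
      norm_num
    · rw [map_add, he]

theorem dot_e8 (v : leechLattice) : dot v (e8 none) = 8 * (v : GolayPt → ℤ) none := by
  show dotInt _ _ = _
  unfold dotInt
  rw [e8_coe, Finset.sum_eq_single none]
  · rw [Pi.single_eq_same]; ring
  · intro b _ hb
    rw [Pi.single_eq_of_ne hb, mul_zero]
  · intro h; exact absurd (Finset.mem_univ _) h

include L H in
/-- A short vector over an element commuting with `y` has shape `(±2)^8` or `(±4)^2`. -/
theorem shape_y {t₁ : P} {v : leechLattice} (hv : sqNorm (v : GolayPt → ℤ) = 32)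
    (h : clP L t₁ = cl v) (hc : t₁ * y = y * t₁) :
    Type4 (v : GolayPt → ℤ) ∨ Type2 (v : GolayPt → ℤ) := by
  have h1 := (comm_iff_bf L t₁ y).1 hc
  rw [h, y_cl L H, bf_cl_eq_zero] at h1
  have h2 := dot_e8 v
  change dotInt _ _ = _ at h2
  rw [h2] at h1
  exact type2_or_type4_of_coord v.2 hv (i := none) (by omega)

include L H in
/-- **The pairs with `q` the class of a frame containing `t₀`.** -/
theorem case_frame {t₀ : P} (ht₀ : t₀ ∈ M.Sh) (hne : ¬ ∃ g ∈ Γ, g * M.ι t₀ * g⁻¹ = M.z) {q : P}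
    (hq : IsType 4 (clP L q)) (htq : IsType 2 (clP L (t₀ * q))) (hc : t₀ * q = q * t₀) :
    ∃ g ∈ Γ, g * M.ι t₀ * g⁻¹ = M.ι t₀ ∧ g * M.ι q * g⁻¹ = M.z := by
  obtain ⟨k, hk, hky⟩ := conj_y L H hq
  obtain ⟨A, hA⟩ := ind_exists hk
  obtain ⟨α, h1, h2⟩ := aut L hk hA
  have hαq : α q = y := by
    apply ι_inj L
    rw [← hky, h1, mul_inv_cancel_right]
  have ht₁ : α t₀ ∈ M.Sh := by
    rw [mem_Sh_iff L, h2]
    exact ((mem_Sh_iff L t₀).1 ht₀).smul A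
  have hkt : k * M.ι t₀ * k⁻¹ = M.ι (α t₀) := by rw [h1, mul_inv_cancel_right]
  obtain ⟨v, hv, hvc⟩ := exists_short L ht₁
  have hcomm : α t₀ * y = y * α t₀ := by rw [← hαq, ← map_mul, ← map_mul, hc]
  have hty : IsType 2 (cl v + cl (e8 none)) := by
    rw [← hvc, ← y_cl L H, ← hαq, ← clP_mul, ← map_mul, h2]
    exact htq.smul A
  rcases shape_y L H hv hvc hcomm with h | h
  · have h4 : ∀ m, (4 : ℤ) ∣ (v : GolayPt → ℤ) m := by
      intro m
      obtain ⟨p, q, -, hp, hq, hz⟩ := h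
      by_cases hmp : m = p
      · rw [hmp]; rcases hp with h | h <;> rw [h] <;> norm_num
      · by_cases hmq : m = q
        · rw [hmq]; rcases hq with h | h <;> rw [h] <;> norm_num
        · rw [hz m hmp hmq]; exact dvd_zero _
    obtain ⟨p, hp⟩ := InY.of_zq H (zq_of_cl L hvc) (phi_inY L H h4)
    have hg₁ : τ⁻¹ * k ∈ Γ := Γ.mul_mem (Γ.inv_mem H.τ_mem) (H.K_le hk)
    have h3 : (τ⁻¹ * k) * M.ι t₀ * (τ⁻¹ * k)⁻¹ = M.ι p := by
      calc (τ⁻¹ * k) * M.ι t₀ * (τ⁻¹ * k)⁻¹ = τ⁻¹ * (k * M.ι t₀ * k⁻¹) * τ := by group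
        _ = M.ι p := by rw [hkt, hp]; group
    have h5 : (τ⁻¹ * k) * M.ι q * (τ⁻¹ * k)⁻¹ = M.z := by
      calc (τ⁻¹ * k) * M.ι q * (τ⁻¹ * k)⁻¹ = τ⁻¹ * (k * M.ι q * k⁻¹) * τ := by group
        _ = M.z := by rw [hky, ← H.τ_z]; group
    have hpS := mem_Sh_of_conj L H ht₀ hne hg₁ h3
    obtain ⟨k₂, hk₂, h6, -⟩ := exists_K_Sh L ht₀ hpS
    refine ⟨k₂ * (τ⁻¹ * k), Γ.mul_mem (H.K_le hk₂) hg₁, ?_, ?_⟩
    · rw [show k₂ * (τ⁻¹ * k) * M.ι t₀ * (k₂ * (τ⁻¹ * k))⁻¹ =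
        k₂ * ((τ⁻¹ * k) * M.ι t₀ * (τ⁻¹ * k)⁻¹) * k₂⁻¹ by group, h3, h6]
    · rw [show k₂ * (τ⁻¹ * k) * M.ι q * (k₂ * (τ⁻¹ * k))⁻¹ =
        k₂ * ((τ⁻¹ * k) * M.ι q * (τ⁻¹ * k)⁻¹) * k₂⁻¹ by group, h5, TwoQ.z_comm k₂ hk₂,
        mul_inv_cancel_right]
  · exact absurd (type_add_e8 h) (fun h4 => not_two_four hty h4)

end Cfsg.Agent.MonsterU.InvPair
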