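import Cfsg.Agent.MonsterU.InvTwo
import Cfsg.Agent.MonsterX.Lat

/-!
# The commutant of the centraliser of a plane (helper235)

In the extraspecial group `P` let `p`, `q` lie over vectors all of whose coordinates are divisible by `4` (for example
`8 e_∞` and `4` on a tetrad).  An element of `K` commuting with all elements of `K` that commute with `ι p` and `ι q`
lies in `⟨z, ι p, ι q⟩`.
-/

set_option autoImplicit false

namespace Cfsg.Agent.MonsterU.PlaneM2

open Cfsg Cfsg.Agent.LeechMat.Core Cfsg.Agent.MonsterX.KSide Cfsg.Agent.MonsterX.KLift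
open Cfsg.Agent.MonsterX.Lat Cfsg.Agent.Leech.Trans Cfsg.Agent.SporadicStructure.Co0Base
open Cfsg.Agent.MonsterU.InvTwo

/-! ### Functions with values in `ZMod 2` -/

theorem zmod2 (a : ZMod 2) : a = 0 ∨ a = 1 := by
  revert a; decide

/-- A homomorphism to `ZMod 2` vanishing on the common kernel of two others is a combination of them. -/
theorem exists_comb {G : Type*} [Group G] {f g h : G → ZMod 2} (hf : ∀ x y, f (x * y) = f x + f y)
    (hg : ∀ x y, g (x * y) = g x + g y) (hh : ∀ x y, h (x * y) = h x + h y)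
    (hk : ∀ x, f x = 0 → g x = 0 → h x = 0) : ∃ i j : ZMod 2, ∀ x, h x = i * f x + j * g x := by
  have two : ∀ a : ZMod 2, a + a = 0 := by decide
  have eqa : ∀ a b : ZMod 2, a + b = 0 → a = b := by decide
  have same : ∀ x y, f x = f y → g x = g y → h x = h y := by
    intro x y h1 h2
    apply eqa
    rw [← hh]
    apply hk
    · rw [hf, h1, two]
    · rw [hg, h2, two]
  by_cases h10 : ∃ x, f x = 1 ∧ g x = 0
  · obtain ⟨a, a1, a2⟩ := h10
    by_cases h01 : ∃ x, f x = 0 ∧ g x = 1
    · obtain ⟨b, b1, b2⟩ := h01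
      refine ⟨h a, h b, ?_⟩
      intro x
      rcases zmod2 (f x) with h1 | h1 <;> rcases zmod2 (g x) with h2 | h2 <;> rw [h1, h2]
      · rw [hk x h1 h2]; ring
      · rw [same x b (h1.trans b1.symm) (h2.trans b2.symm)]; ring
      · rw [same x a (h1.trans a1.symm) (h2.trans a2.symm)]; ring
      · rw [same x (a * b) (by rw [hf, a1, b1, h1]; rfl) (by rw [hg, a2, b2, h2]; rfl), hh]; ring
    · refine ⟨h a, 0, ?_⟩
      intro x
      rcases zmod2 (f x) with h1 | h1 <;> rcases zmod2 (g x) with h2 | h2
      · rw [h1, h2, hk x h1 h2]; ring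
      · exact absurd ⟨x, h1, h2⟩ h01
      · rw [h1, h2, same x a (h1.trans a1.symm) (h2.trans a2.symm)]; ring
      · exact absurd ⟨x * a, by rw [hf, h1, a1]; rfl, by rw [hg, h2, a2]; rfl⟩ h01
  · by_cases h01 : ∃ x, f x = 0 ∧ g x = 1
    · obtain ⟨b, b1, b2⟩ := h01
      refine ⟨0, h b, ?_⟩
      intro x
      rcases zmod2 (f x) with h1 | h1 <;> rcases zmod2 (g x) with h2 | h2
      · rw [h1, h2, hk x h1 h2]; ring
      · rw [h1, h2, same x b (h1.trans b1.symm) (h2.trans b2.symm)]; ring
      · exact absurd ⟨x, h1, h2⟩ h10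
      · exact absurd ⟨x * b, by rw [hf, h1, b1]; rfl, by rw [hg, h2, b2]; rfl⟩ h10
    · by_cases h11 : ∃ x, f x = 1 ∧ g x = 1
      · obtain ⟨b, b1, b2⟩ := h11
        refine ⟨h b, 0, ?_⟩
        intro x
        rcases zmod2 (f x) with h1 | h1 <;> rcases zmod2 (g x) with h2 | h2
        · rw [h1, h2, hk x h1 h2]; ring
        · exact absurd ⟨x, h1, h2⟩ h01
        · exact absurd ⟨x, h1, h2⟩ h10
        · rw [h1, h2, same x b (h1.trans b1.symm) (h2.trans b2.symm)]; ring
      · refine ⟨0, 0, ?_⟩
        intro x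
        rcases zmod2 (f x) with h1 | h1 <;> rcases zmod2 (g x) with h2 | h2
        · rw [h1, h2, hk x h1 h2]; ring
        · exact absurd ⟨x, h1, h2⟩ h01
        · exact absurd ⟨x, h1, h2⟩ h10
        · exact absurd ⟨x, h1, h2⟩ h11

/-! ### The bicommutant in the extraspecial group -/

variable {G V P W : Type*} [Group G] [AddCommGroup V] [Module ℚ V]
  [DistribMulAction G V] [SMulCommClass G ℚ V] [Group P] [AddCommGroup W] [Module ℚ W]
  {M : KS G V P W} {θ : leechLattice → P}

open Classical in
/-- `1` if the elements do not commute. -/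
noncomputable def nc (x y : P) : ZMod 2 := if x * y = y * x then 0 else 1

theorem nc_eq_zero {x y : P} : nc x y = 0 ↔ x * y = y * x := by
  unfold nc
  by_cases h : x * y = y * x
  · simp [h]
  · simp [h]

theorem nc_comm (x y : P) : nc x y = nc y x := by
  unfold nc
  by_cases h : x * y = y * x
  · rw [if_pos h, if_pos h.symm]
  · rw [if_neg h, if_neg (fun h' => h h'.symm)]

theorem nc_eq_one (M : KS G V P W) {x y : P} : nc x y = 1 ↔ x * y = M.zc * (y * x) := by
  constructor
  · intro h
    have h1 : ¬ x * y = y * x := by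
      intro h2
      rw [nc_eq_zero.mpr h2] at h
      exact absurd h (by decide)
    rcases M.comm_or x y with h2 | h2
    · exact absurd (mul_inv_eq_iff_eq_mul.mp h2) h1
    · rw [mul_inv_eq_iff_eq_mul] at h2
      rw [h2, mul_assoc]
  · intro h
    rcases zmod2 (nc x y) with h1 | h1
    · rw [nc_eq_zero] at h1
      rw [h1] at h
      exact absurd (mul_eq_right.mp h.symm) M.zc_ne
    · exact h1

/-- The commutation of two elements. -/
theorem mul_eq (M : KS G V P W) (x y : P) : x * y = (if nc x y = 0 then 1 else M.zc) * (y * x) := by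
  rcases zmod2 (nc x y) with h | h
  · rw [if_pos h, one_mul]; exact nc_eq_zero.mp h
  · rw [h, if_neg (by decide)]; exact (nc_eq_one M).mp h

theorem nc_mul_left (M : KS G V P W) (x y t : P) : nc (x * y) t = nc x t + nc y t := by
  have h1 := mul_eq M x t
  have h2 := mul_eq M y t
  have h3 : x * y * t = (if nc x t = 0 then 1 else M.zc) * ((if nc y t = 0 then 1 else M.zc) * (t * (x * y))) := by
    have hz : ∀ a b : P, a * (M.zc * b) = M.zc * (a * b) := by
      intro a b; rw [← mul_assoc, ← M.zc_comm, mul_assoc]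
    have hc : ∀ a b : P, a * ((if nc y t = 0 then 1 else M.zc) * b) = (if nc y t = 0 then 1 else M.zc) * (a * b) := by
      intro a b
      split_ifs
      · rw [one_mul, one_mul]
      · exact hz a b
    have hd : ∀ b : P, (if nc y t = 0 then 1 else M.zc) * ((if nc x t = 0 then 1 else M.zc) * b) =
        (if nc x t = 0 then 1 else M.zc) * ((if nc y t = 0 then 1 else M.zc) * b) := by
      intro b
      split_ifs <;> simp
    rw [mul_assoc, h2, hc, ← mul_assoc x t y, h1, mul_assoc _ (t * x) y, hd, mul_assoc t x y]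
  rcases zmod2 (nc x t) with a | a <;> rcases zmod2 (nc y t) with b | b <;>
    rw [a, b] at h3 <;> simp only [if_true, one_mul, show ((1 : ZMod 2) = 0) = False by decide, if_false] at h3 <;>
    rw [a, b]
  · rw [nc_eq_zero.mpr h3]; rfl
  · rw [(nc_eq_one M).mpr h3]; rfl
  · rw [(nc_eq_one M).mpr h3]; rfl
  · rw [M.zc_zc] at h3
    rw [nc_eq_zero.mpr h3]; rfl

theorem nc_mul_right (M : KS G V P W) (x y t : P) : nc t (x * y) = nc t x + nc t y := by
  rw [nc_comm, nc_mul_left M, nc_comm x, nc_comm y]

/-- An element commuting with everything that commutes with `p` and `q` is a product of powers of `p`, `q` and the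
central involution. -/
theorem bicomm (L : Lift M θ) {p q r : P} (h : ∀ x, x * p = p * x → x * q = q * x → x * r = r * x) :
    Eqz M r 1 ∨ Eqz M r p ∨ Eqz M r q ∨ Eqz M r (p * q) := by
  obtain ⟨i, j, hij⟩ := exists_comb (f := fun x => nc x p) (g := fun x => nc x q) (h := fun x => nc x r)
    (fun x y => nc_mul_left M x y p) (fun x y => nc_mul_left M x y q) (fun x y => nc_mul_left M x y r)
    (fun x h1 h2 => nc_eq_zero.mpr (h x (nc_eq_zero.mp h1) (nc_eq_zero.mp h2)))
  have key : ∀ s : P, (∀ x, nc x r = nc x s) → Eqz M r s := by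
    intro s hs
    have h1 : ∀ x, (r * s) * x = x * (r * s) := by
      intro x
      rw [← nc_eq_zero, nc_mul_left M, nc_comm r, nc_comm s, hs]
      have : ∀ a : ZMod 2, a + a = 0 := by decide
      exact this _
    have h2 := L.center (r * s) h1
    have h3 : Eqz M (r * s) 1 := by
      rcases h2 with h2 | h2
      · exact Or.inl h2
      · right; rw [mul_one]; exact h2
    have h4 : Eqz M (s * s) 1 := by
      rcases L.sq s with h | h
      · exact Or.inl h
      · right; rw [h, mul_one]
    have h5 := h3.mul (Eqz.refl (M := M) s)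
    rw [mul_assoc, one_mul] at h5
    have h6 := (Eqz.refl (M := M) r).mul h4
    rw [mul_one] at h6
    exact h6.symm.trans h5
  rcases zmod2 i with hi | hi <;> rcases zmod2 j with hj | hj
  · left
    apply key
    intro x
    rw [hij, hi, hj, zero_mul, zero_mul, add_zero]
    exact (nc_eq_zero.mpr (by rw [mul_one, one_mul])).symm
  · right; right; left
    apply key
    intro x
    rw [hij, hi, hj, zero_mul, one_mul, zero_add]
  · right; left
    apply key
    intro x
    rw [hij, hi, hj, zero_mul, one_mul, add_zero]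
  · right; right; right
    apply key
    intro x
    rw [hij, hi, hj, one_mul, one_mul, nc_mul_right M]

/-- If `p` is not in `⟨z, q⟩`, some element commutes with `q` and not with `p`. -/
theorem exists_flip (L : Lift M θ) {p q : P} (hp : ¬ Eqz M p 1) (hpq : ¬ Eqz M p q) :
    ∃ x : P, x * p * x⁻¹ = M.zc * p ∧ x * q * x⁻¹ = q := by
  by_contra hc
  push Not at hc
  have h1 : ∀ x, x * q = q * x → x * q = q * x → x * p = p * x := by
    intro x h _
    rcases M.comm_or x p with h2 | h2
    · exact mul_inv_eq_iff_eq_mul.mp h2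
    · exact absurd (mul_inv_eq_iff_eq_mul.mpr h) (hc x h2)
  have hqq : Eqz M (q * q) 1 := by
    rcases L.sq q with h | h
    · exact Or.inl h
    · right; rw [h, mul_one]
  rcases bicomm L h1 with h | h | h | h
  · exact hp h
  · exact hpq h
  · exact hpq h
  · exact hp (h.trans hqq)

/-! ### Elements of `Co0` fixing the vectors `4 e_i ± 4 e_j` up to signs -/

theorem four_or' : (4 : ℤ) = 4 ∨ (4 : ℤ) = -4 := Or.inl rfl

theorem neg_four_or' : (-4 : ℤ) = 4 ∨ (-4 : ℤ) = -4 := Or.inr rfl

theorem e8_add {i j : GolayPt} (h : i ≠ j) :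
    lv i j 4 4 h four_or' four_or' + lv i j 4 (-4) h four_or' neg_four_or' = e8 i := by
  apply Subtype.ext
  funext k
  show two i j 4 4 k + two i j 4 (-4) k = (Pi.single i 8 : GolayPt → ℤ) k
  by_cases hi : k = i
  · subst hi
    rw [two_left, two_left, Pi.single_eq_same]; norm_num
  · by_cases hj : k = j
    · subst hj
      rw [two_right h, two_right h, Pi.single_eq_of_ne hi]; norm_num
    · rw [two_other hi hj, two_other hi hj, Pi.single_eq_of_ne hi]; norm_num

theorem e8_sub {i j : GolayPt} (h : i ≠ j) :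
    lv i j 4 4 h four_or' four_or' + -lv i j 4 (-4) h four_or' neg_four_or' = e8 j := by
  apply Subtype.ext
  funext k
  show two i j 4 4 k + -(two i j 4 (-4) k) = (Pi.single j 8 : GolayPt → ℤ) k
  by_cases hi : k = i
  · subst hi
    rw [two_left, two_left, Pi.single_eq_of_ne h]; norm_num
  · by_cases hj : k = j
    · subst hj
      rw [two_right h, two_right h, Pi.single_eq_same]; norm_num
    · rw [two_other hi hj, two_other hi hj, Pi.single_eq_of_ne hj]; norm_num

theorem e8_coord (i j : GolayPt) : ((e8 i : leechLattice) : GolayPt → ℤ) j = if j = i then 8 else 0 := by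
  rw [e8_coe, Pi.single_apply]

theorem exists_third (i j : GolayPt) : ∃ k, k ≠ i ∧ k ≠ j := by
  by_contra hc
  push Not at hc
  have h1 : (Finset.univ : Finset GolayPt) ⊆ {i, j} := by
    intro k _
    rw [Finset.mem_insert, Finset.mem_singleton]
    by_cases h : k = i
    · exact Or.inl h
    · exact Or.inr (hc k h)
  have h2 := Finset.card_le_card h1
  have h3 : (Finset.univ : Finset GolayPt).card = 24 := by decide +kernel
  rw [h3] at h2
  have h4 : ({i, j} : Finset GolayPt).card ≤ 2 := Finset.card_le_two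
  omega

section

variable {A : Co0} (hA : ∀ v : leechLattice, Cfsg.Agent.Leech.Min.Type4 (v : GolayPt → ℤ) → A • v = v ∨ A • v = -v)

include hA

theorem smul_lv (i j : GolayPt) (b : ℤ) (h : i ≠ j) (hb : b = 4 ∨ b = -4) :
    A • lv i j 4 b h four_or' hb = lv i j 4 b h four_or' hb ∨
      A • lv i j 4 b h four_or' hb = -lv i j 4 b h four_or' hb :=
  hA _ (Cfsg.Agent.Leech.Trans.type4_two h four_or' hb)

theorem smul_e8_or {i j : GolayPt} (h : i ≠ j) :
    A • e8 i = e8 i ∨ A • e8 i = -e8 i ∨ A • e8 i = e8 j ∨ A • e8 i = -e8 j := by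
  have e1 := e8_add h
  have e2 := e8_sub h
  rw [← e1, ← e2]
  rw [Cfsg.Agent.Leech.Co0Elts.smul_add_co0]
  rcases smul_lv hA i j 4 h four_or' with h1 | h1 <;> rcases smul_lv hA i j (-4) h neg_four_or' with h2 | h2 <;>
    rw [h1, h2]
  · exact Or.inl rfl
  · exact Or.inr (Or.inr (Or.inl rfl))
  · right; right; right; abel
  · right; left; abel

theorem smul_e8 (i : GolayPt) : A • e8 i = e8 i ∨ A • e8 i = -e8 i := by
  obtain ⟨j, hj, -⟩ := exists_third i i
  obtain ⟨k, hk1, hk2⟩ := exists_third i j
  have ne8 : ∀ a b : GolayPt, a ≠ b → e8 a ≠ e8 b ∧ e8 a ≠ -e8 b := by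
    intro a b hab
    constructor
    · intro h
      have := congrArg (fun v : leechLattice => (v : GolayPt → ℤ) a) h
      simp only [e8_coord] at this
      simp [hab] at this
    · intro h
      have := congrArg (fun v : leechLattice => (v : GolayPt → ℤ) a) h
      simp only [AddSubgroup.coe_neg, Pi.neg_apply, e8_coord] at this
      simp [hab] at this
  have h1 := smul_e8_or hA hj.symm
  have h2 := smul_e8_or hA hk1.symm
  rcases h1 with h | h | h | h
  · exact Or.inl h
  · exact Or.inr h
  · rcases h2 with h' | h' | h' | h'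
    · exact absurd (h.symm.trans h') (ne8 j i hj).1
    · exact absurd (h.symm.trans h') (ne8 j i hj).2
    · exact absurd (h.symm.trans h') (ne8 j k hk2.symm).1
    · exact absurd (h.symm.trans h') (ne8 j k hk2.symm).2
  · rcases h2 with h' | h' | h' | h'
    · exact absurd (neg_eq_iff_eq_neg.mp (h.symm.trans h')) (ne8 j i hj).2
    · exact absurd (neg_injective (h.symm.trans h')) (ne8 j i hj).1
    · exact absurd (neg_eq_iff_eq_neg.mp (h.symm.trans h')) (ne8 j k hk2.symm).2
    · exact absurd (neg_injective (h.symm.trans h')) (ne8 j k hk2.symm).1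

theorem smul_e8_same (i j : GolayPt) (hi : A • e8 i = e8 i) : A • e8 j = e8 j := by
  by_cases hij : i = j
  · rw [← hij]; exact hi
  rcases smul_e8 hA j with h | h
  · exact h
  · exfalso
    have e3 : lv i j 4 4 hij four_or' four_or' + lv i j 4 4 hij four_or' four_or' = e8 i + e8 j := by
      rw [← e8_add hij, ← e8_sub hij]; abel
    have h4 := congrArg (fun v => A • v) e3
    simp only [Cfsg.Agent.Leech.Co0Elts.smul_add_co0, hi, h] at h4
    rcases smul_lv hA i j 4 hij four_or' with h1 | h1 <;> rw [h1] at h4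
    · rw [e3] at h4
      have := congrArg (fun v : leechLattice => (v : GolayPt → ℤ) j) h4
      simp only [AddSubgroup.coe_add, AddSubgroup.coe_neg, Pi.add_apply, Pi.neg_apply, e8_coord] at this
      have hji : ¬ j = i := fun h => hij h.symm
      simp [hji] at this
    · rw [← neg_add, e3] at h4
      have := congrArg (fun v : leechLattice => (v : GolayPt → ℤ) i) h4
      simp only [AddSubgroup.coe_add, AddSubgroup.coe_neg, Pi.add_apply, Pi.neg_apply, e8_coord] at this
      simp [hij] at this

/-- An element of `Co0` fixing all vectors `± 4 e_i ± 4 e_j` up to signs is `± 1`. -/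
theorem pm_of_type4 : (∀ v : leechLattice, A • v = v) ∨ (∀ v : leechLattice, A • v = -v) := by
  have key : ∀ s : ℤ, (∀ i, A • e8 i = s • e8 i) → ∀ v : leechLattice, A • v = s • v := by
    intro s hs v
    apply Subtype.ext
    funext j
    have h1 := eight_mul_co0 A v j
    have h2 : ∀ i, ((A • e8 i : leechLattice) : GolayPt → ℤ) j = s * (if j = i then 8 else 0) := by
      intro i
      rw [hs, AddSubgroup.coe_zsmul, Pi.smul_apply, smul_eq_mul, e8_coord]
    simp only [h2] at h1
    rw [Finset.sum_eq_single j] at h1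
    · rw [if_pos rfl] at h1
      rw [AddSubgroup.coe_zsmul, Pi.smul_apply, smul_eq_mul]
      linarith
    · intro i _ hij
      rw [if_neg (fun h => hij h.symm)]; ring
    · intro h; exact absurd (Finset.mem_univ _) h
  rcases smul_e8 hA none with h | h
  · left
    intro v
    have := key 1 (fun i => by rw [one_smul]; exact smul_e8_same hA none i h) v
    rwa [one_smul] at this
  · right
    intro v
    have h2 : ∀ i, A • e8 i = (-1 : ℤ) • e8 i := by
      intro i
      rw [neg_one_smul]
      rcases smul_e8 hA i with h3 | h3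
      · have h4 := smul_e8_same hA i none h3
        rw [h] at h4
        have := congrArg (fun v : leechLattice => (v : GolayPt → ℤ) none) h4
        simp only [AddSubgroup.coe_neg, Pi.neg_apply, e8_coord] at this
        norm_num at this
      · exact h3
    have := key (-1) h2 v
    rwa [neg_one_smul] at this

end

/-! ### The theorem -/

/-- The commutation of elements over two vectors. -/
theorem comm_iff (L : Lift M θ) {x y : P} {v w : leechLattice} (hx : Eqz M x (θ v)) (hy : Eqz M y (θ w)) :
    x * y = y * x ↔ (16 : ℤ) ∣ dot v w := by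
  rw [L.comm]
  have hz : ∀ a b : P, a * (M.zc * b) = M.zc * (a * b) := by
    intro a b; rw [← mul_assoc, ← M.zc_comm, mul_assoc]
  rcases hx with rfl | rfl <;> rcases hy with rfl | rfl
  · rfl
  · rw [hz, mul_assoc, mul_right_inj]
  · rw [hz, mul_assoc, mul_right_inj]
  · rw [hz, hz, mul_assoc, mul_assoc, mul_right_inj, mul_right_inj]

theorem dvd_dot_of_four {v w : leechLattice} (hv : ∀ i, (4 : ℤ) ∣ (v : GolayPt → ℤ) i)
    (hw : ∀ i, (4 : ℤ) ∣ (w : GolayPt → ℤ) i) : (16 : ℤ) ∣ dot v w := by
  show (16 : ℤ) ∣ dotInt (v : GolayPt → ℤ) (w : GolayPt → ℤ)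
  unfold dotInt
  apply Finset.dvd_sum
  intro i _
  have := mul_dvd_mul (hv i) (hw i)
  norm_num at this
  exact this

theorem four_dvd_of_type4 {v : GolayPt → ℤ} (h : Cfsg.Agent.Leech.Min.Type4 v) (i : GolayPt) : (4 : ℤ) ∣ v i := by
  obtain ⟨p, q, hpq, hp, hq, ho⟩ := h
  by_cases hi : i = p
  · subst hi; rcases hp with h | h <;> rw [h] <;> norm_num
  · by_cases hj : i = q
    · subst hj; rcases hq with h | h <;> rw [h] <;> norm_num
    · rw [ho i hi hj]; norm_num

/-- **(m2)** An element of `K` commuting with every element of `K` that commutes with `ι p` and `ι q` is a product of powers of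
`z`, `ι p`, `ι q`. -/
theorem m2 (L : Lift M θ) {p q : P} {v w : leechLattice} (hp : Eqz M p (θ v)) (hq : Eqz M q (θ w))
    (hv : ∀ i, (4 : ℤ) ∣ (v : GolayPt → ℤ) i) (hw : ∀ i, (4 : ℤ) ∣ (w : GolayPt → ℤ) i)
    {k : G} (hk : k ∈ M.K)
    (hc : ∀ x ∈ M.K, x * M.ι p = M.ι p * x → x * M.ι q = M.ι q * x → k * x = x * k) :
    ∃ r : P, k = M.ι r ∧ (Eqz M r 1 ∨ Eqz M r p ∨ Eqz M r q ∨ Eqz M r (p * q)) := by
  have hc' : ∀ x : P, x * p = p * x → x * q = q * x → k * M.ι x = M.ι x * k := by
    intro x h1 h2
    apply hc _ (M.ι_mem x)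
    · rw [← map_mul, ← map_mul, h1]
    · rw [← map_mul, ← map_mul, h2]
  obtain ⟨A, α, T, hA⟩ := M.acts k hk
  have hα : ∀ x : P, x * p = p * x → x * q = q * x → α x = x := by
    intro x h1 h2
    have h3 := hc' x h1 h2
    rw [conj_ι hA] at h3
    exact ι_inj L (mul_right_cancel h3)
  -- the element of `Co0` is `± 1`
  have hpm : (∀ v : leechLattice, A • v = v) ∨ (∀ v : leechLattice, A • v = -v) := by
    apply pm_of_type4
    intro e he
    obtain ⟨x, hx, hex⟩ := M.lam_surj e
      ((Cfsg.Agent.Leech.Min.min_iff _).2 (Or.inl he)).2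
    have hxe : Eqz M x (θ e) := by
      have h1 : Eqz M (θ (M.lam x)) x := L.lam x hx
      rcases hex with h | h
      · rw [h]; exact h1.symm
      · rw [h]; exact h1.symm.trans (θ_neg L _).symm
    have hx4 := four_dvd_of_type4 he
    have h2 := hα x ((comm_iff L hxe hp).2 (dvd_dot_of_four hx4 hv)) ((comm_iff L hxe hq).2 (dvd_dot_of_four hx4 hw))
    have h3 := hA.act_lam x hx
    rw [h2] at h3
    have h4 : A • M.lam x = M.lam x ∨ A • M.lam x = -M.lam x := by
      rcases h3 with h3 | h3
      · exact Or.inl h3.symm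
      · right; rw [h3, neg_neg, ← h3]
    rcases hex with h | h
    · rw [h]; exact h4
    · rw [h, Cfsg.Agent.Leech.Co0Elts.smul_neg_co0]
      rcases h4 with h4 | h4
      · left; rw [h4]
      · right; rw [h4]
  obtain ⟨r, hr⟩ := M.mem_ι_of_trivial k hk (fun v => by
    rw [hA.act_u]
    rcases hpm with h | h
    · rw [h]
    · rw [h, M.u_neg])
  refine ⟨r, hr, bicomm L ?_⟩
  intro x h1 h2
  have h3 := hc' x h1 h2
  rw [hr, ← map_mul, ← map_mul] at h3
  exact (ι_inj L h3).symm

end Cfsg.Agent.MonsterU.PlaneM2
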