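import Cfsg.Prelude.Def_Spor_B
import Cfsg.Prelude.Def_Sporadic
import Cfsg.Agent.Bimonster.Graph
import Cfsg.Agent.MonsterX.MonsterPack

/-!
# The centraliser of a 2A involution of the Monster is a double cover of the presented Baby Monster

`hom`: for elements `y` of a group `G` with `PRel y` (nodes of `Y553`), `f₂ = y 10`, the nodes of `Y433`
commuting with `f₂` give a homomorphism of `Spor.BabyMonster` into every quotient of `C_G(f₂)` in
which `f₂` is trivial.  `cover`: if moreover `C_G(f₂)/⟨f₂⟩` has the order of the Baby Monster, the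
centraliser is a nonsplit double cover of `Spor.BabyMonster`.
-/

set_option autoImplicit false

namespace Cfsg.Agent.MonsterU.BabyCover

open Cfsg.Spor Cfsg.Agent.Bimonster Cfsg.Agent.Bimonster.Tits

/-- the letters of the nodes `t₁, …, t₁₁` -/
def lt : BabyMonster.Gen → ℕ
  | .t1 => 4
  | .t2 => 3
  | .t3 => 2
  | .t4 => 1
  | .t5 => 0
  | .t6 => 6
  | .t7 => 7
  | .t8 => 8
  | .t9 => 11
  | .t10 => 12
  | .t11 => 13

theorem lt_lt (x : BabyMonster.Gen) : lt x < 14 := by cases x <;> decide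

theorem adj_ten (x : BabyMonster.Gen) : adjB (lt x) 10 = false := by cases x <;> decide

theorem label (x y : BabyMonster.Gen) :
    (coxLabel BabyMonster.edges x y = 1 ∧ x = y) ∨
    (coxLabel BabyMonster.edges x y = 2 ∧ adjB (lt x) (lt y) = false) ∨
    (coxLabel BabyMonster.edges x y = 3 ∧ adjB (lt x) (lt y) = true) := by
  cases x <;> cases y <;> decide

variable {G : Type*} [Group G] {y : ℕ → G}

theorem comm_ten (h : PRel y) (x : BabyMonster.Gen) :
    y (lt x) ∈ Subgroup.centralizer ({y 10} : Set G) :=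
  Subgroup.mem_centralizer_singleton_iff.2 (h.cox.cm _ (lt_lt x) 10 (by norm_num) (adj_ten x))

/-- the nodes in the centraliser -/
def nd (h : PRel y) (x : BabyMonster.Gen) : Subgroup.centralizer ({y 10} : Set G) :=
  ⟨y (lt x), comm_ten h x⟩

theorem sq (h : PRel y) (x : BabyMonster.Gen) : nd h x * nd h x = 1 :=
  Subtype.ext (h.cox.sq _ (lt_lt x))

theorem rel_pair (h : PRel y) (x x' : BabyMonster.Gen) :
    (nd h x * nd h x') ^ coxLabel BabyMonster.edges x x' = 1 := by
  rcases label x x' with ⟨h1, h2⟩ | ⟨h1, h2⟩ | ⟨h1, h2⟩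
  · rw [h1, h2, pow_one, sq]
  · have hc : nd h x * nd h x' = nd h x' * nd h x :=
      Subtype.ext (h.cox.cm _ (lt_lt x) _ (lt_lt x') h2)
    rw [h1, pow_two]
    calc nd h x * nd h x' * (nd h x * nd h x') = nd h x * (nd h x' * nd h x) * nd h x' := by group
      _ = nd h x * (nd h x * nd h x') * nd h x' := by rw [hc]
      _ = (nd h x * nd h x) * (nd h x' * nd h x') := by group
      _ = 1 := by rw [sq, sq, one_mul]
  · have hc : nd h x * nd h x' * nd h x = nd h x' * nd h x * nd h x' :=
      Subtype.ext (h.cox.br _ (lt_lt x) _ (lt_lt x') h2)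
    rw [h1, pow_succ, pow_two]
    calc nd h x * nd h x' * (nd h x * nd h x') * (nd h x * nd h x')
        = (nd h x * nd h x' * nd h x) * (nd h x' * nd h x * nd h x') := by group
      _ = (nd h x' * nd h x * nd h x') * (nd h x' * nd h x * nd h x') := by rw [hc]
      _ = nd h x' * nd h x * (nd h x' * nd h x') * nd h x * nd h x' := by group
      _ = nd h x' * (nd h x * nd h x) * nd h x' := by rw [sq]; group
      _ = 1 := by rw [sq, mul_one, sq]

/-- the node `f₂` in its centraliser -/
def ten (y : ℕ → G) : Subgroup.centralizer ({y 10} : Set G) :=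
  ⟨y 10, Subgroup.mem_centralizer_singleton_iff.2 rfl⟩

theorem rel_spider (h : PRel y) :
    (nd h .t5 * nd h .t4 * nd h .t3 * nd h .t5 * nd h .t6 * nd h .t7 * nd h .t5 * nd h .t9 *
      nd h .t10) ^ 10 = 1 := by
  apply Subtype.ext
  have h1 := h.spider
  simp only [spW, ev_cons, ev_nil, mul_one] at h1
  refine Eq.trans ?_ h1
  simp only [nd, lt, Subgroup.coe_pow, Subgroup.coe_mul, mul_assoc]

/-- `a b₁ c₁ b₂ c₂ d₂ b₃` and the word `f2a` are equal -/
theorem cox_two (h : PRel y) :
    y 0 * y 1 * y 2 * y 6 * y 7 * y 8 * y 11 = ev y f2a := by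
  have c1 : y 1 * y 6 = y 6 * y 1 := h.cox.cm 1 (by norm_num) 6 (by norm_num) (by decide)
  have c2 : y 2 * y 6 = y 6 * y 2 := h.cox.cm 2 (by norm_num) 6 (by norm_num) (by decide)
  have c3 : y 2 * y 7 = y 7 * y 2 := h.cox.cm 2 (by norm_num) 7 (by norm_num) (by decide)
  have c4 : y 8 * y 11 = y 11 * y 8 := h.cox.cm 8 (by norm_num) 11 (by norm_num) (by decide)
  have c5 : y 7 * y 11 = y 11 * y 7 := h.cox.cm 7 (by norm_num) 11 (by norm_num) (by decide)
  have c6 : y 2 * y 11 = y 11 * y 2 := h.cox.cm 2 (by norm_num) 11 (by norm_num) (by decide)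
  simp only [f2a, ev_cons, ev_nil, mul_one]
  -- goal: y0 y1 y2 y6 y7 y8 y11 = y0 y6 y1 y11 y7 y2 y8
  calc y 0 * y 1 * y 2 * y 6 * y 7 * y 8 * y 11
      = y 0 * y 1 * (y 2 * y 6) * y 7 * (y 8 * y 11) := by simp only [mul_assoc]
    _ = y 0 * (y 1 * y 6) * (y 2 * y 7) * y 11 * y 8 := by rw [c2, c4]; simp only [mul_assoc]
    _ = y 0 * (y 6 * y 1) * (y 7 * (y 2 * y 11)) * y 8 := by rw [c1, c3]; simp only [mul_assoc]
    _ = y 0 * (y 6 * y 1) * ((y 7 * y 11) * y 2) * y 8 := by rw [c6]; simp only [mul_assoc]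
    _ = y 0 * (y 6 * (y 1 * (y 11 * (y 7 * (y 2 * y 8))))) := by rw [c5]; simp only [mul_assoc]

/-- `a b₁ c₁ b₂ b₃ c₃ d₃` and the word `f3a` are equal -/
theorem cox_three (h : PRel y) :
    y 0 * y 1 * y 2 * y 6 * y 11 * y 12 * y 13 = ev y f3a := by
  have c1 : y 1 * y 11 = y 11 * y 1 := h.cox.cm 1 (by norm_num) 11 (by norm_num) (by decide)
  have c2 : y 2 * y 11 = y 11 * y 2 := h.cox.cm 2 (by norm_num) 11 (by norm_num) (by decide)
  have c3 : y 6 * y 11 = y 11 * y 6 := h.cox.cm 6 (by norm_num) 11 (by norm_num) (by decide)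
  have c4 : y 2 * y 6 = y 6 * y 2 := h.cox.cm 2 (by norm_num) 6 (by norm_num) (by decide)
  have c5 : y 2 * y 12 = y 12 * y 2 := h.cox.cm 2 (by norm_num) 12 (by norm_num) (by decide)
  simp only [f3a, ev_cons, ev_nil, mul_one]
  -- goal: y0 y1 y2 y6 y11 y12 y13 = y0 y11 y1 y6 y12 y2 y13
  calc y 0 * y 1 * y 2 * y 6 * y 11 * y 12 * y 13
      = y 0 * y 1 * y 2 * (y 6 * y 11) * y 12 * y 13 := by simp only [mul_assoc]
    _ = y 0 * y 1 * (y 2 * y 11) * y 6 * y 12 * y 13 := by rw [c3]; simp only [mul_assoc]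
    _ = y 0 * (y 1 * y 11) * (y 2 * y 6) * y 12 * y 13 := by rw [c2]; simp only [mul_assoc]
    _ = y 0 * (y 11 * y 1) * y 6 * (y 2 * y 12) * y 13 := by rw [c1, c4]; simp only [mul_assoc]
    _ = y 0 * (y 11 * (y 1 * (y 6 * (y 12 * (y 2 * y 13))))) := by rw [c5]; simp only [mul_assoc]

theorem rel_two (h : PRel y) :
    (nd h .t5 * nd h .t4 * nd h .t3 * nd h .t6 * nd h .t7 * nd h .t8 * nd h .t9) ^ 9 = ten y := by
  apply Subtype.ext
  have h1 := h.f2a
  rw [← cox_two h] at h1
  exact h1.symm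

theorem rel_three (h : PRel y) :
    (nd h .t5 * nd h .t4 * nd h .t3 * nd h .t6 * nd h .t9 * nd h .t10 * nd h .t11) ^ 9 = 1 := by
  apply Subtype.ext
  have h1 := h.f3a
  rw [← cox_three h] at h1
  exact h1

variable {K : Type*} [Group K]

/-- the relators of the Baby Monster hold modulo `f₂` -/
theorem relators (h : PRel y) (π : Subgroup.centralizer ({y 10} : Set G) →* K)
    (hπ : π (ten y) = 1) :
    ∀ r ∈ coxRelators BabyMonster.edges ∪ {r | r ∈ BabyMonster.extra},
      FreeGroup.lift (fun x => π (nd h x)) r = 1 := by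
  rintro r (⟨x, -, x', -, rfl⟩ | hr)
  · rw [map_pow, map_mul, FreeGroup.lift_apply_of, FreeGroup.lift_apply_of, ← map_mul, ← map_pow,
      rel_pair, map_one]
  · simp only [BabyMonster.extra, Set.mem_ofPred_eq, List.mem_cons, List.not_mem_nil, or_false] at hr
    rcases hr with rfl | rfl | rfl
    · simp only [map_pow, map_mul, FreeGroup.lift_apply_of]
      simp only [← map_mul, ← map_pow]
      rw [rel_spider, map_one]
    · simp only [map_pow, map_mul, FreeGroup.lift_apply_of]
      simp only [← map_mul, ← map_pow]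
      rw [rel_two, hπ]
    · simp only [map_pow, map_mul, FreeGroup.lift_apply_of]
      simp only [← map_mul, ← map_pow]
      rw [rel_three, map_one]

/-- the homomorphism of the presented Baby Monster -/
def hom (h : PRel y) (π : Subgroup.centralizer ({y 10} : Set G) →* K) (hπ : π (ten y) = 1) :
    Spor.BabyMonster →* K :=
  PresentedGroup.toGroup (relators h π hπ)

theorem hom_of (h : PRel y) (π : Subgroup.centralizer ({y 10} : Set G) →* K) (hπ : π (ten y) = 1)
    (x : BabyMonster.Gen) : hom h π hπ (PresentedGroup.of x) = π (nd h x) :=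
  PresentedGroup.toGroup.of (relators h π hπ)

section cover

open Subgroup Cfsg.Agent.MonsterX.BabyQuot Cfsg.Agent.MonsterX.MonsterPack

variable {G : Type*} [Group G] [Finite G] {z : G} {Q : Subgroup G} {y : ℕ → G}

/-- **The centraliser of a 2A involution is a double cover of the presented Baby Monster.** -/
theorem mulEquiv (hP : PRel y) (h : BabyHyp z (y 10) Q)
    (hcard : Nat.card h.Quot = Nat.card Spor.BabyMonster)
    (hB : IsSimpleGroup Spor.BabyMonster) (hne : y 0 ≠ y 1) :
    Nonempty (Spor.BabyMonster ≃* h.Quot) := by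
  have hπ : h.pr (ten y) = 1 := h.pr_eq_one.2 (Or.inr rfl)
  set φ := hom hP h.pr hπ with hφ
  have hker : φ.ker ≠ ⊤ := by
    intro htop
    have h0 : ∀ x : BabyMonster.Gen, y (lt x) = 1 ∨ y (lt x) = y 10 := by
      intro x
      have h1 : φ (PresentedGroup.of x) = 1 := by
        rw [← MonoidHom.mem_ker, htop]
        exact mem_top _
      rw [hφ, hom_of, h.pr_eq_one] at h1
      exact h1
    have hc : y 0 * y 1 = y 1 * y 0 := by
      rcases h0 .t5 with h1 | h1 <;> rcases h0 .t4 with h2 | h2 <;>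
        simp only [lt] at h1 h2 <;> rw [h1, h2]
      · rw [one_mul, mul_one]
      · rw [one_mul, mul_one]
    have hb := hP.cox.br 0 (by norm_num) 1 (by norm_num) (by decide)
    have h00 := hP.cox.sq 0 (by norm_num)
    have h11 := hP.cox.sq 1 (by norm_num)
    apply hne
    have h3 : y 0 * y 1 * y 0 = y 1 := by rw [hc, mul_assoc, h00, mul_one]
    have h4 : y 1 * y 0 * y 1 = y 0 := by rw [← hc, mul_assoc, h11, mul_one]
    rw [h3, h4] at hb
    exact hb.symm
  have hinj : Function.Injective φ := by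
    rw [← MonoidHom.ker_eq_bot_iff]
    rcases hB.eq_bot_or_eq_top_of_normal φ.ker inferInstance with h1 | h1
    · exact h1
    · exact absurd h1 hker
  have : Finite h.Quot := inferInstance
  have hbij : Function.Bijective φ := by
    have : Finite Spor.BabyMonster := Finite.of_injective φ hinj
    exact (Nat.bijective_iff_injective_and_card φ).2 ⟨hinj, hcard.symm⟩
  exact ⟨MulEquiv.ofBijective φ hbij⟩

theorem cover {G : Type*} [Group G] [Finite G] {z : G} {Q : Subgroup G} {y : ℕ → G}
    (hP : PRel y) (h : BabyHyp z (y 10) Q)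
    (hsq : h.tH ∈ closure {x : centralizer ({y 10} : Set G) | ∃ y, x = y * y})
    (hcard : Nat.card (centralizer ({y 10} : Set G)) = 2 * 4154781481226426191177580544000000)
    (hB : Cfsg.IsB Spor.BabyMonster) (hne : y 0 ≠ y 1) :
    Cfsg.IsNonsplitDoubleCover (Subgroup.centralizer ({y 10} : Set G)) Spor.BabyMonster := by
  have hZ : Nat.card (center (centralizer ({y 10} : Set G))) = 2 := by
    rw [h.center_eq, Nat.card_zpowers]
    apply orderOf_eq_prime
    · rw [pow_two]; exact Subtype.ext h.tt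
    · intro h1; exact h.t1 (congrArg Subtype.val h1)
  have hq : Nat.card h.Quot * 2 = Nat.card (centralizer ({y 10} : Set G)) := by
    have h1 := card_eq_card_quotient_mul_card_subgroup (zpowers h.tH)
    rw [h1, ← hZ, h.center_eq]
  obtain ⟨e⟩ := mulEquiv hP h (by rw [hB.2]; rw [hcard] at hq; omega) hB.1 hne
  exact isNonsplit_of hZ ((QuotientGroup.quotientMulEquivOfEq h.center_eq).trans e.symm)
    (c := h.tH) (by rw [h.center_eq]; exact mem_zpowers _)
    (fun h1 => h.t1 (congrArg Subtype.val h1)) hsq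

end cover

end Cfsg.Agent.MonsterU.BabyCover
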