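import Mathlib
import Cfsg.Prelude.Def_Sporadic
import Cfsg.Prelude.Def_SporadicB

/-!
# Transport of the conclusions of S1648, S1647 along an isomorphism
-/

set_option autoImplicit false

open scoped Pointwise

namespace Cfsg.Agent.MonsterU.Transfer

variable {G H : Type*} [Group G] [Group H]

theorem isM (e : G ≃* H) (h : Cfsg.IsM H) : Cfsg.IsM G := by
  obtain ⟨h1, h2⟩ := h
  exact ⟨MulEquiv.isSimpleGroup e, by rw [Nat.card_congr e.toEquiv, h2]⟩

/-- `G` has exactly two conjugacy classes of involutions (form of S1648) -/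
def TwoClasses (G : Type*) [Group G] : Prop :=
  ∃ x y : G, orderOf x = 2 ∧ orderOf y = 2 ∧ ¬ IsConj x y ∧
    ∀ z : G, orderOf z = 2 → IsConj z x ∨ IsConj z y

theorem isConj_iff_equiv (e : G ≃* H) (x y : G) : IsConj x y ↔ IsConj (e x) (e y) := by
  rw [isConj_iff, isConj_iff]
  constructor
  · rintro ⟨c, hc⟩
    exact ⟨e c, by rw [← hc]; simp⟩
  · rintro ⟨c, hc⟩
    exact ⟨e.symm c, by apply e.injective; simpa using hc⟩

theorem twoClasses (e : G ≃* H) (h : TwoClasses H) : TwoClasses G := by
  obtain ⟨x, y, hx, hy, hxy, hall⟩ := h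
  refine ⟨e.symm x, e.symm y, ?_, ?_, ?_, ?_⟩
  · rw [← hx]
    exact orderOf_injective e.symm.toMonoidHom e.symm.injective x
  · rw [← hy]
    exact orderOf_injective e.symm.toMonoidHom e.symm.injective y
  · rw [isConj_iff_equiv e]
    simpa using hxy
  · intro z hz
    have h1 : orderOf (e z) = 2 := by
      rw [← hz]
      exact orderOf_injective e.toMonoidHom e.injective z
    rw [isConj_iff_equiv e z, isConj_iff_equiv e z]
    simpa using hall (e z) h1

/-- isomorphic groups: centres correspond -/
theorem map_center {A B : Type*} [Group A] [Group B] (e : A ≃* B) :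
    (Subgroup.center A).map e.toMonoidHom = Subgroup.center B := by
  ext b
  rw [Subgroup.mem_map]
  constructor
  · rintro ⟨a, ha, rfl⟩
    rw [Subgroup.mem_center_iff] at ha ⊢
    intro c
    have h1 := congrArg e (ha (e.symm c))
    simpa using h1
  · intro hb
    refine ⟨e.symm b, ?_, by simp⟩
    rw [Subgroup.mem_center_iff] at hb ⊢
    intro c
    have h1 := congrArg e.symm (hb (e c))
    simpa using h1

theorem isNonsplitDoubleCover {A B K : Type*} [Group A] [Group B] [Group K] (e : A ≃* B)
    (h : Cfsg.IsNonsplitDoubleCover B K) : Cfsg.IsNonsplitDoubleCover A K := by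
  obtain ⟨h1, ⟨f⟩, h3⟩ := h
  refine ⟨?_, ?_, ?_⟩
  · rw [← h1, ← map_center e]
    exact (Subgroup.card_map_of_injective e.injective).symm
  · exact ⟨(QuotientGroup.congr (Subgroup.center A) (Subgroup.center B) e (map_center e)).trans f⟩
  · intro L hL
    apply h3 (L.map e.toMonoidHom)
    rw [← map_center e]
    refine Subgroup.isComplement'_of_disjoint_and_mul_eq_univ
      ((Subgroup.disjoint_map e.injective) hL.disjoint) ?_
    rw [Set.eq_univ_iff_forall]
    intro b
    have h4 : e.symm b ∈ (Subgroup.center A : Set A) * (L : Set A) := by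
      rw [hL.mul_eq]
      exact Set.mem_univ _
    obtain ⟨c, hc, l, hl, hcl⟩ := Set.mem_mul.1 h4
    exact Set.mem_mul.2 ⟨e c, Subgroup.mem_map_of_mem _ hc, e l, Subgroup.mem_map_of_mem _ hl,
      by rw [← map_mul, hcl]; simp⟩

/-- centralisers of corresponding elements are isomorphic -/
noncomputable def centralizerEquiv (e : G ≃* H) (x : H) :
    Subgroup.centralizer ({e.symm x} : Set G) ≃* Subgroup.centralizer ({x} : Set H) where
  toFun c := ⟨e c, by
    rw [Subgroup.mem_centralizer_singleton_iff]
    have h := Subgroup.mem_centralizer_singleton_iff.1 c.2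
    have h2 := congrArg e h
    simpa using h2⟩
  invFun c := ⟨e.symm c, by
    rw [Subgroup.mem_centralizer_singleton_iff]
    have h := Subgroup.mem_centralizer_singleton_iff.1 c.2
    have h2 := congrArg e.symm h
    simpa using h2⟩
  left_inv c := by ext; simp
  right_inv c := by ext; simp
  map_mul' c d := by ext; simp

theorem exists_cover {K : Type*} [Group K] (e : G ≃* H)
    (h : ∃ x : H, orderOf x = 2 ∧
      Cfsg.IsNonsplitDoubleCover (Subgroup.centralizer ({x} : Set H)) K) :
    ∃ x : G, orderOf x = 2 ∧ Cfsg.IsNonsplitDoubleCover (Subgroup.centralizer ({x} : Set G)) K := by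
  obtain ⟨x, hx, hc⟩ := h
  refine ⟨e.symm x, ?_, isNonsplitDoubleCover (centralizerEquiv e x) hc⟩
  rw [← hx]
  exact orderOf_injective e.symm.toMonoidHom e.symm.injective x

end Cfsg.Agent.MonsterU.Transfer
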