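import Cfsg.Agent.MonsterU.ClosingModel
import Cfsg.Agent.MonsterU.Transfer
import Cfsg.Agent.MonsterU.BabyCover
import Cfsg.Prelude.Def_Spor_M
import Cfsg.Prelude.Def_Spor_Conway
import Cfsg.Prelude.Def_Transfer

/-!
# Assembly of S1648, S1647, S1673

`All M K₀`: the facts about the `196884`-dimensional model `M`.  `Lit G`: the literal hypotheses of
S1673 (also S1647, S1648) for a group `G`.  `EmbSt M`: every finite simple group satisfying them contains
a copy of `M.G` containing the centraliser of the involution.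

* `uniq` : `Lit G → Nonempty (G ≃* M.G)`
* `s1648`, `s1647`, `s1673`
-/

set_option autoImplicit false

namespace Cfsg.Agent.MonsterU.Assembly

open Cfsg.Agent.MonsterX.Model Cfsg.Agent.MonsterX.MainPack Cfsg.Agent.MonsterX.MainSimple
  Cfsg.Agent.MonsterX.MainBasic

/-- The facts about the model. -/
structure All {W : Type} [AddCommGroup W] [Module ℚ W] (M : MData W) (K₀ : Type) [Group K₀] : Prop where
  hG : MGroup M K₀
  hR : MRep M
  hL : MLat M
  hO : MOrbit M
  hT : MTrans M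
  hB : MBaby M
  /-- `z` fixes the representative of the second orbit of axes -/
  hz₁ : M.z (M.d M.j₁) = M.d M.j₁
  /-- the two classes of involutions -/
  classes : ∀ u : M.G, u * u = 1 → u ≠ 1 → (∃ h : M.G, h * zG hG * h⁻¹ = u) ∨
      ∃ h : M.G, h * tG hG hR * h⁻¹ = u

variable {W : Type} [AddCommGroup W] [Module ℚ W] {M : MData W} {K₀ : Type} [Group K₀]

/-- The literal hypotheses. -/
def Lit (G : Type*) [Group G] : Prop :=
  ∃ (y : G) (_ : orderOf y = 2) (Q : Subgroup (Subgroup.centralizer ({y} : Set G))) (_ : Q.Normal),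
    Cfsg.IsExtraspecial 2 Q ∧ Nat.card Q = 2 ^ 25 ∧
    (∃ E : Subgroup Q, Cfsg.IsElementaryAbelian 2 E ∧ Nat.card E = 2 ^ 13) ∧
    Subgroup.centralizer (Q : Set (Subgroup.centralizer ({y} : Set G))) ≤ Q ∧
    Cfsg.Spor.IsoCo1 ((Subgroup.centralizer ({y} : Set G)) ⧸ Q)

/-- The embedding statement. -/
def EmbSt.{u} (M : MData W) (hG : MGroup M K₀) : Prop :=
  ∀ (G : Type u) [Group G] [Finite G] [IsSimpleGroup G], Lit G →
    ∃ φ : M.G →* G, Function.Injective φ ∧ ∀ g : G, g * φ (zG hG) = φ (zG hG) * g → g ∈ φ.range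

/-- `BabyCover.cover` for a given involution -/
theorem cover_aux {Γ : Type*} [Group Γ] [Finite Γ] {z t : Γ} {Q : Subgroup Γ} {y : ℕ → Γ}
    (hP : Cfsg.Agent.Bimonster.PRel y) (ht : y 10 = t) (h : Cfsg.Agent.MonsterX.BabyQuot.BabyHyp z t Q)
    (hsq : h.tH ∈ Subgroup.closure {x : Subgroup.centralizer ({t} : Set Γ) | ∃ y, x = y * y})
    (hcard : Nat.card (Subgroup.centralizer ({t} : Set Γ)) = 2 * 4154781481226426191177580544000000)
    (hB : Cfsg.IsB Cfsg.Spor.BabyMonster) (hne : y 0 ≠ y 1) :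
    Cfsg.IsNonsplitDoubleCover (Subgroup.centralizer ({t} : Set Γ)) Cfsg.Spor.BabyMonster := by
  subst ht
  exact BabyCover.cover hP h hsq hcard hB hne

namespace All

variable (A : All M K₀)
include A

/-- from an embedding to an isomorphism -/
theorem equiv_of_embed {G : Type*} [Group G] [Finite G] [IsSimpleGroup G] (φ : M.G →* G)
    (hφ : Function.Injective φ) (hC : ∀ g : G, g * φ (zG A.hG) = φ (zG A.hG) * g → g ∈ φ.range) :
    Nonempty (G ≃* M.G) := by
  have h := ClosingModel.range_eq_top A.hG A.hR A.hL A.hO A.hT A.hB A.hz₁ A.classes φ hφ hC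
  exact ⟨(MulEquiv.ofBijective φ ⟨hφ, MonoidHom.range_eq_top.1 h⟩).symm⟩

/-- uniqueness -/
theorem uniq.{u} (E : EmbSt.{u} M A.hG) {G : Type u} [Group G] [Finite G] [IsSimpleGroup G] (h : Lit G) :
    Nonempty (G ≃* M.G) := by
  obtain ⟨φ, hφ, hC⟩ := E G h
  exact A.equiv_of_embed φ hφ hC

theorem isM : Cfsg.IsM M.G := Cfsg.Agent.MonsterX.MainSimple.isM A.hG A.hR A.hL A.hO A.hT

/-- the model has exactly two classes of involutions -/
theorem twoClasses : Transfer.TwoClasses M.G := by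
  have hf := babyHyp A.hG A.hR A.hL A.hO A.hT A.hB
  have hz2 : orderOf (zG A.hG) = 2 := orderOf_z A.hG
  have ht2 : orderOf (tG A.hG A.hR) = 2 := by
    apply orderOf_eq_prime
    · rw [pow_two]; exact hf.tt
    · exact hf.t1
  refine ⟨zG A.hG, tG A.hG A.hR, hz2, ht2, ?_, ?_⟩
  · intro hc
    obtain ⟨g, hg⟩ := isConj_iff.1 hc
    have := (ClosingModel.inner A.hG A.hR A.hL A.hO A.hT A.hB A.hz₁ A.classes).card
    apply this
    rw [← hg, ClosingModel.card_cent_conj]
  · intro u hu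
    have hu1 : u ≠ 1 := by
      rintro rfl
      rw [orderOf_one] at hu
      exact absurd hu (by norm_num)
    have huu : u * u = 1 := by rw [← pow_two, ← hu, pow_orderOf_eq_one]
    rcases A.classes u huu hu1 with ⟨g, hg⟩ | ⟨g, hg⟩
    · left
      exact (isConj_iff.2 ⟨g, hg⟩).symm
    · right
      exact (isConj_iff.2 ⟨g, hg⟩).symm

/-- the centraliser of a 2A involution -/
theorem cover {y : ℕ → M.G} (hP : Cfsg.Agent.Bimonster.PRel y) (hne : y 0 ≠ y 1)
    (hy : ∃ g : M.G, g * tG A.hG A.hR * g⁻¹ = y 10) (hB : Cfsg.IsB Cfsg.Spor.BabyMonster) :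
    ∃ x : M.G, orderOf x = 2 ∧
      Cfsg.IsNonsplitDoubleCover (Subgroup.centralizer ({x} : Set M.G)) Cfsg.Spor.BabyMonster := by
  have := G_finite A.hO
  have h := babyHyp A.hG A.hR A.hL A.hO A.hT A.hB
  obtain ⟨g, hg⟩ := hy
  -- conjugate the nodes
  have hP' : Cfsg.Agent.Bimonster.PRel (fun i => (MulAut.conj g⁻¹).toMonoidHom (y i)) := hP.map _
  have h10 : (MulAut.conj g⁻¹).toMonoidHom (y 10) = tG A.hG A.hR := by
    show g⁻¹ * y 10 * g⁻¹⁻¹ = _
    rw [← hg]; group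
  have ht2 : orderOf (tG A.hG A.hR) = 2 := by
    apply orderOf_eq_prime
    · rw [pow_two]; exact h.tt
    · exact h.t1
  refine ⟨tG A.hG A.hR, ht2, ?_⟩
  have hsq : h.tH ∈ Subgroup.closure
      {x : Subgroup.centralizer ({tG A.hG A.hR} : Set M.G) | ∃ y, x = y * y} := by
    obtain ⟨a, ha, hat, c, hc, hct, e⟩ := A.hB.sq
    let a' : Subgroup.centralizer ({tG A.hG A.hR} : Set M.G) :=
      ⟨⟨a, C_le ha⟩, (mem_cent_t_iff A.hG A.hR _).2 hat⟩
    let c' : Subgroup.centralizer ({tG A.hG A.hR} : Set M.G) :=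
      ⟨⟨c, C_le hc⟩, (mem_cent_t_iff A.hG A.hR _).2 hct⟩
    have e' : h.tH = a' * (c' * a' * c'⁻¹) := Subtype.ext (Subtype.ext e)
    rw [e']
    exact Cfsg.Agent.MonsterX.MonsterPack.mul_conj_mem_closure_sq a' c'
  exact cover_aux hP' h10 h hsq (card_cent_t A.hG A.hR A.hL A.hO A.hT) hB
    (fun e => hne ((MulAut.conj g⁻¹).injective e))

end All

/-- **S1648 from the model.** -/
theorem s1648.{u} (A : All M K₀) (E : EmbSt.{u} M A.hG) {G : Type u} [Group G] [Finite G] [IsSimpleGroup G]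
    (h : Lit G) : Cfsg.IsM G ∧ ∃ x y : G, orderOf x = 2 ∧ orderOf y = 2 ∧ ¬ IsConj x y ∧
      ∀ z : G, orderOf z = 2 → IsConj z x ∨ IsConj z y := by
  obtain ⟨e⟩ := A.uniq E h
  exact ⟨Transfer.isM e A.isM, Transfer.twoClasses e A.twoClasses⟩

/-- **S1647 from the model.** -/
theorem s1647.{u} (A : All M K₀) (E : EmbSt.{u} M A.hG) {y : ℕ → M.G} (hP : Cfsg.Agent.Bimonster.PRel y)
    (hne : y 0 ≠ y 1) (hy : ∃ g : M.G, g * tG A.hG A.hR * g⁻¹ = y 10)
    (hB : Cfsg.IsB Cfsg.Spor.BabyMonster) {G : Type u} [Group G] [Finite G] [IsSimpleGroup G] (h : Lit G) :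
    ∃ x : G, orderOf x = 2 ∧
      Cfsg.IsNonsplitDoubleCover (Subgroup.centralizer ({x} : Set G)) Cfsg.Spor.BabyMonster := by
  obtain ⟨e⟩ := A.uniq E h
  exact Transfer.exists_cover e (A.cover hP hne hy hB)

/-- **S1673 from the model.** -/
theorem s1673.{u} (A : All M K₀) (E : EmbSt.{u} M A.hG) (hM : Nonempty (M.G ≃* Cfsg.Spor.Monster))
    {G : Type u} [Group G] [Finite G] [IsSimpleGroup G] (h : Lit G) : Cfsg.Spor.IsoM G := by
  obtain ⟨e⟩ := A.uniq E h
  obtain ⟨f⟩ := hM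
  exact ⟨e.trans f⟩

end Cfsg.Agent.MonsterU.Assembly
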