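import Cfsg.Agent.MonsterU.InvPairQ

/-!
The classes of involutions of the centraliser in `Γ` of a short element `t`.
-/

set_option autoImplicit false

namespace Cfsg.Agent.MonsterU.InvPair

open Cfsg Cfsg.Agent.LeechMat.Core Cfsg.Agent.MonsterX.KSide Cfsg.Agent.MonsterX.KLift
open Cfsg.Agent.MonsterX.FrameKS Cfsg.Agent.MonsterU.InvTwo
open Cfsg.Agent.MonsterX.KModel
open Cfsg.Agent.MonsterU.Lam2 Cfsg.Agent.MonsterU.TwoCls Cfsg.Agent.MonsterU.TwoQ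
open Cfsg.Agent.SporadicStructure.Co0Base (e8 e8_coe)
open Cfsg.Agent.SporadicA.Co0Mono (signCo0 permCo0 permCo0_smul)
open Cfsg.Agent.MonsterU.InvTwoLat (isEps_sign exists_trace exists_trace_fun coe_add coe_sub coe_neg coe_two IsEps)
open Cfsg.Agent.Leech.Basic (chi chi_mem chi_not_mem)
open Cfsg.Agent.Leech.Min
open Cfsg.Agent.SporadicA.Co1Simple
open Cfsg.Agent.CoOneType.ClosingFacts Cfsg.Agent.CoOneType.SignFacts
open scoped Pointwise

/-! ### A lattice fact -/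

/-- Two vectors of shape `(±2)^8` are conjugate under an element fixing the class of the frame. -/
theorem exists_mono {v w : leechLattice} (hv : Type2 (v : GolayPt → ℤ)) (hw : Type2 (w : GolayPt → ℤ)) :
    ∃ A : Co0, A • cl v = cl w ∧ A • cl (e8 none) = cl (e8 none) := by
  classical
  obtain ⟨A, hA, hv2, hv0, hvev⟩ := id hv
  obtain ⟨B, hB, hw2, hw0, hwev⟩ := hw
  obtain ⟨σ₁, hσ₁, e1⟩ := Cfsg.Agent.SporadicStructure.MonoPerms.exists_M24_octad hA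
  obtain ⟨σ₂, hσ₂, e2⟩ := Cfsg.Agent.SporadicStructure.MonoPerms.exists_M24_octad hB
  let σ : M24 := ⟨σ₂ * σ₁⁻¹, M24.mul_mem hσ₂ (M24.inv_mem hσ₁)⟩
  have hσA : (σ : Equiv.Perm GolayPt) • A = B := by
    show (σ₂ * σ₁⁻¹) • A = B
    rw [mul_smul, ← e1, inv_smul_smul, e2]
  set v₁ := permCo0 σ • v with hv₁
  have hc : ∀ i, (v₁ : GolayPt → ℤ) i = (v : GolayPt → ℤ) ((σ : Equiv.Perm GolayPt).symm i) := by
    intro i
    rw [hv₁, permCo0_smul]; rfl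
  have hn : sqNorm (v₁ : GolayPt → ℤ) = 32 := by
    rw [hv₁, Cfsg.Agent.LeechMat.Core.co0_sqNorm]
    exact sqNorm_of_type2 hv
  have hmem : ∀ i, i ∈ B ↔ (σ : Equiv.Perm GolayPt).symm i ∈ A := by
    intro i
    rw [← hσA, ← Finset.inv_smul_mem_iff]; rfl
  have hv₁2 : ∀ i ∈ B, (v₁ : GolayPt → ℤ) i = 2 ∨ (v₁ : GolayPt → ℤ) i = -2 := by
    intro i hi
    rw [hc]; exact hv2 _ ((hmem i).1 hi)
  have hv₁0 : ∀ i, i ∉ B → (v₁ : GolayPt → ℤ) i = 0 := by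
    intro i hi
    rw [hc]; exact hv0 _ fun h => hi ((hmem i).2 h)
  obtain ⟨b₀, hb₀⟩ : B.Nonempty := by rw [← Finset.card_pos, hB.2]; norm_num
  have hT : Type2 (v₁ : GolayPt → ℤ) := by
    rcases (min_iff _).1 ⟨v₁.2, hn⟩ with h | h | h
    · exfalso
      obtain ⟨p, q, -, hp, hq, hz⟩ := h
      by_cases h1 : b₀ = p
      · rcases hv₁2 b₀ hb₀ with h2 | h2 <;> rcases hp with h3 | h3 <;> rw [← h1, h2] at h3 <;> norm_num at h3
      · by_cases h1' : b₀ = q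
        · rcases hv₁2 b₀ hb₀ with h2 | h2 <;> rcases hq with h3 | h3 <;> rw [← h1', h2] at h3 <;> norm_num at h3
        · have h4 := hz b₀ h1 h1'
          rcases hv₁2 b₀ hb₀ with h2 | h2 <;> rw [h2] at h4 <;> norm_num at h4
    · exact h
    · exfalso
      have h1 := type3_odd h b₀
      rcases hv₁2 b₀ hb₀ with h2 | h2 <;> rw [h2] at h1 <;> norm_num at h1
  have hev₁ : Even (B.filter fun i => (v₁ : GolayPt → ℤ) i = -2).card := by
    obtain ⟨B', hB', h2', h0', hev'⟩ := hT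
    have : B' = B := by
      ext i
      constructor
      · intro hi
        by_contra h
        have h1 := hv₁0 i h
        rcases h2' i hi with h2 | h2 <;> rw [h2] at h1 <;> norm_num at h1
      · intro hi
        by_contra h
        have h1 := h0' i h
        rcases hv₁2 i hi with h2 | h2 <;> rw [h2] at h1 <;> norm_num at h1
    rwa [this] at hev'
  obtain ⟨C, hC, hCf⟩ := exists_trace_fun hB (fun m => (if (v₁ : GolayPt → ℤ) m = -2 then 1 else 0) +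
    (if (w : GolayPt → ℤ) m = -2 then 1 else 0)) (by
      rw [Finset.sum_add_distrib, ← Finset.sum_filter, ← Finset.sum_filter, Finset.sum_const,
        Finset.sum_const]
      obtain ⟨k, hk⟩ := hev₁
      obtain ⟨l, hl⟩ := hwev
      rw [hk, hl]
      simp only [nsmul_eq_mul]
      push_cast
      omega)
  obtain ⟨c', hc', hcs⟩ := hC
  have hε : IsEps (signCo0 ⟨c', hc'⟩) C := by
    have := isEps_sign ⟨c', hc'⟩
    rwa [show support₂ (((⟨c', hc'⟩ : golayCode)) : GolayPt → ZMod 2) = C from hcs] at this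
  refine ⟨signCo0 ⟨c', hc'⟩ * permCo0 σ, ?_, ?_⟩
  · rw [mul_smul, smul_cl, smul_cl]
    congr 1
    apply Subtype.ext
    funext m
    rw [← hv₁, hε]
    by_cases hm : m ∈ B
    · have h1 := hCf m hm
      unfold chi at h1
      by_cases hmC : m ∈ C
      · rw [if_pos hmC] at h1 ⊢
        rcases hv₁2 m hm with h2 | h2 <;> rcases hw2 m hm with h3 | h3 <;> rw [h2, h3] at h1 ⊢ <;>
          norm_num at h1
        · norm_num
      · rw [if_neg hmC] at h1 ⊢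
        rcases hv₁2 m hm with h2 | h2 <;> rcases hw2 m hm with h3 | h3 <;> rw [h2, h3] at h1 ⊢ <;>
          norm_num at h1
    · rw [hv₁0 m hm, hw0 m hm]
      simp
  · rw [mul_smul, smul_cl, smul_cl]
    have h2 : permCo0 σ • e8 none = e8 ((σ : Equiv.Perm GolayPt) none) := by
      apply Subtype.ext
      funext i
      rw [permCo0_smul]
      show ((e8 none : leechLattice) : GolayPt → ℤ) ((σ : Equiv.Perm GolayPt).symm i) = _
      rw [e8_coe, e8_coe, Pi.single_apply, Pi.single_apply]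
      by_cases h : i = (σ : Equiv.Perm GolayPt) none
      · rw [if_pos h, if_pos (by rw [h, Equiv.symm_apply_apply])]
      · rw [if_neg h, if_neg (fun e => h (by rw [← e, Equiv.apply_symm_apply]))]
    rw [h2]
    set j := (σ : Equiv.Perm GolayPt) none
    have h3 : signCo0 ⟨c', hc'⟩ • e8 j = e8 j ∨ signCo0 ⟨c', hc'⟩ • e8 j = -e8 j := by
      by_cases hj : j ∈ C
      · right
        apply Subtype.ext
        funext m
        rw [hε, coe_neg]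
        by_cases hm : m ∈ C
        · rw [if_pos hm]
        · rw [if_neg hm, e8_coe, Pi.single_apply, if_neg (fun e : m = j => hm (e ▸ hj))]; rfl
      · left
        apply Subtype.ext
        funext m
        rw [hε]
        by_cases hm : m ∈ C
        · rw [if_pos hm, e8_coe, Pi.single_apply, if_neg (fun e : m = j => hj (e ▸ hm))]; rfl
        · rw [if_neg hm]
    have h4 : cl (e8 j) = cl (e8 none) := cl_eq.2 (e8_congr j none)
    rcases h3 with h3 | h3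
    · rw [h3, h4]
    · rw [h3, cl_neg, h4]

/-! ### The group part -/

variable {G V P W : Type*} [Group G] [AddCommGroup V] [Module ℚ V]
  [DistribMulAction G V] [SMulCommClass G ℚ V] [Group P] [AddCommGroup W] [Module ℚ W]
  {M : KS G V P W} {θ : leechLattice → P} {Γ : Subgroup G} {τ : G} {y : P}

variable (L : Lift M θ) (H : TauHyp M θ Γ τ y)

include L in
theorem comm_of_sq {p q : P} (hp : p * p = 1) (hq : q * q = 1) (hpq : p * q * (p * q) = 1) :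
    p * q = q * p := by
  have ip : p⁻¹ = p := inv_eq_of_mul_eq_one_left hp
  have iq : q⁻¹ = q := inv_eq_of_mul_eq_one_left hq
  have h := eq_inv_of_mul_eq_one_left hpq
  rw [mul_inv_rev, ip, iq] at h
  exact h

include L in
/-- A vector over `a` of inner product `-16` with `v`. -/
theorem exists_neg16 {t₀ a : P} (ht₀ : t₀ ∈ M.Sh) (ha : a ∈ M.Sh) (hta : t₀ * a ∈ M.Sh)
    {v : leechLattice} (hv : sqNorm (v : GolayPt → ℤ) = 32) (hvc : clP L t₀ = cl v) :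
    ∃ w : leechLattice, sqNorm (w : GolayPt → ℤ) = 32 ∧ dotInt (v : GolayPt → ℤ) (w : GolayPt → ℤ) = -16 ∧
      clP L a = cl w := by
  obtain ⟨w, hw, hwc⟩ := exists_short L ha
  have hcomm : t₀ * a = a * t₀ := comm_of_sq L (L.sh_sq _ ht₀) (L.sh_sq _ ha) (L.sh_sq _ hta)
  have h1 := (comm_iff_bf L t₀ a).1 hcomm
  rw [hvc, hwc, bf_cl_eq_zero] at h1
  have h2 := (mem_Sh_iff L _).1 hta
  rw [clP_mul, hvc, hwc] at h2
  rcases dot_cases hv hw h1 with h | h | h | h | h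
  · rw [h, add_self] at h2
    exact absurd h2 not_zero_two
  · rw [h, cl_neg, add_self] at h2
    exact absurd h2 not_zero_two
  · refine ⟨-w, by rw [norm_neg, hw], ?_, by rw [cl_neg, hwc]⟩
    have := dot_neg v w
    change dotInt _ _ = -dotInt _ _ at this
    change dotInt _ _ = 16 at h
    rw [this, h]
  · exact ⟨w, hw, h, hwc⟩
  · exfalso
    refine not_two_four h2 ⟨v + w, ?_, map_add cl v w⟩
    rw [norm_add, hv, hw, h]; norm_num

include L in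
/-- **Transitivity on the short elements `a` with `t a` short.** -/
theorem trans_A {t₀ a a' : P} (ht₀ : t₀ ∈ M.Sh) (ha : a ∈ M.Sh) (hta : t₀ * a ∈ M.Sh)
    (ha' : a' ∈ M.Sh) (hta' : t₀ * a' ∈ M.Sh) :
    ∃ k ∈ M.K, k * M.ι t₀ * k⁻¹ = M.ι t₀ ∧ k * M.ι a * k⁻¹ = M.ι a' := by
  obtain ⟨v, hv, hvc⟩ := exists_short L ht₀
  obtain ⟨w, hw, hd, hwc⟩ := exists_neg16 L ht₀ ha hta hv hvc
  obtain ⟨w', hw', hd', hwc'⟩ := exists_neg16 L ht₀ ha' hta' hv hvc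
  obtain ⟨g, hg1, hg2⟩ := Cfsg.Agent.Leech.TransPair.co0_transitive_pairs v w w' hv hw hw' hd hd'
  refine conj_pair L ?_ ?_ ?_ ⟨g, ?_, ?_⟩
  · intro e
    exact not_zero_two (e ▸ (mem_Sh_iff L t₀).1 ht₀)
  · intro e
    exact not_zero_two (e ▸ (mem_Sh_iff L a').1 ha')
  · intro e
    have h := (mem_Sh_iff L _).1 hta'
    rw [clP_mul, e, add_self] at h
    exact not_zero_two h
  · rw [hvc, smul_cl, hg1]
  · rw [hwc, hwc', smul_cl, hg2]

include L H in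
theorem exists_std {t₀ q : P} (ht₀ : t₀ ∈ M.Sh) (hq : IsType 4 (clP L q))
    (htq : IsType 4 (clP L (t₀ * q))) (hc : t₀ * q = q * t₀) :
    ∃ k ∈ M.K, ∃ t₁ ∈ M.Sh, ∃ v : leechLattice, Type2 (v : GolayPt → ℤ) ∧ clP L t₁ = cl v ∧
      k * M.ι t₀ * k⁻¹ = M.ι t₁ ∧ k * M.ι q * k⁻¹ = M.ι y := by
  obtain ⟨k, hk, hky⟩ := conj_y L H hq
  obtain ⟨A, hA⟩ := ind_exists hk
  obtain ⟨α, h1, h2⟩ := aut L hk hA
  have hαq : α q = y := by
    apply ι_inj L
    rw [← hky, h1, mul_inv_cancel_right]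
  have ht₁ : α t₀ ∈ M.Sh := by
    rw [mem_Sh_iff L, h2]
    exact ((mem_Sh_iff L t₀).1 ht₀).smul A
  have hkt : k * M.ι t₀ * k⁻¹ = M.ι (α t₀) := by rw [h1, mul_inv_cancel_right]
  obtain ⟨v, hv, hvc⟩ := exists_short L ht₁
  have hcomm : α t₀ * y = y * α t₀ := by rw [← hαq, ← map_mul, ← map_mul, hc]
  have hty : IsType 4 (cl v + cl (e8 none)) := by
    rw [← hvc, ← y_cl L H, ← hαq, ← clP_mul, ← map_mul, h2]
    exact htq.smul A
  rcases shape_y L H hv hvc hcomm with h | h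
  · exact absurd hty (fun h4 => not_two_four (type_add_e8' h) h4)
  · exact ⟨k, hk, α t₀, ht₁, v, h, hvc, hkt, hky⟩

include L H in
/-- **Transitivity on the elements `q` of type 4 with `t q` of type 4.** -/
theorem trans_D {t₀ q q' : P} (ht₀ : t₀ ∈ M.Sh) (hq : IsType 4 (clP L q))
    (htq : IsType 4 (clP L (t₀ * q))) (hc : t₀ * q = q * t₀) (hq' : IsType 4 (clP L q'))
    (htq' : IsType 4 (clP L (t₀ * q'))) (hc' : t₀ * q' = q' * t₀) :
    ∃ k ∈ M.K, k * M.ι t₀ * k⁻¹ = M.ι t₀ ∧ k * M.ι q * k⁻¹ = M.ι q' := by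
  obtain ⟨k, hk, t₁, ht₁, v, hv, hvc, h1, h2⟩ := exists_std L H ht₀ hq htq hc
  obtain ⟨k', hk', t₂, ht₂, w, hw, hwc, h3, h4⟩ := exists_std L H ht₀ hq' htq' hc'
  obtain ⟨A, hA1, hA2⟩ := exists_mono hv hw
  obtain ⟨l, hl, h5, h6⟩ := conj_pair L (p := t₁) (q := y) (p₁ := t₂) (q₁ := y) (by
      intro e
      exact not_zero_two (e ▸ (mem_Sh_iff L t₂).1 ht₂)) (y_ne_zero L H) (by
      intro e
      exact not_two_four ((mem_Sh_iff L t₂).1 ht₂) (e ▸ y_type L H))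
    ⟨A, by rw [hvc, hwc, hA1], by rw [y_cl L H, hA2]⟩
  refine ⟨k'⁻¹ * l * k, M.K.mul_mem (M.K.mul_mem (M.K.inv_mem hk') hl) hk, ?_, ?_⟩
  · calc k'⁻¹ * l * k * M.ι t₀ * (k'⁻¹ * l * k)⁻¹ = k'⁻¹ * (l * (k * M.ι t₀ * k⁻¹) * l⁻¹) * k' := by group
      _ = k'⁻¹ * (k' * M.ι t₀ * k'⁻¹) * k' := by rw [h1, h5, h3]
      _ = M.ι t₀ := by group
  · calc k'⁻¹ * l * k * M.ι q * (k'⁻¹ * l * k)⁻¹ = k'⁻¹ * (l * (k * M.ι q * k⁻¹) * l⁻¹) * k' := by group
      _ = k'⁻¹ * (k' * M.ι q' * k'⁻¹) * k' := by rw [h2, h6, h4]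
      _ = M.ι q' := by group

include L H in
/-- The pairs in `ι P`. -/
theorem classes_Q {t₀ a₀ δ₀ : P} (ht₀ : t₀ ∈ M.Sh) (hne : ¬ ∃ g ∈ Γ, g * M.ι t₀ * g⁻¹ = M.z)
    (ha₀ : a₀ ∈ M.Sh) (hta₀ : t₀ * a₀ ∈ M.Sh) (hδ : IsType 4 (clP L δ₀))
    (htδ : IsType 4 (clP L (t₀ * δ₀))) {q : P} (hq : q * q = 1) (hq1 : q ≠ 1) (hqt : q ≠ t₀)
    (hc : t₀ * q = q * t₀) :
    ∃ g ∈ Γ, g * M.ι t₀ * g⁻¹ = M.ι t₀ ∧ (g * M.ι q * g⁻¹ = M.ι a₀ ∨ g * M.ι q * g⁻¹ = M.z ∨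
      g * M.ι q * g⁻¹ = M.z * M.ι t₀ ∨ g * M.ι q * g⁻¹ = M.ι δ₀) := by
  have htt := L.sh_sq t₀ ht₀
  have hqf := (sq_iff_qf L q).1 hq
  have htq2 : (t₀ * q) * (t₀ * q) = 1 := by
    calc (t₀ * q) * (t₀ * q) = t₀ * (q * t₀) * q := by group
      _ = (t₀ * t₀) * (q * q) := by rw [← hc]; group
      _ = 1 := by rw [htt, hq, one_mul]
  have hδc : t₀ * δ₀ = δ₀ * t₀ := by
    apply comm_of_sq L htt
    · rw [sq_iff_qf L]; exact qf_type4 hδ
    · rw [sq_iff_qf L]; exact qf_type4 htδ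
  have htcq : t₀ * (t₀ * q) = (t₀ * q) * t₀ := by rw [mul_assoc, ← hc]
  obtain ⟨v, hv, hvc⟩ := exists_short L ht₀
  rcases type_cases (clP L q) with h | h | h | h
  · rcases (clP_eq_zero L).1 h with e | e
    · exact absurd e hq1
    · refine ⟨1, Γ.one_mem, by group, Or.inr (Or.inl ?_)⟩
      rw [e, one_mul, inv_one, mul_one]; rfl
  · have hqS := (mem_Sh_iff L q).2 h
    obtain ⟨w, hw, hwc⟩ := exists_short L hqS
    have h1 := (comm_iff_bf L t₀ q).1 hc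
    rw [hvc, hwc, bf_cl_eq_zero] at h1
    have hsame : clP L q = clP L t₀ → ∃ g ∈ Γ, g * M.ι t₀ * g⁻¹ = M.ι t₀ ∧
        (g * M.ι q * g⁻¹ = M.ι a₀ ∨ g * M.ι q * g⁻¹ = M.z ∨
          g * M.ι q * g⁻¹ = M.z * M.ι t₀ ∨ g * M.ι q * g⁻¹ = M.ι δ₀) := by
      intro e
      rcases (clP_eq' L).1 e with e' | e'
      · exact absurd e' hqt
      · refine ⟨1, Γ.one_mem, by group, Or.inr (Or.inr (Or.inl ?_))⟩
        rw [e', one_mul, inv_one, mul_one, map_mul]; rfl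
    have hA : IsType 2 (cl v + cl w) → ∃ g ∈ Γ, g * M.ι t₀ * g⁻¹ = M.ι t₀ ∧
        (g * M.ι q * g⁻¹ = M.ι a₀ ∨ g * M.ι q * g⁻¹ = M.z ∨
          g * M.ι q * g⁻¹ = M.z * M.ι t₀ ∨ g * M.ι q * g⁻¹ = M.ι δ₀) := by
      intro e
      have htqS : t₀ * q ∈ M.Sh := by
        rw [mem_Sh_iff L, clP_mul, hvc, hwc]; exact e
      obtain ⟨k, hk, h2, h3⟩ := trans_A L ht₀ hqS htqS ha₀ hta₀
      exact ⟨k, H.K_le hk, h2, Or.inl h3⟩
    rcases dot_cases hv hw h1 with h2 | h2 | h2 | h2 | h2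
    · exact hsame (by rw [hwc, hvc, h2])
    · exact hsame (by rw [hwc, hvc, h2, cl_neg])
    · refine hA ⟨v - w, ?_, cl_sub v w⟩
      rw [norm_sub, hv, hw, h2]; norm_num
    · refine hA ⟨v + w, ?_, map_add cl v w⟩
      rw [norm_add, hv, hw, h2]; norm_num
    · have h4 : IsType 4 (clP L (t₀ * q)) := by
        rw [clP_mul, hvc, hwc]
        refine ⟨v + w, ?_, map_add cl v w⟩
        rw [norm_add, hv, hw, h2]; norm_num
      obtain ⟨g, hg, h5, h6⟩ := case_frame L H ht₀ hne h4 (by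
        rw [← mul_assoc, htt, one_mul]; exact h) htcq
      refine ⟨g, hg, h5, Or.inr (Or.inr (Or.inl ?_))⟩
      have e1 : M.ι q = M.ι t₀ * M.ι (t₀ * q) := by
        rw [← map_mul, ← mul_assoc, htt, one_mul]
      calc g * M.ι q * g⁻¹ = (g * M.ι t₀ * g⁻¹) * (g * M.ι (t₀ * q) * g⁻¹) := by rw [e1]; group
        _ = M.z * M.ι t₀ := by rw [h5, h6]; exact TwoQ.z_comm_ι t₀
  · exact absurd hqf (qf_type3 h)
  · rcases type_cases (clP L (t₀ * q)) with h1 | h1 | h1 | h1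
    · exfalso
      rw [clP_mul] at h1
      rw [← eq_of_add_eq_zero h1] at h
      exact not_two_four ((mem_Sh_iff L t₀).1 ht₀) h
    · obtain ⟨g, hg, h5, h6⟩ := case_frame L H ht₀ hne h h1 hc
      exact ⟨g, hg, h5, Or.inr (Or.inl h6)⟩
    · exact absurd ((sq_iff_qf L _).1 htq2) (qf_type3 h1)
    · obtain ⟨k, hk, h2, h3⟩ := trans_D L H ht₀ h h1 hc hδ htδ hδc
      exact ⟨k, H.K_le hk, h2, Or.inr (Or.inr (Or.inr h3))⟩

include L H in
/-- Pairs with the second involution over a sign change. -/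
theorem pair_sign {c : golayCode} {t u : G} (hu : u ∈ M.K) (huu : u * u = 1)
    (hI : Ind M u (signCo0 c)) {v : leechLattice} (hv : sqNorm (v : GolayPt → ℤ) = 32)
    (htv : Zq M t (phi M θ v)) (htu : t * u = u * t) : (∃ q, u = M.ι q) ∨ GYP M τ t u := by
  have hι : Ind M u 1 → (∃ q, u = M.ι q) ∨ GYP M τ t u := fun h =>
    Or.inl (M.mem_ι_of_trivial u hu (fun v => by rw [h v, one_smul]))
  have hneg : ∀ c' : golayCode, Ind M u (signCo0 c') → Ind M u (signCo0 (c' + allOne)) := by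
    intro c' h
    exact TwoQ.Ind_of_mk h (mk_add_allOne c').symm
  have hoct : ∀ c' : golayCode, wt c' = 8 → Ind M u (signCo0 c') →
      (∃ q, u = M.ι q) ∨ GYP M τ t u := by
    intro c' h8 h
    exact Or.inr (pair_oct L H (c := c') ⟨⟨_, c'.2, rfl⟩, h8⟩ hu huu h hv htv htu)
  rcases wt_cases c with h | h | h | h | h
  · rw [eq_zero_of_wt h, Cfsg.Agent.SporadicA.Co0Mono.signCo0_zero] at hI
    exact hι hI
  · exact hoct c h hI
  · exact Or.inr (pair_dod L H h hu huu hI hv htv htu)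
  · refine hoct (c + allOne) ?_ (hneg c hI)
    have := wt_add_allOne c
    omega
  · rw [eq_allOne_of_wt h] at hI
    apply hι
    have h1 := hneg _ hI
    have h2 : (allOne + allOne : golayCode) = 0 := by
      apply Subtype.ext
      funext i
      show (1 : ZMod 2) + 1 = 0
      decide
    rwa [h2, Cfsg.Agent.SporadicA.Co0Mono.signCo0_zero] at h1

include L H in
/-- **Pairs `(t, u)` with `t` over a short vector and `u ∈ K` an involution commuting with `t`.** -/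
theorem pair_K {t u : G} (hu : u ∈ M.K) (huu : u * u = 1) {v : leechLattice}
    (hv : sqNorm (v : GolayPt → ℤ) = 32) (htv : Zq M t (phi M θ v)) (htu : t * u = u * t) :
    (∃ q, u = M.ι q) ∨ GYP M τ t u := by
  obtain ⟨A, hA⟩ := TwoQ.ind_exists hu
  have h1 : Ind M 1 (A * A) := by
    have := hA.mul hA
    rwa [huu] at this
  have h2 : mk (A * A) = 1 := TwoQ.Ind_mk_eq h1 (Ind.one M)
  rcases (mk_eq_one (A * A)).1 h2 with h3 | h3
  · obtain ⟨g, c, hg⟩ := Cfsg.Agent.CoOneType.InvBridge.conj_sign A h3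
    obtain ⟨k, hk, hkI⟩ := TwoQ.exists_ind M g
    rcases pair_sign L H (c := c) (t := k * t * k⁻¹) (u := k * u * k⁻¹) (v := g • v)
      (M.K.mul_mem (M.K.mul_mem hk hu) (M.K.inv_mem hk))
      (by rw [show k * u * k⁻¹ * (k * u * k⁻¹) = k * (u * u) * k⁻¹ by group, huu, mul_one,
        mul_inv_cancel])
      (by rw [← hg]; exact TwoQ.Ind_conj hA hkI)
      (by rw [Cfsg.Agent.LeechMat.Core.co0_sqNorm, hv])
      ((htv.conj L hk).trans (phi_conj L hk hkI v))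
      (by rw [show (k * t * k⁻¹) * (k * u * k⁻¹) = k * (t * u) * k⁻¹ by group, htu]; group) with
      ⟨q, hq⟩ | h
    · left
      obtain ⟨α, h4, -⟩ := aut L (M.K.inv_mem hk) hkI.inv
      refine ⟨α q, ?_⟩
      have : u = k⁻¹ * (k * u * k⁻¹) * k := by group
      rw [this, hq, h4, inv_mul_cancel_right]
    · exact Or.inr (h.conj hk)
  · exact absurd huu (TwoB0.two_b0 L hu hA h3)

include L H in
/-- **The classes of involutions of the centraliser of `t = ι t₀`.** -/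
theorem classes (hΓ : Finite Γ) {t₀ a₀ δ₀ : P} (ht₀ : t₀ ∈ M.Sh)
    (hne : ¬ ∃ g ∈ Γ, g * M.ι t₀ * g⁻¹ = M.z)
    (hodd : ¬ 2 ∣ (M.K ⊓ Subgroup.centralizer {M.ι t₀}).relIndex (Γ ⊓ Subgroup.centralizer {M.ι t₀}))
    (ha₀ : a₀ ∈ M.Sh) (hta₀ : t₀ * a₀ ∈ M.Sh) (hδ : IsType 4 (clP L δ₀))
    (htδ : IsType 4 (clP L (t₀ * δ₀))) {u : G} (hu : u ∈ Γ) (hut : u * M.ι t₀ = M.ι t₀ * u)
    (huu : u * u = 1) (hu1 : u ≠ 1) (hne' : u ≠ M.ι t₀) :
    ∃ g ∈ Γ, g * M.ι t₀ * g⁻¹ = M.ι t₀ ∧ (g * u * g⁻¹ = M.ι a₀ ∨ g * u * g⁻¹ = M.z ∨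
      g * u * g⁻¹ = M.z * M.ι t₀ ∨ g * u * g⁻¹ = M.ι δ₀) := by
  have hfin : Finite ↥(Γ ⊓ Subgroup.centralizer {M.ι t₀} : Subgroup G) :=
    Finite.of_injective (Subgroup.inclusion inf_le_left) (Subgroup.inclusion_injective _)
  obtain ⟨g, hg, hgu⟩ := TwoQ.exists_conj_of_odd' (K := M.K ⊓ Subgroup.centralizer {M.ι t₀})
    (Γ := Γ ⊓ Subgroup.centralizer {M.ι t₀}) hfin hodd (u := u)
    ⟨hu, Subgroup.mem_centralizer_singleton_iff.2 hut⟩ huu
  have hgΓ : g ∈ Γ := hg.1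
  have hgt : g * M.ι t₀ * g⁻¹ = M.ι t₀ := by
    rw [Subgroup.mem_centralizer_singleton_iff.1 hg.2, mul_inv_cancel_right]
  have hcomb : ∀ {l w : G}, l ∈ Γ → l * M.ι t₀ * l⁻¹ = M.ι t₀ → (∃ k ∈ Γ,
      k * M.ι t₀ * k⁻¹ = M.ι t₀ ∧ (k * (l * w * l⁻¹) * k⁻¹ = M.ι a₀ ∨
        k * (l * w * l⁻¹) * k⁻¹ = M.z ∨ k * (l * w * l⁻¹) * k⁻¹ = M.z * M.ι t₀ ∨
        k * (l * w * l⁻¹) * k⁻¹ = M.ι δ₀)) → ∃ g ∈ Γ,
      g * M.ι t₀ * g⁻¹ = M.ι t₀ ∧ (g * w * g⁻¹ = M.ι a₀ ∨ g * w * g⁻¹ = M.z ∨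
        g * w * g⁻¹ = M.z * M.ι t₀ ∨ g * w * g⁻¹ = M.ι δ₀) := by
    rintro l w hl hlt ⟨k, hk, hkt, h⟩
    refine ⟨k * l, Γ.mul_mem hk hl, ?_, ?_⟩
    · rw [show k * l * M.ι t₀ * (k * l)⁻¹ = k * (l * M.ι t₀ * l⁻¹) * k⁻¹ by group, hlt, hkt]
    · rwa [show k * l * w * (k * l)⁻¹ = k * (l * w * l⁻¹) * k⁻¹ by group]
  apply hcomb hgΓ hgt
  set u' := g * u * g⁻¹ with hu'
  have hu'K : u' ∈ M.K := hgu.1
  have hu't : M.ι t₀ * u' = u' * M.ι t₀ := (Subgroup.mem_centralizer_singleton_iff.1 hgu.2).symm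
  have hu'u' : u' * u' = 1 := by
    rw [hu', show g * u * g⁻¹ * (g * u * g⁻¹) = g * (u * u) * g⁻¹ by group, huu, mul_one,
      mul_inv_cancel]
  have hu'1 : u' ≠ 1 := fun e => hu1 (by
    have : u = g⁻¹ * u' * g := by rw [hu']; group
    rw [this, e]; group)
  have hu'ne : u' ≠ M.ι t₀ := fun e => hne' (by
    have : u = g⁻¹ * u' * g := by rw [hu']; group
    rw [this, e]
    nth_rw 1 [← hgt]
    group)
  -- the final step
  have hQ : ∀ {w : G}, M.ι t₀ * w = w * M.ι t₀ → w * w = 1 → w ≠ 1 → w ≠ M.ι t₀ → (∃ q, w = M.ι q) →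
      ∃ k ∈ Γ, k * M.ι t₀ * k⁻¹ = M.ι t₀ ∧ (k * w * k⁻¹ = M.ι a₀ ∨ k * w * k⁻¹ = M.z ∨
        k * w * k⁻¹ = M.z * M.ι t₀ ∨ k * w * k⁻¹ = M.ι δ₀) := by
    rintro w h1 h2 h3 h4 ⟨q, rfl⟩
    refine classes_Q L H ht₀ hne ha₀ hta₀ hδ htδ ?_ ?_ ?_ ?_
    · apply ι_inj L; rw [map_mul, h2, map_one]
    · rintro rfl; exact h3 (map_one _)
    · rintro rfl; exact h4 rfl
    · apply ι_inj L; rw [map_mul, map_mul, h1]
  obtain ⟨v, hv, hvc⟩ := exists_short L ht₀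
  rcases pair_K L H hu'K hu'u' hv (zq_of_cl L hvc) hu't with h | h
  · exact hQ hu't hu'u' hu'1 hu'ne h
  · obtain ⟨l, hl, hlt, q, hq⟩ := toQ L H ht₀ hne h
    apply hcomb hl hlt
    refine hQ ?_ ?_ ?_ ?_ ⟨q, hq⟩
    · nth_rw 1 [← hlt]
      nth_rw 2 [← hlt]
      calc l * M.ι t₀ * l⁻¹ * (l * u' * l⁻¹) = l * (M.ι t₀ * u') * l⁻¹ := by group
        _ = l * u' * l⁻¹ * (l * M.ι t₀ * l⁻¹) := by rw [hu't]; group
    · rw [show l * u' * l⁻¹ * (l * u' * l⁻¹) = l * (u' * u') * l⁻¹ by group, hu'u', mul_one,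
        mul_inv_cancel]
    · intro e
      apply hu'1
      have : u' = l⁻¹ * (l * u' * l⁻¹) * l := by group
      rw [this, e]; group
    · intro e
      apply hu'ne
      have : u' = l⁻¹ * (l * u' * l⁻¹) * l := by group
      rw [this, e]
      nth_rw 1 [← hlt]
      group

end Cfsg.Agent.MonsterU.InvPair
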