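import Mathlib

/-!
# Transitivity lemma of strong embedding type, elementwise

`S` is a conjugation invariant set of involutions of a finite group, with a relation `E` ("same
block"). If `E s (w s w⁻¹)` forces `E w s` (an element of `S` normalises its own block only) and the
blocks are closed under products of commuting elements, then any two elements of a block which is
moved by the group are conjugate.
-/

set_option autoImplicit false

namespace Cfsg.Agent.MonsterU.CloseSE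

/-- Working hypotheses. -/
structure Hyp {G : Type*} [Group G] (S : Set G) (E : G → G → Prop) : Prop where
  sq : ∀ s ∈ S, s * s = 1
  ne : ∀ s ∈ S, s ≠ 1
  conj : ∀ s ∈ S, ∀ g : G, g * s * g⁻¹ ∈ S
  refl : ∀ s ∈ S, E s s
  symm : ∀ s ∈ S, ∀ t ∈ S, E s t → E t s
  trans : ∀ s ∈ S, ∀ t ∈ S, ∀ u ∈ S, E s t → E t u → E s u
  fix : ∀ w ∈ S, ∀ s ∈ S, E s (w * s * w⁻¹) → E w s
  mul : ∀ w ∈ S, ∀ x ∈ S, w ≠ x → w * x = x * w → E w x → w * x ∈ S ∧ E w (w * x)

section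

variable {G : Type*} [Group G] {S : Set G} {E : G → G → Prop} (H : Hyp S E)

include H

theorem inv_eq {d : G} (hd : d ∈ S) : d⁻¹ = d := inv_eq_of_mul_eq_one_left (H.sq d hd)

theorem semiconj {d e : G} (hd : d ∈ S) (he : e ∈ S) : SemiconjBy d (d * e) (d * e)⁻¹ := by
  show d * (d * e) = (d * e)⁻¹ * d
  rw [← mul_assoc, H.sq d hd, one_mul, mul_inv_rev, inv_eq H hd, inv_eq H he, mul_assoc,
    H.sq d hd, mul_one]

theorem mul_pow_eq {d e : G} (hd : d ∈ S) (he : e ∈ S) (m : ℕ) :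
    d * (d * e) ^ m = ((d * e) ^ m)⁻¹ * d := by
  have h := (semiconj H hd he).pow_right m
  rw [inv_pow] at h
  exact h

/-- `d ρ^(2l)` is a conjugate of `d`. -/
theorem mul_pow_even {d e : G} (hd : d ∈ S) (he : e ∈ S) (l : ℕ) :
    ∃ g : G, g * d * g⁻¹ = d * (d * e) ^ (2 * l) := by
  refine ⟨((d * e) ^ l)⁻¹, ?_⟩
  rw [inv_inv, ← mul_pow_eq H hd he, mul_assoc, ← pow_add, two_mul]

/-- `d ρ^(2l+1)` is a conjugate of `e`. -/
theorem mul_pow_odd {d e : G} (hd : d ∈ S) (he : e ∈ S) (l : ℕ) :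
    ∃ g : G, g * e * g⁻¹ = d * (d * e) ^ (2 * l + 1) := by
  refine ⟨((d * e) ^ l)⁻¹, ?_⟩
  have e0 : e = d * (d * e) := by rw [← mul_assoc, H.sq d hd, one_mul]
  rw [inv_inv]
  calc ((d * e) ^ l)⁻¹ * e * (d * e) ^ l = ((d * e) ^ l)⁻¹ * (d * (d * e)) * (d * e) ^ l := by
        rw [← e0]
    _ = (((d * e) ^ l)⁻¹ * d) * ((d * e) * (d * e) ^ l) := by simp only [mul_assoc]
    _ = _ := by
        rw [← mul_pow_eq H hd he, mul_assoc, ← pow_succ', ← pow_add]
        congr 2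
        ring

theorem mul_pow_mem {d e : G} (hd : d ∈ S) (he : e ∈ S) (m : ℕ) : d * (d * e) ^ m ∈ S := by
  obtain ⟨l, rfl | rfl⟩ := Nat.even_or_odd' m
  · obtain ⟨g, hg⟩ := mul_pow_even H hd he l
    rw [← hg]; exact H.conj d hd g
  · obtain ⟨g, hg⟩ := mul_pow_odd H hd he l
    rw [← hg]; exact H.conj e he g

/-- A commuting element of `S` is in the same block. -/
theorem comm_rel {w s : G} (hw : w ∈ S) (hs : s ∈ S) (h : w * s = s * w) : E w s := by
  refine H.fix w hw s hs ?_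
  rw [h, mul_inv_cancel_right]
  exact H.refl s hs

/-- If `d` and `u` commute, `u` is an involution and `d * u` is in `S`, then `u` is in `S` and in
the block of `d`. -/
theorem block_of {d u : G} (hd : d ∈ S) (hu1 : u ≠ 1)
    (hdu : d * u = u * d) (hmem : d * u ∈ S) : u ∈ S ∧ E d u := by
  have hprod : d * (d * u) = u := by rw [← mul_assoc, H.sq d hd, one_mul]
  have hne : d ≠ d * u := by
    intro h
    exact hu1 (mul_eq_left.mp h.symm)
  have hc : d * (d * u) = (d * u) * d := by rw [hdu, ← mul_assoc, hdu]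
  have hE : E d (d * u) := comm_rel H hd hmem hc
  have h := H.mul d hd (d * u) hmem hne hc hE
  rw [hprod] at h
  exact h

/-- Elements of `S` in different blocks have a product of odd order. -/
theorem odd_orderOf [Finite G] {d e : G} (hd : d ∈ S) (he : e ∈ S) (hne : ¬ E d e) :
    Odd (orderOf (d * e)) := by
  by_contra hodd
  rw [Nat.not_odd_iff_even] at hodd
  obtain ⟨k, hk⟩ := hodd
  have hpos : 0 < orderOf (d * e) := orderOf_pos _
  have hk0 : 0 < k := by omega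
  set ρ := d * e with hρ
  have huu : ρ ^ k * ρ ^ k = 1 := by rw [← pow_add, ← hk, pow_orderOf_eq_one]
  have hui : (ρ ^ k)⁻¹ = ρ ^ k := inv_eq_of_mul_eq_one_left huu
  have hu1 : ρ ^ k ≠ 1 := by
    intro h
    have := orderOf_dvd_of_pow_eq_one h
    have := Nat.le_of_dvd hk0 this
    omega
  have hdu : d * ρ ^ k = ρ ^ k * d := by
    rw [hρ, mul_pow_eq H hd he, ← hρ, hui]
  have e0 : e = d * ρ := by rw [hρ, ← mul_assoc, H.sq d hd, one_mul]
  have hc : ρ * ρ ^ k = ρ ^ k * ρ := by rw [← pow_succ', ← pow_succ]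
  have heu : e * ρ ^ k = ρ ^ k * e := by
    rw [e0, mul_assoc, hc, ← mul_assoc, hdu, mul_assoc]
  have hmem : d * ρ ^ k ∈ S := mul_pow_mem H hd he k
  have hmem' : e * ρ ^ k ∈ S := by
    rw [e0, mul_assoc, ← pow_succ']
    exact mul_pow_mem H hd he (k + 1)
  have h1 := block_of H hd hu1 hdu hmem
  have h2 := block_of H he hu1 heu hmem'
  exact hne (H.trans _ hd _ h1.1 _ he h1.2 (H.symm _ he _ h1.1 h2.2))

/-- **Transitivity.** Two elements of a block which is moved by the group are conjugate. -/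
theorem conj_of [Finite G] {w₁ w₂ g : G} (h₁ : w₁ ∈ S) (h₂ : w₂ ∈ S) (hE : E w₁ w₂)
    (hg : ¬ E w₁ (g * w₁ * g⁻¹)) : ∃ h : G, h * w₁ * h⁻¹ = w₂ := by
  set d := g * w₁ * g⁻¹ with hd
  have hdS : d ∈ S := H.conj _ h₁ g
  set e := w₂ * d * w₂⁻¹ with he
  have heS : e ∈ S := H.conj _ hdS w₂
  have hde : ¬ E d e := by
    intro h
    exact hg (H.trans _ h₁ _ h₂ _ hdS hE (H.fix _ h₂ _ hdS h))
  obtain ⟨k, hk⟩ := odd_orderOf H hdS heS hde
  set ρ := d * e with hρ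
  have hρ1 : ρ ^ (2 * k + 1) = 1 := by rw [← hk, pow_orderOf_eq_one]
  have hdd : d * d = 1 := H.sq d hdS
  have hee : e * e = 1 := H.sq e heS
  have hw2 : w₂ * w₂ = 1 := H.sq _ h₂
  have hw2i : w₂⁻¹ = w₂ := inv_eq H h₂
  have hdi : d⁻¹ = d := inv_eq H hdS
  have hei : e⁻¹ = e := inv_eq H heS
  have hed : e = d * ρ := by rw [hρ, ← mul_assoc, hdd, one_mul]
  -- the swap
  set x := d * ρ ^ (k + 1) with hx
  have hxS : x ∈ S := mul_pow_mem H hdS heS (k + 1)
  have hxconj : ∃ h : G, h * w₁ * h⁻¹ = x := by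
    obtain ⟨l, hl | hl⟩ := Nat.even_or_odd' (k + 1)
    · obtain ⟨y, hy⟩ := mul_pow_even H hdS heS l
      refine ⟨y * g, ?_⟩
      rw [hx, hl, ← hy, hd]; group
    · obtain ⟨y, hy⟩ := mul_pow_odd H hdS heS l
      refine ⟨y * w₂ * g, ?_⟩
      rw [hx, hl, ← hy, he, hd]; group
  -- `x` conjugates `d` to `e`
  have hxi : x⁻¹ = x := inv_eq H hxS
  have hpd : ∀ m : ℕ, d * ρ ^ m = (ρ ^ m)⁻¹ * d := fun m => mul_pow_eq H hdS heS m
  have hρk : ρ ^ (k + 1) * ρ ^ (k + 1) = ρ := by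
    rw [← pow_add, show k + 1 + (k + 1) = (2 * k + 1) + 1 by ring, pow_succ, hρ1, one_mul]
  have hxd : x * d * x⁻¹ = e := by
    rw [hxi, hx]
    calc d * ρ ^ (k + 1) * d * (d * ρ ^ (k + 1))
        = d * ρ ^ (k + 1) * (d * d) * ρ ^ (k + 1) := by simp only [mul_assoc]
      _ = d * (ρ ^ (k + 1) * ρ ^ (k + 1)) := by rw [hdd, mul_one, mul_assoc]
      _ = e := by rw [hρk, hed]
  -- `w₂` centralises `x`
  have hwρ : w₂ * ρ * w₂⁻¹ = ρ⁻¹ := by
    have : w₂ * e * w₂⁻¹ = d := by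
      rw [he, hw2i]
      calc w₂ * (w₂ * d * w₂) * w₂ = (w₂ * w₂) * d * (w₂ * w₂) := by simp only [mul_assoc]
        _ = d := by rw [hw2, one_mul, mul_one]
    calc w₂ * ρ * w₂⁻¹ = (w₂ * d * w₂⁻¹) * (w₂ * e * w₂⁻¹) := by rw [hρ]; group
      _ = e * d := by rw [this, ← he]
      _ = ρ⁻¹ := by rw [hρ, mul_inv_rev, hdi, hei]
  have hwx : w₂ * x * w₂⁻¹ = x := by
    calc w₂ * x * w₂⁻¹ = (w₂ * d * w₂⁻¹) * (w₂ * ρ * w₂⁻¹) ^ (k + 1) := by
          rw [hx, conj_pow]; group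
      _ = e * (ρ⁻¹) ^ (k + 1) := by rw [hwρ, ← he]
      _ = d * (ρ * (ρ ^ (k + 1))⁻¹) := by rw [hed, inv_pow, mul_assoc]
      _ = d * ρ ^ (k + 1) := by
          congr 1
          rw [mul_inv_eq_iff_eq_mul, hρk]
  have hcomm : w₂ * x = x * w₂ := mul_inv_eq_iff_eq_mul.mp hwx
  have hEwx : E w₂ x := comm_rel H h₂ hxS hcomm
  by_cases hwx' : w₂ = x
  · obtain ⟨h, hh⟩ := hxconj
    exact ⟨h, hh.trans hwx'.symm⟩
  · exfalso
    obtain ⟨hvS, hEv⟩ := H.mul _ h₂ _ hxS hwx' hcomm hEwx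
    have hvd : (w₂ * x) * d * (w₂ * x)⁻¹ = d := by
      calc (w₂ * x) * d * (w₂ * x)⁻¹ = w₂ * (x * d * x⁻¹) * w₂⁻¹ := by group
        _ = w₂ * (w₂ * d * w₂⁻¹) * w₂⁻¹ := by rw [hxd]
        _ = (w₂ * w₂) * d * (w₂ * w₂)⁻¹ := by group
        _ = d := by rw [hw2]; group
    have hEvd : E (w₂ * x) d := by
      refine H.fix _ hvS _ hdS ?_
      rw [hvd]
      exact H.refl d hdS
    exact hg (H.trans _ h₁ _ h₂ _ hdS hE (H.trans _ h₂ _ hvS _ hdS hEv hEvd))

end

/-- Version on a subgroup: if all involutions of a proper subgroup `M` of a finite simple group (or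
just: a subgroup not normal) have their centraliser in `M`, then all involutions of `M` are
conjugate. -/
theorem conj_of_cent {G : Type*} [Group G] [Finite G] (M : Subgroup G)
    (hu : ∀ s ∈ M, s * s = 1 → s ≠ 1 → ∀ g : G, g * s * g⁻¹ ∈ M → g ∈ M)
    (hM : M ≠ ⊤) {s t : G} (hs : s ∈ M) (hs2 : s * s = 1) (hs1 : s ≠ 1)
    (ht : t ∈ M) (ht2 : t * t = 1) (ht1 : t ≠ 1) : ∃ h : G, h * s * h⁻¹ = t := by
  -- `E s t`: some conjugate of `M` contains both
  obtain ⟨g, hg⟩ : ∃ g : G, g ∉ M := by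
    by_contra h
    push Not at h
    exact hM (Subgroup.eq_top_iff' M |>.2 h)
  let S : Set G := {x | x * x = 1 ∧ x ≠ 1 ∧ ∃ y : G, y * x * y⁻¹ ∈ M}
  let E : G → G → Prop := fun a b => ∃ y : G, y * a * y⁻¹ ∈ M ∧ y * b * y⁻¹ ∈ M
  have key : ∀ a : G, a * a = 1 → a ≠ 1 → ∀ y z : G, y * a * y⁻¹ ∈ M → z * a * z⁻¹ ∈ M →
      z * y⁻¹ ∈ M := by
    intro a ha ha1 y z hy hz
    refine hu (y * a * y⁻¹) hy ?_ ?_ (z * y⁻¹) ?_
    · calc y * a * y⁻¹ * (y * a * y⁻¹) = y * (a * a) * y⁻¹ := by group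
        _ = 1 := by rw [ha]; group
    · intro h
      apply ha1
      calc a = y⁻¹ * (y * a * y⁻¹) * y := by group
        _ = 1 := by rw [h]; group
    · have : z * y⁻¹ * (y * a * y⁻¹) * (z * y⁻¹)⁻¹ = z * a * z⁻¹ := by group
      rw [this]; exact hz
  have move : ∀ b y z : G, z * y⁻¹ ∈ M → y * b * y⁻¹ ∈ M → z * b * z⁻¹ ∈ M := by
    intro b y z hzy hb
    have : z * b * z⁻¹ = (z * y⁻¹) * (y * b * y⁻¹) * (z * y⁻¹)⁻¹ := by group
    rw [this]
    exact M.mul_mem (M.mul_mem hzy hb) (M.inv_mem hzy)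
  have H : Hyp S E := {
    sq := fun x hx => hx.1
    ne := fun x hx => hx.2.1
    conj := by
      rintro x ⟨hx, hx1, y, hy⟩ c
      refine ⟨?_, ?_, y * c⁻¹, ?_⟩
      · calc c * x * c⁻¹ * (c * x * c⁻¹) = c * (x * x) * c⁻¹ := by group
          _ = 1 := by rw [hx]; group
      · intro h
        apply hx1
        calc x = c⁻¹ * (c * x * c⁻¹) * c := by group
          _ = 1 := by rw [h]; group
      · have : y * c⁻¹ * (c * x * c⁻¹) * (y * c⁻¹)⁻¹ = y * x * y⁻¹ := by group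
        rw [this]; exact hy
    refl := fun x hx => by
      obtain ⟨_, _, y, hy⟩ := hx
      exact ⟨y, hy, hy⟩
    symm := by
      rintro x _ t _ ⟨y, h1, h2⟩
      exact ⟨y, h2, h1⟩
    trans := by
      rintro x _ t ht u _ ⟨y, h1, h2⟩ ⟨z, h3, h4⟩
      refine ⟨z, ?_, h4⟩
      exact move x y z (key t ht.1 ht.2.1 y z h2 h3) h1
    fix := by
      rintro w hw x hx ⟨y, h1, h2⟩
      -- `y x y⁻¹ ∈ M`, `y w x w⁻¹ y⁻¹ ∈ M`
      refine ⟨y, ?_, h1⟩
      have h3 : (y * w) * x * (y * w)⁻¹ ∈ M := by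
        have : (y * w) * x * (y * w)⁻¹ = y * (w * x * w⁻¹) * y⁻¹ := by group
        rw [this]; exact h2
      exact key x hx.1 hx.2.1 y (y * w) h1 h3
    mul := by
      rintro w hw x hx hne hc' ⟨y, h1, h2⟩
      have h3 : y * (w * x) * y⁻¹ ∈ M := by
        have : y * (w * x) * y⁻¹ = (y * w * y⁻¹) * (y * x * y⁻¹) := by group
        rw [this]; exact M.mul_mem h1 h2
      refine ⟨⟨?_, ?_, y, h3⟩, y, h1, h3⟩
      · calc w * x * (w * x) = w * (x * w) * x := by group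
          _ = (w * w) * (x * x) := by rw [← hc']; group
          _ = 1 := by rw [hw.1, hx.1, one_mul]
      · intro h
        apply hne
        calc w = w * (x * x) := by rw [hx.1, mul_one]
          _ = (w * x) * x := by group
          _ = x := by rw [h, one_mul] }
  have hsS : s ∈ S := ⟨hs2, hs1, 1, by simpa using hs⟩
  have htS : t ∈ S := ⟨ht2, ht1, 1, by simpa using ht⟩
  have hst : E s t := ⟨1, by simpa using hs, by simpa using ht⟩
  refine conj_of H (g := g) hsS htS hst ?_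
  rintro ⟨y, h1, h2⟩
  -- `y ∈ M`, `y g ∈ M`
  have hy : y ∈ M := by
    have := key s hs2 hs1 1 y (by simpa using hs) h1
    simpa using this
  have hyg : y * g ∈ M := by
    have h3 : (y * g) * s * (y * g)⁻¹ ∈ M := by
      have : (y * g) * s * (y * g)⁻¹ = y * (g * s * g⁻¹) * y⁻¹ := by group
      rw [this]; exact h2
    have := key s hs2 hs1 1 (y * g) (by simpa using hs) h3
    simpa using this
  exact hg ((M.mul_mem_cancel_left hy).mp hyg)

end Cfsg.Agent.MonsterU.CloseSE
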