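import Mathlib
import Cfsg.Agent.MonsterU.CloseSE

/-!
# Closing: a group with a subgroup `H = N(A)` like `2^24.Co1`

`X` is a finite group, `A ≤ H ≤ X`, `A` an elementary abelian normal subgroup of `H` of order `2 ^ 24`
with `C_H(A) = A`, `T ⊆ A` a set of involutions with `d ∈ T, x d x⁻¹ ∈ H ⇒ x ∈ H`.  With simple facts
on the involutions of `H` and invariant forms on `A` it follows that `H = X`.

Proof: choose `F ≤ A` of maximal order with `C(F) ≰ H`.
-/

set_option autoImplicit false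

namespace Cfsg.Agent.MonsterU.CloseMax

/-- the polar form of `q` -/
def bb {X : Type*} [Group X] (q : X → ZMod 2) (x y : X) : ZMod 2 := q (x * y) + q x + q y

/-- The hypotheses. -/
structure Hyp {X : Type*} [Group X] (H A : Subgroup X) (T N : Set X) (q : X → ZMod 2) : Prop where
  A_le : A ≤ H
  A_conj : ∀ h ∈ H, ∀ x ∈ A, h * x * h⁻¹ ∈ A
  A_comm : ∀ x ∈ A, ∀ y ∈ A, x * y = y * x
  A_sq : ∀ x ∈ A, x * x = 1
  A_card : Nat.card A = 2 ^ 24
  A_cent : ∀ c ∈ H, (∀ x ∈ A, c * x = x * c) → c ∈ A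
  T_sub : ∀ d ∈ T, d ∈ A
  T_ne : T.Nonempty
  T_uniq : ∀ d ∈ T, ∀ x : X, x * d * x⁻¹ ∈ H → x ∈ H
  alpha : ∀ c ∈ H, c * c = 1 → (∀ d ∈ T, c * d ≠ d * c) → c ∈ N
  beta : ∀ c ∈ N, Nat.card ↥(A ⊓ Subgroup.centralizer {c}) ≤ 2 ^ 12
  gamma : ∀ c₁ ∈ H, ∀ c₂ ∈ H, ∀ c₃ ∈ H, c₁ * c₂ = c₂ * c₁ → c₁ * c₃ = c₃ * c₁ → c₂ * c₃ = c₃ * c₂ →
    c₁ ∈ N → c₂ ∈ N → c₃ ∈ N → c₁ * c₂ ∈ N → c₁ * c₃ ∈ N → c₂ * c₃ ∈ N → c₁ * c₂ * c₃ ∉ N
  q_conj : ∀ h ∈ H, ∀ x ∈ A, q (h * x * h⁻¹) = q x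
  b_mul : ∀ x ∈ A, ∀ y ∈ A, ∀ z ∈ A, bb q (x * y) z = bb q x z + bb q y z
  nondeg : ∀ x ∈ A, (∀ y ∈ A, bb q x y = 0) → x = 1
  small : ∀ F : Subgroup X, F ≤ A → (∀ d ∈ T, d ∉ F) → Nat.card F ≤ 2 ^ 19

section Tools

variable {X : Type*} [Group X] [Finite X]

/-- an element of `W` avoiding few cosets of `F` -/
theorem exists_avoid (W F : Subgroup X) (s : Finset X) (h : s.card * Nat.card F < Nat.card W) :
    ∃ e ∈ W, ∀ x ∈ s, x⁻¹ * e ∉ F := by
  classical
  have : Fintype X := Fintype.ofFinite X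
  by_contra hcon
  push Not at hcon
  let f : X → Finset X := fun x => Finset.univ.filter fun e => x⁻¹ * e ∈ F
  have hf : ∀ x ∈ s, (f x).card ≤ Nat.card F := by
    intro x _
    rw [Nat.card_eq_fintype_card, Fintype.card_of_subtype (p := fun y => y ∈ F)
      (Finset.univ.filter fun y => y ∈ F) (by simp)]
    refine Finset.card_le_card_of_injOn (fun e => x⁻¹ * e) ?_ ?_
    · intro e he
      have : x⁻¹ * e ∈ F := by simpa [f] using he
      simpa using this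
    · intro a _ b _ hab
      exact mul_left_cancel hab
  have hsub : (Finset.univ.filter fun y => y ∈ W) ⊆ s.biUnion f := by
    intro e he
    have he' : e ∈ W := by simpa using he
    obtain ⟨x, hx, hxF⟩ := hcon e he'
    exact Finset.mem_biUnion.2 ⟨x, hx, by simpa [f] using hxF⟩
  have h1 := (Finset.card_le_card hsub).trans (Finset.card_biUnion_le_card_mul s f _ hf)
  have h2 : (Finset.univ.filter fun y => y ∈ W).card = Nat.card W := by
    rw [Nat.card_eq_fintype_card, Fintype.card_of_subtype (p := fun y => y ∈ W)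
      (Finset.univ.filter fun y => y ∈ W) (by simp)]
  omega

/-- three elements which are independent modulo `F` -/
theorem exists_three (W F : Subgroup X) (hsq : ∀ x ∈ W, x * x = 1)
    (h : 4 * Nat.card F < Nat.card W) :
    ∃ a ∈ W, ∃ b ∈ W, ∃ c ∈ W, a ∉ F ∧ b ∉ F ∧ c ∉ F ∧ a * b ∉ F ∧ a * c ∉ F ∧ b * c ∉ F ∧
      a * b * c ∉ F := by
  classical
  have hpos : 0 < Nat.card F := Nat.card_pos
  obtain ⟨a, ha, ha'⟩ := exists_avoid W F {1} (by simp; omega)
  obtain ⟨b, hb, hb'⟩ := exists_avoid W F {1, a} (by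
    have : ({1, a} : Finset X).card ≤ 2 := Finset.card_le_two
    nlinarith)
  obtain ⟨c, hc, hc'⟩ := exists_avoid W F {1, a, b, a * b} (by
    have : ({1, a, b, a * b} : Finset X).card ≤ 4 := Finset.card_le_four
    nlinarith)
  have ia : a⁻¹ = a := inv_eq_of_mul_eq_one_left (hsq a ha)
  have ib : b⁻¹ = b := inv_eq_of_mul_eq_one_left (hsq b hb)
  have iab : (a * b)⁻¹ = a * b := inv_eq_of_mul_eq_one_left (hsq _ (W.mul_mem ha hb))
  refine ⟨a, ha, b, hb, c, hc, ?_, ?_, ?_, ?_, ?_, ?_, ?_⟩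
  · simpa using ha' 1 (by simp)
  · simpa using hb' 1 (by simp)
  · simpa using hc' 1 (by simp)
  · have := hb' a (by simp); rwa [ia] at this
  · have := hc' a (by simp); rwa [ia] at this
  · have := hc' b (by simp); rwa [ib] at this
  · have := hc' (a * b) (by simp); rwa [iab] at this

/-- the commutator with an involution on a quotient -/
theorem exists_fix (A F : Subgroup X) (hFA : F ≤ A) (hsq : ∀ x ∈ A, x * x = 1)
    (hcm : ∀ x ∈ A, ∀ y ∈ A, x * y = y * x) (c : X) (hc : c * c = 1)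
    (hn : ∀ x ∈ A, c * x * c⁻¹ ∈ A) (hF : ∀ x ∈ F, c * x = x * c) :
    ∃ W : Subgroup X, W ≤ A ∧ F ≤ W ∧ (∀ e ∈ W, e * c * e⁻¹ * c⁻¹ ∈ F) ∧
      Nat.card A * Nat.card F ≤ Nat.card W * Nat.card W := by
  classical
  have hic : c⁻¹ = c := inv_eq_of_mul_eq_one_left hc
  let f : A →* X :=
    { toFun := fun e => (e : X) * (c * e * c⁻¹)
      map_one' := by simp
      map_mul' := by
        intro x y
        have h1 : (c * (x : X) * c⁻¹) * y = y * (c * x * c⁻¹) := hcm _ (hn _ x.2) _ y.2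
        show ((x : X) * y) * (c * ((x : X) * y) * c⁻¹) = (x * (c * x * c⁻¹)) * (y * (c * y * c⁻¹))
        calc ((x : X) * y) * (c * ((x : X) * y) * c⁻¹)
            = x * (y * (c * x * c⁻¹)) * (c * y * c⁻¹) := by group
          _ = x * ((c * x * c⁻¹) * y) * (c * y * c⁻¹) := by rw [h1]
          _ = _ := by group }
  have hf : ∀ e : A, f e = (e : X) * (c * e * c⁻¹) := fun _ => rfl
  let W₀ : Subgroup A := F.comap f
  have hmemW : ∀ e : A, e ∈ W₀ ↔ (e : X) * (c * e * c⁻¹) ∈ F := fun e => Iff.rfl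
  let W : Subgroup X := W₀.map A.subtype
  have hWA : W ≤ A := by
    rintro _ ⟨e, _, rfl⟩
    exact e.2
  have hcardW : Nat.card W = Nat.card W₀ :=
    (Nat.card_congr (W₀.equivMapOfInjective A.subtype A.subtype_injective).toEquiv).symm
  have hFW : F ≤ W := by
    intro x hx
    refine ⟨⟨x, hFA hx⟩, ?_, rfl⟩
    rw [SetLike.mem_coe, hmemW]
    show x * (c * x * c⁻¹) ∈ F
    rw [hF x hx, mul_inv_cancel_right, hsq x (hFA hx)]
    exact F.one_mem
  have hrange : f.range ≤ W := by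
    rintro _ ⟨e, rfl⟩
    have hfe : f e ∈ A := A.mul_mem e.2 (hn _ e.2)
    refine ⟨⟨f e, hfe⟩, ?_, rfl⟩
    rw [SetLike.mem_coe, hmemW]
    show f e * (c * f e * c⁻¹) ∈ F
    have h1 : (e : X) * (c * e * c⁻¹) = (c * e * c⁻¹) * e := hcm _ e.2 _ (hn _ e.2)
    have h2 : c * f e * c⁻¹ = f e := by
      rw [hf]
      calc c * ((e : X) * (c * e * c⁻¹)) * c⁻¹ = (c * e * c⁻¹) * (c * c) * e * (c * c)⁻¹ := by
            rw [hic]; simp only [mul_assoc, hc, mul_one, inv_one]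
        _ = (c * e * c⁻¹) * e := by rw [hc]; simp
        _ = _ := h1.symm
    rw [h2, hsq _ hfe]
    exact F.one_mem
  refine ⟨W, hWA, hFW, ?_, ?_⟩
  · rintro _ ⟨e, he, rfl⟩
    have h1 : (e : X)⁻¹ = e := inv_eq_of_mul_eq_one_left (hsq _ e.2)
    have h2 := (hmemW e).1 he
    show (e : X) * c * (e : X)⁻¹ * c⁻¹ ∈ F
    rw [h1]
    convert h2 using 1
    group
  · have h1 : W₀.index = F.relIndex f.range := Subgroup.index_comap F f
    have h2 : F.relIndex f.range ≤ F.relIndex W :=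
      Subgroup.relIndex_le_of_le_right hrange (by
        exact Subgroup.index_ne_zero_of_finite)
    have h3 : Nat.card W₀ * W₀.index = Nat.card A := W₀.card_mul_index
    have h4 : Nat.card F * F.relIndex W = Nat.card W := by
      have := Subgroup.relIndex_mul_relIndex (⊥ : Subgroup X) F W bot_le hFW
      rwa [Subgroup.relIndex_bot_left, Subgroup.relIndex_bot_left] at this
    calc Nat.card A * Nat.card F = (Nat.card W₀ * W₀.index) * Nat.card F := by rw [h3]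
      _ ≤ (Nat.card W₀ * F.relIndex W) * Nat.card F := by
          gcongr
          rw [h1]; exact h2
      _ = Nat.card W * (Nat.card F * F.relIndex W) := by rw [hcardW]; ring
      _ = Nat.card W * Nat.card W := by rw [h4]

end Tools

/-- `F ≤ A` has a centralizer which is not in `H` -/
def Bad {X : Type*} [Group X] (H A F : Subgroup X) : Prop :=
  F ≤ A ∧ ∃ g, (∀ x ∈ F, g * x = x * g) ∧ g ∉ H

/-- `F` is bad of maximal order -/
structure MaxBad {X : Type*} [Group X] (H A F : Subgroup X) : Prop where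
  bad : Bad H A F
  max : ∀ F' : Subgroup X, Bad H A F' → Nat.card F' ≤ Nat.card F

section Main

variable {X : Type*} [Group X] {H A F : Subgroup X} {T N : Set X} {q : X → ZMod 2}

theorem exists_maxBad [Finite X] (h : H ≠ ⊤) : ∃ F, MaxBad H A F := by
  obtain ⟨g, hg⟩ : ∃ g : X, g ∉ H := by
    by_contra hcon
    push Not at hcon
    exact h (Subgroup.eq_top_iff' H |>.2 hcon)
  have hne : {F : Subgroup X | Bad H A F}.Nonempty := by
    refine ⟨⊥, bot_le, g, ?_, hg⟩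
    intro x hx
    rw [Subgroup.mem_bot.1 hx, mul_one, one_mul]
  obtain ⟨F, hF, hmax⟩ := Set.exists_max_image {F : Subgroup X | Bad H A F} (fun F => Nat.card F)
    (Set.toFinite _) hne
  exact ⟨F, hF, fun F' h' => hmax F' h'⟩

/-- `F ≤ A^b` -/
def Pt (A F : Subgroup X) (b : X) : Prop := ∀ x ∈ F, b⁻¹ * x * b ∈ A

theorem conj_mul (b x y : X) : b⁻¹ * (x * y) * b = (b⁻¹ * x * b) * (b⁻¹ * y * b) := by group

theorem eq_of_conj {b x y : X} (h : b⁻¹ * x * b = b⁻¹ * y * b) : x = y :=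
  mul_left_cancel (mul_right_cancel h)

/-- the centralizer of a larger subgroup of `A^a` is in `H^a` -/
theorem cent_of_lt (hF : MaxBad H A F) {a : X} {F' : Subgroup X} (hF' : Pt A F' a)
    (hlt : Nat.card F < Nat.card F') {g : X} (hg : ∀ x ∈ F', g * x = x * g) : a⁻¹ * g * a ∈ H := by
  by_contra hcon
  let F'' : Subgroup X := F'.map (MulAut.conj a⁻¹).toMonoidHom
  have hmem : ∀ y, y ∈ F'' → ∃ x ∈ F', a⁻¹ * x * a = y := by
    rintro _ ⟨x, hx, rfl⟩
    refine ⟨x, hx, ?_⟩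
    simp
  have hcard : Nat.card F'' = Nat.card F' :=
    (Nat.card_congr (F'.equivMapOfInjective _ (MulAut.conj a⁻¹).injective).toEquiv).symm
  have hbad : Bad H A F'' := by
    refine ⟨?_, a⁻¹ * g * a, ?_, hcon⟩
    · intro y hy
      obtain ⟨x, hx, rfl⟩ := hmem y hy
      exact hF' x hx
    · intro y hy
      obtain ⟨x, hx, rfl⟩ := hmem y hy
      rw [← conj_mul, ← conj_mul, hg x hx]
  have := hF.max F'' hbad
  omega

namespace Hyp

variable (h : Hyp H A T N q)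

include h

theorem comm_at {b x y : X} (hx : b⁻¹ * x * b ∈ A) (hy : b⁻¹ * y * b ∈ A) : x * y = y * x := by
  apply eq_of_conj (b := b)
  rw [conj_mul, conj_mul]
  exact h.A_comm _ hx _ hy

theorem sq_at {b x : X} (hx : b⁻¹ * x * b ∈ A) : x * x = 1 := by
  apply eq_of_conj (b := b)
  rw [conj_mul, h.A_sq _ hx]
  group

/-- elements of `H` normalize `A` in both directions -/
theorem conj_iff {k x : X} (hk : k ∈ H) : k⁻¹ * x * k ∈ A ↔ x ∈ A := by
  constructor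
  · intro h1
    have h2 := h.A_conj k hk _ h1
    have e : k * (k⁻¹ * x * k) * k⁻¹ = x := by group
    rwa [e] at h2
  · intro h1
    have h2 := h.A_conj k⁻¹ (H.inv_mem hk) _ h1
    rwa [inv_inv] at h2

/-- the same point -/
theorem at_congr {a b x : X} (hab : a⁻¹ * b ∈ H) : b⁻¹ * x * b ∈ A ↔ a⁻¹ * x * a ∈ A := by
  rw [← h.conj_iff hab (x := a⁻¹ * x * a)]
  have e : (a⁻¹ * b)⁻¹ * (a⁻¹ * x * a) * (a⁻¹ * b) = b⁻¹ * x * b := by group
  rw [e]

/-- normalizers modulo `F` -/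
theorem norm_of [Finite X] (hF : MaxBad H A F) {a c e : X} (ha : Pt A F a) (hc : a⁻¹ * c * a ∈ A) (hcF : c ∉ F)
    (he : ∀ x ∈ F, e * x = x * e) (hec : e * c * e⁻¹ * c⁻¹ ∈ F) : a⁻¹ * e * a ∈ H := by
  obtain ⟨t, ht⟩ := h.T_ne
  set d : X := a * t * a⁻¹ with hd
  have hda : a⁻¹ * d * a ∈ A := by
    have e1 : a⁻¹ * d * a = t := by rw [hd]; group
    rw [e1]; exact h.T_sub t ht
  let F' : Subgroup X := F ⊔ Subgroup.zpowers c
  have hcF' : c ∈ F' := (le_sup_right : _ ≤ F') (Subgroup.mem_zpowers c)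
  have hF'A : Pt A F' a := by
    have hle : F' ≤ A.comap (MulAut.conj a⁻¹).toMonoidHom := by
      refine sup_le ?_ ?_
      · intro x hx
        simpa [MulAut.conj_apply] using ha x hx
      · rw [Subgroup.zpowers_le]
        simpa [MulAut.conj_apply] using hc
    intro x hx
    simpa [MulAut.conj_apply] using hle hx
  have hlt : Nat.card F < Nat.card F' := by
    by_contra hcon
    have := Subgroup.eq_of_le_of_card_ge (H := F) (K := F') le_sup_left (not_lt.1 hcon)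
    rw [this] at hcF
    exact hcF hcF'
  have hF'c : F' ≤ Subgroup.centralizer {e * d * e⁻¹} := by
    refine sup_le ?_ ?_
    · intro x hx
      rw [Subgroup.mem_centralizer_singleton_iff]
      have h1 := he x hx
      have h2 : d * x = x * d := h.comm_at hda (ha x hx)
      have h3 : e⁻¹ * x = x * e⁻¹ := by
        calc e⁻¹ * x = e⁻¹ * (x * e) * e⁻¹ := by group
          _ = e⁻¹ * (e * x) * e⁻¹ := by rw [h1]
          _ = _ := by group
      calc x * (e * d * e⁻¹) = (x * e) * d * e⁻¹ := by group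
        _ = (e * x) * d * e⁻¹ := by rw [h1]
        _ = e * (x * d) * e⁻¹ := by group
        _ = e * (d * x) * e⁻¹ := by rw [h2]
        _ = e * d * (x * e⁻¹) := by group
        _ = e * d * (e⁻¹ * x) := by rw [h3]
        _ = (e * d * e⁻¹) * x := by group
    · rw [Subgroup.zpowers_le, Subgroup.mem_centralizer_singleton_iff]
      -- `c` commutes with `e d e⁻¹`
      set f := e * c * e⁻¹ * c⁻¹ with hf
      have hfd : f * d = d * f := h.comm_at (ha f hec) hda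
      have hfe : e * f = f * e := he f hec
      have hcd : c * d = d * c := h.comm_at hc hda
      have hc' : c = f⁻¹ * (e * c * e⁻¹) := by rw [hf]; group
      have h4 : e⁻¹ * f⁻¹ = f⁻¹ * e⁻¹ := by
        rw [← mul_inv_rev, ← mul_inv_rev, hfe]
      have h5 : f⁻¹ * d = d * f⁻¹ := by
        calc f⁻¹ * d = f⁻¹ * (d * f) * f⁻¹ := by group
          _ = f⁻¹ * (f * d) * f⁻¹ := by rw [hfd]
          _ = _ := by group
      have h6 : f⁻¹ * e = e * f⁻¹ := by
        calc f⁻¹ * e = f⁻¹ * (e * f) * f⁻¹ := by group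
          _ = f⁻¹ * (f * e) * f⁻¹ := by rw [hfe]
          _ = _ := by group
      calc c * (e * d * e⁻¹) = f⁻¹ * (e * c * e⁻¹) * (e * d * e⁻¹) := by rw [← hc']
        _ = f⁻¹ * e * (c * d) * e⁻¹ := by group
        _ = f⁻¹ * e * (d * c) * e⁻¹ := by rw [hcd]
        _ = (e * f⁻¹) * d * c * e⁻¹ := by rw [h6]; group
        _ = e * (f⁻¹ * d) * c * e⁻¹ := by group
        _ = e * (d * f⁻¹) * c * e⁻¹ := by rw [h5]
        _ = e * d * e⁻¹ * (e * f⁻¹) * c * e⁻¹ := by group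
        _ = e * d * e⁻¹ * (f⁻¹ * e) * c * e⁻¹ := by rw [h6]
        _ = (e * d * e⁻¹) * (f⁻¹ * (e * c * e⁻¹)) := by group
        _ = (e * d * e⁻¹) * c := by rw [← hc']
  have h7 : a⁻¹ * (e * d * e⁻¹) * a ∈ H := by
    refine cent_of_lt hF hF'A hlt ?_
    intro x hx
    have := Subgroup.mem_centralizer_singleton_iff.1 (hF'c hx)
    exact this.symm
  apply h.T_uniq t ht
  have e2 : a⁻¹ * (e * d * e⁻¹) * a = (a⁻¹ * e * a) * t * (a⁻¹ * e * a)⁻¹ := by rw [hd]; group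
  rwa [e2] at h7

/-- elements of `A^a ∩ H^b` are in `N` -/
theorem bad_N [Finite X] (hF : MaxBad H A F) {a b c : X} (ha : Pt A F a) (hb : Pt A F b) (hab : a⁻¹ * b ∉ H)
    (hc : a⁻¹ * c * a ∈ A) (hcb : b⁻¹ * c * b ∈ H) (hcF : c ∉ F) : b⁻¹ * c * b ∈ N := by
  apply h.alpha _ hcb
  · rw [← conj_mul, h.sq_at hc]; group
  · intro d hd hcd
    apply hab
    apply h.T_uniq d hd
    have hdb : b⁻¹ * (b * d * b⁻¹) * b ∈ A := by
      have e1 : b⁻¹ * (b * d * b⁻¹) * b = d := by group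
      rw [e1]; exact h.T_sub d hd
    have hce : c * (b * d * b⁻¹) = (b * d * b⁻¹) * c := by
      calc c * (b * d * b⁻¹) = b * ((b⁻¹ * c * b) * d) * b⁻¹ := by group
        _ = b * (d * (b⁻¹ * c * b)) * b⁻¹ := by rw [hcd]
        _ = _ := by group
    have h1 : a⁻¹ * (b * d * b⁻¹) * a ∈ H := by
      refine h.norm_of hF ha hc hcF ?_ ?_
      · intro x hx
        exact h.comm_at hdb (hb x hx)
      · rw [← hce]
        have e1 : c * (b * d * b⁻¹) * (b * d * b⁻¹)⁻¹ * c⁻¹ = 1 := by group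
        rw [e1]; exact F.one_mem
    have e2 : a⁻¹ * b * d * (a⁻¹ * b)⁻¹ = a⁻¹ * (b * d * b⁻¹) * a := by group
    rwa [e2]

/-- `A^a ∩ H^b = F` -/
theorem mem_F [Finite X] (hF : MaxBad H A F) {a b c : X} (ha : Pt A F a) (hb : Pt A F b) (hab : a⁻¹ * b ∉ H)
    (hc : a⁻¹ * c * a ∈ A) (hcb : b⁻¹ * c * b ∈ H) : c ∈ F := by
  by_contra hcF
  have hba : b⁻¹ * a ∉ H := fun h1 => hab (by
    have := H.inv_mem h1
    rwa [mul_inv_rev, inv_inv] at this)
  have hcN := h.bad_N hF ha hb hab hc hcb hcF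
  set c' : X := b⁻¹ * c * b with hc'
  have hc'2 : c' * c' = 1 := by rw [hc', ← conj_mul, h.sq_at hc]; group
  let F₁ : Subgroup X := F.map (MulAut.conj b⁻¹).toMonoidHom
  have hmem : ∀ y, y ∈ F₁ ↔ b * y * b⁻¹ ∈ F := by
    intro y
    constructor
    · rintro ⟨x, hx, rfl⟩
      have : b * ((MulAut.conj b⁻¹).toMonoidHom x) * b⁻¹ = x := by
        simp [mul_assoc]
      rwa [this]
    · intro hy
      refine ⟨_, hy, ?_⟩
      simp [mul_assoc]
  have hcard : Nat.card F₁ = Nat.card F :=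
    (Nat.card_congr (F.equivMapOfInjective _ (MulAut.conj b⁻¹).injective).toEquiv).symm
  have hF₁A : F₁ ≤ A := by
    intro y hy
    have := hb _ ((hmem y).1 hy)
    have e1 : b⁻¹ * (b * y * b⁻¹) * b = y := by group
    rwa [e1] at this
  have hF₁c : ∀ x ∈ F₁, c' * x = x * c' := by
    intro x hx
    have h1 := (hmem x).1 hx
    have h2 : c * (b * x * b⁻¹) = (b * x * b⁻¹) * c := h.comm_at hc (ha _ h1)
    have e1 : b⁻¹ * (b * x * b⁻¹) * b = x := by group
    calc c' * x = b⁻¹ * (c * (b * x * b⁻¹)) * b := by rw [hc']; group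
      _ = b⁻¹ * ((b * x * b⁻¹) * c) * b := by rw [h2]
      _ = x * c' := by rw [hc']; group
  have hle : Nat.card F₁ ≤ 2 ^ 12 := by
    refine le_trans ?_ (h.beta c' hcN)
    refine Nat.card_le_card_of_injective
      (Subgroup.inclusion (H := F₁) (K := A ⊓ Subgroup.centralizer {c'}) ?_)
      (Subgroup.inclusion_injective _)
    intro x hx
    exact ⟨hF₁A hx, Subgroup.mem_centralizer_singleton_iff.2 (hF₁c x hx).symm⟩
  obtain ⟨W, hWA, hFW, hW, hcardW⟩ := exists_fix A F₁ hF₁A h.A_sq h.A_comm c' hc'2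
    (fun x hx => h.A_conj c' hcb x hx) hF₁c
  have hWN : ∀ e ∈ W, a⁻¹ * (b * e * b⁻¹) * a ∈ H := by
    intro e he
    have heb : b⁻¹ * (b * e * b⁻¹) * b ∈ A := by
      have e1 : b⁻¹ * (b * e * b⁻¹) * b = e := by group
      rw [e1]; exact hWA he
    refine h.norm_of hF ha hc hcF ?_ ?_
    · intro x hx
      exact h.comm_at heb (hb x hx)
    · have h1 := (hmem _).1 (hW e he)
      have e1 : b * (e * c' * e⁻¹ * c'⁻¹) * b⁻¹ = b * e * b⁻¹ * c * (b * e * b⁻¹)⁻¹ * c⁻¹ := by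
        rw [hc']; group
      rwa [e1] at h1
  by_cases hcmp : 4 * Nat.card F₁ < Nat.card W
  · obtain ⟨e₁, h₁, e₂, h₂, e₃, h₃, n₁, n₂, n₃, n₁₂, n₁₃, n₂₃, n₁₂₃⟩ :=
      exists_three W F₁ (fun x hx => h.A_sq x (hWA hx)) hcmp
    have key : ∀ e ∈ W, e ∉ F₁ → a⁻¹ * (b * e * b⁻¹) * a ∈ N := by
      intro e he hn
      refine h.bad_N hF hb ha hba ?_ (hWN e he) ?_
      · have e1 : b⁻¹ * (b * e * b⁻¹) * b = e := by group
        rw [e1]; exact hWA he
      · intro h1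
        exact hn ((hmem e).2 h1)
    have hmul : ∀ x y : X, a⁻¹ * (b * (x * y) * b⁻¹) * a =
        (a⁻¹ * (b * x * b⁻¹) * a) * (a⁻¹ * (b * y * b⁻¹) * a) := by intro x y; group
    have hcomm : ∀ x ∈ W, ∀ y ∈ W, (a⁻¹ * (b * x * b⁻¹) * a) * (a⁻¹ * (b * y * b⁻¹) * a) =
        (a⁻¹ * (b * y * b⁻¹) * a) * (a⁻¹ * (b * x * b⁻¹) * a) := by
      intro x hx y hy
      rw [← hmul, ← hmul, h.A_comm x (hWA hx) y (hWA hy)]
    refine h.gamma _ (hWN e₁ h₁) _ (hWN e₂ h₂) _ (hWN e₃ h₃) (hcomm _ h₁ _ h₂) (hcomm _ h₁ _ h₃)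
      (hcomm _ h₂ _ h₃) (key _ h₁ n₁) (key _ h₂ n₂) (key _ h₃ n₃) ?_ ?_ ?_ ?_
    · rw [← hmul]; exact key _ (W.mul_mem h₁ h₂) n₁₂
    · rw [← hmul]; exact key _ (W.mul_mem h₁ h₃) n₁₃
    · rw [← hmul]; exact key _ (W.mul_mem h₂ h₃) n₂₃
    · rw [← hmul, ← hmul]; exact key _ (W.mul_mem (W.mul_mem h₁ h₂) h₃) n₁₂₃
  · push Not at hcmp
    have hpos : 0 < Nat.card F₁ := Nat.card_pos
    rw [h.A_card] at hcardW
    have h1 : Nat.card W * Nat.card W ≤ (4 * Nat.card F₁) * (4 * Nat.card F₁) :=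
      Nat.mul_le_mul hcmp hcmp
    have h2 : 2 ^ 24 * Nat.card F₁ ≤ (16 * Nat.card F₁) * Nat.card F₁ := by
      calc _ ≤ _ := hcardW
        _ ≤ _ := h1
        _ = _ := by ring
    have h3 : 2 ^ 24 ≤ 16 * Nat.card F₁ := Nat.le_of_mul_le_mul_right h2 hpos
    omega

end Hyp

/-! ### The group `C(F) / F` -/

/-- `C(F)` -/
abbrev CF (F : Subgroup X) : Subgroup X := Subgroup.centralizer (F : Set X)

/-- `F` as a subgroup of `C(F)` -/
abbrev FC (F : Subgroup X) : Subgroup (CF F) := F.subgroupOf (CF F)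

theorem mem_CF {F : Subgroup X} {g : X} : g ∈ CF F ↔ ∀ x ∈ F, g * x = x * g := by
  rw [Subgroup.mem_centralizer_iff]
  constructor
  · intro h x hx; exact (h x hx).symm
  · intro h x hx; exact (h x hx).symm

instance FC_normal (F : Subgroup X) : (FC F).Normal := by
  constructor
  intro n hn g
  rw [Subgroup.mem_subgroupOf] at hn ⊢
  have h1 := mem_CF.1 g.2 _ hn
  have : ((g * n * g⁻¹ : CF F) : X) = n := by
    show (g : X) * n * (g : X)⁻¹ = n
    rw [h1, mul_inv_cancel_right]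
  rwa [this]

/-- `s` is represented in `A^b` -/
def In (A F : Subgroup X) (b : X) (s : CF F ⧸ FC F) : Prop :=
  ∃ w : CF F, (w : CF F ⧸ FC F) = s ∧ b⁻¹ * (w : X) * b ∈ A

/-- the involutions -/
def S (A F : Subgroup X) : Set (CF F ⧸ FC F) := {s | s ≠ 1 ∧ ∃ b, Pt A F b ∧ In A F b s}

/-- same point -/
def E (A F : Subgroup X) (s t : CF F ⧸ FC F) : Prop := ∃ b, Pt A F b ∧ In A F b s ∧ In A F b t

theorem In.rep {b : X} {s : CF F ⧸ FC F} (hs : In A F b s) (hb : Pt A F b) (w : CF F)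
    (hw : (w : CF F ⧸ FC F) = s) : b⁻¹ * (w : X) * b ∈ A := by
  obtain ⟨w', hw', hA⟩ := hs
  have h1 : w'⁻¹ * w ∈ FC F := by
    rw [← QuotientGroup.eq, hw, hw']
  rw [Subgroup.mem_subgroupOf] at h1
  have h2 := A.mul_mem hA (hb _ h1)
  rw [← conj_mul] at h2
  have e : (w' : X) * ((w'⁻¹ * w : CF F) : X) = w := by
    show (w' : X) * ((w' : X)⁻¹ * w) = w
    group
  rwa [e] at h2

theorem Pt.mul {b : X} (hb : Pt A F b) (g : CF F) : Pt A F ((g : X) * b) := by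
  intro x hx
  have h1 := mem_CF.1 g.2 x hx
  have e : ((g : X) * b)⁻¹ * x * ((g : X) * b) = b⁻¹ * x * b := by
    calc ((g : X) * b)⁻¹ * x * ((g : X) * b) = b⁻¹ * (g : X)⁻¹ * (x * g) * b := by group
      _ = b⁻¹ * (g : X)⁻¹ * (g * x) * b := by rw [h1]
      _ = _ := by group
  rw [e]
  exact hb x hx

theorem In.conj {b : X} {s : CF F ⧸ FC F} (hs : In A F b s) (g : CF F) :
    In A F ((g : X) * b) ((g : CF F ⧸ FC F) * s * (g : CF F ⧸ FC F)⁻¹) := by
  obtain ⟨w, rfl, hA⟩ := hs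
  refine ⟨g * w * g⁻¹, rfl, ?_⟩
  have e : ((g : X) * b)⁻¹ * ((g * w * g⁻¹ : CF F) : X) * ((g : X) * b) = b⁻¹ * w * b := by
    show ((g : X) * b)⁻¹ * ((g : X) * w * (g : X)⁻¹) * ((g : X) * b) = b⁻¹ * w * b
    group
  rwa [e]

namespace Hyp

variable (h : Hyp H A T N q)

include h

theorem key [Finite X] (hF : MaxBad H A F) {b b' : X} (hb : Pt A F b) (hb' : Pt A F b')
    {s : CF F ⧸ FC F} (hs : In A F b s) (hs1 : s ≠ 1) (w : CF F) (hw : (w : CF F ⧸ FC F) = s)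
    (hH : b'⁻¹ * (w : X) * b' ∈ H) : b⁻¹ * b' ∈ H := by
  by_contra hcon
  apply hs1
  have h1 := h.mem_F hF hb hb' hcon (hs.rep hb w hw) hH
  rw [← hw]
  exact (QuotientGroup.eq_one_iff w).2 (Subgroup.mem_subgroupOf.2 h1)

theorem key' [Finite X] (hF : MaxBad H A F) {b b' : X} (hb : Pt A F b) (hb' : Pt A F b')
    {s : CF F ⧸ FC F} (hs : In A F b s) (hs' : In A F b' s) (hs1 : s ≠ 1) : b⁻¹ * b' ∈ H := by
  obtain ⟨w, hw, hA⟩ := hs'
  exact h.key hF hb hb' hs hs1 w hw (h.A_le hA)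

theorem In_congr {b b' : X} (hbb : b⁻¹ * b' ∈ H) {s : CF F ⧸ FC F} : In A F b' s ↔ In A F b s := by
  constructor
  · rintro ⟨w, hw, hA⟩
    exact ⟨w, hw, (h.at_congr hbb).1 hA⟩
  · rintro ⟨w, hw, hA⟩
    exact ⟨w, hw, (h.at_congr hbb).2 hA⟩

theorem se [Finite X] (hF : MaxBad H A F) : CloseSE.Hyp (S A F) (E A F) where
  sq := by
    rintro s ⟨_, b, _, w, rfl, hA⟩
    rw [← QuotientGroup.mk_mul]
    have : w * w = 1 := Subtype.ext (h.sq_at hA)
    rw [this, QuotientGroup.mk_one]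
  ne := fun s hs => hs.1
  conj := by
    rintro s ⟨hs1, b, hb, hs⟩ g
    obtain ⟨g, rfl⟩ := QuotientGroup.mk_surjective g
    refine ⟨?_, (g : X) * b, hb.mul g, hs.conj g⟩
    intro h1
    apply hs1
    have h2 := congrArg (fun y => ((g : CF F ⧸ FC F))⁻¹ * y * (g : CF F ⧸ FC F)) h1
    simpa [mul_assoc] using h2
  refl := by
    rintro s ⟨_, b, hb, hs⟩
    exact ⟨b, hb, hs, hs⟩
  symm := by
    rintro s _ t _ ⟨b, hb, h1, h2⟩
    exact ⟨b, hb, h2, h1⟩
  trans := by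
    rintro s _ t ht u _ ⟨b, hb, h1, h2⟩ ⟨b', hb', h3, h4⟩
    have h5 := h.key' hF hb hb' h2 h3 ht.1
    exact ⟨b, hb, h1, (h.In_congr h5).1 h4⟩
  fix := by
    rintro w ⟨hw1, b', hb', hw⟩ s ⟨hs1, -⟩ ⟨b, hb, h1, h2⟩
    obtain ⟨w, rfl⟩ := QuotientGroup.mk_surjective w
    have h3 : (w : CF F ⧸ FC F) * s * (w : CF F ⧸ FC F)⁻¹ ≠ 1 := by
      intro h4
      apply hs1
      have h5 := congrArg (fun y => ((w : CF F ⧸ FC F))⁻¹ * y * (w : CF F ⧸ FC F)) h4
      simpa [mul_assoc] using h5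
    have h4 := h.key' hF (hb.mul w) hb (h1.conj w) h2 h3
    have h5 : b⁻¹ * (w : X) * b ∈ H := by
      have := H.inv_mem h4
      have e : (((w : X) * b)⁻¹ * b)⁻¹ = b⁻¹ * (w : X) * b := by group
      rwa [e] at this
    have h6 := h.key hF hb' hb hw hw1 w rfl h5
    exact ⟨b, hb, (h.In_congr h6).2 hw, h1⟩
  mul := by
    rintro w hw x hx hne _ ⟨b, hb, h1, h2⟩
    have hwx : In A F b (w * x) := by
      obtain ⟨w', rfl, hw'⟩ := h1
      obtain ⟨x', rfl, hx'⟩ := h2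
      refine ⟨w' * x', rfl, ?_⟩
      show b⁻¹ * ((w' : X) * x') * b ∈ A
      rw [conj_mul]
      exact A.mul_mem hw' hx'
    refine ⟨⟨?_, b, hb, hwx⟩, b, hb, h1, hwx⟩
    intro h3
    apply hne
    obtain ⟨x', rfl, hx'⟩ := h2
    have h4 : (x' : CF F ⧸ FC F) * x' = 1 := by
      rw [← QuotientGroup.mk_mul]
      have : x' * x' = 1 := Subtype.ext (h.sq_at hx')
      rw [this, QuotientGroup.mk_one]
    exact mul_right_cancel (h3.trans h4.symm)

/-- `C_H(F)` is transitive on the nontrivial cosets of `F` in `A` -/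
theorem transit [Finite X] (hF : MaxBad H A F) {w₁ w₂ : X} (h₁ : w₁ ∈ A) (h₂ : w₂ ∈ A)
    (n₁ : w₁ ∉ F) (n₂ : w₂ ∉ F) :
    ∃ k ∈ H, (∀ x ∈ F, k * x = x * k) ∧ ∃ f ∈ F, k * w₁ * k⁻¹ = w₂ * f := by
  obtain ⟨hFA, g, hg, hgH⟩ := hF.bad
  have c₁ : w₁ ∈ CF F := mem_CF.2 fun x hx => h.A_comm _ h₁ _ (hFA hx)
  have c₂ : w₂ ∈ CF F := mem_CF.2 fun x hx => h.A_comm _ h₂ _ (hFA hx)
  have cg : g ∈ CF F := mem_CF.2 hg
  have hP1 : Pt A F (1 : X) := by
    intro x hx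
    have := hFA hx
    simpa using this
  have i₁ : In A F 1 ((⟨w₁, c₁⟩ : CF F) : CF F ⧸ FC F) := ⟨⟨w₁, c₁⟩, rfl, by simpa using h₁⟩
  have i₂ : In A F 1 ((⟨w₂, c₂⟩ : CF F) : CF F ⧸ FC F) := ⟨⟨w₂, c₂⟩, rfl, by simpa using h₂⟩
  have e₁ : ((⟨w₁, c₁⟩ : CF F) : CF F ⧸ FC F) ≠ 1 := fun h0 =>
    n₁ (Subgroup.mem_subgroupOf.1 ((QuotientGroup.eq_one_iff _).1 h0))
  have e₂ : ((⟨w₂, c₂⟩ : CF F) : CF F ⧸ FC F) ≠ 1 := fun h0 =>
    n₂ (Subgroup.mem_subgroupOf.1 ((QuotientGroup.eq_one_iff _).1 h0))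
  obtain ⟨k, hk⟩ := CloseSE.conj_of (h.se hF) (w₁ := ((⟨w₁, c₁⟩ : CF F) : CF F ⧸ FC F))
    (w₂ := ((⟨w₂, c₂⟩ : CF F) : CF F ⧸ FC F)) (g := ((⟨g, cg⟩ : CF F) : CF F ⧸ FC F))
    ⟨e₁, 1, hP1, i₁⟩ ⟨e₂, 1, hP1, i₂⟩ ⟨1, hP1, i₁, i₂⟩ (by
      rintro ⟨b, hb, j₁, j₂⟩
      have h3 := h.key' hF hP1 hb i₁ j₁ e₁
      have h4 := h.key' hF (hP1.mul ⟨g, cg⟩) hb (i₁.conj ⟨g, cg⟩) j₂ (by
        intro h5
        apply e₁
        have h6 := congrArg (fun y => (((⟨g, cg⟩ : CF F) : CF F ⧸ FC F))⁻¹ * y *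
          ((⟨g, cg⟩ : CF F) : CF F ⧸ FC F)) h5
        simpa [mul_assoc] using h6)
      apply hgH
      have h5 : b ∈ H := by simpa using h3
      have h6 : g⁻¹ * b ∈ H := by simpa using h4
      have h7 := H.mul_mem h5 (H.inv_mem h6)
      have e : b * (g⁻¹ * b)⁻¹ = g := by group
      rwa [e] at h7)
  obtain ⟨k, rfl⟩ := QuotientGroup.mk_surjective k
  refine ⟨k, ?_, mem_CF.1 k.2, ?_⟩
  · have h3 := i₁.conj k
    rw [hk] at h3
    have h4 := h.key' hF (hP1.mul k) hP1 h3 i₂ e₂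
    have h5 : (k : X)⁻¹ ∈ H := by simpa using h4
    simpa using H.inv_mem h5
  · rw [← QuotientGroup.mk_inv, ← QuotientGroup.mk_mul, ← QuotientGroup.mk_mul, eq_comm,
      QuotientGroup.eq] at hk
    refine ⟨_, Subgroup.mem_subgroupOf.1 hk, ?_⟩
    show (k : X) * w₁ * (k : X)⁻¹ = w₂ * (w₂⁻¹ * ((k : X) * w₁ * (k : X)⁻¹))
    group

/-! ### The forms -/

theorem b_comm (x y : X) (hx : x ∈ A) (hy : y ∈ A) : bb q x y = bb q y x := by
  unfold bb
  rw [h.A_comm x hx y hy]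
  ring

theorem b_conj {k : X} (hk : k ∈ H) {x y : X} (hx : x ∈ A) (hy : y ∈ A) :
    bb q (k * x * k⁻¹) (k * y * k⁻¹) = bb q x y := by
  unfold bb
  have e : k * x * k⁻¹ * (k * y * k⁻¹) = k * (x * y) * k⁻¹ := by group
  rw [e, h.q_conj k hk _ (A.mul_mem hx hy), h.q_conj k hk _ hx, h.q_conj k hk _ hy]

theorem b_mul_right {x y z : X} (hx : x ∈ A) (hy : y ∈ A) (hz : z ∈ A) :
    bb q x (y * z) = bb q x y + bb q x z := by
  rw [h.b_comm x _ hx (A.mul_mem hy hz), h.b_mul y hy z hz x hx, h.b_comm x y hx hy,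
    h.b_comm x z hx hz]

theorem b_one {x : X} (hx : x ∈ A) : bb q x 1 = 0 := by
  have := h.b_mul_right hx A.one_mem A.one_mem
  rw [mul_one] at this
  exact (add_eq_left.1 this.symm)

theorem q_one : q 1 = 0 := by
  have h1 := h.b_one A.one_mem
  unfold bb at h1
  rw [mul_one] at h1
  have h2 : q 1 + q 1 = 0 := CharTwo.add_self_eq_zero _
  rwa [h2, zero_add] at h1

/-- **Closing.** -/
theorem eq_top [Finite X] : H = ⊤ := by
  by_contra hne
  obtain ⟨F, hF⟩ := exists_maxBad (A := A) hne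
  have hFA := hF.bad.1
  have hFT : ∀ d ∈ T, d ∉ F := by
    intro d hd hdF
    obtain ⟨g, hg, hgH⟩ := hF.bad.2
    apply hgH
    apply h.T_uniq d hd
    rw [hg d hdF, mul_inv_cancel_right]
    exact h.A_le (h.T_sub d hd)
  have hcard := h.small F hFA hFT
  have two : ∀ x : ZMod 2, x ≠ 0 → x = 1 := by decide
  have iA : ∀ x ∈ A, x⁻¹ = x := fun x hx => inv_eq_of_mul_eq_one_left (h.A_sq x hx)
  -- elements of `A` outside two cosets
  have avoid2 : ∀ w : X, ∃ e ∈ A, e ∉ F ∧ w⁻¹ * e ∉ F := by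
    intro w
    classical
    obtain ⟨e, he, he'⟩ := exists_avoid A F {1, w} (by
      have : ({1, w} : Finset X).card ≤ 2 := Finset.card_le_two
      rw [h.A_card]
      calc _ ≤ 2 * 2 ^ 19 := Nat.mul_le_mul this hcard
        _ < _ := by norm_num)
    exact ⟨e, he, by simpa using he' 1 (by simp), he' w (by simp)⟩
  by_cases hrad : ∃ f₀ ∈ F, f₀ ≠ 1 ∧ ∀ f ∈ F, bb q f₀ f = 0
  · obtain ⟨f₀, hf₀, hf1, horth⟩ := hrad
    have hf₀A := hFA hf₀
    obtain ⟨w₁, hw₁, hb₁⟩ : ∃ y ∈ A, bb q f₀ y ≠ 0 := by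
      by_contra hcon
      push Not at hcon
      exact hf1 (h.nondeg f₀ hf₀A hcon)
    have n₁ : w₁ ∉ F := fun hh => hb₁ (horth _ hh)
    obtain ⟨w₂, hw₂, hb₂, n₂⟩ : ∃ w₂ ∈ A, bb q f₀ w₂ = 0 ∧ w₂ ∉ F := by
      obtain ⟨e, he, e1, e2⟩ := avoid2 w₁
      by_cases hbe : bb q f₀ e = 0
      · exact ⟨e, he, hbe, e1⟩
      · refine ⟨w₁ * e, A.mul_mem hw₁ he, ?_, ?_⟩
        · rw [h.b_mul_right hf₀A hw₁ he, two _ hb₁, two _ hbe]
          decide
        · rwa [iA w₁ hw₁] at e2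
    obtain ⟨k, hkH, hk, f, hf, hkf⟩ := h.transit hF hw₁ hw₂ n₁ n₂
    apply hb₁
    have e0 : k * f₀ * k⁻¹ = f₀ := by rw [hk f₀ hf₀, mul_inv_cancel_right]
    rw [← h.b_conj hkH hf₀A hw₁, e0, hkf, h.b_mul_right hf₀A hw₂ (hFA hf), hb₂, horth f hf,
      add_zero]
  · push Not at hrad
    -- the orthogonal complement
    have hdisj : ∀ f ∈ F, (∀ f' ∈ F, bb q f' f = 0) → f = 1 := by
      intro f hf hh
      by_contra hf1
      obtain ⟨f', hf', hne'⟩ := hrad f hf hf1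
      apply hne'
      rw [h.b_comm f f' (hFA hf) (hFA hf')]
      exact hh f' hf'
    have hinv : ∀ k ∈ H, (∀ x ∈ F, k * x = x * k) → ∀ w ∈ A, ∀ f' ∈ F,
        bb q f' (k * w * k⁻¹) = bb q f' w := by
      intro k hkH hk w hw f' hf'
      have e0 : k * f' * k⁻¹ = f' := by rw [hk f' hf', mul_inv_cancel_right]
      calc bb q f' (k * w * k⁻¹) = bb q (k * f' * k⁻¹) (k * w * k⁻¹) := by rw [e0]
        _ = _ := h.b_conj hkH (hFA hf') hw
    by_cases hperp : ∃ w₁ ∈ A, w₁ ≠ 1 ∧ ∀ f ∈ F, bb q f w₁ = 0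
    · obtain ⟨w₁, hw₁, hw1, hp₁⟩ := hperp
      have notF : ∀ w, w ≠ 1 → (∀ f ∈ F, bb q f w = 0) → w ∉ F := by
        intro w hw hp hwF
        exact hw (hdisj w hwF hp)
      have hdec : ∀ w ∈ A, ∃ f ∈ F, ∀ f' ∈ F, bb q f' (w * f) = 0 := by
        intro w hw
        by_cases hwF : w ∈ F
        · refine ⟨w, hwF, ?_⟩
          intro f' hf'
          rw [h.A_sq w hw]
          exact h.b_one (hFA hf')
        · obtain ⟨k, hkH, hk, f, hf, hkf⟩ := h.transit hF hw₁ hw (notF w₁ hw1 hp₁) hwF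
          refine ⟨f, hf, ?_⟩
          intro f' hf'
          rw [← hkf, hinv k hkH hk w₁ hw₁ f' hf']
          exact hp₁ f' hf'
      have hconst : ∀ u ∈ A, ∀ v ∈ A, u ≠ 1 → v ≠ 1 → (∀ f ∈ F, bb q f u = 0) →
          (∀ f ∈ F, bb q f v = 0) → q u = q v := by
        intro u hu v hv hu1 hv1 hup hvp
        obtain ⟨k, hkH, hk, f, hf, hkf⟩ := h.transit hF hu hv (notF u hu1 hup) (notF v hv1 hvp)
        have hf1 : f = 1 := by
          apply hdisj f hf
          intro f' hf'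
          have h1 : bb q f' (v * f) = 0 := by
            rw [← hkf, hinv k hkH hk u hu f' hf']; exact hup f' hf'
          rw [h.b_mul_right (hFA hf') hv (hFA hf), hvp f' hf', zero_add] at h1
          exact h1
        rw [hf1, mul_one] at hkf
        rw [← hkf, h.q_conj k hkH u hu]
      by_cases hq : q w₁ = 0
      · apply hw1
        have hq0 : ∀ u ∈ A, (∀ f ∈ F, bb q f u = 0) → q u = 0 := by
          intro u hu hup
          by_cases hu1 : u = 1
          · rw [hu1]; exact h.q_one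
          · rw [hconst u hu w₁ hw₁ hu1 hw1 hup hp₁, hq]
        apply h.nondeg w₁ hw₁
        intro w hw
        obtain ⟨f, hf, hwf⟩ := hdec w hw
        have hwfA := A.mul_mem hw (hFA hf)
        have e : w = (w * f) * f := by rw [mul_assoc, h.A_sq f (hFA hf), mul_one]
        rw [e, h.b_mul_right hw₁ hwfA (hFA hf), h.b_comm w₁ f hw₁ (hFA hf), hp₁ f hf, add_zero]
        unfold bb
        rw [hq0 w₁ hw₁ hp₁, hq0 (w * f) hwfA hwf, hq0 (w₁ * (w * f)) (A.mul_mem hw₁ hwfA) (by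
          intro f' hf'
          rw [h.b_mul_right (hFA hf') hw₁ hwfA, hp₁ f' hf', hwf f' hf', add_zero])]
        decide
      · have hq1 : ∀ u ∈ A, u ≠ 1 → (∀ f ∈ F, bb q f u = 0) → q u = 1 := by
          intro u hu hu1 hup
          rw [hconst u hu w₁ hw₁ hu1 hw1 hup hp₁, two _ hq]
        have hb1 : ∀ u ∈ A, ∀ v ∈ A, u ≠ 1 → v ≠ 1 → u ≠ v → (∀ f ∈ F, bb q f u = 0) →
            (∀ f ∈ F, bb q f v = 0) → bb q u v = 1 := by
          intro u hu v hv hu1 hv1 huv hup hvp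
          unfold bb
          rw [hq1 u hu hu1 hup, hq1 v hv hv1 hvp, hq1 (u * v) (A.mul_mem hu hv) (by
            intro h0
            apply huv
            rw [← iA v hv]
            exact eq_inv_of_mul_eq_one_left h0) (by
            intro f' hf'
            rw [h.b_mul_right (hFA hf') hu hv, hup f' hf', hvp f' hf', add_zero])]
          decide
        -- a second element
        obtain ⟨e₂, he₂, a₂, b₂⟩ := avoid2 w₁
        obtain ⟨f₂, hf₂, hp₂⟩ := hdec e₂ he₂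
        set v := e₂ * f₂ with hv
        have hvA : v ∈ A := A.mul_mem he₂ (hFA hf₂)
        have hv1 : v ≠ 1 := by
          intro h0
          apply a₂
          have : e₂ = f₂⁻¹ := eq_inv_of_mul_eq_one_left h0
          rw [this]; exact F.inv_mem hf₂
        have hvw : w₁ ≠ v := by
          intro h0
          apply b₂
          rw [h0, hv, mul_inv_rev, mul_assoc, inv_mul_cancel, mul_one]
          exact F.inv_mem hf₂
        -- a third element
        classical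
        obtain ⟨e₃, he₃, he₃'⟩ := exists_avoid A F {1, w₁, v, w₁ * v} (by
          have : ({1, w₁, v, w₁ * v} : Finset X).card ≤ 4 := Finset.card_le_four
          rw [h.A_card]
          calc _ ≤ 4 * 2 ^ 19 := Nat.mul_le_mul this hcard
            _ < _ := by norm_num)
        obtain ⟨f₃, hf₃, hp₃⟩ := hdec e₃ he₃
        set w := e₃ * f₃ with hw
        have hwA : w ∈ A := A.mul_mem he₃ (hFA hf₃)
        have hav : ∀ x : X, x⁻¹ * e₃ ∉ F → w ≠ x := by
          intro x hx h0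
          apply hx
          rw [← h0, hw, mul_inv_rev, mul_assoc, inv_mul_cancel, mul_one]
          exact F.inv_mem hf₃
        have hw1' : w ≠ 1 := hav 1 (he₃' 1 (by simp))
        have hww₁ : w ≠ w₁ := hav w₁ (he₃' w₁ (by simp))
        have hwv : w ≠ v := hav v (he₃' v (by simp))
        have hwwv : w ≠ w₁ * v := hav _ (he₃' _ (by simp))
        have k1 := hb1 w₁ hw₁ v hvA hw1 hv1 hvw hp₁ hp₂
        have k2 := hb1 w₁ hw₁ w hwA hw1 hw1' (Ne.symm hww₁) hp₁ hp₃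
        have k3 := hb1 w₁ hw₁ (v * w) (A.mul_mem hvA hwA) hw1 (by
            intro h0
            apply hwv
            have := eq_inv_of_mul_eq_one_right h0
            rw [this, iA v hvA]) (by
            intro h0
            apply hwwv
            rw [h0, mul_assoc, ← h.A_comm v hvA w hwA, ← mul_assoc, h.A_sq v hvA, one_mul]) hp₁ (by
            intro f' hf'
            rw [h.b_mul_right (hFA hf') hvA hwA, hp₂ f' hf', hp₃ f' hf', add_zero])
        rw [h.b_mul_right hw₁ hvA hwA, k1, k2] at k3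
        exact absurd k3 (by decide)
    · push Not at hperp
      obtain ⟨w₁, hw₁, n₁, -⟩ := avoid2 1
      obtain ⟨w₂, hw₂, n₂, n₁₂⟩ := avoid2 w₁
      obtain ⟨k, hkH, hk, f, hf, hkf⟩ := h.transit hF hw₁ hw₂ n₁ n₂
      have hkw : k * w₁ * k⁻¹ = w₁ := by
        have hkA := h.A_conj k hkH w₁ hw₁
        by_contra hcon
        obtain ⟨f', hf', hne'⟩ := hperp (k * w₁ * k⁻¹ * w₁) (A.mul_mem hkA hw₁) (by
          intro h0
          apply hcon
          rw [← iA w₁ hw₁]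
          conv_rhs => rw [← eq_inv_of_mul_eq_one_left h0]
          rw [iA w₁ hw₁])
        apply hne'
        rw [h.b_mul_right (hFA hf') hkA hw₁, hinv k hkH hk w₁ hw₁ f' hf']
        exact CharTwo.add_self_eq_zero _
      apply n₁₂
      rw [← hkw, hkf, mul_inv_rev, mul_assoc, inv_mul_cancel, mul_one]
      exact F.inv_mem hf

end Hyp

end Main

end Cfsg.Agent.MonsterU.CloseMax
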