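import Cfsg.Agent.MonsterU.CloseFacts
import Cfsg.Agent.MonsterU.CloseMax
import Cfsg.Agent.MonsterU.TwoQ

/-!
# The hypotheses of `CloseMax` for the quotient of `K` by its centre

`φ : K →* X` has kernel `{1, z}`; `H` is its range, `A` the image of the extraspecial group, `T` the image
of the short elements, `N` the image of the elements over elements of `Co0` with square `-1`.
-/

set_option autoImplicit false

namespace Cfsg.Agent.MonsterU.CloseModel

open Cfsg Cfsg.Spor Cfsg.Agent.LeechMat.Core Cfsg.Agent.MonsterX.KSide Cfsg.Agent.MonsterX.KLift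
open Cfsg.Agent.MonsterX.FrameKS Cfsg.Agent.MonsterX.KModel
open Cfsg.Agent.MonsterU.Lam2 Cfsg.Agent.MonsterU.TwoCls Cfsg.Agent.MonsterU.TwoQ
open Cfsg.Agent.MonsterU.CloseFacts
open Cfsg.Agent.SporadicA.Co0Mono (signCo0)
open Cfsg.Agent.SporadicA.Co1Simple
open Cfsg.Agent.CoOneType.ClosingFacts

variable {G V P W : Type*} [Group G] [AddCommGroup V] [Module ℚ V]
  [DistribMulAction G V] [SMulCommClass G ℚ V] [Group P] [AddCommGroup W] [Module ℚ W]
  {M : KS G V P W} {θ : leechLattice → P}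

/-- `φ` restricted to the extraspecial group. -/
def e (M : KS G V P W) {X : Type*} [Group X] (φ : M.K →* X) : P →* X where
  toFun p := φ ⟨M.ι p, M.ι_mem p⟩
  map_one' := by
    have : (⟨M.ι 1, M.ι_mem 1⟩ : M.K) = 1 := Subtype.ext (map_one M.ι)
    rw [this, map_one]
  map_mul' p q := by
    have : (⟨M.ι (p * q), M.ι_mem (p * q)⟩ : M.K) = ⟨M.ι p, M.ι_mem p⟩ * ⟨M.ι q, M.ι_mem q⟩ :=
      Subtype.ext (map_mul M.ι p q)
    rw [this, map_mul]

/-- The elements over elements of square `-1`. -/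
def N (M : KS G V P W) {X : Type*} [Group X] (φ : M.K →* X) : Set X :=
  {c | ∃ (k : M.K) (g : Co0), φ k = c ∧ Ind M (k : G) g ∧ g * g = signCo0 allOne}

open Classical in
/-- The quadratic form on the image of the extraspecial group. -/
noncomputable def q (L : Lift M θ) {X : Type*} [Group X] (φ : M.K →* X) (x : X) : ZMod 2 :=
  if h : ∃ p, e M φ p = x then qf (clP L h.choose) else 0

section

variable (L : Lift M θ) {X : Type*} [Group X] {φ : M.K →* X}
  (hφ : ∀ k : M.K, φ k = 1 ↔ (k : G) = 1 ∨ (k : G) = M.z)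

include hφ in
theorem e_eq_one (p : P) : e M φ p = 1 ↔ clP L p = 0 := by
  rw [clP_eq_zero]
  constructor
  · intro h
    rcases (hφ _).1 h with h1 | h1
    · exact Or.inl (InvTwo.ι_inj L (h1.trans (map_one M.ι).symm))
    · exact Or.inr (InvTwo.ι_inj L h1)
  · intro h
    apply (hφ _).2
    rcases h with rfl | rfl
    · exact Or.inl (map_one M.ι)
    · exact Or.inr rfl

include hφ in
theorem e_eq (p p' : P) : e M φ p = e M φ p' ↔ clP L p = clP L p' := by
  rw [← mul_inv_eq_one, ← map_inv, ← map_mul, e_eq_one L hφ, clP_mul, clP_inv]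
  constructor
  · exact eq_of_add_eq_zero
  · intro h; rw [h, add_self]

include hφ in
theorem q_e (p : P) : q L φ (e M φ p) = qf (clP L p) := by
  have h : ∃ p', e M φ p' = e M φ p := ⟨p, rfl⟩
  rw [q, dif_pos h, (e_eq L hφ _ _).1 h.choose_spec]

include hφ in
theorem bb_e (p p' : P) : CloseMax.bb (q L φ) (e M φ p) (e M φ p') = bf (clP L p) (clP L p') := by
  rw [CloseMax.bb, ← map_mul, q_e L hφ, q_e L hφ, q_e L hφ, clP_mul]
  rfl

/-- Conjugation. -/
theorem conj_e {k : M.K} {g : Co0} (hk : Ind M (k : G) g) (p : P) :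
    ∃ p', φ k * e M φ p * (φ k)⁻¹ = e M φ p' ∧ clP L p' = g • clP L p := by
  obtain ⟨α, h1, h2⟩ := aut L k.2 hk
  refine ⟨α p, ?_, h2 p⟩
  show φ k * φ ⟨M.ι p, M.ι_mem p⟩ * (φ k)⁻¹ = φ ⟨M.ι (α p), M.ι_mem _⟩
  rw [← map_mul, ← map_inv, ← map_mul]
  congr 1
  apply Subtype.ext
  show (k : G) * M.ι p * (k : G)⁻¹ = M.ι (α p)
  rw [h1, mul_inv_cancel_right]

include hφ in
/-- `φ k` commutes with `e p` exactly when `g` fixes the class of `p`. -/
theorem comm_e {k : M.K} {g : Co0} (hk : Ind M (k : G) g) (p : P) :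
    φ k * e M φ p = e M φ p * φ k ↔ g • clP L p = clP L p := by
  obtain ⟨p', h1, h2⟩ := conj_e L (φ := φ) hk p
  rw [← h2, ← e_eq L hφ, ← h1, mul_inv_eq_iff_eq_mul]

include hφ in
/-- Two elements of `K` with the same image induce the same element up to sign. -/
theorem mk_eq_of {k k' : M.K} {g g' : Co0} (hk : Ind M (k : G) g) (hk' : Ind M (k' : G) g')
    (h : φ k = φ k') : mk g = mk g' := by
  have h1 : φ (k * k'⁻¹) = 1 := by rw [map_mul, map_inv, h, mul_inv_cancel]
  have h2 : Ind M (k : G) g' := by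
    have h3 : (k : G) = (k * k'⁻¹ : M.K) * (k' : G) := by
      rw [Subgroup.coe_mul, Subgroup.coe_inv, inv_mul_cancel_right]
    intro v
    rcases (hφ _).1 h1 with h4 | h4
    · rw [h3, h4, one_mul]; exact hk' v
    · rw [h3, h4, mul_smul, hk' v, M.z_u]
  exact Ind_mk_eq hk h2

theorem allOne_ne : signCo0 allOne ≠ 1 := by
  intro h
  have h1 : (signCo0 allOne : Co0) • leechU = leechU := by rw [h, one_smul]
  have h2 : (signCo0 allOne : Co0) • leechU = -leechU := allOne_smul leechU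
  rw [h2] at h1
  have h3 : (2 : ℤ) • leechU = 0 := by
    rw [two_smul]
    nth_rw 1 [← h1]
    rw [neg_add_cancel]
  have h4 : (leechU : GolayPt → ℤ) = 0 := by
    funext i
    have := congrArg (fun v : leechLattice => (v : GolayPt → ℤ) i) h3
    simp only [AddSubgroup.coe_zsmul, Pi.smul_apply, AddSubgroup.coe_zero, Pi.zero_apply, smul_eq_mul] at this
    show (leechU : GolayPt → ℤ) i = 0
    omega
  have h5 : dotInt (leechU : GolayPt → ℤ) (leechV : GolayPt → ℤ) = -24 := by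
    show dotInt vecU vecV = -24; decide
  rw [h4] at h5
  simp [dotInt] at h5

theorem sq_of_mk {a b : Co0} (h : mk a = mk b) : a * a = b * b := by
  rcases (Cfsg.Agent.CoOneType.ClosingFacts.mk_eq a b).1 h with rfl | rfl
  · rfl
  · rw [mul_assoc, ← mul_assoc (signCo0 allOne), ← allOne_comm b, mul_assoc b, allOne_sq, mul_one]

include L hφ in
/-- **The hypotheses of `CloseMax`.** -/
theorem hyp (huniq : ∀ t ∈ M.Sh, ∀ x : X, x * e M φ t * x⁻¹ ∈ φ.range → x ∈ φ.range) :
    CloseMax.Hyp φ.range (e M φ).range (e M φ '' M.Sh) (N M φ) (q L φ) where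
  A_le := by
    rintro _ ⟨p, rfl⟩
    exact ⟨_, rfl⟩
  A_conj := by
    rintro _ ⟨k, rfl⟩ _ ⟨p, rfl⟩
    obtain ⟨g, hg⟩ := ind_exists k.2
    obtain ⟨p', h1, _⟩ := conj_e L (φ := φ) hg p
    rw [h1]
    exact ⟨p', rfl⟩
  A_comm := by
    rintro _ ⟨p, rfl⟩ _ ⟨p', rfl⟩
    rw [← map_mul, ← map_mul, e_eq L hφ, clP_mul, clP_mul, add_comm]
  A_sq := by
    rintro _ ⟨p, rfl⟩
    rw [← map_mul, e_eq_one L hφ, clP_mul, add_self]
  A_card := by
    rw [← card_L2]
    refine Nat.card_congr (Equiv.ofBijective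
      (fun x : (e M φ).range => clP L x.2.choose) ⟨?_, ?_⟩)
    · intro x y hxy
      have h1 := (e_eq L hφ _ _).2 hxy
      exact Subtype.ext (x.2.choose_spec.symm.trans (h1.trans y.2.choose_spec))
    · intro x
      obtain ⟨p, hp⟩ := clP_surjective L x
      refine ⟨⟨e M φ p, ⟨p, rfl⟩⟩, ?_⟩
      rw [← hp]
      have h : ∃ p', e M φ p' = e M φ p := ⟨p, rfl⟩
      exact (e_eq L hφ _ _).1 h.choose_spec
  A_cent := by
    rintro _ ⟨k, rfl⟩ h
    obtain ⟨g, hg⟩ := ind_exists k.2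
    have h1 : g ∈ Subgroup.center Co0 := mem_center_of_trivial fun x => by
      obtain ⟨p, rfl⟩ := clP_surjective L x
      exact (comm_e L hφ hg p).1 (h _ ⟨p, rfl⟩)
    have h2 : mk g = 1 := (QuotientGroup.eq_one_iff g).2 h1
    obtain ⟨p, hp⟩ := (Ind_mem_iff k.2 hg).2 h2
    refine ⟨p, ?_⟩
    show φ ⟨M.ι p, M.ι_mem p⟩ = φ k
    congr 1
    exact Subtype.ext hp.symm
  T_sub := by
    rintro _ ⟨t, _, rfl⟩
    exact ⟨t, rfl⟩
  T_ne := by
    obtain ⟨p, hp⟩ := clP_surjective L (cl (InvTwoLat.pr none (some 0)))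
    have h1 : IsType 2 (clP L p) := by rw [hp]; exact type_pr (by decide)
    exact ⟨_, p, (mem_Sh_iff L p).2 h1, rfl⟩
  T_uniq := by
    rintro _ ⟨t, ht, rfl⟩ x hx
    exact huniq t ht x hx
  alpha := by
    rintro _ ⟨k, rfl⟩ hsq hno
    obtain ⟨g, hg⟩ := ind_exists k.2
    have hno' : ∀ x : L2, IsType 2 x → g • x ≠ x := by
      intro x hx hgx
      obtain ⟨p, rfl⟩ := clP_surjective L x
      exact hno _ ⟨p, (mem_Sh_iff L p).2 hx, rfl⟩ ((comm_e L hφ hg p).2 hgx)
    have h1 : mk (g * g) = 1 := by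
      have h2 : Ind M ((k * k : M.K) : G) (g * g) := by
        rw [Subgroup.coe_mul]; exact hg.mul hg
      have h3 := mk_eq_of hφ h2 (k' := 1) (g' := 1) (Ind.one M) (by rw [map_mul, map_one]; exact hsq)
      rw [h3]; rfl
    have h2 : mk g ≠ 1 := by
      intro h
      have h3 : g ∈ Subgroup.center Co0 := (QuotientGroup.eq_one_iff g).1 h
      exact hno' _ (type_pr (i := none) (j := some 0) (by decide)) (center_smul h3 _)
    exact ⟨k, g, rfl, hg, sq_neg_of_no h1 h2 hno'⟩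
  beta := by
    rintro _ ⟨k, g, rfl, hg, hgg⟩
    rw [← CloseFacts.beta hgg]
    have : Finite {x : L2 // g • x = x} := inferInstance
    refine Nat.card_le_card_of_injective
      (fun x : ↥((e M φ).range ⊓ Subgroup.centralizer {φ k}) =>
        (⟨clP L x.2.1.choose, ?_⟩ : {x : L2 // g • x = x})) ?_
    · have h1 : (x : X) ∈ Subgroup.centralizer {φ k} := x.2.2
      rw [Subgroup.mem_centralizer_singleton_iff] at h1
      have h2 := x.2.1.choose_spec
      rw [← comm_e L hφ hg, h2]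
      exact h1.symm
    · intro x y hxy
      have h1 := (e_eq L hφ _ _).2 (congrArg Subtype.val hxy)
      exact Subtype.ext (x.2.1.choose_spec.symm.trans (h1.trans y.2.1.choose_spec))
  gamma := by
    rintro _ - _ - _ - - - - ⟨k, a, rfl, hka, ha⟩ ⟨l, b, rfl, hlb, hb⟩ ⟨m, c, rfl, hmc, hc⟩
      ⟨kl, ab, h1, h2, hab⟩ ⟨km, ac, h3, h4, hac⟩ ⟨lm, bc, h5, h6, hbc⟩ ⟨klm, abc, h7, h8, habc⟩
    have e1 : a * b * (a * b) = signCo0 allOne := by
      rw [← hab]
      apply sq_of_mk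
      refine mk_eq_of hφ (k := k * l) (k' := kl) ?_ h2 (by rw [map_mul, h1])
      rw [Subgroup.coe_mul]; exact hka.mul hlb
    have e2 : a * c * (a * c) = signCo0 allOne := by
      rw [← hac]
      apply sq_of_mk
      refine mk_eq_of hφ (k := k * m) (k' := km) ?_ h4 (by rw [map_mul, h3])
      rw [Subgroup.coe_mul]; exact hka.mul hmc
    have e3 : b * c * (b * c) = signCo0 allOne := by
      rw [← hbc]
      apply sq_of_mk
      refine mk_eq_of hφ (k := l * m) (k' := lm) ?_ h6 (by rw [map_mul, h5])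
      rw [Subgroup.coe_mul]; exact hlb.mul hmc
    have e4 : a * b * c * (a * b * c) = signCo0 allOne := by
      rw [← habc]
      apply sq_of_mk
      refine mk_eq_of hφ (k := k * l * m) (k' := klm) ?_ h8 (by rw [map_mul, map_mul, h7])
      rw [Subgroup.coe_mul, Subgroup.coe_mul]; exact (hka.mul hlb).mul hmc
    rw [CloseFacts.gamma ha hb hc e1 e2 e3] at e4
    exact allOne_ne e4.symm
  q_conj := by
    rintro _ ⟨k, rfl⟩ _ ⟨p, rfl⟩
    obtain ⟨g, hg⟩ := ind_exists k.2
    obtain ⟨p', h1, h2⟩ := conj_e L (φ := φ) hg p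
    rw [h1, q_e L hφ, q_e L hφ, h2, qf_smul]
  b_mul := by
    rintro _ ⟨p, rfl⟩ _ ⟨p', rfl⟩ _ ⟨p'', rfl⟩
    rw [← map_mul, bb_e L hφ, bb_e L hφ, bb_e L hφ, clP_mul, bf_add_left]
  nondeg := by
    rintro _ ⟨p, rfl⟩ h
    rw [e_eq_one L hφ]
    apply bf_nondeg
    intro y
    obtain ⟨p', rfl⟩ := clP_surjective L y
    rw [← bb_e L hφ]
    exact h _ ⟨p', rfl⟩
  small := by
    intro F hF hT
    let F' : AddSubgroup L2 :=
      { carrier := {x | ∃ p, clP L p = x ∧ e M φ p ∈ F}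
        zero_mem' := ⟨1, clP_one L, by rw [map_one]; exact F.one_mem⟩
        add_mem' := by
          rintro _ _ ⟨p, rfl, hp⟩ ⟨p', rfl, hp'⟩
          exact ⟨p * p', clP_mul L p p', by rw [map_mul]; exact F.mul_mem hp hp'⟩
        neg_mem' := by
          rintro _ ⟨p, rfl, hp⟩
          exact ⟨p, (Lam2.neg_eq _).symm, hp⟩ }
    have h1 : Nat.card F' ≤ 2 ^ 19 := by
      apply codim
      rintro _ ⟨p, rfl, hp⟩ h
      exact hT _ ⟨p, (mem_Sh_iff L p).2 h, rfl⟩ hp
    refine le_trans ?_ h1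
    have : Finite F' := inferInstance
    refine Nat.card_le_card_of_injective
      (fun x : F => (⟨clP L (hF x.2).choose, (hF x.2).choose, rfl, ?_⟩ : F')) ?_
    · rw [(hF x.2).choose_spec]; exact x.2
    · intro x y hxy
      have h2 := (e_eq L hφ _ _).2 (congrArg Subtype.val hxy)
      exact Subtype.ext ((hF x.2).choose_spec.symm.trans (h2.trans (hF y.2).choose_spec))

include L hφ in
/-- `φ` is surjective when each short element "belongs to a unique conjugate" of the range. -/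
theorem surj [Finite X]
    (huniq : ∀ t ∈ M.Sh, ∀ x : X, x * e M φ t * x⁻¹ ∈ φ.range → x ∈ φ.range) :
    Function.Surjective φ := by
  rw [← MonoidHom.range_eq_top]
  exact (hyp L hφ huniq).eq_top

end

end Cfsg.Agent.MonsterU.CloseModel
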