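import Cfsg.Agent.MonsterU.CloseTop
import Cfsg.Agent.MonsterU.CloseModel
import Cfsg.Agent.MonsterX.MainPack
import Cfsg.Agent.MonsterX.KModel

/-!
# Closing from the centraliser of a 2A-involution, for the model

`range_eq_top` : an embedding `φ` of the model of the Monster into a finite group `G'`, for which the
centraliser of `φ t` is contained in the range for some involution `t` with `2 ^ 43 ∤ |C(φ t)|`, is
onto.
-/

set_option autoImplicit false

namespace Cfsg.Agent.MonsterU.CloseFin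

open Cfsg Cfsg.Agent.LeechMat.Core Cfsg.Agent.MonsterX.KSide Cfsg.Agent.MonsterX.KLift
open Cfsg.Agent.MonsterX.Model Cfsg.Agent.MonsterX.KModel Cfsg.Agent.MonsterX.MainBasic
open Cfsg.Agent.MonsterX.MainPack Cfsg.Agent.MonsterX.MainSimple

section Abstract

universe u'

variable {G V P W : Type*} [Group G] [AddCommGroup V] [Module ℚ V]
  [DistribMulAction G V] [SMulCommClass G ℚ V] [Group P] [AddCommGroup W] [Module ℚ W]
  {M : KS G V P W} {θ : leechLattice → P}

/-- The closing of `C(z)/⟨z⟩`. -/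
theorem hsurj (L : Lift M θ) (X : Type u') [Group X] [Finite X] (ψ : M.K →* X)
    (hψ : ∀ k, ψ k = 1 ↔ (k : G) = 1 ∨ (k : G) = M.z)
    (hu : ∀ x ∈ M.Sh, ∀ c : X, c * ψ (CloseTop.jK M x) * c⁻¹ ∈ ψ.range → c ∈ ψ.range) :
    ψ.range = ⊤ :=
  MonoidHom.range_eq_top.2 (CloseModel.surj L hψ fun t ht x hx => hu t ht x hx)

/-- **Closing from 2A**, abstract form. -/
theorem range_eq_top_abs (L : Lift M θ) {G' : Type u'} [Group G'] [Finite G'] (φ : G →* G')
    (hφ : Function.Injective φ)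
    (hK : ∀ g : G, g * M.z = M.z * g → g ∈ M.K)
    {x₀ : P} (hx₀ : x₀ ∈ M.Sh)
    (classes : ∀ u : G, u * u = 1 → u ≠ 1 →
      (∃ g, g * u * g⁻¹ = M.z) ∨ ∃ g, g * u * g⁻¹ = M.ι x₀)
    (hcard : ¬ Nat.card (Subgroup.centralizer ({M.z} : Set G)) ∣
      Nat.card (Subgroup.centralizer ({M.ι x₀} : Set G)))
    {t : G} (ht : t * t = 1) (ht1 : t ≠ 1)
    (htc : ¬ Nat.card (Subgroup.centralizer ({M.z} : Set G)) ∣
      Nat.card (Subgroup.centralizer ({φ t} : Set G')))
    (hcent : ∀ g : G', g * φ t = φ t * g → g ∈ φ.range) : φ.range = ⊤ :=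
  CloseTop.range_eq_top' L φ hφ (fun X _ _ ψ hψ hu => hsurj L X ψ hψ hu) hK hx₀ classes hcard ht ht1
    htc hcent

end Abstract

variable {V P W : Type} [AddCommGroup V] [Module ℚ V] [Group P] [AddCommGroup W] [Module ℚ W]
  {D : MData V} {M : KS ↥D.G V P W} {x₀ : P} {θ : leechLattice → P}
  {K₀ : Type} [Group K₀]

/-- **Closing from 2A.** -/
theorem range_eq_top (H : Link D M x₀) (L : Lift M θ) (hG : MGroup D K₀) (hR : MRep D)
    (hL : MLat D) (hO : MOrbit D) (hT : MTrans D)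
    (classes : ∀ u : D.G, u * u = 1 → u ≠ 1 → (∃ h : D.G, h * zG hG * h⁻¹ = u) ∨
      ∃ h : D.G, h * tG hG hR * h⁻¹ = u)
    {G' : Type*} [Group G'] [Finite G'] (φ : D.G →* G') (hφ : Function.Injective φ)
    {t : D.G} (ht : t * t = 1) (ht1 : t ≠ 1)
    (htc : ¬ 2 ^ 43 ∣ Nat.card (Subgroup.centralizer ({φ t} : Set G')))
    (hcent : ∀ g : G', g * φ t = φ t * g → g ∈ φ.range) : φ.range = ⊤ := by
  have hz : M.z = zG hG := Subtype.ext H.z_eq.symm
  have ht₀ : M.ι x₀ = tG hG hR := Subtype.ext H.t₀_eq.symm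
  have hcz : 2 ^ 43 ∣ Nat.card (Subgroup.centralizer ({M.z} : Set D.G)) := by
    have h1 : Nat.card (Subgroup.centralizer ({zG hG} : Set D.G)) =
        2 ^ 25 * 4157776806543360000 := by
      rw [← card_C hG]
      refine Nat.card_congr (Equiv.ofBijective
        (fun x => (⟨(x : D.G), (Cfsg.Agent.MonsterX.MainSimple.mem_cent_iff hG hR hL hO hT _).1 x.2⟩ : D.C)) ⟨?_, ?_⟩)
      · intro a b hab
        apply Subtype.ext
        apply Subtype.ext
        exact congrArg (fun y : D.C => (y : V ≃ₗ[ℚ] V)) hab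
      · intro c
        exact ⟨⟨⟨c, C_le c.2⟩, (Cfsg.Agent.MonsterX.MainSimple.mem_cent_iff hG hR hL hO hT _).2 c.2⟩, rfl⟩
    rw [hz, h1]
    norm_num
  refine range_eq_top_abs L φ hφ ?_ H.x₀_mem ?_ ?_ ht ht1 (fun h => htc (hcz.trans h)) hcent
  · intro g hg
    rw [H.C_iff]
    rw [hz] at hg
    exact (Cfsg.Agent.MonsterX.MainSimple.mem_cent_iff hG hR hL hO hT g).1
      (CloseTop.mem_cent_iff.2 hg)
  · intro u hu hu1
    rw [hz, ht₀]
    rcases classes u hu hu1 with ⟨h, e⟩ | ⟨h, e⟩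
    · left
      exact ⟨h⁻¹, by rw [← e]; group⟩
    · right
      exact ⟨h⁻¹, by rw [← e]; group⟩
  · intro h
    have h1 := hcz.trans h
    rw [ht₀, card_cent_t hG hR hL hO hT] at h1
    norm_num at h1

/-- The same for a subgroup isomorphic to the model. -/
theorem eq_top_of_equiv (H : Link D M x₀) (L : Lift M θ) (hG : MGroup D K₀) (hR : MRep D)
    (hL : MLat D) (hO : MOrbit D) (hT : MTrans D)
    (classes : ∀ u : D.G, u * u = 1 → u ≠ 1 → (∃ h : D.G, h * zG hG * h⁻¹ = u) ∨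
      ∃ h : D.G, h * tG hG hR * h⁻¹ = u)
    {G' : Type*} [Group G'] [Finite G'] (S : Subgroup G') (e : S ≃* D.G) {t : G'} (htS : t ∈ S)
    (ht : t * t = 1) (ht1 : t ≠ 1)
    (htc : ¬ 2 ^ 43 ∣ Nat.card (Subgroup.centralizer ({t} : Set G')))
    (hcent : ∀ g : G', g * t = t * g → g ∈ S) : S = ⊤ := by
  let φ : D.G →* G' := S.subtype.comp e.symm.toMonoidHom
  have hφ : Function.Injective φ := fun a b hab => e.symm.injective (Subtype.ext hab)
  have hr : φ.range = S := by
    ext g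
    constructor
    · rintro ⟨x, rfl⟩
      exact (e.symm x).2
    · intro hg
      refine ⟨e ⟨g, hg⟩, ?_⟩
      show ((e.symm (e ⟨g, hg⟩) : S) : G') = g
      rw [e.symm_apply_apply]
  have hft : φ (e ⟨t, htS⟩) = t := by
    show ((e.symm (e ⟨t, htS⟩) : S) : G') = t
    rw [e.symm_apply_apply]
  rw [← hr]
  refine range_eq_top H L hG hR hL hO hT classes φ hφ (t := e ⟨t, htS⟩) ?_ ?_ ?_ ?_
  · rw [← map_mul, ← map_one e]
    congr 1
    exact Subtype.ext ht
  · intro h
    apply ht1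
    have h1 := e.injective (h.trans (map_one e).symm)
    exact congrArg Subtype.val h1
  · rw [hft]; exact htc
  · intro g hg
    rw [hr]
    rw [hft] at hg
    exact hcent g hg

end Cfsg.Agent.MonsterU.CloseFin
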