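import Cfsg.Agent.MonsterU.GlueP

/-!
# The embedding of the model, abstract form (helper620)

`embed`: `α : K →* H` onto the centraliser of `y`, `β : N →* H`, the plane relations and the three levels give an injective
homomorphism of the simple group `G` into `H`.  `Graphs`: the same input in the language of subgroups of `G × H`.
-/

set_option autoImplicit false

namespace Cfsg.Agent.MonsterU.EmbedAbs

open Cfsg.Agent.MonsterU.Morse Cfsg.Agent.MonsterU.Glue Cfsg.Agent.MonsterU.Levels Cfsg.Agent.MonsterU.GlueP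

variable {G H : Type*} [Group G] [Group H] {K N : Subgroup G}

/-- **The embedding.** -/
theorem embed {α : K →* H} {β : N →* H} (hsimple : IsSimpleGroup G)
    (kn : ∀ x (h : x ∈ K) (h' : x ∈ N), α ⟨x, h⟩ = β ⟨x, h'⟩)
    (unique : ∀ m ∈ K, ∀ n ∈ N, ∀ n' ∈ N, n' ∉ K → n⁻¹ * m * n' ∈ K → m ∈ N) {τ ξ : G}
    (hP : PlaneRel K N α β τ ξ) (hgen : Subgroup.closure ((K : Set G) ∪ N) = ⊤) (hL : Levels3 K N τ ξ)
    {z : G} (hz : z ∈ K) {y : H} (hy : y ≠ 1) (hzy : α ⟨z, hz⟩ = y)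
    (hα : α.range = Subgroup.centralizer {y}) :
    ∃ φ : G →* H, Function.Injective φ ∧ φ z = y ∧ K.map φ = Subgroup.centralizer {y} ∧
      (∀ x (h : x ∈ K), φ x = α ⟨x, h⟩) ∧ (∀ x (h : x ∈ N), φ x = β ⟨x, h⟩) := by
  obtain ⟨φ, h1, h2⟩ := exists_hom_of_levels kn unique hP hgen hL
  have hφz : φ z = y := by rw [h1 z hz, hzy]
  refine ⟨φ, ?_, hφz, ?_, h1, h2⟩
  · rw [← MonoidHom.ker_eq_bot_iff]
    rcases hsimple.eq_bot_or_eq_top_of_normal φ.ker inferInstance with h | h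
    · exact h
    · exfalso
      have h3 : z ∈ φ.ker := by rw [h]; trivial
      rw [MonoidHom.mem_ker, hφz] at h3
      exact hy h3
  · rw [← hα]
    ext x
    constructor
    · rintro ⟨k, hk, rfl⟩
      exact ⟨⟨k, hk⟩, (h1 k hk).symm⟩
    · rintro ⟨⟨k, hk⟩, rfl⟩
      exact ⟨k, hk, h1 k hk⟩

/-- The homomorphism with a given graph. -/
theorem exists_hom_of_graph (D : Subgroup (G × H)) (h1 : ∀ x, x ∈ K ↔ ∃ h, (x, h) ∈ D)
    (h2 : ∀ h, ((1 : G), h) ∈ D → h = 1) : ∃ α : K →* H, ∀ x (hx : x ∈ K), (x, α ⟨x, hx⟩) ∈ D := by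
  choose f hf using fun x : K => (h1 x.1).mp x.2
  have huniq : ∀ (x : G) (h h' : H), (x, h) ∈ D → (x, h') ∈ D → h = h' := by
    intro x h h' h3 h4
    have h5 := D.mul_mem (D.inv_mem h3) h4
    have h6 := h2 (h⁻¹ * h') (by
      have e : ((1 : G), h⁻¹ * h') = (x, h)⁻¹ * (x, h') := by
        refine Prod.ext ?_ rfl
        show (1 : G) = x⁻¹ * x
        rw [inv_mul_cancel]
      rw [e]; exact h5)
    rw [inv_mul_eq_one] at h6
    exact h6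
  refine ⟨MonoidHom.mk' f ?_, fun x hx => hf ⟨x, hx⟩⟩
  intro a b
  exact huniq (a * b : K).1 _ _ (hf (a * b)) (D.mul_mem (hf a) (hf b))

/-- The input of `embed` in the language of graphs. -/
structure Graphs (K N : Subgroup G) (DC DN : Subgroup (G × H)) (τ ξ : G) : Prop where
  memK : ∀ x, x ∈ K ↔ ∃ h, (x, h) ∈ DC
  memN : ∀ x, x ∈ N ↔ ∃ h, (x, h) ∈ DN
  uniqK : ∀ h, ((1 : G), h) ∈ DC → h = 1
  uniqN : ∀ h, ((1 : G), h) ∈ DN → h = 1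
  kn : ∀ x ∈ K, x ∈ N → ∃ h, (x, h) ∈ DC ∧ (x, h) ∈ DN
  hτ : τ ∈ N
  hξ : ξ ∈ K
  /-- the plane relations: `DP` is a group containing all the elements which occur, with trivial kernel -/
  plane : ∃ DP : Subgroup (G × H), (∀ h, ((1 : G), h) ∈ DP → h = 1) ∧
    (∀ h, (τ, h) ∈ DN → (τ, h) ∈ DP) ∧ (∀ h, (ξ, h) ∈ DC → (ξ, h) ∈ DP) ∧
    ∀ a b, Pm τ a → Pm τ b → ∃ c ∈ K, ∃ n ∈ N, ∃ c' ∈ K, a * ξ * b = c * n * c' ∧
      (∀ h, (c, h) ∈ DC → (c, h) ∈ DP) ∧ (∀ h, (n, h) ∈ DN → (n, h) ∈ DP) ∧ (∀ h, (c', h) ∈ DC → (c', h) ∈ DP)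

/-- **From graphs to homomorphisms.** -/
theorem Graphs.exists_homs {DC DN : Subgroup (G × H)} {τ ξ : G} (hg : Graphs K N DC DN τ ξ) :
    ∃ (α : K →* H) (β : N →* H), (∀ x (h : x ∈ K), (x, α ⟨x, h⟩) ∈ DC) ∧ (∀ x (h : x ∈ N), (x, β ⟨x, h⟩) ∈ DN) ∧
      (∀ x (h : x ∈ K) (h' : x ∈ N), α ⟨x, h⟩ = β ⟨x, h'⟩) ∧ PlaneRel K N α β τ ξ := by
  obtain ⟨α, hα⟩ := exists_hom_of_graph DC hg.memK hg.uniqK
  obtain ⟨β, hβ⟩ := exists_hom_of_graph DN hg.memN hg.uniqN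
  have huniq : ∀ (D : Subgroup (G × H)), (∀ h, ((1 : G), h) ∈ D → h = 1) → ∀ (x : G) (h h' : H),
      (x, h) ∈ D → (x, h') ∈ D → h = h' := by
    intro D h2 x h h' h3 h4
    have h5 := D.mul_mem (D.inv_mem h3) h4
    have h6 := h2 (h⁻¹ * h') (by
      have e : ((1 : G), h⁻¹ * h') = (x, h)⁻¹ * (x, h') := by
        refine Prod.ext ?_ rfl
        show (1 : G) = x⁻¹ * x
        rw [inv_mul_cancel]
      rw [e]; exact h5)
    rw [inv_mul_eq_one] at h6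
    exact h6
  have hkn : ∀ x (h : x ∈ K) (h' : x ∈ N), α ⟨x, h⟩ = β ⟨x, h'⟩ := by
    intro x h h'
    obtain ⟨k, hk1, hk2⟩ := hg.kn x h h'
    rw [huniq DC hg.uniqK x _ _ (hα x h) hk1, huniq DN hg.uniqN x _ _ (hβ x h') hk2]
  refine ⟨α, β, hα, hβ, hkn, hg.hτ, hg.hξ, ?_⟩
  obtain ⟨DP, hP1, hP2, hP3, hP4⟩ := hg.plane
  intro a ha b hb hpa hpb
  obtain ⟨c, hc, n, hn, c', hc', hrel, h5, h6, h7⟩ := hP4 a b hpa hpb
  have hmem : ∀ a (ha : a ∈ N), Pm τ a → (a, β ⟨a, ha⟩) ∈ DP := by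
    intro a ha hpa
    rcases hpa with rfl | rfl
    · exact hP2 _ (hβ a ha)
    · have h8 : (⟨τ⁻¹, ha⟩ : N) = (⟨τ, hg.hτ⟩ : N)⁻¹ := rfl
      rw [h8, map_inv]
      exact DP.inv_mem (hP2 _ (hβ τ hg.hτ))
  refine ⟨c, hc, n, hn, c', hc', hrel, ?_⟩
  apply huniq DP hP1 (a * ξ * b)
  · exact DP.mul_mem (DP.mul_mem (hmem a ha hpa) (hP3 _ (hα ξ hg.hξ))) (hmem b hb hpb)
  · rw [hrel]
    exact DP.mul_mem (DP.mul_mem (h5 _ (hα c hc)) (h6 _ (hβ n hn))) (h7 _ (hα c' hc'))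

/-- **The embedding from graphs.** -/
theorem embed_of_graphs {DC DN : Subgroup (G × H)} {τ ξ : G} (hg : Graphs K N DC DN τ ξ)
    (hsimple : IsSimpleGroup G)
    (unique : ∀ m ∈ K, ∀ n ∈ N, ∀ n' ∈ N, n' ∉ K → n⁻¹ * m * n' ∈ K → m ∈ N)
    (hgen : Subgroup.closure ((K : Set G) ∪ N) = ⊤) (hL : Levels3 K N τ ξ)
    {z : G} {y : H} (hy : y ≠ 1) (hzy : (z, y) ∈ DC)
    (hDC : ∀ h : H, h ∈ Subgroup.centralizer {y} ↔ ∃ x, (x, h) ∈ DC) :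
    ∃ φ : G →* H, Function.Injective φ ∧ φ z = y ∧ K.map φ = Subgroup.centralizer {y} ∧
      (∀ x ∈ K, (x, φ x) ∈ DC) ∧ (∀ x ∈ N, (x, φ x) ∈ DN) := by
  obtain ⟨α, β, hα, hβ, kn, hP⟩ := hg.exists_homs
  have hz : z ∈ K := (hg.memK z).mpr ⟨y, hzy⟩
  have huniq : ∀ (x : G) (h h' : H), (x, h) ∈ DC → (x, h') ∈ DC → h = h' := by
    intro x h h' h3 h4
    have h5 := DC.mul_mem (DC.inv_mem h3) h4
    have h6 := hg.uniqK (h⁻¹ * h') (by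
      have e : ((1 : G), h⁻¹ * h') = (x, h)⁻¹ * (x, h') := by
        refine Prod.ext ?_ rfl
        show (1 : G) = x⁻¹ * x
        rw [inv_mul_cancel]
      rw [e]; exact h5)
    rw [inv_mul_eq_one] at h6
    exact h6
  have hrange : α.range = Subgroup.centralizer {y} := by
    ext h
    rw [hDC]
    constructor
    · rintro ⟨⟨x, hx⟩, rfl⟩
      exact ⟨x, hα x hx⟩
    · rintro ⟨x, hx⟩
      have hxK : x ∈ K := (hg.memK x).mpr ⟨h, hx⟩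
      exact ⟨⟨x, hxK⟩, huniq x _ _ (hα x hxK) hx⟩
  obtain ⟨φ, h1, h2, h3, h4, h5⟩ := embed hsimple kn unique hP hgen hL hz hy (huniq z _ _ (hα z hz) hzy) hrange
  exact ⟨φ, h1, h2, h3, fun x hx => by rw [h4 x hx]; exact hα x hx, fun x hx => by rw [h5 x hx]; exact hβ x hx⟩

end Cfsg.Agent.MonsterU.EmbedAbs
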