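import Cfsg.Agent.MonsterU.Levels

/-!
# Gluing along the point graph without the plane group (helper620)

The plane group and its homomorphism are replaced by the relations `τ^ε ξ τ^ε' = c n c'` (`ε, ε' = ± 1`, `c, c' ∈ K`, `n ∈ N`),
which have to hold in `G` and for the images in `H`.
-/

set_option autoImplicit false

namespace Cfsg.Agent.MonsterU.GlueP

open Cfsg.Agent.MonsterU.Morse Cfsg.Agent.MonsterU.Glue Cfsg.Agent.MonsterU.Levels

section Closes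

variable {P P' : Type*} {A : P → P → Prop} {A' : P' → P' → Prop} {π : P' → P}

/-- The triangle `x y w` lifts to a triangle at `x`. -/
def Closes (A' : P' → P' → Prop) (π : P' → P) (x y w : P) : Prop :=
  ∀ x' y' w', π x' = x → π y' = y → π w' = w → A' x' y' → A' x' w' → A' y' w'

theorem Closes.swap (symm' : ∀ {x y}, A' x y → A' y x) {x y w : P} (h : Closes A' π x y w) : Closes A' π x w y :=
  fun x' w' y' hx hw hy h1 h2 => symm' (h x' y' w' hx hy hw h2 h1)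

theorem Closes.move (symm' : ∀ {x y}, A' x y → A' y x) (lift : ∀ x' y, A (π x') y → ∃ y', π y' = y ∧ A' x' y')
    (uniq : ∀ x' y' y'', A' x' y' → A' x' y'' → π y' = π y'' → y' = y'') {x y w : P} (h : Closes A' π x y w)
    (hxw : A x w) : Closes A' π y x w := by
  intro y' x' w' hy hx hw h1 h2
  obtain ⟨w'', hw'', h3⟩ := lift x' w (by rw [hx]; exact hxw)
  have h4 := h x' y' w'' hx hy hw'' (symm' h1) h3
  have h5 : w' = w'' := uniq y' w' w'' h2 h4 (by rw [hw, hw''])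
  rw [h5]; exact h3

end Closes

variable {G H : Type*} [Group G] [Group H] {K N : Subgroup G} {α : K →* H} {β : N →* H}

/-- `τ` or its inverse -/
def Pm (τ a : G) : Prop := a = τ ∨ a = τ⁻¹

theorem Pm.inv {τ a : G} (h : Pm τ a) : Pm τ a⁻¹ := by
  rcases h with rfl | rfl
  · exact Or.inr rfl
  · exact Or.inl (inv_inv _)

theorem Pm.mem {τ a : G} (h : Pm τ a) (hτ : τ ∈ N) : a ∈ N := by
  rcases h with rfl | rfl
  · exact hτ
  · exact N.inv_mem hτ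

/-- The relations of the plane. -/
structure PlaneRel (K N : Subgroup G) (α : K →* H) (β : N →* H) (τ ξ : G) : Prop where
  hτ : τ ∈ N
  hξ : ξ ∈ K
  rel : ∀ a (ha : a ∈ N) b (hb : b ∈ N), Pm τ a → Pm τ b → ∃ c, ∃ hc : c ∈ K, ∃ n, ∃ hn : n ∈ N, ∃ c', ∃ hc' : c' ∈ K,
    a * ξ * b = c * n * c' ∧ β ⟨a, ha⟩ * α ⟨ξ, hξ⟩ * β ⟨b, hb⟩ = α ⟨c, hc⟩ * β ⟨n, hn⟩ * α ⟨c', hc'⟩

/-- triangles on lines -/
def Tl (K N : Subgroup G) (x y w : G ⧸ K) : Prop :=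
  ∃ g : G, ∃ p ∈ N, ∃ q ∈ N, ∃ r ∈ N,
    x = ((g * p : G) : G ⧸ K) ∧ y = ((g * q : G) : G ⧸ K) ∧ w = ((g * r : G) : G ⧸ K)

/-- the basic triangles in planes -/
def Tp (K : Subgroup G) (τ ξ : G) (x y w : G ⧸ K) : Prop :=
  ∃ g a b : G, Pm τ a ∧ Pm τ b ∧ x = (g : G ⧸ K) ∧ y = ((g * a : G) : G ⧸ K) ∧ w = ((g * (ξ * b) : G) : G ⧸ K)

/-- the triangles -/
def TriP (K N : Subgroup G) (τ ξ : G) (x y w : G ⧸ K) : Prop :=
  Tl K N x y w ∨ Tp K τ ξ x y w ∨ Tp K τ ξ x w y ∨ Tp K τ ξ y x w ∨ Tp K τ ξ y w x ∨ Tp K τ ξ w x y ∨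
    Tp K τ ξ w y x

theorem TriP.swap {τ ξ : G} {x y w : G ⧸ K} (h : TriP K N τ ξ x y w) : TriP K N τ ξ x w y := by
  rcases h with h | h | h | h | h | h | h
  · obtain ⟨g, p, hp, q, hq, r, hr, h1, h2, h3⟩ := h
    exact Or.inl ⟨g, p, hp, r, hr, q, hq, h1, h3, h2⟩
  · exact Or.inr (Or.inr (Or.inl h))
  · exact Or.inr (Or.inl h)
  · exact Or.inr (Or.inr (Or.inr (Or.inr (Or.inr (Or.inl h)))))
  · exact Or.inr (Or.inr (Or.inr (Or.inr (Or.inr (Or.inr h)))))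
  · exact Or.inr (Or.inr (Or.inr (Or.inl h)))
  · exact Or.inr (Or.inr (Or.inr (Or.inr (Or.inl h))))

theorem TriP.rot {τ ξ : G} {x y w : G ⧸ K} (h : TriP K N τ ξ x y w) : TriP K N τ ξ y w x := by
  rcases h with h | h | h | h | h | h | h
  · obtain ⟨g, p, hp, q, hq, r, hr, h1, h2, h3⟩ := h
    exact Or.inl ⟨g, q, hq, r, hr, p, hp, h2, h3, h1⟩
  · exact Or.inr (Or.inr (Or.inr (Or.inr (Or.inr (Or.inl h)))))
  · exact Or.inr (Or.inr (Or.inr (Or.inr (Or.inr (Or.inr h)))))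
  · exact Or.inr (Or.inr (Or.inl h))
  · exact Or.inr (Or.inl h)
  · exact Or.inr (Or.inr (Or.inr (Or.inr (Or.inl h))))
  · exact Or.inr (Or.inr (Or.inr (Or.inl h)))

/-- line triangles at `x = g` -/
theorem TriP.line {τ ξ : G} (g : G) {n n' : G} (hn : n ∈ N) (hn' : n' ∈ N) :
    TriP K N τ ξ (g : G ⧸ K) ((g * n : G) : G ⧸ K) ((g * n' : G) : G ⧸ K) :=
  Or.inl ⟨g, 1, one_mem _, n, hn, n', hn', by rw [mul_one], rfl, rfl⟩

/-- plane triangles at `x = g` -/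
theorem TriP.plane {τ ξ : G} (g : G) {a b : G} (ha : Pm τ a) (hb : Pm τ b) :
    TriP K N τ ξ (g : G ⧸ K) ((g * a : G) : G ⧸ K) ((g * (ξ * b) : G) : G ⧸ K) :=
  Or.inr (Or.inl ⟨g, a, b, ha, hb, rfl, rfl, rfl⟩)

/-- the amalgam of `α` and `β` with the trivial plane group -/
theorem amalgam_bot (kn : ∀ x (h : x ∈ K) (h' : x ∈ N), α ⟨x, h⟩ = β ⟨x, h'⟩) :
    Amalgam K N ⊥ α β (1 : (⊥ : Subgroup G) →* H) := by
  refine ⟨kn, ?_, ?_⟩
  · intro x h h'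
    rw [Subgroup.mem_bot] at h'
    subst h'
    exact map_one α
  · intro x h h'
    rw [Subgroup.mem_bot] at h'
    subst h'
    exact map_one β

theorem geo_bot (unique : ∀ m ∈ K, ∀ n ∈ N, ∀ n' ∈ N, n' ∉ K → n⁻¹ * m * n' ∈ K → m ∈ N) :
    Geo K N ⊥ := by
  refine ⟨unique, ?_⟩
  intro p hp
  rw [Subgroup.mem_bot] at hp
  subst hp
  exact ⟨1, one_mem _, one_mem _, 1, one_mem _, one_mem _, 1, one_mem _, by group⟩

/-- A point upstairs has a representative with given first coordinate. -/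
theorem exists_rep {x' : (G × H) ⧸ gr K α} {g : G} (h : proj K α x' = (g : G ⧸ K)) :
    ∃ gt : G × H, gt.1 = g ∧ x' = (gt : (G × H) ⧸ gr K α) := by
  obtain ⟨⟨g₁, h₁⟩, rfl⟩ := QuotientGroup.mk_surjective x'
  rw [proj_mk, QuotientGroup.eq] at h
  refine ⟨(g₁, h₁) * (g₁⁻¹ * g, α ⟨g₁⁻¹ * g, h⟩), ?_, ?_⟩
  · show g₁ * (g₁⁻¹ * g) = g
    group
  · exact (mk_mul_gr _ _ (mk_mem_gr h)).symm

theorem coverP (kn : ∀ x (h : x ∈ K) (h' : x ∈ N), α ⟨x, h⟩ = β ⟨x, h'⟩)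
    (unique : ∀ m ∈ K, ∀ n ∈ N, ∀ n' ∈ N, n' ∉ K → n⁻¹ * m * n' ∈ K → m ∈ N) {τ ξ : G}
    (hP : PlaneRel K N α β τ ξ) : Cover (Adj K N) (Adj' K N α β) (TriP K N τ ξ) (proj K α) := by
  have hc := cover (amalgam_bot kn) (geo_bot unique)
  -- the third edge of a plane triangle
  have hedge : ∀ {x y w : G ⧸ K}, Tp K τ ξ x y w → Adj K N x y ∧ Adj K N x w ∧ Adj K N y w := by
    rintro x y w ⟨g, a, b, ha, hb, rfl, rfl, rfl⟩
    refine ⟨⟨g, a, ha.mem hP.hτ, rfl, rfl⟩, ⟨g * ξ, b, hb.mem hP.hτ, ?_, ?_⟩, ?_⟩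
    · rw [QuotientGroup.eq, inv_mul_cancel_left]; exact hP.hξ
    · rw [mul_assoc]
    · obtain ⟨c, hc, n, hn, c', hc', h1, -⟩ :=
        hP.rel a⁻¹ (ha.inv.mem hP.hτ) b (hb.mem hP.hτ) ha.inv hb
      refine ⟨g * a * c, n, hn, ?_, ?_⟩
      · rw [QuotientGroup.eq, inv_mul_cancel_left]; exact hc
      · rw [QuotientGroup.eq]
        have h2 : ξ * b = a * (c * n * c') := by rw [← h1]; group
        have h3 : (g * (ξ * b))⁻¹ * (g * a * c * n) = c'⁻¹ := by rw [h2]; group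
        rw [h3]; exact K.inv_mem hc'
  have hclose : ∀ {x y w : G ⧸ K}, Tp K τ ξ x y w → Closes (Adj' K N α β) (proj K α) x y w := by
    rintro x y w ⟨g, a, b, ha, hb, rfl, rfl, rfl⟩ x' y' w' hx hy hw h1 h2
    obtain ⟨gt, hgt, rfl⟩ := exists_rep hx
    obtain ⟨c, hcK, n, hn, c', hcK', h3, h4⟩ :=
      hP.rel a⁻¹ (ha.inv.mem hP.hτ) b (hb.mem hP.hτ) ha.inv hb
    set at' : G × H := (a, β ⟨a, ha.mem hP.hτ⟩) with hat
    set bt : G × H := (b, β ⟨b, hb.mem hP.hτ⟩) with hbt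
    set ξt : G × H := (ξ, α ⟨ξ, hP.hξ⟩) with hξt
    have hξm : ξt ∈ gr K α := mk_mem_gr hP.hξ
    have hbm : bt ∈ gr N β := mk_mem_gr (hb.mem hP.hτ)
    have ham : at' ∈ gr N β := mk_mem_gr (ha.mem hP.hτ)
    have hy₁ : y' = ((gt * at' : G × H) : (G × H) ⧸ gr K α) := by
      refine hc.uniq _ _ _ h1 ⟨gt, at', ham, rfl, rfl⟩ ?_
      rw [hy, proj_mk, Prod.fst_mul, hgt]
    have hw₁ : w' = ((gt * ξt * bt : G × H) : (G × H) ⧸ gr K α) := by
      refine hc.uniq _ _ _ h2 ⟨gt * ξt, bt, hbm, (mk_mul_gr _ _ hξm).symm, rfl⟩ ?_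
      rw [hw, proj_mk, Prod.fst_mul, Prod.fst_mul, hgt, mul_assoc]
    rw [hy₁, hw₁]
    have e : at'⁻¹ * ξt * bt = (c, α ⟨c, hcK⟩) * (n, β ⟨n, hn⟩) * (c', α ⟨c', hcK'⟩) := by
      refine Prod.ext ?_ ?_
      · exact h3
      · show (β ⟨a, ha.mem hP.hτ⟩)⁻¹ * α ⟨ξ, hP.hξ⟩ * β ⟨b, hb.mem hP.hτ⟩ = α ⟨c, hcK⟩ * β ⟨n, hn⟩ * α ⟨c', hcK'⟩
        rw [← h4, ← map_inv]
        rfl
    refine ⟨gt * at' * (c, α ⟨c, hcK⟩), (n, β ⟨n, hn⟩), mk_mem_gr hn, (mk_mul_gr _ _ (mk_mem_gr hcK)).symm, ?_⟩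
    have e2 : gt * ξt * bt = gt * at' * (c, α ⟨c, hcK⟩) * (n, β ⟨n, hn⟩) * (c', α ⟨c', hcK'⟩) := by
      calc gt * ξt * bt = gt * at' * (at'⁻¹ * ξt * bt) := by group
        _ = _ := by rw [e]; group
    rw [e2]
    exact mk_mul_gr _ _ (mk_mem_gr hcK')
  have hline : ∀ {x y w : G ⧸ K}, Tl K N x y w → Closes (Adj' K N α β) (proj K α) x y w := by
    rintro x y w ⟨g, p, hp, q, hq, r, hr, rfl, rfl, rfl⟩ x' y' w' hx hy hw h1 h2
    obtain ⟨gt, hgt, rfl⟩ := exists_rep hx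
    have hpq : p⁻¹ * q ∈ N := N.mul_mem (N.inv_mem hp) hq
    have hpr : p⁻¹ * r ∈ N := N.mul_mem (N.inv_mem hp) hr
    set m₁ : G × H := (p⁻¹ * q, β ⟨_, hpq⟩) with hm₁
    set m₂ : G × H := (p⁻¹ * r, β ⟨_, hpr⟩) with hm₂
    have h3 : m₁ ∈ gr N β := mk_mem_gr hpq
    have h4 : m₂ ∈ gr N β := mk_mem_gr hpr
    have hy₁ : y' = ((gt * m₁ : G × H) : (G × H) ⧸ gr K α) := by
      refine hc.uniq _ _ _ h1 ⟨gt, m₁, h3, rfl, rfl⟩ ?_
      rw [hy, proj_mk, Prod.fst_mul, hgt]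
      show ((g * q : G) : G ⧸ K) = ((g * p * (p⁻¹ * q) : G) : G ⧸ K)
      congr 1
      group
    have hw₁ : w' = ((gt * m₂ : G × H) : (G × H) ⧸ gr K α) := by
      refine hc.uniq _ _ _ h2 ⟨gt, m₂, h4, rfl, rfl⟩ ?_
      rw [hw, proj_mk, Prod.fst_mul, hgt]
      show ((g * r : G) : G ⧸ K) = ((g * p * (p⁻¹ * r) : G) : G ⧸ K)
      congr 1
      group
    rw [hy₁, hw₁]
    exact ⟨gt * m₁, m₁⁻¹ * m₂, (gr N β).mul_mem ((gr N β).inv_mem h3) h4, rfl, by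
      congr 1
      group⟩
  have hadj : ∀ {x y w : G ⧸ K}, TriP K N τ ξ x y w → Adj K N x y := by
    intro x y w h
    rcases h with h | h | h | h | h | h | h
    · obtain ⟨g, p, hp, q, hq, r, hr, rfl, rfl, rfl⟩ := h
      exact ⟨g * p, p⁻¹ * q, N.mul_mem (N.inv_mem hp) hq, rfl, by congr 1; group⟩
    · exact (hedge h).1
    · exact (hedge h).2.1
    · exact hc.symm (hedge h).1
    · exact hc.symm (hedge h).2.1
    · exact (hedge h).2.2
    · exact hc.symm (hedge h).2.2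
  have hsw := fun {x y w : G ⧸ K} (h : Closes (Adj' K N α β) (proj K α) x y w) =>
    Closes.swap (fun {x y} => hc.symm' (x := x) (y := y)) h
  have hmv := fun {x y w : G ⧸ K} (h : Closes (Adj' K N α β) (proj K α) x y w) (hxw : Adj K N x w) =>
    Closes.move (A := Adj K N) (fun {x y} => hc.symm' (x := x) (y := y)) hc.lift hc.uniq h hxw
  refine ⟨hc.symm, hc.symm', hc.map, hc.lift, hc.uniq, TriP.rot, TriP.swap, hadj, ?_⟩
  intro x' y' w' hT h1 h2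
  have key : Closes (Adj' K N α β) (proj K α) (proj K α x') (proj K α y') (proj K α w') := by
    rcases hT with h | h | h | h | h | h | h
    · exact hline h
    · exact hclose h
    · exact hsw (hclose h)
    · exact hmv (hclose h) (hedge h).2.1
    · exact hmv (hsw (hclose h)) (hedge h).1
    · exact hsw (hmv (hclose h) (hedge h).2.1)
    · exact hsw (hmv (hsw (hclose h)) (hedge h).1)
  exact key x' y' w' rfl rfl rfl h1 h2

/-! ### The homomorphism -/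

/-- A sheet of the covering defined by `α` and `β` extends them to the group. -/
theorem exists_hom_of_cover {T : G ⧸ K → G ⧸ K → G ⧸ K → Prop}
    (hc : Cover (Adj K N) (Adj' K N α β) T (proj K α))
    (hgen : Subgroup.closure ((K : Set G) ∪ N) = ⊤) {s : G ⧸ K → (G × H) ⧸ gr K α}
    (hs : Sheet (Adj K N) (Adj' K N α β) (proj K α) Set.univ s) :
    ∃ φ : G →* H, (∀ x (h : x ∈ K), φ x = α ⟨x, h⟩) ∧ (∀ x (h : x ∈ N), φ x = β ⟨x, h⟩) := by
  -- the group generated by the two graphs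
  set D : Subgroup (G × H) := Subgroup.closure ((gr K α : Set (G × H)) ∪ gr N β) with hD
  -- translate the sheet so that it contains the base point
  obtain ⟨⟨g₀, h₀⟩, hg₀⟩ := QuotientGroup.mk_surjective (s ((1 : G) : G ⧸ K))
  -- all reachable points are on the sheet
  have key : ∀ x', Relation.ReflTransGen (Adj' K N α β) (s ((1 : G) : G ⧸ K)) x' →
      s (proj K α x') = x' := by
    intro x' h
    induction h with
    | refl => rw [hs.sec _ (Set.mem_univ _)]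
    | @tail b c hab hbc ih =>
      have h1 : Adj' K N α β (s (proj K α b)) (s (proj K α c)) :=
        hs.adj _ (Set.mem_univ _) _ (Set.mem_univ _) (hc.map hbc)
      rw [ih] at h1
      exact (hc.uniq b c _ hbc h1 (by rw [hs.sec _ (Set.mem_univ _)])).symm
  -- reachability
  have hreach : ∀ d ∈ D, Relation.ReflTransGen (Adj' K N α β) (s ((1 : G) : G ⧸ K))
      ((((g₀, h₀) : G × H) * d : G × H) : (G × H) ⧸ gr K α) := by
    intro d hd
    induction hd using Subgroup.closure_induction_right with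
    | one => rw [mul_one, hg₀]
    | mul_right x _ y hy ih =>
      rcases hy with hy | hy
      · rw [← mul_assoc, mk_mul_gr _ y hy]; exact ih
      · rw [← mul_assoc]
        exact ih.tail ⟨_, y, hy, rfl, rfl⟩
    | mul_inv_cancel x _ y hy ih =>
      rcases hy with hy | hy
      · rw [← mul_assoc, mk_mul_gr _ y⁻¹ ((gr K α).inv_mem hy)]; exact ih
      · rw [← mul_assoc]
        exact ih.tail ⟨_, y⁻¹, (gr N β).inv_mem hy, rfl, rfl⟩
  -- D is a graph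
  have hgraph : ∀ d ∈ D, d.1 = 1 → d.2 = 1 := by
    intro d hd hd1
    have h1 := key _ (hreach d hd)
    have h2 := key _ (hreach 1 (one_mem _))
    rw [proj_mk] at h1 h2
    have e1 : (((g₀, h₀) : G × H) * d).1 = g₀ := by simp [hd1]
    have e2 : (((g₀, h₀) : G × H) * 1).1 = g₀ := by simp
    rw [e1] at h1
    rw [e2] at h2
    rw [h2, mk_eq_mk] at h1
    have h3 : d ∈ gr K α := by
      have e3 : (((g₀, h₀) : G × H) * 1)⁻¹ * (((g₀, h₀) : G × H) * d) = d := by group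
      rwa [e3] at h1
    obtain ⟨h4, h5⟩ := mem_gr.1 h3
    rw [← h5]
    have : (⟨d.1, h4⟩ : K) = 1 := Subtype.ext hd1
    rw [this, map_one]
  -- D projects onto G
  have hsurj : D.map (MonoidHom.fst G H) = ⊤ := by
    rw [eq_top_iff, ← hgen, Subgroup.closure_le]
    rintro x (hx | hx)
    · exact ⟨(x, α ⟨x, hx⟩), Subgroup.subset_closure (Or.inl (mk_mem_gr hx)), rfl⟩
    · exact ⟨(x, β ⟨x, hx⟩), Subgroup.subset_closure (Or.inr (mk_mem_gr hx)), rfl⟩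
  have hex : ∀ g : G, ∃ h : H, (g, h) ∈ D := by
    intro g
    have : g ∈ D.map (MonoidHom.fst G H) := by rw [hsurj]; trivial
    obtain ⟨⟨g', h⟩, hd, rfl⟩ := this
    exact ⟨h, hd⟩
  choose f hf using hex
  have huniq : ∀ g h, (g, h) ∈ D → h = f g := by
    intro g h hgh
    have := hgraph _ (D.mul_mem (D.inv_mem (hf g)) hgh) (by simp)
    simp only [Prod.snd_mul, Prod.snd_inv] at this
    rw [inv_mul_eq_one] at this
    exact this.symm
  refine ⟨MonoidHom.mk' f ?_, ?_, ?_⟩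
  · intro a b
    exact (huniq (a * b) (f a * f b) (D.mul_mem (hf a) (hf b))).symm
  · intro x hx
    exact (huniq x _ (Subgroup.subset_closure (Or.inl (mk_mem_gr hx)))).symm
  · intro x hx
    exact (huniq x _ (Subgroup.subset_closure (Or.inr (mk_mem_gr hx)))).symm

/-- The local hypotheses at the three levels. -/
structure Levels3 (K N : Subgroup G) (τ ξ : G) : Prop where
  hyp : ∃ (E₁ E₂ E₃ : Set (G ⧸ K)) (h₁ h₂ h₃ : G ⧸ K → ℕ) (x₀ : G ⧸ K),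
    MorseHyp (Adj K N) (TriP K N τ ξ) E₁ h₁ ∧ MorseHyp (Adj K N) (TriP K N τ ξ) E₂ h₂ ∧
    MorseHyp (Adj K N) (TriP K N τ ξ) E₃ h₃ ∧ (∃ n, ∀ x ∈ E₁, h₁ x ≤ n) ∧ (∃ n, ∀ x ∈ E₂, h₂ x ≤ n) ∧
    (∃ n, ∀ x ∈ E₃, h₃ x ≤ n) ∧ (∀ x, x ∈ E₁) ∧ (∀ x ∈ E₁, h₁ x = 0 → x ∈ E₂) ∧ (∀ x ∈ E₂, h₂ x = 0 → x ∈ E₃) ∧
    ∀ x ∈ E₃, h₃ x = 0 → x = x₀

/-- **The homomorphism from the model.** -/
theorem exists_hom_of_levels (kn : ∀ x (h : x ∈ K) (h' : x ∈ N), α ⟨x, h⟩ = β ⟨x, h'⟩)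
    (unique : ∀ m ∈ K, ∀ n ∈ N, ∀ n' ∈ N, n' ∉ K → n⁻¹ * m * n' ∈ K → m ∈ N) {τ ξ : G}
    (hP : PlaneRel K N α β τ ξ) (hgen : Subgroup.closure ((K : Set G) ∪ N) = ⊤) (hL : Levels3 K N τ ξ) :
    ∃ φ : G →* H, (∀ x (h : x ∈ K), φ x = α ⟨x, h⟩) ∧ (∀ x (h : x ∈ N), φ x = β ⟨x, h⟩) := by
  obtain ⟨E₁, E₂, E₃, h₁, h₂, h₃, x₀, m₁, m₂, m₃, n₁, n₂, n₃, b₀, b₁, b₂, b₃⟩ := hL.hyp
  have hc := coverP kn unique hP
  obtain ⟨s, hs⟩ := sheet_univ hc proj_surjective adj'_refl m₁ m₂ m₃ n₁ n₂ n₃ b₀ b₁ b₂ b₃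
  exact exists_hom_of_cover hc hgen hs

end Cfsg.Agent.MonsterU.GlueP
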