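import Mathlib

/-!
# The plane relation, word part

`x₁, x₂, x₁₂, s₁, s₂` satisfy the relations of `L₃(2)` inside the two parabolic subgroups
`⟨x₁, x₂, s₁⟩`, `⟨x₁, x₂, s₂⟩`.  `hex`: a consequence for `g = (s₁ s₂)³`.  `rel_pp`, …: if `g = 1`, the products
`τ^ε ξ τ^ε'`, `τ = s₂ x₂`, `ξ = s₁ x₁ s₁`, written as `c n c'`.
-/

set_option autoImplicit false

namespace Cfsg.Agent.MonsterU.PlaneWords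

variable {W : Type*} [Group W]

/-- The relations inside the two parabolic subgroups. -/
structure Rel (x₁ x₂ x₁₂ s₁ s₂ : W) : Prop where
  hx1 : x₁ * x₁ = 1
  hx2 : x₂ * x₂ = 1
  hs1 : s₁ * s₁ = 1
  hs2 : s₂ * s₂ = 1
  b1 : s₁ * x₁ * s₁ = x₁ * s₁ * x₁
  b2 : s₂ * x₂ * s₂ = x₂ * s₂ * x₂
  r3 : s₁ * x₂ * s₁ = x₁₂
  r4 : s₂ * x₁₂ * s₂ = x₁
  c1 : x₁ * x₁₂ = x₁₂ * x₁
  c2 : x₂ * x₁₂ = x₁₂ * x₂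
  k : x₂ * x₁ = x₁ * x₂ * x₁₂

namespace Rel

variable {x₁ x₂ x₁₂ s₁ s₂ : W} (h : Rel x₁ x₂ x₁₂ s₁ s₂)
include h

theorem hx1' (w : W) : x₁ * (x₁ * w) = w := by rw [← mul_assoc, h.hx1, one_mul]
theorem hx2' (w : W) : x₂ * (x₂ * w) = w := by rw [← mul_assoc, h.hx2, one_mul]
theorem hs1' (w : W) : s₁ * (s₁ * w) = w := by rw [← mul_assoc, h.hs1, one_mul]
theorem hs2' (w : W) : s₂ * (s₂ * w) = w := by rw [← mul_assoc, h.hs2, one_mul]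

theorem hx12 : x₁₂ * x₁₂ = 1 := by
  rw [← h.r3]
  simp only [mul_assoc, h.hs1', h.hx2', h.hs1]

theorem hx12' (w : W) : x₁₂ * (x₁₂ * w) = w := by rw [← mul_assoc, h.hx12, one_mul]

/-- The key identity for `g = (s₁ s₂)³`. -/
theorem hex {g : W} (hg : s₁ * s₂ * s₁ * s₂ * s₁ * s₂ = g) :
    s₁ * (x₁ * g * x₁) * s₁ * g = x₁ * g * x₁ := by
  have h1 : s₂ * s₁ * s₂ * s₁ * s₂ = s₁ * g := by
    rw [← hg]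
    simp only [mul_assoc, h.hs1']
  have h2 : s₂ * s₁ * x₂ * s₁ * s₂ = x₁ := by
    rw [← h.r4, ← h.r3]
    simp only [mul_assoc]
  -- conjugate the braid relation by `s₂ s₁`
  have h3 : (s₁ * g) * x₁ * (s₁ * g) = x₁ * (s₁ * g) * x₁ := by
    rw [← h1, ← h2]
    calc (s₂ * s₁ * s₂ * s₁ * s₂) * (s₂ * s₁ * x₂ * s₁ * s₂) * (s₂ * s₁ * s₂ * s₁ * s₂)
        = s₂ * s₁ * (s₂ * x₂ * s₂) * s₁ * s₂ := by simp only [mul_assoc, h.hs1', h.hs2']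
      _ = s₂ * s₁ * (x₂ * s₂ * x₂) * s₁ * s₂ := by rw [h.b2]
      _ = (s₂ * s₁ * x₂ * s₁ * s₂) * (s₂ * s₁ * s₂ * s₁ * s₂) * (s₂ * s₁ * x₂ * s₁ * s₂) := by
        simp only [mul_assoc, h.hs1', h.hs2']
  have h4 : (s₁ * x₁ * s₁) * (s₁ * (x₁ * g * x₁) * s₁ * g) = (s₁ * x₁ * s₁) * (x₁ * g * x₁) := by
    calc (s₁ * x₁ * s₁) * (s₁ * (x₁ * g * x₁) * s₁ * g) = (s₁ * g) * x₁ * (s₁ * g) := by
          simp only [mul_assoc, h.hs1', h.hx1']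
      _ = x₁ * (s₁ * g) * x₁ := h3
      _ = (x₁ * s₁ * x₁) * (x₁ * g * x₁) := by simp only [mul_assoc, h.hx1']
      _ = (s₁ * x₁ * s₁) * (x₁ * g * x₁) := by rw [h.b1]
  exact mul_left_cancel h4

/-- consequences of `(s₁ s₂)³ = 1` -/
theorem sss (hg : s₁ * s₂ * s₁ * s₂ * s₁ * s₂ = 1) : s₂ * s₁ * s₂ = s₁ * s₂ * s₁ := by
  have h1 : s₁ * s₂ * s₁ * (s₂ * s₁ * s₂) = 1 := by rw [← hg]; simp only [mul_assoc]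
  have h2 : s₁ * s₂ * s₁ * (s₁ * s₂ * s₁) = 1 := by
    simp only [mul_assoc, h.hs1', h.hs2', h.hs1]
  exact mul_left_cancel (h1.trans h2.symm)

theorem e1 : x₂ * s₁ = s₁ * x₁₂ := by
  rw [← h.r3]; simp only [mul_assoc, h.hs1']
theorem e2 : x₁₂ * s₁ = s₁ * x₂ := by
  rw [← h.r3]; simp only [mul_assoc, h.hs1, mul_one]
theorem e3 : x₁₂ * s₂ = s₂ * x₁ := by
  rw [← h.r4]; simp only [mul_assoc, h.hs2']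
theorem e4 : x₁ * s₂ = s₂ * x₁₂ := by
  rw [← h.r4]; simp only [mul_assoc, h.hs2, mul_one]

theorem e7 : s₂ * x₁ * s₂ = x₁₂ := by
  rw [← h.r4]; simp only [mul_assoc, h.hs2', h.hs2, mul_one]

/-- `s₁ x₁ s₁ s₂ = x₁ s₁ s₂ x₁₂` -/
theorem e5 : s₁ * x₁ * s₁ * s₂ = x₁ * s₁ * s₂ * x₁₂ := by
  calc s₁ * x₁ * s₁ * s₂ = x₁ * s₁ * (x₁ * s₂) := by rw [h.b1]; simp only [mul_assoc]
    _ = x₁ * s₁ * s₂ * x₁₂ := by rw [h.e4]; simp only [mul_assoc]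

theorem rel_mp (hg : s₁ * s₂ * s₁ * s₂ * s₁ * s₂ = 1) :
    (x₂ * s₂) * (s₁ * x₁ * s₁) * (s₂ * x₂) = s₁ * (x₂ * s₂) * (x₁ * s₁ * x₁₂ * x₂) := by
  calc (x₂ * s₂) * (s₁ * x₁ * s₁) * (s₂ * x₂) = x₂ * s₂ * (s₁ * x₁ * s₁ * s₂) * x₂ := by
        simp only [mul_assoc]
    _ = x₂ * ((s₂ * x₁ * s₂) * (s₂ * s₁ * s₂)) * x₁₂ * x₂ := by
      rw [h.e5]; simp only [mul_assoc, h.hs2']
    _ = x₂ * (x₁₂ * (s₁ * s₂ * s₁)) * x₁₂ * x₂ := by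
      rw [h.sss hg, ← h.r4]; simp only [mul_assoc, h.hs2', h.hs2, mul_one]
    _ = x₂ * (x₁₂ * s₁) * s₂ * s₁ * x₁₂ * x₂ := by simp only [mul_assoc]
    _ = (x₂ * s₁) * x₂ * s₂ * s₁ * x₁₂ * x₂ := by rw [h.e2]; simp only [mul_assoc]
    _ = s₁ * (x₂ * x₁₂) * s₂ * s₁ * x₁₂ * x₂ := by rw [h.e1, h.c2]; simp only [mul_assoc]
    _ = s₁ * x₂ * (x₁₂ * s₂) * s₁ * x₁₂ * x₂ := by simp only [mul_assoc]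
    _ = s₁ * (x₂ * s₂) * (x₁ * s₁ * x₁₂ * x₂) := by rw [h.e3]; simp only [mul_assoc]

/-- `s₂ x₁ s₁ x₂ s₂ = x₁ s₁ x₂ s₂ s₁` -/
theorem e6 (hg : s₁ * s₂ * s₁ * s₂ * s₁ * s₂ = 1) :
    s₂ * x₁ * s₁ * x₂ * s₂ = x₁ * s₁ * x₂ * s₂ * s₁ := by
  calc s₂ * x₁ * s₁ * x₂ * s₂ = (s₂ * x₁ * s₂) * (s₂ * (s₁ * x₂ * s₁) * s₂) * (s₂ * s₁ * s₂) := by
        simp only [mul_assoc, h.hs1', h.hs2']
    _ = x₁₂ * x₁ * (s₁ * s₂ * s₁) := by rw [h.r3, h.sss hg, h.e7, h.r4]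
    _ = x₁ * (x₁₂ * s₁) * s₂ * s₁ := by rw [← h.c1]; simp only [mul_assoc]
    _ = x₁ * s₁ * x₂ * s₂ * s₁ := by rw [h.e2]; simp only [mul_assoc]

theorem rel_pp (hg : s₁ * s₂ * s₁ * s₂ * s₁ * s₂ = 1) :
    (s₂ * x₂) * (s₁ * x₁ * s₁) * (s₂ * x₂) = (x₁ * s₁) * (x₂ * s₂) * (s₁ * x₁ * x₁₂ * x₂) := by
  calc (s₂ * x₂) * (s₁ * x₁ * s₁) * (s₂ * x₂) = s₂ * x₂ * (s₁ * x₁ * s₁ * s₂) * x₂ := by
        simp only [mul_assoc]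
    _ = s₂ * (x₂ * x₁) * s₁ * s₂ * x₁₂ * x₂ := by rw [h.e5]; simp only [mul_assoc]
    _ = s₂ * x₁ * x₂ * (x₁₂ * s₁) * s₂ * x₁₂ * x₂ := by rw [h.k]; simp only [mul_assoc]
    _ = s₂ * x₁ * (x₂ * s₁) * x₂ * s₂ * x₁₂ * x₂ := by rw [h.e2]; simp only [mul_assoc]
    _ = s₂ * x₁ * s₁ * (x₂ * x₁₂) * s₂ * x₁₂ * x₂ := by rw [h.e1, h.c2]; simp only [mul_assoc]
    _ = s₂ * x₁ * s₁ * x₂ * (x₁₂ * s₂) * x₁₂ * x₂ := by simp only [mul_assoc]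
    _ = (s₂ * x₁ * s₁ * x₂ * s₂) * x₁ * x₁₂ * x₂ := by rw [h.e3]; simp only [mul_assoc]
    _ = (x₁ * s₁) * (x₂ * s₂) * (s₁ * x₁ * x₁₂ * x₂) := by rw [h.e6 hg]; simp only [mul_assoc]

/-- `s₁ x₁ s₁ x₂ s₂ = x₁ s₁ x₂ s₂ x₁₂ x₁` -/
theorem e8 : s₁ * x₁ * s₁ * x₂ * s₂ = x₁ * s₁ * x₂ * s₂ * x₁₂ * x₁ := by
  have h1 : x₁ * x₂ = x₂ * x₁ * x₁₂ := by
    rw [h.k]; simp only [mul_assoc, h.hx12, mul_one]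
  calc s₁ * x₁ * s₁ * x₂ * s₂ = x₁ * s₁ * (x₁ * x₂) * s₂ := by rw [h.b1]; simp only [mul_assoc]
    _ = x₁ * s₁ * x₂ * x₁ * (x₁₂ * s₂) := by rw [h1]; simp only [mul_assoc]
    _ = x₁ * s₁ * x₂ * (x₁ * s₂) * x₁ := by rw [h.e3]; simp only [mul_assoc]
    _ = x₁ * s₁ * x₂ * s₂ * x₁₂ * x₁ := by rw [h.e4]; simp only [mul_assoc]

/-- `x₂ x₁ s₁ x₂ s₂ = x₁ s₁ s₂ x₁` -/
theorem e9 : x₂ * x₁ * s₁ * x₂ * s₂ = x₁ * s₁ * s₂ * x₁ := by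
  calc x₂ * x₁ * s₁ * x₂ * s₂ = x₁ * x₂ * (x₁₂ * s₁) * x₂ * s₂ := by
        rw [h.k]; simp only [mul_assoc]
    _ = x₁ * (x₂ * s₁) * s₂ := by rw [h.e2]; simp only [mul_assoc, h.hx2']
    _ = x₁ * s₁ * (x₁₂ * s₂) := by rw [h.e1]; simp only [mul_assoc]
    _ = x₁ * s₁ * s₂ * x₁ := by rw [h.e3]; simp only [mul_assoc]

theorem rel_mm (hg : s₁ * s₂ * s₁ * s₂ * s₁ * s₂ = 1) :
    (x₂ * s₂) * (s₁ * x₁ * s₁) * (x₂ * s₂) = (x₁ * s₁) * s₂ * (x₁ * s₁ * x₁₂ * x₁) := by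
  calc (x₂ * s₂) * (s₁ * x₁ * s₁) * (x₂ * s₂) = x₂ * s₂ * (s₁ * x₁ * s₁ * x₂ * s₂) := by
        simp only [mul_assoc]
    _ = x₂ * (s₂ * x₁ * s₁ * x₂ * s₂) * x₁₂ * x₁ := by rw [h.e8]; simp only [mul_assoc]
    _ = (x₂ * x₁ * s₁ * x₂ * s₂) * s₁ * x₁₂ * x₁ := by rw [h.e6 hg]; simp only [mul_assoc]
    _ = (x₁ * s₁) * s₂ * (x₁ * s₁ * x₁₂ * x₁) := by rw [h.e9]; simp only [mul_assoc]

theorem rel_pm (hg : s₁ * s₂ * s₁ * s₂ * s₁ * s₂ = 1) :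
    (s₂ * x₂) * (s₁ * x₁ * s₁) * (x₂ * s₂) = s₁ * (x₂ * s₂) * (s₁ * x₁₂) := by
  calc (s₂ * x₂) * (s₁ * x₁ * s₁) * (x₂ * s₂) = s₂ * x₂ * (s₁ * x₁ * s₁ * x₂ * s₂) := by
        simp only [mul_assoc]
    _ = s₂ * (x₂ * x₁ * s₁ * x₂ * s₂) * x₁₂ * x₁ := by rw [h.e8]; simp only [mul_assoc]
    _ = s₂ * x₁ * s₁ * s₂ * (x₁ * x₁₂) * x₁ := by rw [h.e9]; simp only [mul_assoc]
    _ = (s₂ * x₁ * s₂) * (s₂ * s₁ * s₂) * x₁₂ := by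
      rw [h.c1]; simp only [mul_assoc, h.hs2', h.hx1, mul_one]
    _ = (x₁₂ * s₁) * s₂ * s₁ * x₁₂ := by rw [h.e7, h.sss hg]; simp only [mul_assoc]
    _ = s₁ * (x₂ * s₂) * (s₁ * x₁₂) := by rw [h.e2]; simp only [mul_assoc]

end Rel

end Cfsg.Agent.MonsterU.PlaneWords
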