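import Cfsg.Agent.MonsterU.PlaneAct
import Cfsg.Agent.MonsterU.PlaneWords
import Cfsg.Agent.MonsterU.GlueP

/-!
# The plane relations (step (E) of the uniqueness of the Monster)

`Γ` the model, `K = C(z)`, `N = N(⟨z, a⟩)`, `V8 = ⟨z, a, b⟩`, `X = C(V8)`; `α : K →* H` injective with image
`C_H(α z)`, `β : N →* H` agreeing with `α` on `K ∩ N`.  If every element of `K` commuting with `X` lies in `V8`,
the relations `τ^ε ξ τ^ε' = c n c'` of `Γ` hold for the images in `H`: `planeRel`.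
-/

set_option autoImplicit false

namespace Cfsg.Agent.MonsterU.PlaneE

open Cfsg.Agent.MonsterU.PlaneGeo Cfsg.Agent.MonsterU.PlaneAct

variable {Γ H : Type*} [Group Γ] [Group H] {z a b τ ξ y q : Γ}

/-- centraliser of the plane -/
def X (z a b : Γ) : Subgroup Γ := Subgroup.centralizer {z, a, b}

theorem mem_X {g : Γ} : g ∈ X z a b ↔ g * z = z * g ∧ g * a = a * g ∧ g * b = b * g := by
  unfold X
  rw [Subgroup.mem_centralizer_iff]
  simp only [Set.mem_insert_iff, Set.mem_singleton_iff, forall_eq_or_imp, forall_eq]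
  constructor
  · rintro ⟨h1, h2, h3⟩
    exact ⟨h1.symm, h2.symm, h3.symm⟩
  · rintro ⟨h1, h2, h3⟩
    exact ⟨h1.symm, h2.symm, h3.symm⟩

theorem comm_V8 {x v : Γ} (hx : x ∈ X z a b) (hv : v ∈ V8 z a b) : x * v = v * x := by
  have h1 : V8 z a b ≤ Subgroup.centralizer {x} := by
    unfold V8
    rw [Subgroup.closure_le]
    obtain ⟨h1, h2, h3⟩ := mem_X.1 hx
    rintro s (rfl | rfl | hs)
    · exact Subgroup.mem_centralizer_singleton_iff.2 h1.symm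
    · exact Subgroup.mem_centralizer_singleton_iff.2 h2.symm
    · rw [Set.mem_singleton_iff] at hs
      subst hs
      exact Subgroup.mem_centralizer_singleton_iff.2 h3.symm
  exact (Subgroup.mem_centralizer_singleton_iff.1 (h1 hv)).symm

theorem mem_X_of {g : Γ} (hg : ∀ v ∈ V8 z a b, g * v = v * g) : g ∈ X z a b :=
  mem_X.2 ⟨hg z z_mem_V8, hg a a_mem_V8, hg b b_mem_V8⟩

theorem conj_X {p x : Γ} (hp : p ∈ P z a b) (hx : x ∈ X z a b) : p * x * p⁻¹ ∈ X z a b := by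
  apply mem_X_of
  intro v hv
  have h1 : p⁻¹ * v * p ∈ V8 z a b := by
    have := Plane.conj_mem_V8 (inv_mem hp) hv
    rwa [inv_inv] at this
  have h2 := comm_V8 hx h1
  calc p * x * p⁻¹ * v = p * (x * (p⁻¹ * v * p)) * p⁻¹ := by group
    _ = p * ((p⁻¹ * v * p) * x) * p⁻¹ := by rw [h2]
    _ = v * (p * x * p⁻¹) := by group

theorem ev_mem_V8 (v : V) : ev z a b v ∈ V8 z a b := by
  have hc : ∀ (i : Bool) {g : Γ}, g ∈ V8 z a b → cf i g ∈ V8 z a b := by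
    intro i g hg
    cases i
    · exact one_mem _
    · exact hg
  exact mul_mem (mul_mem (hc _ z_mem_V8) (hc _ a_mem_V8)) (hc _ b_mem_V8)

theorem mem_X_of_act {g : Γ} (hg : Act z a b g id) : g ∈ X z a b := by
  have h1 := hg (true, false, false)
  have h2 := hg (false, true, false)
  have h3 := hg (false, false, true)
  simp only [ev, cf, cond_true, cond_false, mul_one, one_mul, id] at h1 h2 h3
  exact mem_X.2 ⟨mul_inv_eq_iff_eq_mul.1 h1, mul_inv_eq_iff_eq_mul.1 h2, mul_inv_eq_iff_eq_mul.1 h3⟩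

theorem X_le_K : X z a b ≤ K z := by
  intro g hg
  exact Subgroup.mem_centralizer_singleton_iff.2 (mem_X.1 hg).1

theorem X_le_P : X z a b ≤ P z a b := by
  intro g hg
  refine Subgroup.mem_normalizer_iff.2 fun v => ?_
  constructor
  · intro hv
    have h1 := comm_V8 hg hv
    have h2 : g * v * g⁻¹ = v := by rw [h1]; group
    rw [h2]; exact hv
  · intro hv
    have h1 := comm_V8 hg hv
    have h2 : g * v * g⁻¹ = v := by
      have h3 : g * (g * v * g⁻¹) * g⁻¹ = g * v * g⁻¹ := by rw [h1]; group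
      have h4 := congrArg (fun t => g⁻¹ * t * g) h3
      simpa [mul_assoc] using h4
    rw [← h2]; exact hv

theorem X_le_N (h : Plane z a b τ ξ y) : X z a b ≤ N z a := by
  intro g hg
  obtain ⟨h1, h2, -⟩ := mem_X.1 hg
  refine h.mem_N_of ?_ ?_
  · rw [h1, mul_inv_cancel_right]; exact z_mem_V4
  · rw [h2, mul_inv_cancel_right]; exact a_mem_V4

/-- graph of `α : K →* H` over `S` -/
def gr {K : Subgroup Γ} (α : K →* H) (S : Subgroup Γ) : Subgroup (Γ × H) :=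
  (S.subgroupOf K).map (K.subtype.prod α)

theorem mem_gr {K : Subgroup Γ} {α : K →* H} {S : Subgroup Γ} {w : Γ × H} :
    w ∈ gr α S ↔ ∃ hk : w.1 ∈ K, w.1 ∈ S ∧ w.2 = α ⟨w.1, hk⟩ := by
  constructor
  · rintro ⟨k, hk, rfl⟩
    exact ⟨k.2, hk, rfl⟩
  · rintro ⟨hk, hS, h⟩
    exact ⟨⟨w.1, hk⟩, hS, Prod.ext rfl h.symm⟩

/-- The input of step (E). -/
structure Data (z a b τ ξ y q : Γ) (α : K z →* H) (β : N z a →* H) : Prop where
  pl : Plane z a b τ ξ y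
  q_z : q * z * q⁻¹ = z
  q_a : q * a * q⁻¹ = z * a
  q_b : q * b * q⁻¹ = b
  inj : Function.Injective α
  kn : ∀ x (h : x ∈ K z) (h' : x ∈ N z a), α ⟨x, h⟩ = β ⟨x, h'⟩
  onto : ∀ (hz : z ∈ K z) (g : H), g * α ⟨z, hz⟩ = α ⟨z, hz⟩ * g → ∃ k, α k = g
  cent : ∀ k ∈ K z, (∀ x ∈ X z a b, k * x = x * k) → ∃ v, k = ev z a b v

/-- the normaliser of the graph of `α` over `X` -/
def B (a b : Γ) (α : K z →* H) : Subgroup (Γ × H) := Subgroup.normalizer (gr α (X z a b) : Set (Γ × H))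

variable {α : K z →* H} {β : N z a →* H}

theorem mem_B_iff {w : Γ × H} : w ∈ B a b α ↔ ∀ u, u ∈ gr α (X z a b) ↔ w * u * w⁻¹ ∈ gr α (X z a b) :=
  Subgroup.mem_normalizer_iff

instance instNormal : ((gr α (X z a b)).subgroupOf (B a b α)).Normal := Subgroup.normal_in_normalizer

/-- the quotient -/
abbrev Wq (a b : Γ) (α : K z →* H) := B a b α ⧸ (gr α (X z a b)).subgroupOf (B a b α)

theorem le_B {L : Subgroup (Γ × H)} (hL : ∀ w ∈ L, ∀ u ∈ gr α (X z a b), w * u * w⁻¹ ∈ gr α (X z a b)) :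
    L ≤ B a b α := by
  intro w hw
  rw [mem_B_iff]
  intro u
  constructor
  · exact hL w hw u
  · intro hu
    have h1 := hL w⁻¹ (L.inv_mem hw) _ hu
    have h2 : w⁻¹ * (w * u * w⁻¹) * w⁻¹⁻¹ = u := by group
    rwa [h2] at h1

theorem gr_le_B_K : gr α (P z a b) ≤ B a b α := by
  apply le_B
  intro w hw u hu
  obtain ⟨hw1, hw2, hw3⟩ := mem_gr.1 hw
  obtain ⟨hu1, hu2, hu3⟩ := mem_gr.1 hu
  have hx : w.1 * u.1 * w.1⁻¹ ∈ X z a b := conj_X hw2 hu2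
  refine mem_gr.2 ⟨X_le_K hx, hx, ?_⟩
  show w.2 * u.2 * w.2⁻¹ = _
  rw [hw3, hu3, ← map_mul, ← map_inv, ← map_mul]
  rfl

namespace Data

variable (D : Data z a b τ ξ y q α β)
include D

theorem gr_le_B_N : gr β (P z a b) ≤ B a b α := by
  apply le_B
  intro w hw u hu
  obtain ⟨hw1, hw2, hw3⟩ := mem_gr.1 hw
  obtain ⟨hu1, hu2, hu3⟩ := mem_gr.1 hu
  have hx : w.1 * u.1 * w.1⁻¹ ∈ X z a b := conj_X hw2 hu2
  refine mem_gr.2 ⟨X_le_K hx, hx, ?_⟩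
  show w.2 * u.2 * w.2⁻¹ = α ⟨w.1 * u.1 * w.1⁻¹, X_le_K hx⟩
  rw [hw3, hu3, D.kn _ (X_le_K hu2) (X_le_N D.pl hu2), D.kn _ (X_le_K hx) (X_le_N D.pl hx),
    ← map_mul, ← map_inv, ← map_mul]
  rfl

omit D in
theorem gr_X_of_K {w : Γ × H} (hw : w ∈ gr α (P z a b)) (hx : w.1 ∈ X z a b) : w ∈ gr α (X z a b) := by
  obtain ⟨h1, -, h3⟩ := mem_gr.1 hw
  exact mem_gr.2 ⟨h1, hx, h3⟩

theorem gr_X_of_N {w : Γ × H} (hw : w ∈ gr β (P z a b)) (hx : w.1 ∈ X z a b) : w ∈ gr α (X z a b) := by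
  obtain ⟨h1, -, h3⟩ := mem_gr.1 hw
  exact mem_gr.2 ⟨X_le_K hx, hx, by rw [h3, D.kn _ (X_le_K hx) h1]⟩

omit D in
/-- two elements of a graph over `P` with the same action are congruent -/
theorem mk_eq {L : Subgroup (Γ × H)} (hL : ∀ w ∈ L, w.1 ∈ X z a b → w ∈ gr α (X z a b))
    {u v : B a b α} (hu : (u : Γ × H) ∈ L) (hv : (v : Γ × H) ∈ L) {f f' : V → V}
    (hf : Act z a b (u : Γ × H).1 f) (hf' : Act z a b (v : Γ × H).1 f') (he : ∀ w, f w = f' w) :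
    (QuotientGroup.mk u : Wq a b α) = QuotientGroup.mk v := by
  rw [QuotientGroup.eq]
  refine hL _ (L.mul_mem (L.inv_mem hu) hv) ?_
  apply mem_X_of_act
  intro w
  show ((u : Γ × H).1⁻¹ * (v : Γ × H).1) * ev z a b w * ((u : Γ × H).1⁻¹ * (v : Γ × H).1)⁻¹ = ev z a b w
  have h1 := hf w
  have h2 := hf' w
  rw [he, ← h2] at h1
  calc ((u : Γ × H).1⁻¹ * (v : Γ × H).1) * ev z a b w * ((u : Γ × H).1⁻¹ * (v : Γ × H).1)⁻¹
      = (u : Γ × H).1⁻¹ * ((v : Γ × H).1 * ev z a b w * (v : Γ × H).1⁻¹) * (u : Γ × H).1 := by group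
    _ = (u : Γ × H).1⁻¹ * ((u : Γ × H).1 * ev z a b w * (u : Γ × H).1⁻¹) * (u : Γ × H).1 := by rw [h1]
    _ = ev z a b w := by group

/-! ### the elements -/

theorem hτP : τ ∈ P z a b := D.pl.τ_mem_P
theorem hτN : τ ∈ N z a := D.pl.τ_mem_N
theorem hqK : q ∈ K z := mem_K.2 D.q_z
theorem act_q : Act z a b q fq := PlaneAct.act_q D.pl D.q_z D.q_a D.q_b

omit D in
theorem mem_P_of_act (hpl : Plane z a b τ ξ y) {g : Γ} {f : V → V} (hg : Act z a b g f) : g ∈ P z a b := by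
  have h1 := hg (true, false, false)
  have h2 := hg (false, true, false)
  have h3 := hg (false, false, true)
  simp only [ev, cf, cond_true, cond_false, mul_one, one_mul] at h1 h2 h3
  exact hpl.mem_P_of (by rw [h1]; exact ev_mem_V8 _) (by rw [h2]; exact ev_mem_V8 _)
    (by rw [h3]; exact ev_mem_V8 _)

omit D in
theorem ev_mem_V4 {v : V} (hv : v.2.2 = false) : ev z a b v ∈ V4 z a := by
  have hc : ∀ (i : Bool) {g : Γ}, g ∈ V4 z a → cf i g ∈ V4 z a := by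
    intro i g hg
    cases i
    · exact one_mem _
    · exact hg
  unfold ev
  rw [hv]
  simp only [cf, cond_false, mul_one]
  exact mul_mem (hc _ z_mem_V4) (hc _ a_mem_V4)

omit D in
theorem mem_N_of_act (hpl : Plane z a b τ ξ y) {g : Γ} {f : V → V} (hg : Act z a b g f)
    (h1 : (f (true, false, false)).2.2 = false) (h2 : (f (false, true, false)).2.2 = false) : g ∈ N z a := by
  have e1 := hg (true, false, false)
  have e2 := hg (false, true, false)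
  simp only [ev, cf, cond_true, cond_false, mul_one, one_mul] at e1 e2
  refine hpl.mem_N_of ?_ ?_
  · rw [e1]
    exact ev_mem_V4 h1
  · rw [e2]
    exact ev_mem_V4 h2

omit D in
theorem mem_K_of_act {g : Γ} {f : V → V} (hg : Act z a b g f)
    (h1 : f (true, false, false) = (true, false, false)) : g ∈ K z := by
  have e1 := hg (true, false, false)
  rw [h1] at e1
  simp only [ev, cf, cond_true, cond_false, mul_one] at e1
  exact mem_K.2 e1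

theorem hqP : q ∈ P z a b := mem_P_of_act D.pl D.act_q
theorem hqN : q ∈ N z a := mem_N_of_act D.pl D.act_q rfl rfl

/-- lift of `y` -/
def x1 : B a b α := ⟨(y, α ⟨y, D.pl.y_mem_K⟩), gr_le_B_K (mem_gr.2 ⟨D.pl.y_mem_K, D.pl.y_mem_P, rfl⟩)⟩
/-- lift of `q` -/
def x2 : B a b α := ⟨(q, α ⟨q, D.hqK⟩), gr_le_B_K (mem_gr.2 ⟨D.hqK, D.hqP, rfl⟩)⟩
/-- lift of `ξ` -/
def xi : B a b α := ⟨(ξ, α ⟨ξ, D.pl.ξ_mem_K⟩), gr_le_B_K (mem_gr.2 ⟨D.pl.ξ_mem_K, D.pl.ξ_mem_P, rfl⟩)⟩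
/-- lift of `τ` -/
def ta : B a b α := ⟨(τ, β ⟨τ, D.hτN⟩), D.gr_le_B_N (mem_gr.2 ⟨D.hτN, D.hτP, rfl⟩)⟩
/-- the reflection in `K` -/
def s1 : B a b α := D.x1 * D.xi * D.x1
/-- the reflection in `N` -/
def s2 : B a b α := D.ta * D.x2
/-- the third root element -/
def x12 : B a b α := D.s1 * D.x2 * D.s1

theorem x1_K : (D.x1 : Γ × H) ∈ gr α (P z a b) := mem_gr.2 ⟨D.pl.y_mem_K, D.pl.y_mem_P, rfl⟩
theorem x2_K : (D.x2 : Γ × H) ∈ gr α (P z a b) := mem_gr.2 ⟨D.hqK, D.hqP, rfl⟩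
theorem xi_K : (D.xi : Γ × H) ∈ gr α (P z a b) := mem_gr.2 ⟨D.pl.ξ_mem_K, D.pl.ξ_mem_P, rfl⟩
theorem ta_N : (D.ta : Γ × H) ∈ gr β (P z a b) := mem_gr.2 ⟨D.hτN, D.hτP, rfl⟩
theorem s1_K : (D.s1 : Γ × H) ∈ gr α (P z a b) := mul_mem (mul_mem D.x1_K D.xi_K) D.x1_K
theorem x12_K : (D.x12 : Γ × H) ∈ gr α (P z a b) := mul_mem (mul_mem D.s1_K D.x2_K) D.s1_K

/-- an element of the graph of `α` with first coordinate in `N` is in the graph of `β` -/
theorem toN {w : Γ × H} (hw : w ∈ gr α (P z a b)) (hN : w.1 ∈ N z a) : w ∈ gr β (P z a b) := by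
  obtain ⟨h1, h2, h3⟩ := mem_gr.1 hw
  exact mem_gr.2 ⟨hN, h2, by rw [h3, D.kn _ h1 hN]⟩

/-- the action of the reflection in `K` -/
theorem act_x1 : Act z a b (D.x1 : Γ × H).1 fy := act_y D.pl
theorem act_x2 : Act z a b (D.x2 : Γ × H).1 fq := D.act_q
theorem act_xi : Act z a b (D.xi : Γ × H).1 fξ := act_ξ D.pl
theorem act_ta : Act z a b (D.ta : Γ × H).1 fτ := act_τ D.pl

/-- the action of `s₁` -/
def f1 (v : V) : V := (v.1, v.2.2, v.2.1)
/-- the action of `s₂` -/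
def f2 (v : V) : V := (v.2.1, v.1, v.2.2)
/-- the action of `x₁₂` -/
def f12 (v : V) : V := (xor v.1 v.2.2, v.2.1, v.2.2)

theorem act_s1 : Act z a b (D.s1 : Γ × H).1 f1 :=
  ((D.act_x1.mul D.act_xi).mul D.act_x1).congr (by decide)
theorem act_s2 : Act z a b (D.s2 : Γ × H).1 f2 :=
  (D.act_ta.mul D.act_x2).congr (by decide)
theorem act_x12 : Act z a b (D.x12 : Γ × H).1 f12 :=
  ((D.act_s1.mul D.act_x2).mul D.act_s1).congr (by decide)

theorem x1_N : (D.x1 : Γ × H) ∈ gr β (P z a b) := D.toN D.x1_K D.pl.y_mem_N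
theorem x2_N : (D.x2 : Γ × H) ∈ gr β (P z a b) := D.toN D.x2_K D.hqN
theorem x12_N : (D.x12 : Γ × H) ∈ gr β (P z a b) :=
  D.toN D.x12_K (mem_N_of_act D.pl D.act_x12 rfl rfl)
theorem s2_N : (D.s2 : Γ × H) ∈ gr β (P z a b) := mul_mem D.ta_N D.x2_N

/-- the projection -/
def π (_D : Data z a b τ ξ y q α β) : B a b α →* Wq a b α :=
  QuotientGroup.mk' ((gr α (X z a b)).subgroupOf (B a b α))

omit D in
theorem act_one : Act z a b ((1 : B a b α) : Γ × H).1 id := by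
  intro v
  show (1 : Γ) * ev z a b v * (1 : Γ)⁻¹ = ev z a b v
  rw [one_mul, inv_one, mul_one]

/-- the relations inside the two parabolic subgroups -/
theorem rel : PlaneWords.Rel (D.π D.x1) (D.π D.x2) (D.π D.x12) (D.π D.s1) (D.π D.s2) where
  hx1 := by
    rw [← map_mul, ← map_one D.π]
    exact mk_eq (fun w hw hx => gr_X_of_K hw hx) (mul_mem D.x1_K D.x1_K) (one_mem _)
      (D.act_x1.mul D.act_x1) act_one (by decide)
  hx2 := by
    rw [← map_mul, ← map_one D.π]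
    exact mk_eq (fun w hw hx => gr_X_of_K hw hx) (mul_mem D.x2_K D.x2_K) (one_mem _)
      (D.act_x2.mul D.act_x2) act_one (by decide)
  hs1 := by
    rw [← map_mul, ← map_one D.π]
    exact mk_eq (fun w hw hx => gr_X_of_K hw hx) (mul_mem D.s1_K D.s1_K) (one_mem _)
      (D.act_s1.mul D.act_s1) act_one (by decide)
  hs2 := by
    rw [← map_mul, ← map_one D.π]
    exact mk_eq (fun w hw hx => D.gr_X_of_N hw hx) (mul_mem D.s2_N D.s2_N) (one_mem _)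
      (D.act_s2.mul D.act_s2) act_one (by decide)
  b1 := by
    simp only [← map_mul]
    exact mk_eq (fun w hw hx => gr_X_of_K hw hx) (mul_mem (mul_mem D.s1_K D.x1_K) D.s1_K)
      (mul_mem (mul_mem D.x1_K D.s1_K) D.x1_K) ((D.act_s1.mul D.act_x1).mul D.act_s1)
      ((D.act_x1.mul D.act_s1).mul D.act_x1) (by decide)
  b2 := by
    simp only [← map_mul]
    exact mk_eq (fun w hw hx => D.gr_X_of_N hw hx) (mul_mem (mul_mem D.s2_N D.x2_N) D.s2_N)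
      (mul_mem (mul_mem D.x2_N D.s2_N) D.x2_N) ((D.act_s2.mul D.act_x2).mul D.act_s2)
      ((D.act_x2.mul D.act_s2).mul D.act_x2) (by decide)
  r3 := by
    simp only [← map_mul]
    rfl
  r4 := by
    simp only [← map_mul]
    exact mk_eq (fun w hw hx => D.gr_X_of_N hw hx) (mul_mem (mul_mem D.s2_N D.x12_N) D.s2_N)
      D.x1_N ((D.act_s2.mul D.act_x12).mul D.act_s2) D.act_x1 (by decide)
  c1 := by
    simp only [← map_mul]
    exact mk_eq (fun w hw hx => gr_X_of_K hw hx) (mul_mem D.x1_K D.x12_K) (mul_mem D.x12_K D.x1_K)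
      (D.act_x1.mul D.act_x12) (D.act_x12.mul D.act_x1) (by decide)
  c2 := by
    simp only [← map_mul]
    exact mk_eq (fun w hw hx => gr_X_of_K hw hx) (mul_mem D.x2_K D.x12_K) (mul_mem D.x12_K D.x2_K)
      (D.act_x2.mul D.act_x12) (D.act_x12.mul D.act_x2) (by decide)
  k := by
    simp only [← map_mul]
    exact mk_eq (fun w hw hx => gr_X_of_K hw hx) (mul_mem D.x2_K D.x1_K)
      (mul_mem (mul_mem D.x1_K D.x2_K) D.x12_K)
      (D.act_x2.mul D.act_x1) ((D.act_x1.mul D.act_x2).mul D.act_x12) (by decide)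

/-! ### the defect -/

theorem V8_comm {v w : Γ} (hv : v ∈ V8 z a b) (hw : w ∈ V8 z a b) : v * w = w * v := by
  have h1 : V8 z a b ≤ X z a b := by
    unfold V8
    rw [Subgroup.closure_le]
    rintro s (rfl | rfl | hs)
    · exact mem_X.2 ⟨rfl, D.pl.za, D.pl.zb⟩
    · exact mem_X.2 ⟨D.pl.za.symm, rfl, D.pl.ab⟩
    · rw [Set.mem_singleton_iff] at hs
      subst hs
      exact mem_X.2 ⟨D.pl.zb.symm, D.pl.ab.symm, rfl⟩
  exact comm_V8 (h1 hv) hw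

theorem ev_X (v : V) : ev z a b v ∈ X z a b :=
  mem_X_of fun w hw => D.V8_comm (ev_mem_V8 v) hw

/-- the elements `(1, α e)`, `e ∈ V8` -/
def ZZ (a b : Γ) (α : K z →* H) : Subgroup (Γ × H) :=
  ((V8 z a b).subgroupOf (K z)).map ((1 : K z →* Γ).prod α)

omit D in
theorem ZZ_le : ZZ a b α ≤ B a b α := by
  apply le_B
  rintro _ ⟨k, hk, rfl⟩ u hu
  obtain ⟨hu1, hu2, hu3⟩ := mem_gr.1 hu
  have h1 : (k : Γ) * u.1 = u.1 * k := (comm_V8 hu2 hk).symm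
  have h2 : k * ⟨u.1, hu1⟩ = ⟨u.1, hu1⟩ * k := Subtype.ext h1
  have h3 : ((1 : K z →* Γ).prod α) k * u * (((1 : K z →* Γ).prod α) k)⁻¹ = u := by
    refine Prod.ext ?_ ?_
    · show (1 : Γ) * u.1 * (1 : Γ)⁻¹ = u.1
      rw [one_mul, inv_one, mul_one]
    · show α k * u.2 * (α k)⁻¹ = u.2
      rw [hu3, ← map_mul, h2, map_mul, mul_inv_cancel_right]
  rw [h3]
  exact hu

/-- the element `(1, α (ev v))` -/
def zv (v : V) : B a b α :=
  ⟨(1, α ⟨ev z a b v, X_le_K (D.ev_X v)⟩), ZZ_le ⟨⟨ev z a b v, X_le_K (D.ev_X v)⟩, ev_mem_V8 v, rfl⟩⟩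

theorem zv_mul (v w : V) : D.zv v * D.zv w = D.zv (add v w) := by
  apply Subtype.ext
  refine Prod.ext (one_mul 1) ?_
  show α ⟨ev z a b v, _⟩ * α ⟨ev z a b w, _⟩ = α ⟨ev z a b (add v w), _⟩
  rw [← map_mul]
  congr 1
  exact Subtype.ext (ev_add D.pl v w).symm

theorem zv_conj (w : B a b α) {f : V → V} (hf : Act z a b (w : Γ × H).1 f) (v : V) :
    w * D.zv v * w⁻¹ = D.zv (f v) := by
  have h1 : ((ev z a b v, α ⟨ev z a b v, X_le_K (D.ev_X v)⟩) : Γ × H) ∈ gr α (X z a b) :=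
    mem_gr.2 ⟨X_le_K (D.ev_X v), D.ev_X v, rfl⟩
  have h2 := (mem_B_iff.1 w.2 _).1 h1
  obtain ⟨hk, -, h3⟩ := mem_gr.1 h2
  apply Subtype.ext
  refine Prod.ext ?_ ?_
  · show (w : Γ × H).1 * 1 * (w : Γ × H).1⁻¹ = 1
    rw [mul_one, mul_inv_cancel]
  · show (w : Γ × H).2 * α ⟨ev z a b v, _⟩ * (w : Γ × H).2⁻¹ = α ⟨ev z a b (f v), _⟩
    refine Eq.trans h3 ?_
    congr 1
    exact Subtype.ext (hf v)

theorem zv_zero : D.zv (false, false, false) = 1 := by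
  have h1 := D.zv_mul (false, false, false) (false, false, false)
  have h2 : add (false, false, false) (false, false, false) = ((false, false, false) : V) := by decide
  rw [h2] at h1
  exact mul_eq_left.1 h1

theorem zv_inj {v w : V} (h : D.π (D.zv v) = D.π (D.zv w)) : v = w := by
  have h1 : ((D.zv v)⁻¹ * D.zv w : B a b α) ∈ (gr α (X z a b)).subgroupOf (B a b α) := QuotientGroup.eq.1 h
  obtain ⟨hk, -, h3⟩ := mem_gr.1 h1
  have h4 : (α ⟨ev z a b v, X_le_K (D.ev_X v)⟩)⁻¹ * α ⟨ev z a b w, X_le_K (D.ev_X w)⟩ = 1 := by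
    refine Eq.trans h3 ?_
    rw [← map_one α]
    congr 1
    apply Subtype.ext
    show (1 : Γ)⁻¹ * 1 = 1
    rw [inv_one, one_mul]
  rw [inv_mul_eq_one] at h4
  exact ev_inj D.pl (congrArg Subtype.val (D.inj h4))

/-- an element acting trivially on the plane is congruent to some `(1, α e)` -/
theorem exists_zv (g : B a b α) (hg : Act z a b (g : Γ × H).1 id) : ∃ v, D.π g = D.π (D.zv v) := by
  have hX : (g : Γ × H).1 ∈ X z a b := mem_X_of_act hg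
  have hK := X_le_K hX
  -- the second coordinate
  have hcomm : ∀ x (hx : x ∈ X z a b), ((α ⟨_, hK⟩)⁻¹ * (g : Γ × H).2) * α ⟨x, X_le_K hx⟩ =
      α ⟨x, X_le_K hx⟩ * ((α ⟨_, hK⟩)⁻¹ * (g : Γ × H).2) := by
    intro x hx
    have h1 : ((x, α ⟨x, X_le_K hx⟩) : Γ × H) ∈ gr α (X z a b) := mem_gr.2 ⟨X_le_K hx, hx, rfl⟩
    obtain ⟨hk, -, h3⟩ := mem_gr.1 ((mem_B_iff.1 g.2 _).1 h1)
    have h4 : (g : Γ × H).2 * α ⟨x, X_le_K hx⟩ * (g : Γ × H).2⁻¹ =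
        α ⟨_, hK⟩ * α ⟨x, X_le_K hx⟩ * (α ⟨_, hK⟩)⁻¹ := by
      refine Eq.trans h3 ?_
      rw [← map_mul, ← map_inv, ← map_mul]
      rfl
    calc ((α ⟨_, hK⟩)⁻¹ * (g : Γ × H).2) * α ⟨x, X_le_K hx⟩
        = (α ⟨_, hK⟩)⁻¹ * ((g : Γ × H).2 * α ⟨x, X_le_K hx⟩ * (g : Γ × H).2⁻¹) * (g : Γ × H).2 := by group
      _ = α ⟨x, X_le_K hx⟩ * ((α ⟨_, hK⟩)⁻¹ * (g : Γ × H).2) := by rw [h4]; group
  have hzX : z ∈ X z a b := mem_X.2 ⟨rfl, D.pl.za, D.pl.zb⟩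
  obtain ⟨k, hk⟩ := D.onto (X_le_K hzX) _ (hcomm z hzX)
  obtain ⟨v, hv⟩ := D.cent k.1 k.2 (by
    intro x hx
    have h1 := hcomm x hx
    rw [← hk, ← map_mul, ← map_mul] at h1
    exact congrArg Subtype.val (D.inj h1))
  refine ⟨v, ?_⟩
  refine (QuotientGroup.eq.2 ?_ : (QuotientGroup.mk g : Wq a b α) = QuotientGroup.mk (D.zv v))
  -- `g⁻¹ (1, α e)` is the inverse of `(g.1, α g.1)`
  have h5 : ((g⁻¹ * D.zv v : B a b α) : Γ × H) = ((g : Γ × H).1⁻¹, α ⟨(g : Γ × H).1⁻¹, inv_mem hK⟩) := by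
    refine Prod.ext ?_ ?_
    · show (g : Γ × H).1⁻¹ * 1 = (g : Γ × H).1⁻¹
      rw [mul_one]
    · show (g : Γ × H).2⁻¹ * α ⟨ev z a b v, _⟩ = α ⟨(g : Γ × H).1⁻¹, _⟩
      have h6 : α ⟨ev z a b v, X_le_K (D.ev_X v)⟩ = (α ⟨_, hK⟩)⁻¹ * (g : Γ × H).2 := by
        rw [← hk]
        congr 1
        exact Subtype.ext hv.symm
      have h7 : α ⟨(g : Γ × H).1⁻¹, inv_mem hK⟩ = (α ⟨_, hK⟩)⁻¹ := by
        rw [← map_inv]; rfl
      rw [h6, h7]
      -- `g.2` commutes with `α g.1`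
      have h8 := hcomm _ hX
      have h9 : (g : Γ × H).2 * α ⟨_, hK⟩ = α ⟨_, hK⟩ * (g : Γ × H).2 := by
        have h10 := congrArg (fun t => α ⟨_, hK⟩ * t) h8
        simpa [mul_assoc] using h10
      calc (g : Γ × H).2⁻¹ * ((α ⟨_, hK⟩)⁻¹ * (g : Γ × H).2)
          = (α ⟨_, hK⟩ * (g : Γ × H).2)⁻¹ * (g : Γ × H).2 := by group
        _ = ((g : Γ × H).2 * α ⟨_, hK⟩)⁻¹ * (g : Γ × H).2 := by rw [h9]
        _ = (α ⟨_, hK⟩)⁻¹ := by group
  show ((g⁻¹ * D.zv v : B a b α) : Γ × H) ∈ gr α (X z a b)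
  rw [h5]
  exact mem_gr.2 ⟨inv_mem hK, inv_mem hX, rfl⟩

omit [Group H] D in
theorem fix_zero : ∀ v : V, f1 (f2 v) = v → add (f1 (fy v)) v = fy v → v = (false, false, false) := by
  decide

/-- **The hexagon closes.** -/
theorem hexagon : D.π D.s1 * D.π D.s2 * D.π D.s1 * D.π D.s2 * D.π D.s1 * D.π D.s2 = 1 := by
  obtain ⟨v, hv⟩ := D.exists_zv (D.s1 * D.s2 * D.s1 * D.s2 * D.s1 * D.s2)
    ((((((D.act_s1.mul D.act_s2).mul D.act_s1).mul D.act_s2).mul D.act_s1).mul D.act_s2).congr (by decide))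
  simp only [map_mul] at hv
  have hr := D.rel
  have hconj : ∀ (w : B a b α) (f : V → V), Act z a b (w : Γ × H).1 f → ∀ u,
      D.π w * D.π (D.zv u) * (D.π w)⁻¹ = D.π (D.zv (f u)) := by
    intro w f hf u
    rw [← map_mul, ← map_inv, ← map_mul, D.zv_conj w hf]
  have i1 : (D.π D.s1)⁻¹ = D.π D.s1 := inv_eq_of_mul_eq_one_left hr.hs1
  have i3 : (D.π D.x1)⁻¹ = D.π D.x1 := inv_eq_of_mul_eq_one_left hr.hx1
  -- `v` is fixed by `s₁ s₂`
  have h1 : f1 (f2 v) = v := by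
    apply D.zv_inj
    rw [← hconj (D.s1 * D.s2) (fun u => f1 (f2 u)) (D.act_s1.mul D.act_s2) v, ← hv, map_mul]
    group
  have h2 : add (f1 (fy v)) v = fy v := by
    apply D.zv_inj
    have h3 := hr.hex hv
    have h4 : D.π D.x1 * D.π (D.zv v) * D.π D.x1 = D.π (D.zv (fy v)) := by
      have := hconj D.x1 fy D.act_x1 v
      rwa [i3] at this
    have h5 : D.π D.s1 * D.π (D.zv (fy v)) * D.π D.s1 = D.π (D.zv (f1 (fy v))) := by
      have := hconj D.s1 f1 D.act_s1 (fy v)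
      rwa [i1] at this
    rw [h4, h5, ← map_mul, D.zv_mul] at h3
    exact h3
  rw [hv, fix_zero v h1 h2, D.zv_zero, map_one]

/-- lifting an identity of the quotient -/
theorem lift {A C N' C' : B a b α} (hC : (C : Γ × H) ∈ gr α (P z a b)) (hN : (N' : Γ × H) ∈ gr β (P z a b))
    (hC' : (C' : Γ × H) ∈ gr α (P z a b)) (h : D.π A = D.π (C * N' * C')) :
    ∃ c, ∃ hc : c ∈ K z, ∃ n, ∃ hn : n ∈ N z a, ∃ c', ∃ hc' : c' ∈ K z,
      (A : Γ × H).1 = c * n * c' ∧ (A : Γ × H).2 = α ⟨c, hc⟩ * β ⟨n, hn⟩ * α ⟨c', hc'⟩ := by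
  have h1 : ((C * N' * C')⁻¹ * A : B a b α) ∈ (gr α (X z a b)).subgroupOf (B a b α) :=
    QuotientGroup.eq.1 h.symm
  have hA : A = C * N' * (C' * ((C * N' * C')⁻¹ * A)) := by group
  generalize (C * N' * C')⁻¹ * A = x at h1 hA
  have h1' : (x : Γ × H) ∈ gr α (X z a b) := h1
  obtain ⟨hx1, hx2, hx3⟩ := mem_gr.1 h1'
  obtain ⟨c1, -, c3⟩ := mem_gr.1 hC
  obtain ⟨n1, -, n3⟩ := mem_gr.1 hN
  obtain ⟨d1, -, d3⟩ := mem_gr.1 hC'
  refine ⟨_, c1, _, n1, _, mul_mem d1 hx1, congrArg (fun t : B a b α => (t : Γ × H).1) hA, ?_⟩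
  refine (congrArg (fun t : B a b α => (t : Γ × H).2) hA).trans ?_
  show (C : Γ × H).2 * (N' : Γ × H).2 * ((C' : Γ × H).2 * (x : Γ × H).2) = _
  have h2 : α ⟨(C' : Γ × H).1 * (x : Γ × H).1, mul_mem d1 hx1⟩ =
      α ⟨(C' : Γ × H).1, d1⟩ * α ⟨(x : Γ × H).1, hx1⟩ := map_mul α ⟨_, d1⟩ ⟨_, hx1⟩
  rw [c3, n3, d3, hx3, h2]

theorem π_ta : D.π D.ta = D.π D.s2 * D.π D.x2 := by
  have h1 : D.π D.s2 = D.π D.ta * D.π D.x2 := map_mul _ _ _
  rw [h1, mul_assoc, D.rel.hx2, mul_one]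

/-- lift of `τ⁻¹` -/
def ta' : B a b α := ⟨(τ⁻¹, β ⟨τ⁻¹, inv_mem D.hτN⟩),
  D.gr_le_B_N (mem_gr.2 ⟨inv_mem D.hτN, inv_mem D.hτP, rfl⟩)⟩

theorem ta'_eq : D.ta' = D.ta⁻¹ := by
  apply Subtype.ext
  refine Prod.ext rfl ?_
  show β ⟨τ⁻¹, inv_mem D.hτN⟩ = (β ⟨τ, D.hτN⟩)⁻¹
  rw [← map_inv]
  rfl

theorem π_ta' : D.π D.ta' = D.π D.x2 * D.π D.s2 := by
  have i1 : (D.π D.s2)⁻¹ = D.π D.s2 := inv_eq_of_mul_eq_one_left D.rel.hs2
  have i2 : (D.π D.x2)⁻¹ = D.π D.x2 := inv_eq_of_mul_eq_one_left D.rel.hx2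
  rw [D.ta'_eq, map_inv, D.π_ta, mul_inv_rev, i1, i2]

theorem π_xi : D.π D.xi = D.π D.s1 * D.π D.x1 * D.π D.s1 := by
  rw [D.rel.b1]
  have h1 : D.π D.s1 = D.π D.x1 * D.π D.xi * D.π D.x1 := by
    rw [← map_mul, ← map_mul]; rfl
  rw [h1]
  simp only [mul_assoc, D.rel.hx1', D.rel.hx1, mul_one]

/-- **Step (E).** -/
theorem planeRel : GlueP.PlaneRel (K z) (N z a) α β τ ξ where
  hτ := D.hτN
  hξ := D.pl.ξ_mem_K
  rel := by
    have hg := D.hexagon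
    intro a' ha' b' hb' hpa hpb
    rcases hpa with rfl | rfl <;> rcases hpb with rfl | rfl
    · refine D.lift (A := D.ta * D.xi * D.ta) (C := D.x1 * D.s1) (N' := D.x2 * D.s2)
        (C' := D.s1 * D.x1 * D.x12 * D.x2) (mul_mem D.x1_K D.s1_K) (mul_mem D.x2_N D.s2_N)
        (mul_mem (mul_mem (mul_mem D.s1_K D.x1_K) D.x12_K) D.x2_K) ?_
      simp only [map_mul, D.π_ta, D.π_xi]
      exact D.rel.rel_pp hg
    · refine D.lift (A := D.ta * D.xi * D.ta') (C := D.s1) (N' := D.x2 * D.s2)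
        (C' := D.s1 * D.x12) D.s1_K (mul_mem D.x2_N D.s2_N) (mul_mem D.s1_K D.x12_K) ?_
      rw [map_mul, map_mul, D.π_ta', D.π_ta, D.π_xi]
      simp only [map_mul]
      exact D.rel.rel_pm hg
    · refine D.lift (A := D.ta' * D.xi * D.ta) (C := D.s1) (N' := D.x2 * D.s2)
        (C' := D.x1 * D.s1 * D.x12 * D.x2) D.s1_K (mul_mem D.x2_N D.s2_N)
        (mul_mem (mul_mem (mul_mem D.x1_K D.s1_K) D.x12_K) D.x2_K) ?_
      rw [map_mul, map_mul, D.π_ta', D.π_ta, D.π_xi]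
      simp only [map_mul]
      exact D.rel.rel_mp hg
    · refine D.lift (A := D.ta' * D.xi * D.ta') (C := D.x1 * D.s1) (N' := D.s2)
        (C' := D.x1 * D.s1 * D.x12 * D.x1) (mul_mem D.x1_K D.s1_K) D.s2_N
        (mul_mem (mul_mem (mul_mem D.x1_K D.s1_K) D.x12_K) D.x1_K) ?_
      rw [map_mul, map_mul, D.π_ta', D.π_xi]
      simp only [map_mul]
      exact D.rel.rel_mm hg

end Data

end Cfsg.Agent.MonsterU.PlaneE
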