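import Cfsg.Agent.MonsterU.Assembly
import Cfsg.Agent.MonsterU.EmbedAbs
import Cfsg.Agent.MonsterU.PlaneE

/-!
# The embedding statement from its parts

`Geometry`: the elements `z, a, b, τ, ξ, y, q` of the model (helper585's plane and one `q ∈ Q`), the
centraliser fact `C_K(C(V8)) ≤ V8`, generation and the three levels of step (F).
`AmalSt`: step (D) (uniqueness of the amalgam): in every group `G` satisfying the hypotheses there are
`α : C(z) →* G`, `β : N(⟨z, a⟩) →* G` with `α` injective onto the centraliser of `α z`, which agree on the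
intersection.  `embSt`: these give the embedding statement.
-/

set_option autoImplicit false

namespace Cfsg.Agent.MonsterU.EmbOf

open Cfsg.Agent.MonsterX.Model Cfsg.Agent.MonsterX.MainSimple Cfsg.Agent.MonsterU.Assembly
  Cfsg.Agent.MonsterU.PlaneGeo

/-- The geometry of the model. -/
structure Geometry {Γ : Type*} [Group Γ] (z a b τ ξ y q : Γ) : Prop where
  pl : Plane z a b τ ξ y
  q_z : q * z * q⁻¹ = z
  q_a : q * a * q⁻¹ = z * a
  q_b : q * b * q⁻¹ = b
  cent : ∀ k ∈ K z, (∀ x ∈ PlaneE.X z a b, k * x = x * k) → ∃ v, k = PlaneAct.ev z a b v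
  gen : Subgroup.closure ((K z : Set Γ) ∪ N z a) = ⊤
  levels : GlueP.Levels3 (K z) (N z a) τ ξ

/-- Step (D) for one group. -/
def Amal {Γ : Type*} [Group Γ] (z a : Γ) (G : Type*) [Group G] : Prop :=
  ∃ (α : K z →* G) (β : N z a →* G), Function.Injective α ∧
    (∀ x (h : x ∈ K z) (h' : x ∈ N z a), α ⟨x, h⟩ = β ⟨x, h'⟩) ∧
    ∀ (hz : z ∈ K z) (g : G), g * α ⟨z, hz⟩ = α ⟨z, hz⟩ * g → ∃ k, α k = g

/-- two points are on at most one line -/
theorem unique {Γ : Type*} [Group Γ] {z a b τ ξ y : Γ} (h : Plane z a b τ ξ y) :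
    ∀ m ∈ K z, ∀ n ∈ N z a, ∀ n' ∈ N z a, n' ∉ K z → n⁻¹ * m * n' ∈ K z → m ∈ N z a :=
  h.geo.unique

/-- The embedding for one group. -/
theorem embed {Γ : Type*} [Group Γ] {z a b τ ξ y q : Γ} (hΓ : IsSimpleGroup Γ)
    (hg : Geometry z a b τ ξ y q) {G : Type*} [Group G] (hA : Amal z a G) :
    ∃ φ : Γ →* G, Function.Injective φ ∧ ∀ g : G, g * φ z = φ z * g → g ∈ φ.range := by
  obtain ⟨α, β, hinj, hkn, honto⟩ := hA
  have D : PlaneE.Data z a b τ ξ y q α β :=
    ⟨hg.pl, hg.q_z, hg.q_a, hg.q_b, hinj, hkn, honto, hg.cent⟩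
  have hzK : z ∈ K z := Subgroup.mem_centralizer_singleton_iff.2 rfl
  have hy : α ⟨z, hzK⟩ ≠ 1 := by
    intro e
    have h1 : (⟨z, hzK⟩ : K z) = 1 := hinj (by rw [e, map_one])
    exact hg.pl.z_ne (congrArg Subtype.val h1)
  have hrange : α.range = Subgroup.centralizer {α ⟨z, hzK⟩} := by
    ext g
    rw [Subgroup.mem_centralizer_singleton_iff]
    constructor
    · rintro ⟨k, rfl⟩
      rw [← map_mul, ← map_mul]
      congr 1
      exact Subtype.ext (Subgroup.mem_centralizer_singleton_iff.1 k.2)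
    · intro h
      exact honto hzK g h
  obtain ⟨φ, h1, h2, h3, -, -⟩ := EmbedAbs.embed hΓ hkn (unique hg.pl) D.planeRel hg.gen hg.levels
    hzK hy rfl hrange
  refine ⟨φ, h1, ?_⟩
  intro g h
  rw [h2] at h
  have h4 : g ∈ (K z).map φ := by
    rw [h3, Subgroup.mem_centralizer_singleton_iff]
    exact h
  obtain ⟨k, -, hk⟩ := h4
  exact ⟨k, hk⟩

/-- **The embedding statement.** -/
theorem embSt.{u} {W : Type} [AddCommGroup W] [Module ℚ W] {M : MData W} {K₀ : Type} [Group K₀]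
    (hG : MGroup M K₀) (hΓ : IsSimpleGroup M.G) {a b τ ξ y q : M.G}
    (hg : Geometry (zG hG) a b τ ξ y q)
    (hA : ∀ (G : Type u) [Group G] [Finite G] [IsSimpleGroup G], Lit G → Amal (zG hG) a G) :
    EmbSt.{u} M hG := by
  intro G _ _ _ h
  exact embed hΓ hg (hA G h)

end Cfsg.Agent.MonsterU.EmbOf
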