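import Cfsg.Agent.MonsterU.PlaneM2
import Cfsg.Agent.MonsterU.PlaneE

/-!
# The commutant of the centraliser of a plane, in the form of `PlaneE.Data` (helper235)
-/

set_option autoImplicit false

namespace Cfsg.Agent.MonsterU.PlaneM2E

open Cfsg Cfsg.Agent.LeechMat.Core Cfsg.Agent.MonsterX.KSide Cfsg.Agent.MonsterX.KLift
open Cfsg.Agent.MonsterU.InvTwo Cfsg.Agent.MonsterU.PlaneM2

variable {G V P W : Type*} [Group G] [AddCommGroup V] [Module ℚ V]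
  [DistribMulAction G V] [SMulCommClass G ℚ V] [Group P] [AddCommGroup W] [Module ℚ W]
  {M : KS G V P W} {θ : leechLattice → P}

/-- Field `cent` of `PlaneE.Data`. -/
theorem cent (L : Lift M θ) (hK : ∀ g, g * M.z = M.z * g → g ∈ M.K) {p q : P} {v w : leechLattice}
    (hp : Eqz M p (θ v)) (hq : Eqz M q (θ w))
    (hv : ∀ i, (4 : ℤ) ∣ (v : GolayPt → ℤ) i) (hw : ∀ i, (4 : ℤ) ∣ (w : GolayPt → ℤ) i) :
    ∀ k ∈ PlaneGeo.K M.z, (∀ x ∈ PlaneE.X M.z (M.ι p) (M.ι q), k * x = x * k) →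
      ∃ v : PlaneAct.V, k = PlaneAct.ev M.z (M.ι p) (M.ι q) v := by
  intro k hk hc
  have hk' : k * M.z = M.z * k := Subgroup.mem_centralizer_singleton_iff.mp hk
  obtain ⟨r, hr, h⟩ := m2 L hp hq hv hw (hK k hk') (by
    intro x hx h1 h2
    apply hc
    show x ∈ Subgroup.centralizer {M.z, M.ι p, M.ι q}
    rw [Subgroup.mem_centralizer_iff]
    rintro y (rfl | rfl | rfl)
    · exact (M.z_comm_K x hx).symm
    · exact h1.symm
    · exact h2.symm)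
  have hz : M.ι M.zc = M.z := rfl
  rcases h with h | h | h | h <;> rcases h with h | h
  · refine ⟨(false, false, false), ?_⟩
    rw [hr, h, map_one]; simp [PlaneAct.ev, PlaneAct.cf]
  · refine ⟨(true, false, false), ?_⟩
    rw [hr, h, mul_one, hz]; simp [PlaneAct.ev, PlaneAct.cf]
  · refine ⟨(false, true, false), ?_⟩
    rw [hr, h]; simp [PlaneAct.ev, PlaneAct.cf]
  · refine ⟨(true, true, false), ?_⟩
    rw [hr, h, map_mul, hz]; simp [PlaneAct.ev, PlaneAct.cf]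
  · refine ⟨(false, false, true), ?_⟩
    rw [hr, h]; simp [PlaneAct.ev, PlaneAct.cf]
  · refine ⟨(true, false, true), ?_⟩
    rw [hr, h, map_mul, hz]; simp [PlaneAct.ev, PlaneAct.cf]
  · refine ⟨(false, true, true), ?_⟩
    rw [hr, h, map_mul]; simp [PlaneAct.ev, PlaneAct.cf]
  · refine ⟨(true, true, true), ?_⟩
    rw [hr, h, map_mul, map_mul, hz]; simp [PlaneAct.ev, PlaneAct.cf, mul_assoc]

/-- Fields `q_z`, `q_a`, `q_b` of `PlaneE.Data`. -/
theorem exists_q (L : Lift M θ) {p q : P} (hp : ¬ Eqz M p 1) (hpq : ¬ Eqz M p q) :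
    ∃ x : P, M.ι x * M.z * (M.ι x)⁻¹ = M.z ∧ M.ι x * M.ι p * (M.ι x)⁻¹ = M.z * M.ι p ∧
      M.ι x * M.ι q * (M.ι x)⁻¹ = M.ι q := by
  obtain ⟨x, h1, h2⟩ := exists_flip L hp hpq
  refine ⟨x, ?_, ?_, ?_⟩
  · show M.ι x * M.ι M.zc * (M.ι x)⁻¹ = M.ι M.zc
    rw [← map_mul, ← map_mul_inv, ← M.zc_comm, mul_inv_cancel_right]
  · show M.ι x * M.ι p * (M.ι x)⁻¹ = M.ι M.zc * M.ι p
    rw [← map_mul, ← map_mul_inv, h1, map_mul]
  · rw [← map_mul, ← map_mul_inv, h2]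

end Cfsg.Agent.MonsterU.PlaneM2E
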