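import Cfsg.Agent.MonsterU.ModelGeo
import Cfsg.Agent.MonsterU.PlaneM2E
import Cfsg.Agent.MonsterX.KDone

/-!
# The elements of the plane of the concrete model in the extraspecial group

`qE` with `q_z, q_a, q_b`, and `cent`: the commutant of the centraliser of the plane.
-/

set_option autoImplicit false
set_option maxRecDepth 100000

namespace Cfsg.Agent.MonsterU.ModelCent

open Cfsg Cfsg.Agent.LeechMat.Core Cfsg.Agent.LeechMat.Code Cfsg.Agent.LeechMat.Elements
open Cfsg.Agent.Monster.PauliBasic Cfsg.Agent.Monster.PauliClif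
open Cfsg.Agent.MonsterX Cfsg.Agent.MonsterX.Space Cfsg.Agent.MonsterX.Psi
open Cfsg.Agent.MonsterX.Conc Cfsg.Agent.MonsterX.Model Cfsg.Agent.MonsterX.InstData
open Cfsg.Agent.MonsterX.ConcMono Cfsg.Agent.MonsterX.TauRel Cfsg.Agent.MonsterX.RelAll
open Cfsg.Agent.MonsterX.KSide Cfsg.Agent.MonsterX.KLift
open Cfsg.Agent.MonsterU.PlaneGeo Cfsg.Agent.MonsterU.ModelGeo

/-! ### The element `q` -/

/-- The odd letter. -/
noncomputable def qE : Γ := ⟨E 12, C_le_G (E_mem_C (by norm_num))⟩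

theorem e_sq : E 12 * E 12 = 1 := E_sq sq12

theorem e_inv : (E 12)⁻¹ = E 12 := inv_eq_of_mul_eq_one_right e_sq

theorem q_z : qE * zE * qE⁻¹ = zE := Subtype.ext (by
  show E 12 * z * (E 12)⁻¹ = z
  rw [z_comm_C _ (E_mem_C (by norm_num)), mul_inv_cancel_right])

theorem q_a : qE * aE * qE⁻¹ = zE * aE := Subtype.ext (by
  show E 12 * E 0 * (E 12)⁻¹ = z * E 0
  have h := ConcMono.e0
  rw [W_cons, W2, W2] at h
  rw [e_inv]
  exact h)

theorem q_b : qE * bE * qE⁻¹ = bE := Subtype.ext (by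
  show E 12 * xT * (E 12)⁻¹ = xT
  have h : W ([12] ++ ([13, 14, 15, 16] ++ [12])) = W [13, 14, 15, 16] := W_eq_of_same (by decide +kernel)
  rw [W_append, W_append, W_single] at h
  rw [e_inv]
  exact h)

/-! ### The lattice vectors -/

/-- The packed vector `8 e`. -/
def n8 : ℕ := 0x842108421084210842108421084218

/-- The packed vector `4` on the tetrad. -/
def nT : ℕ := 0x8421084210842108421084210a5294

def v8 : leechLattice := ⟨vec n8, isLeech_sound (by decide +kernel)⟩

def vT : leechLattice := ⟨vec nT, isLeech_sound (by decide +kernel)⟩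

theorem four_v8 (i : GolayPt) : (4 : ℤ) ∣ (v8 : GolayPt → ℤ) i := by
  show (4 : ℤ) ∣ sdig n8 (pos i)
  have h : ∀ k < 24, (4 : ℤ) ∣ sdig n8 k := by decide +kernel
  exact h _ (pos_lt i)

theorem four_vT (i : GolayPt) : (4 : ℤ) ∣ (vT : GolayPt → ℤ) i := by
  show (4 : ℤ) ∣ sdig nT (pos i)
  have h : ∀ k < 24, (4 : ℤ) ∣ sdig nT k := by decide +kernel
  exact h _ (pos_lt i)

/-- The element of the Pauli group of `x_Ω`. -/
def pa : Pauli 12 := KRowsInst.g 0

/-- The element of the Pauli group of the sextet element. -/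
def pb : Pauli 12 := KRowsInst.g 16 * KRowsInst.g 15 * KRowsInst.g 14 * KRowsInst.g 13

theorem a_fst : ∀ k : Fin 12, ((blc n8 (zs.getD k 0) : ℤ) : ZMod 2) = pa.a k := by decide +kernel

theorem a_snd : ∀ k : Fin 12, ((blc n8 (xs.getD k 0) : ℤ) : ZMod 2) = pa.b k := by decide +kernel

theorem b_fst : ∀ k : Fin 12, ((blc nT (zs.getD k 0) : ℤ) : ZMod 2) = pb.a k := by decide +kernel

theorem b_snd : ∀ k : Fin 12, ((blc nT (xs.getD k 0) : ℤ) : ZMod 2) = pb.b k := by decide +kernel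

theorem psi_v8 : psi v8 = ab pa := by
  apply Prod.ext
  · funext k
    rw [psi_fst]
    exact (bl_of_blc (v := v8) (w := vZ k) rfl rfl rfl).trans (a_fst k)
  · funext k
    rw [psi_snd]
    exact (bl_of_blc (v := v8) (w := vX k) rfl rfl rfl).trans (a_snd k)

theorem psi_vT : psi vT = ab pb := by
  apply Prod.ext
  · funext k
    rw [psi_fst]
    exact (bl_of_blc (v := vT) (w := vZ k) rfl rfl rfl).trans (b_fst k)
  · funext k
    rw [psi_snd]
    exact (bl_of_blc (v := vT) (w := vX k) rfl rfl rfl).trans (b_snd k)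

theorem eqz_of_psi {v : leechLattice} {p : Pauli 12} (h : psi v = ab p) : Eqz KDone.K p (ShortQ.theta v) := by
  have h1 : ab p = ab (ShortQ.theta v) := by rw [ShortQ.ab_theta, h]
  exact (ab_eq_iff _ _).1 h1

/-! ### The elements of the group -/

theorem ι_eq {k : V ≃ₗ[ℚ] V} {p : Pauli 12} (h : KAsm.Pair k p) (hk : k ∈ InstData.M.G) : KDone.K.ι p = ⟨k, hk⟩ :=
  Subtype.ext (KAsm.iotaE_eq KDone.R KInst.labFacts h)

theorem z_eq : KDone.K.z = zE := ι_eq KLinkInst.pair_z _

theorem pair_g {n : ℕ} (h : n < 24) : KAsm.Pair (E n) (KRowsInst.g n) := KAsm.pair_g KDone.R h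

theorem ι_a : KDone.K.ι pa = aE := ι_eq (pair_g (by norm_num)) _

theorem ι_b : KDone.K.ι pb = bE := by
  refine ι_eq ?_ _
  have e : xT = E 16 * E 15 * E 14 * E 13 := by
    show W [13, 14, 15, 16] = _
    rw [W_cons, W_cons, W2]
  rw [e]
  exact (((pair_g (by norm_num)).mul (pair_g (by norm_num))).mul (pair_g (by norm_num))).mul (pair_g (by norm_num))

/-- **The commutant of the centraliser of the plane**, from `cent_z`. -/
theorem cent (hc : ∀ g ∈ M.G, g * M.z = M.z * g → g ∈ M.C) :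
    ∀ k ∈ PlaneGeo.K zE, (∀ x ∈ PlaneE.X zE aE bE, k * x = x * k) → ∃ v : PlaneAct.V, k = PlaneAct.ev zE aE bE v := by
  have h := PlaneM2E.cent KDone.lft (p := pa) (q := pb) (v := v8) (w := vT) (by
    intro g hg
    rw [z_eq] at hg
    have h1 := hc g.1 g.2 (congrArg Subtype.val hg)
    exact Subgroup.mem_subgroupOf.2 h1) (eqz_of_psi psi_v8) (eqz_of_psi psi_vT) four_v8 four_vT
  rw [z_eq, ι_a, ι_b] at h
  exact h

end Cfsg.Agent.MonsterU.ModelCent
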