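import Cfsg.Agent.MonsterU.LevelsInst
import Cfsg.Agent.MonsterU.ModelCent
import Cfsg.Agent.MonsterU.EmbOf

/-!
# The geometry of the model (helper620)

`geometry`: the structure `EmbOf.Geometry` for the concrete model from the local hypotheses of the three levels
(`LevelsInst.Lev`) with respect to any subgroup `D` of `K ∩ N`.
-/

set_option autoImplicit false
set_option maxRecDepth 100000

namespace Cfsg.Agent.MonsterU.GeometryInst

open Cfsg.Agent.MonsterU.Local Cfsg.Agent.MonsterU.GlueP Cfsg.Agent.MonsterU.LevelsInst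
open Cfsg.Agent.MonsterX.Model

/-! ### Enlarging `D` -/

section

variable {G W : Type*} [Group G] [MulAction G W] {K D D' : Subgroup G} {τ ξ : G} {P : W → Prop} {h : W → ℕ}

theorem locHyp_mono (hD : D ≤ D') (hl : LocHyp K D τ ξ P h) : LocHyp K D' τ ξ P h where
  m1 := hl.m1
  m2 w h1 h2 x hx y hy h3 h4 := by
    have h5 : ∀ x y, Step D ξ (Lo τ P h) w x y → Step D' ξ (Lo τ P h) w x y := by
      rintro x y ⟨h5, h6, h7⟩
      exact ⟨h5, h6, h7.imp_left fun ⟨d, hd, e⟩ => ⟨d, hD hd, e⟩⟩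
    exact Relation.ReflTransGen.mono h5 _ _ (hl.m2 w h1 h2 x hx y hy h3 h4)
  m3 w h1 h2 h3 := (hl.m3 w h1 h2 h3).imp_right fun ⟨d, hd, e⟩ => ⟨d, hD hd, e⟩

end

variable {W : Type} [AddCommGroup W] [Module ℚ W] {M : MData W}

theorem lev_mono {K D D' : Subgroup M.G} {τ ξ : M.G} {h₁ : W → ℕ} {h₂ : W × W → ℕ} {h₃ : W × W × W → ℕ}
    (hD : D ≤ D') (h : Lev M K D τ ξ h₁ h₂ h₃) : Lev M K D' τ ξ h₁ h₂ h₃ where
  i₁ := h.i₁
  l₁ := locHyp_mono hD h.l₁
  n₁ := h.n₁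
  z₁ := h.z₁
  i₂ := h.i₂
  l₂ := locHyp_mono hD h.l₂
  n₂ := h.n₂
  z₂ := h.z₂
  i₃ := h.i₃
  l₃ := locHyp_mono hD h.l₃
  n₃ := h.n₃
  z₃ := h.z₃

/-! ### The flag -/

theorem geom_of_plane {Γ : Type*} [Group Γ] {z a b τ ξ y : Γ} (h : PlaneGeo.Plane z a b τ ξ y) (hξ : ξ * ξ = 1) :
    Geom (PlaneGeo.K z) (PlaneGeo.N z a) (PlaneGeo.K z ⊓ PlaneGeo.N z a) τ ξ where
  D_K := inf_le_left
  D_N := inf_le_right
  τ_N := h.τ_mem_N
  ξ_K := h.ξ_mem_K
  ξ_sq := hξ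
  cases n hn := by
    obtain ⟨t, ht, d, hd, rfl⟩ := h.N_eq hn
    rcases ht with rfl | rfl | ht
    · left; rwa [one_mul]
    · right; left; exact ⟨d, hd, rfl⟩
    · rw [Set.mem_singleton_iff] at ht
      subst ht
      right; right
      refine ⟨τ * τ * τ * d, Subgroup.mul_mem _ ⟨?_, ?_⟩ hd, by group⟩
      · refine PlaneGeo.mem_K.2 ?_
        have e1 : τ * z * τ⁻¹ = a := h.τ_z
        have e2 : τ * a * τ⁻¹ = z * a := h.τ_a
        have e3 : τ * (z * a) * τ⁻¹ = z := by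
          have e4 : τ * (z * a) * τ⁻¹ = (τ * z * τ⁻¹) * (τ * a * τ⁻¹) := by group
          rw [e4, e1, e2, h.za, ← mul_assoc, h.a_sq, one_mul]
        calc τ * τ * τ * z * (τ * τ * τ)⁻¹ = τ * (τ * (τ * z * τ⁻¹) * τ⁻¹) * τ⁻¹ := by group
          _ = z := by rw [e1, e2, e3]
      · exact Subgroup.mul_mem _ (Subgroup.mul_mem _ h.τ_mem_N h.τ_mem_N) h.τ_mem_N

/-! ### The concrete model -/

open Cfsg.Agent.MonsterX Cfsg.Agent.MonsterX.Space Cfsg.Agent.MonsterX.Conc Cfsg.Agent.MonsterX.InstData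
open Cfsg.Agent.MonsterX.InstEval Cfsg.Agent.MonsterU.ModelGeo

/-- an axis of `S` with `F a₀ b = 1` -/
noncomputable def b : V := E 37 (vecV a0B)

theorem F_b : F (vecV a0B) b = 1 := by
  have h : formIs 8 [37] a0B 256 256 = true := by decide +kernel
  have h1 := (formIs_sound sym_a0B h).1
  rw [W_single] at h1
  rw [b, h1]
  norm_num

theorem b_mem_S : b ∈ InstData.M.S :=
  ⟨E 37, E_mem_C (by norm_num), by rw [M_a₀]; rfl⟩

theorem ξE_sq : ξE * ξE = 1 := Subtype.ext ConcGrp.ξ_sq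

/-! ### The monomial group normalises the line -/

theorem comm_x0 : ∀ n < 39, n ≠ 12 → Cfsg.Agent.MonsterX.ProgM.Base.same ([0, n].map ProgTable.prog) ([n, 0].map ProgTable.prog) = true := by
  decide +kernel

theorem E_mem_NΓ {n : ℕ} (hn : n < 39) : (⟨E n, C_le_G (E_mem_C (by omega))⟩ : Γ) ∈ NΓ := by
  refine plane.mem_N_of ?_ ?_
  · have h : (⟨E n, C_le_G (E_mem_C (by omega))⟩ : Γ) * zE * (⟨E n, C_le_G (E_mem_C (by omega))⟩ : Γ)⁻¹ = zE :=
      Subtype.ext (by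
        show E n * z * (E n)⁻¹ = z
        rw [RelAll.z_comm_C _ (E_mem_C (by omega)), mul_inv_cancel_right])
    rw [h]
    exact PlaneGeo.z_mem_V4
  · by_cases h12 : n = 12
    · subst h12
      have h : (⟨E 12, C_le_G (E_mem_C (by norm_num))⟩ : Γ) * aE * (⟨E 12, C_le_G (E_mem_C (by norm_num))⟩ : Γ)⁻¹ =
          zE * aE := ModelCent.q_a
      rw [h]
      exact Subgroup.mul_mem _ PlaneGeo.z_mem_V4 PlaneGeo.a_mem_V4
    · have h : (⟨E n, C_le_G (E_mem_C (by omega))⟩ : Γ) * aE * (⟨E n, C_le_G (E_mem_C (by omega))⟩ : Γ)⁻¹ = aE :=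
        Subtype.ext (by
          show E n * E 0 * (E n)⁻¹ = E 0
          have h1 : W [0, n] = W [n, 0] := ConcMono.W_eq_of_same (comm_x0 n hn h12)
          rw [TauRel.W2, TauRel.W2] at h1
          rw [h1, mul_inv_cancel_right])
      rw [h]
      exact PlaneGeo.a_mem_V4

/-- The monomial group as a subgroup of the group of the model. -/
noncomputable def DΓ : Subgroup Γ := Conc.N.subgroupOf InstData.M.G

theorem D_le : DΓ ≤ KΓ ⊓ NΓ := by
  rintro ⟨g, hg⟩ h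
  have h' : g ∈ Conc.N := Subgroup.mem_subgroupOf.1 h
  refine ⟨mem_KΓ_of_C (N_le_C h'), ?_⟩
  refine Subgroup.closure_induction (p := fun x _ => ∀ hx : x ∈ InstData.M.G, (⟨x, hx⟩ : Γ) ∈ NΓ)
    ?_ ?_ ?_ ?_ h' hg
  · rintro _ ⟨n, hn, rfl⟩ _
    exact E_mem_NΓ hn
  · intro _
    exact one_mem _
  · intro x y hx hy h1 h2 _
    exact mul_mem (h1 (C_le_G (N_le_C hx))) (h2 (C_le_G (N_le_C hy)))
  · intro x hx h1 _
    exact inv_mem (h1 (C_le_G (N_le_C hx)))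

/-- **The three levels for the model.** -/
theorem levels {K₀ : Type} [Group K₀] (hG : MGroup InstData.M K₀) (hR : MRep InstData.M) (hL : MLat InstData.M)
    (hO : MOrbit InstData.M) (hc : ∀ g ∈ InstData.M.G, g * InstData.M.z = InstData.M.z * g → g ∈ InstData.M.C)
    {D : Subgroup Γ} (hD : D ≤ KΓ ⊓ NΓ) {h₁ : V → ℕ} {h₂ : V × V → ℕ} {h₃ : V × V × V → ℕ}
    (h : Lev InstData.M KΓ D τE ξE h₁ h₂ h₃) : Levels3 KΓ NΓ τE ξE :=
  levels3 hG hR hL hO (fun _ => mem_KΓ hc) (geom_of_plane plane ξE_sq) (lev_mono hD h) b_mem_S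
    (by rw [M_a₀]; exact F_b)

/-- **The geometry of the model.** -/
theorem geometry {K₀ : Type} [Group K₀] (hG : MGroup InstData.M K₀) (hR : MRep InstData.M) (hL : MLat InstData.M)
    (hO : MOrbit InstData.M) (hc : ∀ g ∈ InstData.M.G, g * InstData.M.z = InstData.M.z * g → g ∈ InstData.M.C)
    {D : Subgroup Γ} (hD : D ≤ KΓ ⊓ NΓ) {h₁ : V → ℕ} {h₂ : V × V → ℕ} {h₃ : V × V × V → ℕ}
    (h : Lev InstData.M KΓ D τE ξE h₁ h₂ h₃) : EmbOf.Geometry zE aE bE τE ξE yE ModelCent.qE where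
  pl := plane
  q_z := ModelCent.q_z
  q_a := ModelCent.q_a
  q_b := ModelCent.q_b
  cent := ModelCent.cent hc
  gen := ModelGeo.gen
  levels := levels hG hR hL hO hc hD h

end Cfsg.Agent.MonsterU.GeometryInst
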