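import Cfsg.Agent.MonsterU.AmalFin
import Cfsg.Agent.MonsterU.ModelChart

/-!
# Step (D) for the model

`amal`: the amalgam statement `EmbOf.Amal (zG hG) a` for the model and a finite simple group satisfying the
literal hypotheses.  `embSt`: the embedding statement from the geometry of the model.
-/

set_option autoImplicit false

namespace Cfsg.Agent.MonsterU.ModelAmal

open Cfsg Cfsg.Agent.MonsterX.Model Cfsg.Agent.MonsterX.MainPack Cfsg.Agent.MonsterX.MainSimple
  Cfsg.Agent.MonsterX.MainBasic Cfsg.Agent.MonsterX.MainTrans Cfsg.Agent.MonsterU.Lam2 Cfsg.Agent.MonsterU.Ch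

variable {W : Type} [AddCommGroup W] [Module ℚ W] {M : MData W}

/-- **Step (D)** for the model. -/
theorem amal.{u} (hG : MGroup M Spor.Co1) (hR : MRep M) (hL : MLat M) (hO : MOrbit M) (hT : MTrans M)
    {a τ : M.G} (hτ : τ * zG hG * τ⁻¹ = a) (ha : (a : W ≃ₗ[ℚ] W) ∈ M.Q) (hne : a ≠ zG hG)
    {G : Type u} [Group G] [Finite G] [IsSimpleGroup G] (h : Assembly.Lit G) : EmbOf.Amal (zG hG) a G := by
  have := G_finite hO
  obtain ⟨eta, pi, c⟩ := ModelChart.chart hG hR hL hO hT
  subst hτ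
  exact AmalFin.amal c ha hne h

/-- **The embedding statement** for the model from its geometry. -/
theorem embSt.{u} (hG : MGroup M Spor.Co1) (hR : MRep M) (hL : MLat M) (hO : MOrbit M) (hT : MTrans M)
    {a b τ ξ y q : M.G} (hg : EmbOf.Geometry (zG hG) a b τ ξ y q) (ha : (a : W ≃ₗ[ℚ] W) ∈ M.Q) :
    Assembly.EmbSt.{u} M hG := by
  have := G_finite hO
  have hs : IsSimpleGroup M.G := (isM hG hR hL hO hT).1
  refine EmbOf.embSt hG hs hg ?_
  intro G _ _ _ hL'
  refine amal hG hR hL hO hT hg.pl.τ_z ha ?_ hL'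
  intro e
  have h1 := hg.pl.τ_a
  rw [e, hg.pl.z_sq, hg.pl.τ_z, e] at h1
  exact hg.pl.z_ne h1

end Cfsg.Agent.MonsterU.ModelAmal
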