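import Cfsg.Agent.MonsterU.InvTwoMain
import Cfsg.Agent.MonsterX.KModel
import Cfsg.Agent.MonsterX.MainPack

/-!
# The two classes of involutions of the model
-/

set_option autoImplicit false

namespace Cfsg.Agent.MonsterU.ModelClasses

open Cfsg Cfsg.Agent.MonsterX.Model Cfsg.Agent.MonsterX.MainPack Cfsg.Agent.MonsterX.MainSimple
  Cfsg.Agent.MonsterX.MainBasic Cfsg.Agent.MonsterX.KSide Cfsg.Agent.MonsterX.KLift Cfsg.Agent.MonsterX.KModel
  Cfsg.Agent.MonsterU.InvTwo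

variable {V P W : Type} [AddCommGroup V] [Module ℚ V] [Group P] [AddCommGroup W] [Module ℚ W]
variable {D : MData V} {M : KS ↥D.G V P W} {x₀ : P} {θ : leechLattice → P} {K₀ : Type} [Group K₀]

theorem odd_relIndex (hG : MGroup D K₀) (hR : MRep D) (hL : MLat D) (hO : MOrbit D) (hT : MTrans D)
    (l : Link D M x₀) : ¬ 2 ∣ M.K.relIndex ⊤ := by
  have := G_finite hO
  have hC := card_C hG
  have hK : M.K = D.C.subgroupOf D.G := by
    ext g
    rw [l.C_iff, Subgroup.mem_subgroupOf]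
  have h1 : Nat.card M.K = 2 ^ 25 * 4157776806543360000 := by
    rw [hK, ← hC]
    exact Nat.card_congr (Subgroup.subgroupOfEquivOfLe l.C_le).toEquiv
  have h2 := M.K.card_mul_index
  rw [h1, (isM hG hR hL hO hT).2] at h2
  rw [Subgroup.relIndex_top_right]
  rintro ⟨k, hk⟩
  rw [hk] at h2
  omega

/-- **The two classes of involutions.** -/
theorem classes (hG : MGroup D K₀) (hR : MRep D) (hL : MLat D) (hO : MOrbit D) (hT : MTrans D)
    (l : Link D M x₀) (L : Lift M θ) {τ : D.G} {y : P} (H : TauHyp M θ ⊤ τ y) :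
    ∀ u : D.G, u * u = 1 → u ≠ 1 → (∃ h : D.G, h * zG hG * h⁻¹ = u) ∨ ∃ h : D.G, h * tG hG hR * h⁻¹ = u := by
  intro u huu hu1
  have := G_finite hO
  have hz : zG hG = M.z := Subtype.ext l.z_eq
  have ht : tG hG hR = M.ι x₀ := Subtype.ext l.t₀_eq
  rcases InvTwoMain.two_classes_t L H inferInstance (odd_relIndex hG hR hL hO hT l) l.x₀_mem
    (Subgroup.mem_top u) huu hu1 with ⟨g, -, hg⟩ | ⟨g, -, hg⟩
  · left
    refine ⟨g⁻¹, ?_⟩
    rw [hz, ← hg]; group
  · right
    refine ⟨g⁻¹, ?_⟩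
    rw [ht, ← hg]; group

end Cfsg.Agent.MonsterU.ModelClasses
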