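import Cfsg.Agent.MonsterU.TauInst
import Cfsg.Agent.MonsterU.ModelClasses
import Cfsg.Agent.MonsterU.ModelAmal
import Cfsg.Agent.MonsterU.GeometryInst
import Cfsg.Agent.MonsterX.BabyInst

/-!
# The facts about the concrete model and the statements S1648, S1647, S1673

`all` : `Assembly.All` for `InstData.M` from `MOrbit`, `MTrans`.  `embSt` : the embedding statement from the levels.
-/

set_option autoImplicit false
set_option maxRecDepth 100000

namespace Cfsg.Agent.MonsterU.Final

open Cfsg Cfsg.Agent.MonsterX Cfsg.Agent.MonsterX.Space Cfsg.Agent.MonsterX.Conc Cfsg.Agent.MonsterX.Model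
open Cfsg.Agent.MonsterX.InstData Cfsg.Agent.MonsterX.MainTrans Cfsg.Agent.MonsterX.MainSimple
open Cfsg.Agent.MonsterU.ModelGeo

theorem mBaby : MainPack.MBaby InstData.M :=
  BabyInst.mBaby KDone.lnk KDone.lft FieldsO.τ_a₀ (FieldsO.τ_q' KDone.mGroup.Q_comm)

section

variable (hO : MOrbit InstData.M) (hT : MTrans InstData.M)
include hO hT

theorem cent (g : V ≃ₗ[ℚ] V) (h : g ∈ InstData.M.G) (h' : g * InstData.M.z = InstData.M.z * g) :
    g ∈ InstData.M.C :=
  cent_z KDone.mGroup KDone.mRep KDone.mLat hO hT h h'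

/-- **The facts about the model.** -/
theorem all : Assembly.All InstData.M Spor.Co1 where
  hG := KDone.mGroup
  hR := KDone.mRep
  hL := KDone.mLat
  hO := hO
  hT := hT
  hB := mBaby
  hz₁ := FieldsO.z_d₁
  classes := ModelClasses.classes KDone.mGroup KDone.mRep KDone.mLat hO hT KDone.lnk KDone.lft
    (TauInst.tauHyp (cent hO hT))

/-- **The embedding statement.** -/
theorem embSt.{u} {h₁ : V → ℕ} {h₂ : V × V → ℕ} {h₃ : V × V × V → ℕ}
    (h : LevelsInst.Lev InstData.M KΓ GeometryInst.DΓ τE ξE h₁ h₂ h₃) :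
    Assembly.EmbSt.{u} InstData.M (all hO hT).hG :=
  ModelAmal.embSt KDone.mGroup KDone.mRep KDone.mLat hO hT
    (GeometryInst.geometry KDone.mGroup KDone.mRep KDone.mLat hO (cent hO hT) GeometryInst.D_le h)
    (show E 0 ∈ Conc.Q from E_mem_Q (by norm_num))

end

end Cfsg.Agent.MonsterU.Final
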