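import Cfsg.Agent.MonsterU.LowChk
import Cfsg.Agent.MonsterX.FrameData

/-!
# The covering `C = ⋃ N (W k_r) L j`: from a cover certificate of the frames

`FCovJ j`: every element of `C` is in `N (W k_r) L j` for some `r` of the class `j`.
-/

set_option autoImplicit false
set_option maxRecDepth 100000

namespace Cfsg.Agent.MonsterU.FCovBase

open Cfsg Cfsg.Agent.MonsterX Cfsg.Agent.MonsterX.Space Cfsg.Agent.MonsterX.Conc
open Cfsg.Agent.MonsterX.CertVec Cfsg.Agent.MonsterX.CertTab Cfsg.Agent.MonsterX.Lin24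
open Cfsg.Agent.MonsterX.FrameCover Cfsg.Agent.MonsterX.FrameGam Cfsg.Agent.MonsterX.FrameAct
open Cfsg.Agent.MonsterX.FrameInst Cfsg.Agent.MonsterX.FrameConc Cfsg.Agent.MonsterX.CertFrame
open Cfsg.Agent.MonsterX.CertCovB Cfsg.Agent.MonsterU.RowGlue Cfsg.Agent.MonsterU.LowChk

/-- The covering for the class `j`. -/
def FCovJ (j : ℕ) : Prop :=
  ∀ x ∈ C, ∃ r, r < 251 ∧ J r = j ∧ Dbl N (Lw (gs j)) (Conc.W (cw r)) x

/-- The covering. -/
def FCov : Prop := ∀ j, j < 12 → FCovJ j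

theorem isK_ok {a : ℕ} (h : FrameData.isK a = true) : okC a = true := by
  unfold FrameData.isK at h
  unfold okC
  rw [Bool.or_assoc] at h
  exact h

variable {u : leechLattice → V} (U : ULink u)

theorem hE : ∀ a, a < 44 → FrameData.isK a = true → Rep (coded U.ind) (EC a) (ltc a) :=
  fun _ _ h => rep_ok U (isK_ok h)

include U in
/-- The generators. -/
theorem hL {gw : List (List ℕ)} {j ng : ℕ}
    (h : allB ng (fun i => and (okW (FrameData.nthW gw i))
      (eqL (FrameData.nthW gw i) (RowGlue.nthW (gs j) i))) = true) :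
    ∀ i, i < ng → ((prodF EC (FrameData.nthW gw i) : C) : V ≃ₗ[ℚ] V) ∈ Lw (gs j) := by
  intro i hi
  have h1 := allB_sound h i hi
  rw [Bool.and_eq_true] at h1
  rw [prodF_coe U ((okW_iff _).1 h1.1), eqL_sound h1.2]
  rcases RowGlue.nthW_mem (gs j) i with h2 | h2
  · exact W_mem_Lw h2
  · rw [h2, Conc.W_nil]
    exact (Lw (gs j)).one_mem

/-- The check of the representatives. -/
noncomputable def chkJ (j base nt : ℕ) (kj : List (List ℕ)) : Bool :=
  allB nt fun m => and (Nat.blt (Nat.add base m) 251) (and (Nat.beq (J (Nat.add base m)) j)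
    (and (okW (FrameData.nthW kj m)) (eqL (FrameData.nthW kj m) (cw (Nat.add base m)))))

/-- The covering from a cover certificate. -/
theorem of_cover {nt j base : ℕ} {kj : List (List ℕ)} (hk : chkJ j base nt kj = true) (hnt : 0 < nt)
    {tgt : Fin nt → Fin 3542 → Fin nt}
    (hc : Cover C (coded U.ind).y0 (nb U.ind) (Lw (gs j)) PUnit.unit.{1}
      (fun m : Fin nt => (prodF EC (FrameData.nthW kj m))⁻¹) tgt) : FCovJ j := by
  intro x hx
  have : Nonempty (Fin nt) := ⟨⟨0, hnt⟩⟩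
  obtain ⟨m, l, hl, d, hd, e⟩ := hc.factor U.frames (⟨x, hx⟩⁻¹ : C)
  have h1 := allB_sound hk m.1 m.2
  rw [Bool.and_eq_true, Bool.and_eq_true, Bool.and_eq_true, Nat.blt_eq] at h1
  obtain ⟨h1, h2, h3, h4⟩ := h1
  refine ⟨base + m.1, h1, Nat.eq_of_beq_eq_true h2, ((d⁻¹ : C) : V ≃ₗ[ℚ] V), N.inv_mem hd,
    ((l⁻¹ : C) : V ≃ₗ[ℚ] V), (Lw (gs j)).inv_mem hl, ?_⟩
  have e2 : (⟨x, hx⟩ : C) = d⁻¹ * prodF EC (FrameData.nthW kj m) * l⁻¹ := by
    rw [← inv_inv (⟨x, hx⟩ : C), e]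
    group
  have e3 := congrArg (fun y : C => (y : V ≃ₗ[ℚ] V)) e2
  have e4 : Conc.W (cw (base + m.1)) = ((prodF EC (FrameData.nthW kj m) : C) : V ≃ₗ[ℚ] V) := by
    rw [prodF_coe U ((okW_iff _).1 h3), eqL_sound h4]
    rfl
  rw [e4]
  exact e3

end Cfsg.Agent.MonsterU.FCovBase
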