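import Cfsg.Agent.MonsterX.Frames.J0
import Cfsg.Agent.MonsterX.Frames.J1
import Cfsg.Agent.MonsterX.Frames.J2
import Cfsg.Agent.MonsterX.Frames.J3
import Cfsg.Agent.MonsterX.Frames.J4
import Cfsg.Agent.MonsterX.Frames.J5
import Cfsg.Agent.MonsterX.Frames.J6
import Cfsg.Agent.MonsterX.Frames.J7
import Cfsg.Agent.MonsterX.Frames.J8
import Cfsg.Agent.MonsterX.Frames.J9
import Cfsg.Agent.MonsterX.Frames.J10
import Cfsg.Agent.MonsterX.Frames.J11
import Cfsg.Agent.MonsterU.FCovBase

/-!
# The covering `C = ⋃ N (W k_r) L j`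

From helper615's cover certificates of the frames.
-/

set_option autoImplicit false
set_option Elab.async false
set_option maxRecDepth 100000

namespace Cfsg.Agent.MonsterU.FCovI

open Cfsg Cfsg.Agent.MonsterX Cfsg.Agent.MonsterX.Space Cfsg.Agent.MonsterX.Conc
open Cfsg.Agent.MonsterX.FrameInst Cfsg.Agent.MonsterX.FrameConc
open Cfsg.Agent.MonsterU.RowGlue Cfsg.Agent.MonsterU.LowChk Cfsg.Agent.MonsterU.FCovBase

variable {u : leechLattice → V} (U : ULink u)

include U in
theorem cov0 : FCovJ 0 :=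
  of_cover U (base := 0) (kj := Frames.J0.kw) (by decide +kernel) (by norm_num)
    (Frames.J0.cover (code_y0 U.ind) (hE U) (Lw (gs 0)) PUnit.unit.{1} (fun _ _ => rfl)
      (hL U (by decide +kernel)) (nb U.ind) (fun _ => rfl))

include U in
theorem cov1 : FCovJ 1 :=
  of_cover U (base := 3) (kj := Frames.J1.kw) (by decide +kernel) (by norm_num)
    (Frames.J1.cover (code_y0 U.ind) (hE U) (Lw (gs 1)) PUnit.unit.{1} (fun _ _ => rfl)
      (hL U (by decide +kernel)) (nb U.ind) (fun _ => rfl))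

include U in
theorem cov2 : FCovJ 2 :=
  of_cover U (base := 8) (kj := Frames.J2.kw) (by decide +kernel) (by norm_num)
    (Frames.J2.cover (code_y0 U.ind) (hE U) (Lw (gs 2)) PUnit.unit.{1} (fun _ _ => rfl)
      (hL U (by decide +kernel)) (nb U.ind) (fun _ => rfl))

include U in
theorem cov3 : FCovJ 3 :=
  of_cover U (base := 17) (kj := Frames.J3.kw) (by decide +kernel) (by norm_num)
    (Frames.J3.cover (code_y0 U.ind) (hE U) (Lw (gs 3)) PUnit.unit.{1} (fun _ _ => rfl)
      (hL U (by decide +kernel)) (nb U.ind) (fun _ => rfl))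

include U in
theorem cov4 : FCovJ 4 :=
  of_cover U (base := 33) (kj := Frames.J4.kw) (by decide +kernel) (by norm_num)
    (Frames.J4.cover (code_y0 U.ind) (hE U) (Lw (gs 4)) PUnit.unit.{1} (fun _ _ => rfl)
      (hL U (by decide +kernel)) (nb U.ind) (fun _ => rfl))

include U in
theorem cov5 : FCovJ 5 :=
  of_cover U (base := 47) (kj := Frames.J5.kw) (by decide +kernel) (by norm_num)
    (Frames.J5.cover (code_y0 U.ind) (hE U) (Lw (gs 5)) PUnit.unit.{1} (fun _ _ => rfl)
      (hL U (by decide +kernel)) (nb U.ind) (fun _ => rfl))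

include U in
theorem cov6 : FCovJ 6 :=
  of_cover U (base := 57) (kj := Frames.J6.kw) (by decide +kernel) (by norm_num)
    (Frames.J6.cover (code_y0 U.ind) (hE U) (Lw (gs 6)) PUnit.unit.{1} (fun _ _ => rfl)
      (hL U (by decide +kernel)) (nb U.ind) (fun _ => rfl))

include U in
theorem cov7 : FCovJ 7 :=
  of_cover U (base := 80) (kj := Frames.J7.kw) (by decide +kernel) (by norm_num)
    (Frames.J7.cover (code_y0 U.ind) (hE U) (Lw (gs 7)) PUnit.unit.{1} (fun _ _ => rfl)
      (hL U (by decide +kernel)) (nb U.ind) (fun _ => rfl))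

include U in
theorem cov8 : FCovJ 8 :=
  of_cover U (base := 88) (kj := Frames.J8.kw) (by decide +kernel) (by norm_num)
    (Frames.J8.cover (code_y0 U.ind) (hE U) (Lw (gs 8)) PUnit.unit.{1} (fun _ _ => rfl)
      (hL U (by decide +kernel)) (nb U.ind) (fun _ => rfl))

include U in
theorem cov9 : FCovJ 9 :=
  of_cover U (base := 125) (kj := Frames.J9.kw) (by decide +kernel) (by norm_num)
    (Frames.J9.cover (code_y0 U.ind) (hE U) (Lw (gs 9)) PUnit.unit.{1} (fun _ _ => rfl)
      (hL U (by decide +kernel)) (nb U.ind) (fun _ => rfl))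

include U in
theorem cov10 : FCovJ 10 :=
  of_cover U (base := 148) (kj := Frames.J10.kw) (by decide +kernel) (by norm_num)
    (Frames.J10.cover (code_y0 U.ind) (hE U) (Lw (gs 10)) PUnit.unit.{1} (fun _ _ => rfl)
      (hL U (by decide +kernel)) (nb U.ind) (fun _ => rfl))

include U in
theorem cov11 : FCovJ 11 :=
  of_cover U (base := 186) (kj := Frames.J11.kw) (by decide +kernel) (by norm_num)
    (Frames.J11.cover (code_y0 U.ind) (hE U) (Lw (gs 11)) PUnit.unit.{1} (fun _ _ => rfl)
      (hL U (by decide +kernel)) (nb U.ind) (fun _ => rfl))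

include U in
/-- **The covering.** -/
theorem fcov : FCov := by
  intro j hj
  have h : j = 0 ∨ j = 1 ∨ j = 2 ∨ j = 3 ∨ j = 4 ∨ j = 5 ∨ j = 6 ∨ j = 7 ∨ j = 8 ∨ j = 9 ∨ j = 10 ∨ j = 11 := by
    omega
  rcases h with rfl | rfl | rfl | rfl | rfl | rfl | rfl | rfl | rfl | rfl | rfl | rfl
  · exact cov0 U
  · exact cov1 U
  · exact cov2 U
  · exact cov3 U
  · exact cov4 U
  · exact cov5 U
  · exact cov6 U
  · exact cov7 U
  · exact cov8 U
  · exact cov9 U
  · exact cov10 U
  · exact cov11 U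

end Cfsg.Agent.MonsterU.FCovI
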