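import Cfsg.Agent.MonsterU.Sheet3
import Cfsg.Agent.MonsterX.MainTrans

/-!
# The three levels for the model of the Monster (helper620)

`Levels3` for subgroups `K, N` of `↥M.G` (`K` = the elements of `M.C`) from the local hypotheses of the three levels

* level 1: the axes `x ∈ M.X`,
* level 2: the pairs `(s, x)`, `s ∈ M.S`, `x ∈ M.X`, `F s x = 1`,
* level 3: the triples `(s, s', x)`, `s, s' ∈ M.S`, `F s s' = 1`, `x ∈ M.X`, `F s x = 0`, `F s' x = 1`.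
-/

set_option autoImplicit false

namespace Cfsg.Agent.MonsterU.LevelsInst

open Cfsg.Agent.MonsterX.Model Cfsg.Agent.MonsterX.MainBasic
open Cfsg.Agent.MonsterU.Local Cfsg.Agent.MonsterU.GlueP

variable {W : Type} [AddCommGroup W] [Module ℚ W] {M : MData W} {K₀ : Type} [Group K₀]

/-- level 1 -/
def P₁ (M : MData W) : W → Prop := Sheet3.P₁ M.X

/-- level 2 -/
def P₂ (M : MData W) : W × W → Prop := Sheet3.P₂ M.X M.S fun s x => M.F s x = 1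

/-- level 3 -/
def P₃ (M : MData W) : W × W × W → Prop :=
  Sheet3.P₃ M.X M.S (fun s s' => M.F s s' = 1) fun s s' x => M.F s x = 0 ∧ M.F s' x = 1

theorem P₁_iff {x : W} : P₁ M x ↔ x ∈ M.X := Iff.rfl

theorem P₂_iff {s x : W} : P₂ M (s, x) ↔ s ∈ M.S ∧ x ∈ M.X ∧ M.F s x = 1 := Iff.rfl

theorem P₃_iff {s s' x : W} : P₃ M (s, s', x) ↔
    s ∈ M.S ∧ s' ∈ M.S ∧ M.F s s' = 1 ∧ x ∈ M.X ∧ M.F s x = 0 ∧ M.F s' x = 1 := Iff.rfl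

theorem smul_def (g : M.G) (x : W) : g • x = (g : W ≃ₗ[ℚ] W) x := rfl

/-- An element `g ∈ G` with `g a₀ ∈ S` and `g a₁ = σ (g a₀)` is in `C`. -/
theorem mem_C_of_partner (hG : MGroup M K₀) (hR : MRep M) (hL : MLat M) (hO : MOrbit M)
    {g : W ≃ₗ[ℚ] W} (hg : g ∈ M.G) (h0 : g M.a₀ ∈ M.S) (h1 : g M.a₁ = M.σ (g M.a₀)) : g ∈ M.C := by
  obtain ⟨k, hk, hk0⟩ := h0
  have hkG : k ∈ M.G := C_le hk
  have e0 : (k⁻¹ * g) M.a₀ = M.a₀ := by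
    rw [LinearEquiv.mul_apply, hk0, inv_apply']
  have e1 : (k⁻¹ * g) M.a₁ = M.a₁ := by
    rw [LinearEquiv.mul_apply, h1, hk0, hR.σ_comm k hk, inv_apply', σ_a₀ hR]
  have h2 := pair_stab hG hR hL hO (M.G.mul_mem (M.G.inv_mem hkG) hg) e0 e1
  have h3 := M.C.mul_mem hk h2
  rwa [mul_inv_cancel_left] at h3

/-- Heights and local hypotheses of the three levels. -/
structure Lev (M : MData W) (K D : Subgroup M.G) (τ ξ : M.G) (h₁ : W → ℕ) (h₂ : W × W → ℕ)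
    (h₃ : W × W × W → ℕ) : Prop where
  i₁ : Inv K (P₁ M) h₁
  l₁ : LocHyp K D τ ξ (P₁ M) h₁
  n₁ : ∃ n, ∀ w, h₁ w ≤ n
  z₁ : ∀ x ∈ M.X, h₁ x = 0 → x ∈ M.S
  i₂ : Inv K (P₂ M) h₂
  l₂ : LocHyp K D τ ξ (P₂ M) h₂
  n₂ : ∃ n, ∀ w, h₂ w ≤ n
  z₂ : ∀ s ∈ M.S, ∀ x ∈ M.X, M.F s x = 1 → h₂ (s, x) = 0 → x ∈ M.S
  i₃ : Inv K (P₃ M) h₃
  l₃ : LocHyp K D τ ξ (P₃ M) h₃
  n₃ : ∃ n, ∀ w, h₃ w ≤ n
  z₃ : ∀ s ∈ M.S, ∀ s' ∈ M.S, M.F s s' = 1 → ∀ x ∈ M.X, M.F s x = 0 → M.F s' x = 1 →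
    h₃ (s, s', x) = 0 → x = M.σ s

/-- **`Levels3` for the model.** -/
theorem levels3 (hG : MGroup M K₀) (hR : MRep M) (hL : MLat M) (hO : MOrbit M)
    {K N D : Subgroup M.G} {τ ξ : M.G} (hK : ∀ g : M.G, g ∈ K ↔ (g : W ≃ₗ[ℚ] W) ∈ M.C)
    (hgeo : Geom K N D τ ξ) {h₁ : W → ℕ} {h₂ : W × W → ℕ} {h₃ : W × W × W → ℕ}
    (h : Lev M K D τ ξ h₁ h₂ h₃) {b : W} (hb : b ∈ M.S) (hab : M.F M.a₀ b = 1) :
    Levels3 K N τ ξ := by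
  have hb0 : b ≠ M.a₀ := by
    rintro rfl
    rw [hL.F_a₀] at hab
    norm_num at hab
  have hb1 : b ≠ M.a₁ := by
    rintro rfl
    rw [hL.F_a₁] at hab
    norm_num at hab
  have hbc : M.F b M.a₁ = 1 := by
    rw [hL.F_partner b hb hb0 hb1, hR.F_symm, hab]
  have hiso : ∀ (g : M.G) (x y : W), M.F (g • x) (g • y) = M.F x y := fun g x y =>
    G_isom hO hR g.2 x y
  refine Sheet3.levels3_tuples (X' := M.X) (S := M.S) (R := fun s s' => M.F s s' = 1)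
    (R' := fun s s' x => M.F s x = 0 ∧ M.F s' x = 1) hgeo (fun g x hx => G_X hO g.2 hx) ?_ ?_
    h.i₁ h.i₂ h.i₃ h.l₁ h.l₂ h.l₃ h.n₁ h.n₂ h.n₃ (a := M.a₀) (b := b) (c := M.a₁)
    (S_sub_X hO a₀_mem_S) (S_sub_X hO hb) (S_sub_X hO (a₁_mem_S hG hR)) hab ⟨hL.F_a₁, hbc⟩ h.z₁ h.z₂ 1 ?_
  · intro g x y hxy
    rw [hiso]
    exact hxy
  · rintro g x y w ⟨h1, h2⟩
    rw [hiso, hiso]
    exact ⟨h1, h2⟩
  · intro g ha hb' h0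
    refine ⟨g, ?_, (mul_one g).symm⟩
    rw [hK]
    have e1 : M.F (g • M.a₀) (g • b) = 1 := by rw [hiso, hab]
    have e2 : M.F (g • M.a₀) (g • M.a₁) = 0 := by rw [hiso, hL.F_a₁]
    have e3 : M.F (g • b) (g • M.a₁) = 1 := by rw [hiso, hbc]
    have h1 := h.z₃ _ ha _ hb' e1 _ (G_X hO g.2 (S_sub_X hO (a₁_mem_S hG hR))) e2 e3 h0
    exact mem_C_of_partner hG hR hL hO g.2 ha h1

end Cfsg.Agent.MonsterU.LevelsInst
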