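import Cfsg.Agent.MonsterX.CertTab
import Cfsg.Agent.MonsterX.CertV

/-!
# Level 2 of (F): exact vector identities (data `blueprints/R19/helper911/F/L2.txt`)

`ax` = base axis; class `t`: `K`-type `j = jt t`, word `ht t` (monomial), `bt t = W (ht t) b_j`, `F(ax, bt t) = 1`.

* generators `gw`: `(t, word)`, each fixes `ax` and `bt t`, monomial or `n ξ n'`;
* rows `row i = (t, p, n, k, r, n')`: `k_i = ξ n k_p` (word `k_p ++ n ++ [39]`, the first letter acts first; the first row of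
  each class has `k = 1`), `n` monomial and fixes `ax`, `k_i` fixes `ax`, `k_i (bt t) = n' v_r`, `n'` monomial.

Generated; all checks are kernel computations.
-/

set_option autoImplicit false
set_option Elab.async false
set_option maxRecDepth 100000

namespace Cfsg.Agent.MonsterU.VecTwo

open Cfsg.Agent.MonsterX.CertVec Cfsg.Agent.MonsterX.CertBase Cfsg.Agent.MonsterX.CertB
open Cfsg.Agent.MonsterX.CertTab Cfsg.Agent.MonsterX.CertV Cfsg.Agent.MonsterX Cfsg.Agent.MonsterX.Space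

/-- The `K`-types of the classes. -/
noncomputable def jT : List ℕ := [1, 2, 3, 5]

/-- The words `h`. -/
noncomputable def hT : List (List ℕ) :=
  [[], [42, 42, 1], [], [42, 37, 42, 38, 42, 25]]

/-- The `K`-type of the class `t`. -/
noncomputable def jt (t : ℕ) : ℕ := nth 0 jT t

/-- The word `h` of the class `t`. -/
noncomputable def hw (t : ℕ) : List ℕ := nth [] hT t

/-- The word of `bt t`. -/
noncomputable def bh (t : ℕ) : List ℕ := bw (jt t) ++ hw t

/-- The second axis of the class `t`. -/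
noncomputable def bt (t : ℕ) : V := vv (bh t)

/-- The generators. -/
noncomputable def gw : List (ℕ × List ℕ) :=
  [(0, [43, 42, 43, 42, 43, 39, 42, 31, 29, 27, 23, 22, 21, 20, 18, 17, 16, 14, 13, 11, 10, 7, 5, 4, 0, 24]), (0,
  [37, 37, 42, 43, 36, 36, 36, 38, 42, 43, 30, 23, 22, 20, 16, 14, 13, 9, 8, 7, 5, 0, 24]), (1, [43, 38, 36, 36,
  37, 42, 37, 38, 35, 32, 31, 22, 20, 19, 18, 17, 15, 14, 11, 9, 8, 6, 5, 0]), (1, [37, 36, 37, 42, 37, 36, 36, 36,
  43, 36, 31, 28, 22, 20, 19, 18, 13, 9, 0]), (2, [36, 25, 39, 42, 1, 2, 3, 12, 13, 14, 17, 18, 20]), (2, [36, 37,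
  36, 37, 36, 37, 5, 9, 23, 4, 14, 21, 15, 3, 8, 18, 19, 22]), (2, [43, 38, 36, 36, 36, 36, 36, 38, 36, 1, 3, 2, 4,
  7, 15, 17, 19, 21]), (3, [37, 38, 36, 37, 42, 43, 38, 29, 27, 22, 21, 19, 17, 13, 11, 5, 3]), (3, [37, 37, 38,
  25, 39, 42, 37, 36, 43, 36, 37, 42, 38, 34, 31, 30, 22, 19, 17, 15, 12, 10, 9, 8, 7, 4, 3, 0, 0, 24])]

/-- The rows `(t, p, n, k, r, n')`. -/
noncomputable def rows : List (ℕ × ℕ × List ℕ × List ℕ × ℕ × List ℕ) :=
  [(0, 0, [], [], 3, []), (0, 0, [38, 36, 37, 42, 38], [38, 36, 37, 42, 38, 39], 4, [43, 38, 42, 43, 36, 36, 37,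
  36, 43, 43, 42, 42, 42, 43, 38, 35, 30, 28, 26, 23, 21, 20, 17, 16, 14, 13, 11, 9, 5, 4, 0]), (0, 0, [43, 36, 38,
  36, 43, 36], [43, 36, 38, 36, 43, 36, 39], 5, [35, 34, 30, 9, 5, 3, 1]), (0, 1, [38, 36, 36, 38, 36], [38, 36,
  37, 42, 38, 39, 38, 36, 36, 38, 36, 39], 6, [43, 38, 36, 37, 42, 37, 37, 36, 43, 36, 43, 38, 35, 34, 32, 31, 28,
  27, 19, 18, 17, 14, 11, 6, 4, 0]), (1, 4, [], [], 8, [37, 42, 42, 42, 43, 36, 43, 36, 36, 36, 36, 37, 38, 36, 43,
  38, 23, 22, 21, 20, 18, 14, 13, 11, 10, 9, 8, 6, 5, 2]), (1, 4, [], [39], 9, [28, 26, 22, 10, 9, 7, 6, 4, 2, 0,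
  24]), (1, 5, [43, 36, 38, 36, 43, 36], [39, 43, 36, 38, 36, 43, 36, 39], 10, [43, 43, 38, 42, 42, 42, 37, 36, 43,
  43, 36, 36, 37, 36, 37, 38, 36, 35, 33, 28, 23, 22, 17, 16, 15, 14, 13, 11, 10, 8, 7, 5, 2]), (1, 5, [38, 36, 36,
  38, 36], [39, 38, 36, 36, 38, 36, 39], 11, [37, 37, 42, 43, 42, 37, 37, 42, 42, 38, 36, 37, 42, 38, 33, 30, 26,
  25, 22, 19, 16, 13, 8, 7, 5, 4, 3, 1, 0, 0, 24]), (1, 7, [43, 36, 38, 36, 43, 36], [39, 38, 36, 36, 38, 36, 39,
  43, 36, 38, 36, 43, 36, 39], 14, [38, 42, 42, 37, 38, 36, 37, 37, 36, 36, 37, 42, 37, 36, 34, 33, 30, 29, 20, 17,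
  16, 11, 10, 8, 7, 2, 0]), (2, 9, [], [], 17, []), (2, 9, [38, 36, 37, 42, 38], [38, 36, 37, 42, 38, 39], 20, [37,
  36, 43, 43, 42, 37, 42, 37, 42, 38, 36, 36, 37, 35, 30, 28, 23, 19, 12, 8, 3, 0, 24]), (2, 9, [43, 36, 38, 36,
  43, 36], [43, 36, 38, 36, 43, 36, 39], 21, [38, 36, 36, 36, 37, 38, 36, 37, 36, 36, 38, 42, 42, 37, 38, 36, 35,
  30, 28, 27, 23, 22, 21, 20, 18, 11, 8]), (2, 10, [38, 36, 36, 38, 36], [38, 36, 37, 42, 38, 39, 38, 36, 36, 38,
  36, 39], 29, [36, 43, 36, 37, 38, 42, 37, 36, 36, 37, 42, 42, 37, 37, 36, 43, 33, 32, 31, 30, 22, 21, 20, 16, 14,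
  11, 9, 8, 7, 5, 0, 0, 24]), (3, 13, [], [], 47, [42, 43, 43, 42, 38, 36, 37, 36, 43, 36, 43, 42, 37, 38, 42, 31,
  26, 23, 22, 19, 18, 17, 16, 15, 14, 11, 7, 6, 1]), (3, 13, [], [39], 49, [38, 42, 37, 37, 36, 36, 43, 43, 42, 38,
  36, 37, 36, 43, 38, 28, 26, 22, 21, 19, 18, 16, 15, 13, 5, 2]), (3, 14, [43, 36, 38, 36, 43, 36], [39, 43, 36,
  38, 36, 43, 36, 39], 53, [38, 42, 42, 37, 37, 42, 42, 43, 36, 36, 36, 43, 43, 36, 32, 30, 29, 28, 25, 21, 19, 18,
  17, 15, 14, 11, 5, 3, 2, 0])]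

/-- The class of the generator `i`. -/
noncomputable def gt (i : ℕ) : ℕ := (nth (0, []) gw i).1

/-- The word of the generator `i`. -/
noncomputable def gg (i : ℕ) : List ℕ := (nth (0, []) gw i).2

/-- The row `i`. -/
noncomputable def row (i : ℕ) : ℕ × ℕ × List ℕ × List ℕ × ℕ × List ℕ := nth (0, 0, [], [], 0, []) rows i

/-- class -/
noncomputable def rt (i : ℕ) : ℕ := (row i).1
/-- parent -/
noncomputable def rp (i : ℕ) : ℕ := (row i).2.1
/-- `n` -/
noncomputable def rn (i : ℕ) : List ℕ := (row i).2.2.1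
/-- `k` -/
noncomputable def rk (i : ℕ) : List ℕ := (row i).2.2.2.1
/-- `r` -/
noncomputable def rr (i : ℕ) : ℕ := (row i).2.2.2.2.1
/-- `n'` -/
noncomputable def rd (i : ℕ) : List ℕ := (row i).2.2.2.2.2

/-- The check of a generator. -/
noncomputable def genOK (i : ℕ) : Bool := and (ident (bh (gt i) ++ gg i) (bh (gt i))) (ident (gg i) [])

/-- The check of a row. -/
noncomputable def rowOK (i : ℕ) : Bool :=
  and (ident (rn i) []) (and (ident (rk i) []) (ident (bh (rt i) ++ rk i) (vw (rr i) ++ rd i)))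

/-- The check that a word is `k_p ++ n ++ [39]`. -/
noncomputable def treeOK (i : ℕ) : Bool :=
  and (decide (rk i = rk (rp i) ++ rn i ++ [39])) (and (decide (rt (rp i) = rt i)) (Nat.blt (rp i) i))

theorem gen_0 : genOK 0 = true := by decide +kernel

theorem gen_1 : genOK 1 = true := by decide +kernel

theorem gen_2 : genOK 2 = true := by decide +kernel

theorem gen_3 : genOK 3 = true := by decide +kernel

theorem gen_4 : genOK 4 = true := by decide +kernel

theorem gen_5 : genOK 5 = true := by decide +kernel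

theorem gen_6 : genOK 6 = true := by decide +kernel

theorem gen_7 : genOK 7 = true := by decide +kernel

theorem gen_8 : genOK 8 = true := by decide +kernel

theorem row_0 : rowOK 0 = true := by decide +kernel

theorem row_1 : rowOK 1 = true := by decide +kernel

theorem row_2 : rowOK 2 = true := by decide +kernel

theorem row_3 : rowOK 3 = true := by decide +kernel

theorem row_4 : rowOK 4 = true := by decide +kernel

theorem row_5 : rowOK 5 = true := by decide +kernel

theorem row_6 : rowOK 6 = true := by decide +kernel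

theorem row_7 : rowOK 7 = true := by decide +kernel

theorem row_8 : rowOK 8 = true := by decide +kernel

theorem row_9 : rowOK 9 = true := by decide +kernel

theorem row_10 : rowOK 10 = true := by decide +kernel

theorem row_11 : rowOK 11 = true := by decide +kernel

theorem row_12 : rowOK 12 = true := by decide +kernel

theorem row_13 : rowOK 13 = true := by decide +kernel

theorem row_14 : rowOK 14 = true := by decide +kernel

theorem row_15 : rowOK 15 = true := by decide +kernel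

theorem gen_all : ∀ i, i < 9 → genOK i = true
  | 0, _ => gen_0
  | 1, _ => gen_1
  | 2, _ => gen_2
  | 3, _ => gen_3
  | 4, _ => gen_4
  | 5, _ => gen_5
  | 6, _ => gen_6
  | 7, _ => gen_7
  | 8, _ => gen_8
  | k + 9, h => absurd h (by omega)

theorem row_all : ∀ i, i < 16 → rowOK i = true
  | 0, _ => row_0
  | 1, _ => row_1
  | 2, _ => row_2
  | 3, _ => row_3
  | 4, _ => row_4
  | 5, _ => row_5
  | 6, _ => row_6
  | 7, _ => row_7
  | 8, _ => row_8
  | 9, _ => row_9
  | 10, _ => row_10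
  | 11, _ => row_11
  | 12, _ => row_12
  | 13, _ => row_13
  | 14, _ => row_14
  | 15, _ => row_15
  | k + 16, h => absurd h (by omega)

/-- The first rows of the classes. -/
noncomputable def base : List ℕ := [0, 4, 9, 13]

/-- The rows of the class `t` are `first t ≤ i < first (t + 1)`. -/
noncomputable def first (t : ℕ) : ℕ := nth 16 base t

theorem base_k : ∀ t, t < 4 → rk (first t) = [] := by decide +kernel

theorem base_t : ∀ t, t < 4 → rt (first t) = t := by decide +kernel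

theorem rt_iff : ∀ i, i < 16 → ∀ t, t < 4 → (rt i = t ↔ first t ≤ i ∧ i < first (t + 1)) := by decide +kernel

theorem tree_all : ∀ i, i < 16 → i ∉ base → treeOK i = true := by decide +kernel

theorem monoN : ∀ i, i < 16 → allL isD (rn i) = true ∧ allL isD (rd i) = true := by decide +kernel

theorem monoH : ∀ t, t < 4 → allL isD (hw t) = true := by decide +kernel

/-! ### In `V` -/

/-- The generators fix both axes. -/
theorem gen_fix {i : ℕ} (hi : i < 9) : Conc.W (gg i) (bt (gt i)) = bt (gt i) ∧ Conc.W (gg i) ax = ax := by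
  have h := gen_all i hi
  unfold genOK at h
  have h' : (ident (bh (gt i) ++ gg i) (bh (gt i)) && ident (gg i) []) = true := h
  rw [Bool.and_eq_true] at h'
  refine ⟨?_, ?_⟩
  · have h1 := vv_eq_of_ident h'.1
    rw [vv_append] at h1
    exact h1
  · have h1 := vv_eq_of_ident h'.2
    rw [vv_nil] at h1
    exact h1

theorem row_spec {i : ℕ} (hi : i < 16) :
    Conc.W (rn i) ax = ax ∧ Conc.W (rk i) ax = ax ∧ Conc.W (rk i) (bt (rt i)) = Conc.W (rd i) (vv (vw (rr i))) := by
  have h := row_all i hi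
  unfold rowOK at h
  have h' : (ident (rn i) [] && (ident (rk i) [] && ident (bh (rt i) ++ rk i) (vw (rr i) ++ rd i))) = true := h
  rw [Bool.and_eq_true, Bool.and_eq_true] at h'
  refine ⟨?_, ?_, ?_⟩
  · have h1 := vv_eq_of_ident h'.1
    rw [vv_nil] at h1
    exact h1
  · have h1 := vv_eq_of_ident h'.2.1
    rw [vv_nil] at h1
    exact h1
  · have h1 := vv_eq_of_ident h'.2.2
    rw [vv_append, vv_append] at h1
    exact h1

/-- `n` fixes the base axis. -/
theorem n_fix {i : ℕ} (hi : i < 16) : Conc.W (rn i) ax = ax := (row_spec hi).1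

/-- `k_i` fixes the base axis. -/
theorem k_fix {i : ℕ} (hi : i < 16) : Conc.W (rk i) ax = ax := (row_spec hi).2.1

/-- `k_i (bt t) = n' v_r`. -/
theorem k_bt {i : ℕ} (hi : i < 16) : Conc.W (rk i) (bt (rt i)) = Conc.W (rd i) (vv (vw (rr i))) := (row_spec hi).2.2

/-- `k_i = ξ n k_p`. -/
theorem k_tree {i : ℕ} (hi : i < 16) (hb : i ∉ base) :
    rk i = rk (rp i) ++ rn i ++ [39] ∧ rt (rp i) = rt i ∧ rp i < i := by
  have h := tree_all i hi hb
  unfold treeOK at h
  have h' : (decide (rk i = rk (rp i) ++ rn i ++ [39]) && (decide (rt (rp i) = rt i) && Nat.blt (rp i) i)) = true := h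
  rw [Bool.and_eq_true, Bool.and_eq_true, decide_eq_true_eq, decide_eq_true_eq, Nat.blt_eq] at h'
  exact h'

theorem W_k_tree {i : ℕ} (hi : i < 16) (hb : i ∉ base) :
    Conc.W (rk i) = Conc.ξ * Conc.W (rn i) * Conc.W (rk (rp i)) := by
  rw [(k_tree hi hb).1, Conc.W_append, Conc.W_append, Conc.W_single, mul_assoc]
  rfl

theorem bt_eq {t : ℕ} : bt t = Conc.W (hw t) (vv (bw (jt t))) := by
  unfold bt bh
  rw [vv_append]

end Cfsg.Agent.MonsterU.VecTwo
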