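import Cfsg.Agent.MonsterU.Types
import Cfsg.Agent.MonsterU.LevelsInst
import Cfsg.Agent.MonsterU.VecTwo
import Cfsg.Agent.MonsterP.TZero

/-!
# The facts on the standard lines of the axes, concrete model

`typ` : for `r < 57` the numbers `(j, j₊, j₋)` of the `C`-orbits of `v_r` and of the two other points of its line.
`hh` : the height of an axis (the number of its `C`-orbit).
`Tab N'` : the facts on the axes used for the levels 2 and 3 (from the orbit table, `TabInst`).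
-/

set_option autoImplicit false
set_option maxRecDepth 100000

namespace Cfsg.Agent.MonsterU.LineTab

open Cfsg.Agent.MonsterX Cfsg.Agent.MonsterX.Space Cfsg.Agent.MonsterX.Conc Cfsg.Agent.MonsterX.Model
open Cfsg.Agent.MonsterX.InstData Cfsg.Agent.MonsterX.CertVec Cfsg.Agent.MonsterX.CertTab Cfsg.Agent.MonsterX.CertV
open Cfsg.Agent.MonsterU.Local Cfsg.Agent.MonsterU.Types Cfsg.Agent.MonsterP

/-- `(j, j₊, j₋)` for `v_r`, `r < 57`. -/
noncomputable def typ : List (ℕ × ℕ × ℕ) :=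
  [(0, 0, 0), (0, 1, 1), (0, 2, 2), (1, 1, 0), (1, 1, 1), (1, 2, 2), (1, 3, 3), (1, 4, 4), (2, 2, 0),
   (2, 1, 2), (2, 2, 2), (2, 3, 3), (2, 3, 3), (2, 4, 4), (2, 5, 5), (2, 6, 6), (2, 8, 8), (3, 3, 1),
   (3, 3, 4), (3, 4, 4), (3, 3, 2), (3, 3, 3), (3, 3, 3), (3, 3, 2), (3, 6, 6), (3, 10, 10), (3, 6, 6),
   (3, 9, 9), (3, 11, 11), (3, 5, 5), (3, 5, 6), (3, 8, 8), (3, 11, 11), (4, 4, 1), (4, 4, 4), (4, 4, 4),
   (4, 3, 4), (4, 2, 4), (4, 3, 3), (4, 7, 7), (4, 10, 10), (4, 6, 6), (4, 11, 11), (4, 8, 8), (4, 9, 9),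
   (4, 10, 10), (4, 7, 7), (5, 5, 2), (5, 3, 6), (5, 3, 5), (5, 6, 8), (5, 9, 9), (5, 11, 11), (5, 5, 5),
   (5, 9, 9), (5, 11, 11), (5, 8, 8)]

/-- The row `r`. -/
noncomputable def ty (r : ℕ) : ℕ × ℕ × ℕ := nth (0, 0, 0) typ r

/-- The line of `v_r` is lowering. -/
noncomputable def lowB (r : ℕ) : Bool := or (Nat.blt (ty r).2.1 (ty r).1) (Nat.blt (ty r).2.2 (ty r).1)

/-- The line of `v_r` contains another point of the same height. -/
noncomputable def flatB (r : ℕ) : Bool := or (Nat.beq (ty r).2.1 (ty r).1) (Nat.beq (ty r).2.2 (ty r).1)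

/-- The height of an axis. -/
noncomputable def hh (x : V) : ℕ := hgt InstData.M (fun j : Fin 12 => j.1) x

/-- The facts on the axes. -/
structure Tab (N' : Subgroup (V ≃ₗ[ℚ] V)) : Prop where
  geo : Geom C N' N τ Conc.ξ
  disj : Disj InstData.M
  tau : ∀ x ∈ InstData.M.X, τ x ∈ InstData.M.X ∧ τ⁻¹ x ∈ InstData.M.X
  mem : ∀ r, r < 57 → ∀ x ∈ MulAction.orbit N (vv (vw r)), x ∈ InstData.M.X
  hgt : ∀ r, r < 57 → ∀ x ∈ MulAction.orbit N (vv (vw r)), hh x = (ty r).1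
  lo : ∀ r, r < 57 → ∀ x ∈ MulAction.orbit N (vv (vw r)),
    (Lo τ (fun x => x ∈ InstData.M.X) hh x ↔ lowB r = true)
  flat : ∀ r, r < 57 → ∀ x ∈ MulAction.orbit N (vv (vw r)),
    (Flat τ (fun x => x ∈ InstData.M.X) hh x ↔ flatB r = true)
  /-- the lines with two points in `S` -/
  two : ∀ s ∈ InstData.M.S, (τ s ∈ InstData.M.S ∨ τ⁻¹ s ∈ InstData.M.S) → s ∈ TZero.T₀
  /-- `τ` preserves `T₀` -/
  tau_T : ∀ s ∈ TZero.T₀, τ s ∈ TZero.T₀ ∧ τ⁻¹ s ∈ TZero.T₀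

end Cfsg.Agent.MonsterU.LineTab
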