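import Cfsg.Agent.MonsterU.LevelOne
import Cfsg.Agent.MonsterU.FCovI
import Cfsg.Agent.MonsterU.LineTab
import Cfsg.Agent.MonsterX.ConcGrp
import Cfsg.Agent.MonsterX.CertGlue

/-!
# Level 1 of the Morse certificate, literal form

`l₁` : the local hypotheses of level 1 for `P = (· ∈ M.X)`, `h = LineTab.hh`.
-/

set_option autoImplicit false
set_option maxRecDepth 100000

namespace Cfsg.Agent.MonsterU.LevelOneX

open Cfsg Cfsg.Agent.MonsterX Cfsg.Agent.MonsterX.Space Cfsg.Agent.MonsterX.Conc Cfsg.Agent.MonsterX.InstData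
open Cfsg.Agent.MonsterX.FrameConc
open Cfsg.Agent.MonsterU.Local Cfsg.Agent.MonsterU.FCovBase

theorem P_iff (w : V) : LevelOne.P w ↔ w ∈ InstData.M.X := by
  constructor
  · rintro ⟨j, hj, g, hg, rfl⟩
    exact ⟨(⟨j, hj⟩ : Fin 12), g, hg, rfl⟩
  · rintro ⟨j, g, hg, rfl⟩
    change Fin 12 at j
    exact ⟨j.1, j.2, g, hg, rfl⟩

theorem disj_of (hd : Types.Disj InstData.M) : LevelOne.Disj := by
  intro i j hi hj g hg e
  have h := hd (⟨i, hi⟩ : Fin 12) (⟨j, hj⟩ : Fin 12) g hg e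
  exact congrArg (fun k : Fin 12 => k.1) h

theorem h_eq (hd : Types.Disj InstData.M) (w : V) : LevelOne.h w = LineTab.hh w := by
  by_cases hw : LevelOne.P w
  · obtain ⟨j, hj, g, hg, rfl⟩ := hw
    rw [LevelOne.h_of (disj_of hd) hj hg]
    exact (Types.hgt_eq (num := fun j : Fin 12 => j.1) hd (j := (⟨j, hj⟩ : Fin 12)) hg).symm
  · have h2 : ¬ ∃ j, ∃ g ∈ InstData.M.C, w = g (InstData.M.d j) := fun h => hw ((P_iff w).2 h)
    unfold LevelOne.h LineTab.hh Types.hgt
    rw [dif_neg hw, dif_neg h2]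

variable {u : leechLattice → V} (U : ULink u)

include U in
/-- **Level 1.** -/
theorem l₁ {N' : Subgroup (V ≃ₗ[ℚ] V)} (hG : Geom C N' N τ Conc.ξ) (hd : Types.Disj InstData.M) :
    LocHyp C N τ Conc.ξ (fun x => x ∈ InstData.M.X) LineTab.hh := by
  have h1 := LevelOne.locHyp U hG (disj_of hd) (FCovI.fcov U) CertGlue.E_41 ConcGrp.τ_cube
  have e1 : LevelOne.P = fun x => x ∈ InstData.M.X := funext fun w => propext (P_iff w)
  have e2 : LevelOne.h = LineTab.hh := funext (h_eq hd)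
  rw [e1, e2] at h1
  exact h1

include U in
/-- **Level 1** from the facts on the axes. -/
theorem l₁_tab {N' : Subgroup (V ≃ₗ[ℚ] V)} (T : LineTab.Tab N') :
    LocHyp C N τ Conc.ξ (fun x => x ∈ InstData.M.X) LineTab.hh := l₁ U T.geo T.disj

end Cfsg.Agent.MonsterU.LevelOneX
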