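import Cfsg.Agent.MonsterU.LineTab
import Cfsg.Agent.MonsterX.ConcGrp
import Cfsg.Agent.MonsterX.CertGlue
import Cfsg.Agent.MonsterP.HT

/-!
# The facts on the standard lines of the axes from the orbit table

`tab`: `LineTab.Tab (closure (N ∪ {τ}))` from the covering of the `C`-orbits by the representatives `CertGlue.v`.
-/

set_option autoImplicit false
set_option maxRecDepth 100000

namespace Cfsg.Agent.MonsterU.TabInst

attribute [local irreducible] Cfsg.Agent.MonsterX.CertVec.nth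

open Cfsg.Agent.MonsterX Cfsg.Agent.MonsterX.Space Cfsg.Agent.MonsterX.Conc Cfsg.Agent.MonsterX.Model
open Cfsg.Agent.MonsterX.InstData Cfsg.Agent.MonsterX.CertVec Cfsg.Agent.MonsterX.CertTab Cfsg.Agent.MonsterX.CertV
open Cfsg.Agent.MonsterX.CertAll Cfsg.Agent.MonsterX.CertGlue Cfsg.Agent.MonsterX.CertOrb
open Cfsg.Agent.MonsterX.CertOrbModel Cfsg.Agent.MonsterX.CertOrbNZero
open Cfsg.Agent.MonsterU.Local Cfsg.Agent.MonsterU.Types Cfsg.Agent.MonsterU.LineTab Cfsg.Agent.MonsterP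

/-! ### The targets of the table -/

theorem jof_val (r : Fin 251) : (jof r).1 = nth 0 kj r.1 := rfl

theorem clsF_val (t : Fin 123) (e : Fin 3) : (clsF t e).1 = cls t.1 e.1 := rfl

theorem pick_val (r : Fin 251) : (pick r).1.1 = (nth (0, 0) pk r.1).1 ∧ (pick r).2.1 = (nth (0, 0) pk r.1).2 :=
  ⟨rfl, rfl⟩

/-- The number of the `C`-orbit of the point number `k` (counted from `v_r`) of the line of `v_r`. -/
noncomputable def nx (r k : ℕ) : ℕ :=
  nth 0 kj (cls (nth (0, 0) pk r).1 (((nth (0, 0) pk r).2 + k) % 3))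

theorem jof_add (r : Fin 251) (k : Fin 3) : (jof (clsF (pick r).1 ((pick r).2 + k))).1 = nx r.1 k.1 := by
  rw [jof_val, clsF_val, Fin.val_add, (pick_val r).1, (pick_val r).2, nx]

theorem jof_tp (r : Fin 251) : (jof (clsF (pick r).1 ((pick r).2 + 1))).1 = nx r.1 1 := jof_add r 1

theorem jof_tm (r : Fin 251) : (jof (clsF (pick r).1 ((pick r).2 + 2))).1 = nx r.1 2 := jof_add r 2

/-- The check of the row `r`. -/
noncomputable def rowB (r : ℕ) : Bool :=
  and (Nat.beq (nth 0 kj r) (ty r).1)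
    (or (and (Nat.beq (nx r 1) (ty r).2.1) (Nat.beq (nx r 2) (ty r).2.2))
      (and (Nat.beq (nx r 1) (ty r).2.2) (Nat.beq (nx r 2) (ty r).2.1)))

theorem row_all : allN rowB 0 57 = true := by decide +kernel

theorem row_spec {r : ℕ} (h : r < 57) : nth 0 kj r = (ty r).1 ∧
    ((nx r 1 = (ty r).2.1 ∧ nx r 2 = (ty r).2.2) ∨ (nx r 1 = (ty r).2.2 ∧ nx r 2 = (ty r).2.1)) := by
  have h1 := allN_spec row_all r h
  rw [Nat.zero_add] at h1
  unfold rowB at h1
  rw [Bool.and_eq_true, Bool.or_eq_true, Bool.and_eq_true, Bool.and_eq_true, Nat.beq_eq, Nat.beq_eq,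
    Nat.beq_eq, Nat.beq_eq, Nat.beq_eq] at h1
  exact h1

theorem two_all : allN (fun r => or (Nat.beq r 0) (or (Nat.blt 0 (nth 0 kj r))
    (and (Nat.blt 0 (nx r 1)) (Nat.blt 0 (nx r 2))))) 0 251 = true := by decide +kernel

theorem two_spec {r : ℕ} (h : r < 251) (h0 : nth 0 kj r = 0) (h1 : nx r 1 = 0 ∨ nx r 2 = 0) : r = 0 := by
  have h2 := allN_spec two_all r h
  rw [Nat.zero_add, Bool.or_eq_true, Bool.or_eq_true, Bool.and_eq_true, Nat.beq_eq, Nat.blt_eq, Nat.blt_eq,
    Nat.blt_eq] at h2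
  rcases h2 with h2 | h2 | ⟨h2, h3⟩ <;> omega

/-- The first rows. -/
noncomputable def fst : List ℕ := [0, 3, 8, 17, 33, 47, 57, 80, 88, 125, 148, 186]

theorem fst_all : allN (fun j => and (Nat.beq (nth 0 kj (nth 0 fst j)) j) (Nat.blt (nth 0 fst j) 251)) 0 12 =
    true := by decide +kernel

theorem ne (j : Fin 12) : ∃ r : Fin 251, jof r = j := by
  have h := allN_spec fst_all j.1 j.2
  rw [Nat.zero_add, Bool.and_eq_true, Nat.beq_eq, Nat.blt_eq] at h
  exact ⟨⟨_, h.2⟩, Fin.ext ((jof_val _).trans h.1)⟩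

/-! ### The orbit table -/

/-- The covering of the `C`-orbits. -/
abbrev Ref : Prop := Refines InstData.M.C N InstData.M.d CertGlue.v CertGlue.jof

/-- The representatives of the orbit table. -/
noncomputable abbrev rv : Fin 251 → V := rep τ cF pick

theorem table (href : Ref) : OrbTable InstData.M N ConcGrp.N0 (E 12) rv CertGlue.jof
    (fun r => clsF (pick r).1 ((pick r).2 + 1)) (fun r => clsF (pick r).1 ((pick r).2 + 2)) :=
  orbTable (M := InstData.M) ConcGrp.tauData href ne disj nzero cls_pick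

/-- The orbit of the row `r`. -/
theorem mem_orbit {r : ℕ} (hr : r < 251) {x : V} (hx : x ∈ MulAction.orbit N (vv (vw r))) :
    x ∈ MulAction.orbit N (rv ⟨r, hr⟩) := by
  have h1 := nzero.rep_mem cls_pick ⟨r, hr⟩
  have h2 := orbit_eq_of_mem h1
  change x ∈ MulAction.orbit N (rep τ cF pick ⟨r, hr⟩)
  rw [h2]
  exact hx

theorem geo : Geom C (Subgroup.closure ((N : Set (V ≃ₗ[ℚ] V)) ∪ {τ})) N τ Conc.ξ where
  D_K := N_le_C
  D_N := fun _ hg => Subgroup.subset_closure (Or.inl hg)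
  τ_N := Subgroup.subset_closure (Or.inr rfl)
  ξ_K := E_mem_C (by norm_num)
  ξ_sq := ConcGrp.ξ_sq
  cases := cases_of_tauData ConcGrp.tauData ConcGrp.τ_cube

theorem kw_zero : nth [] kw 0 = [] := by decide +kernel

theorem kj_zero : nth 0 kj 0 = 0 := by decide +kernel

theorem bj_zero : bj 0 = [] := by decide +kernel

theorem a₀_mem : rv 0 ∈ MulAction.orbit N (InstData.M.d (0 : Fin 12)) := by
  have h1 := nzero.rep_mem cls_pick 0
  have h2 : v 0 = InstData.M.d (0 : Fin 12) := by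
    rw [v_eq]
    have e2 : jof 0 = 0 := Fin.ext ((jof_val 0).trans kj_zero)
    rw [show (0 : Fin 251).1 = 0 from rfl, kw_zero, e2, Conc.W_nil]
    rfl
  rw [h2] at h1
  exact h1

theorem d_zero : InstData.M.d (0 : Fin 12) = TZero.a₀ := by
  rw [M_d]
  rw [show (0 : Fin 12).1 = 0 from rfl, bj_zero, Conc.W_nil]
  rfl

/-- **The facts on the axes.** -/
theorem tab (href : Ref) : Tab (Subgroup.closure ((N : Set (V ≃ₗ[ℚ] V)) ∪ {τ})) := by
  have O := table href
  have hG : Geom InstData.M.C (Subgroup.closure ((N : Set (V ≃ₗ[ℚ] V)) ∪ {τ})) N InstData.M.τ Conc.ξ := geo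
  refine ⟨geo, O.disj', ?_, ?_, ?_, ?_, ?_, ?_, ?_⟩
  · intro x hx
    exact ⟨tau_X O hx, tauInv_X ConcGrp.τ_cube O hx⟩
  · intro r hr x hx
    exact (hgt_v (num := fun j : Fin 12 => j.1) O (mem_orbit (by omega) hx)).1
  · intro r hr x hx
    have h1 := (hgt_v (num := fun j : Fin 12 => j.1) O (mem_orbit (by omega) hx)).2
    exact h1.trans ((jof_val _).trans (row_spec hr).1)
  · intro r hr x hx
    have h1 := lo_orbit (num := fun j : Fin 12 => j.1) O hG (mem_orbit (show r < 251 by omega) hx)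
    have h2 : lowB r = true ↔ (ty r).2.1 < (ty r).1 ∨ (ty r).2.2 < (ty r).1 := by
      unfold lowB
      rw [Bool.or_eq_true, Nat.blt_eq, Nat.blt_eq]
    rw [h2]
    refine h1.trans ?_
    have e0 : (jof (⟨r, by omega⟩ : Fin 251)).1 = nth 0 kj r := jof_val _
    rw [jof_tp, jof_tm, e0, (row_spec hr).1]
    rcases (row_spec hr).2 with ⟨h3, h4⟩ | ⟨h3, h4⟩
    · rw [h3, h4]
    · rw [h3, h4]
      exact or_comm
  · intro r hr x hx
    have h1 := flat_orbit (num := fun j : Fin 12 => j.1) O hG (mem_orbit (show r < 251 by omega) hx)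
    have h2 : flatB r = true ↔ (ty r).2.1 = (ty r).1 ∨ (ty r).2.2 = (ty r).1 := by
      unfold flatB
      rw [Bool.or_eq_true, Nat.beq_eq, Nat.beq_eq]
    rw [h2]
    refine h1.trans ?_
    have e0 : (jof (⟨r, by omega⟩ : Fin 251)).1 = nth 0 kj r := jof_val _
    rw [jof_tp, jof_tm, e0, (row_spec hr).1]
    rcases (row_spec hr).2 with ⟨h3, h4⟩ | ⟨h3, h4⟩
    · rw [h3, h4]
    · rw [h3, h4]
      exact or_comm
  · rintro s ⟨k, hk, rfl⟩ hs
    have hT := HT.hT O (j₀ := (0 : Fin 12)) (r₀ := 0) a₀_mem (by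
      intro r h1 h2
      apply Fin.ext
      refine two_spec r.2 (congrArg Fin.val h1) ?_
      rcases h2 with h2 | h2
      · left
        rw [← jof_tp]
        exact congrArg Fin.val h2
      · right
        rw [← jof_tm]
        exact congrArg Fin.val h2) k hk
    rw [d_zero] at hT
    have e : InstData.M.a₀ = TZero.a₀ := TZero.a₀_eq'.symm
    rw [e] at hs ⊢
    have h2 : ∃ k' ∈ InstData.M.C, InstData.M.τ • k • TZero.a₀ = k' • TZero.a₀ ∨
        InstData.M.τ⁻¹ • k • TZero.a₀ = k' • TZero.a₀ := by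
      rcases hs with ⟨k', hk', h3⟩ | ⟨k', hk', h3⟩
      · rw [e] at h3
        exact ⟨k', hk', Or.inl h3⟩
      · rw [e] at h3
        exact ⟨k', hk', Or.inr h3⟩
    obtain ⟨d, hd, h3⟩ := hT h2
    exact ⟨d, hd, h3⟩
  · intro s hs
    exact TZero.tau_mem ConcGrp.tauData hs

end Cfsg.Agent.MonsterU.TabInst
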