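import Cfsg.Agent.MonsterU.Glue

/-!
# The point-line-plane geometry of a group with elements `z, a, b, τ, ξ, y`

`z, a, b` generate an elementary abelian group `V8` of order `8`, `V4 = ⟨z, a⟩`; `τ` acts on `V4` as `z → a → z a`
and commutes with `b`; `ξ` commutes with `z, b`, `a → a b`; `y` commutes with `z, a`, `b → a b`.
`K = C(z)`, `N = N(V4)`, `P = N(V8)`: `geo : Geo K N P`.
-/

set_option autoImplicit false

namespace Cfsg.Agent.MonsterU.PlaneGeo

open Cfsg.Agent.MonsterU.Glue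

/-- The elements of the geometry. -/
structure Plane {Γ : Type*} [Group Γ] (z a b τ ξ y : Γ) : Prop where
  z_ne : z ≠ 1
  z_sq : z * z = 1
  a_sq : a * a = 1
  b_sq : b * b = 1
  za : z * a = a * z
  zb : z * b = b * z
  ab : a * b = b * a
  τ_z : τ * z * τ⁻¹ = a
  τ_a : τ * a * τ⁻¹ = z * a
  τ_b : τ * b * τ⁻¹ = b
  ξ_z : ξ * z * ξ⁻¹ = z
  ξ_a : ξ * a * ξ⁻¹ = a * b
  ξ_b : ξ * b * ξ⁻¹ = b
  y_z : y * z * y⁻¹ = z
  y_a : y * a * y⁻¹ = a
  y_b : y * b * y⁻¹ = a * b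

variable {Γ : Type*} [Group Γ] {z a b τ ξ y : Γ}

/-- `⟨z, a⟩` -/
def V4 (z a : Γ) : Subgroup Γ := Subgroup.closure {z, a}

/-- `⟨z, a, b⟩` -/
def V8 (z a b : Γ) : Subgroup Γ := Subgroup.closure {z, a, b}

/-- the stabiliser of the point -/
def K (z : Γ) : Subgroup Γ := Subgroup.centralizer {z}

/-- the stabiliser of the line -/
def N (z a : Γ) : Subgroup Γ := Subgroup.normalizer (V4 z a : Set Γ)

/-- the stabiliser of the plane -/
def P (z a b : Γ) : Subgroup Γ := Subgroup.normalizer (V8 z a b : Set Γ)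

theorem mem_K {g : Γ} : g ∈ K z ↔ g * z * g⁻¹ = z := by
  unfold K
  rw [Subgroup.mem_centralizer_singleton_iff, mul_inv_eq_iff_eq_mul]

theorem z_mem_V4 : z ∈ V4 z a := Subgroup.subset_closure (by simp)

theorem a_mem_V4 : a ∈ V4 z a := Subgroup.subset_closure (by simp)

theorem z_mem_V8 : z ∈ V8 z a b := Subgroup.subset_closure (by simp)

theorem a_mem_V8 : a ∈ V8 z a b := Subgroup.subset_closure (by simp)

theorem b_mem_V8 : b ∈ V8 z a b := Subgroup.subset_closure (by simp)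

theorem conj_mem_closure {S : Set Γ} {H : Subgroup Γ} {g : Γ} (h : ∀ s ∈ S, g * s * g⁻¹ ∈ H) :
    ∀ x ∈ Subgroup.closure S, g * x * g⁻¹ ∈ H := by
  intro x hx
  induction hx using Subgroup.closure_induction with
  | mem x hx => exact h x hx
  | one => rw [mul_one, mul_inv_cancel]; exact H.one_mem
  | mul x y _ _ hx hy =>
    have e : g * (x * y) * g⁻¹ = (g * x * g⁻¹) * (g * y * g⁻¹) := by group
    rw [e]; exact H.mul_mem hx hy
  | inv x _ hx =>
    have e : g * x⁻¹ * g⁻¹ = (g * x * g⁻¹)⁻¹ := by group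
    rw [e]; exact H.inv_mem hx

theorem mem_V4 (hz : z * z = 1) (ha : a * a = 1) (hza : z * a = a * z) {x : Γ} :
    x ∈ V4 z a ↔ x = 1 ∨ x = z ∨ x = a ∨ x = z * a := by
  constructor
  · intro hx
    unfold V4 at hx
    induction hx using Subgroup.closure_induction with
    | mem x hx =>
      rcases hx with rfl | hx
      · exact Or.inr (Or.inl rfl)
      · rw [Set.mem_singleton_iff] at hx
        exact Or.inr (Or.inr (Or.inl hx))
    | one => exact Or.inl rfl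
    | mul x y _ _ hx hy =>
      have e1 : z * (z * a) = a := by rw [← mul_assoc, hz, one_mul]
      have e2 : z * a * z = a := by rw [hza, mul_assoc, hz, mul_one]
      have e3 : z * a * a = z := by rw [mul_assoc, ha, mul_one]
      have e4 : a * (z * a) = z := by rw [← mul_assoc, ← hza, mul_assoc, ha, mul_one]
      have e5 : z * a * (z * a) = 1 := by rw [← mul_assoc, e2, ha]
      rcases hx with rfl | rfl | rfl | rfl <;> rcases hy with rfl | rfl | rfl | rfl <;>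
        simp [hz, ha, e1, e2, e3, e4, e5, ← hza]
    | inv x _ hx =>
      have i1 : z⁻¹ = z := inv_eq_of_mul_eq_one_right hz
      have i2 : a⁻¹ = a := inv_eq_of_mul_eq_one_right ha
      rcases hx with rfl | rfl | rfl | rfl
      · exact Or.inl inv_one
      · exact Or.inr (Or.inl i1)
      · exact Or.inr (Or.inr (Or.inl i2))
      · refine Or.inr (Or.inr (Or.inr ?_))
        rw [mul_inv_rev, i1, i2, hza]
  · rintro (rfl | rfl | rfl | rfl)
    · exact one_mem _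
    · exact z_mem_V4
    · exact a_mem_V4
    · exact mul_mem z_mem_V4 a_mem_V4

/-- a conjugation mapping generators of a finite group into the group normalises it -/
theorem mem_normalizer_of {S : Set Γ} [Finite (Subgroup.closure S)] {g : Γ}
    (h : ∀ s ∈ S, g * s * g⁻¹ ∈ Subgroup.closure S) : g ∈ Subgroup.normalizer (Subgroup.closure S : Set Γ) := by
  have h1 := conj_mem_closure h
  let f : Subgroup.closure S → Subgroup.closure S := fun x => ⟨g * x.1 * g⁻¹, h1 x.1 x.2⟩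
  have hf : Function.Injective f := by
    intro x y hxy
    have := congrArg Subtype.val hxy
    simp only [f, mul_left_inj, mul_right_inj] at this
    exact Subtype.ext this
  have hs := Finite.surjective_of_injective hf
  rw [Subgroup.mem_normalizer_iff]
  intro x
  refine ⟨h1 x, fun hx => ?_⟩
  obtain ⟨w, hw⟩ := hs ⟨_, hx⟩
  have := congrArg Subtype.val hw
  simp only [f, mul_left_inj, mul_right_inj] at this
  rw [← this]
  exact w.2

namespace Plane

variable (h : Plane z a b τ ξ y)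
include h

theorem finite_V4 : Finite (V4 z a) := by
  have : ((V4 z a : Subgroup Γ) : Set Γ) ⊆ {1, z, a, z * a} := by
    intro x hx
    rcases (mem_V4 h.z_sq h.a_sq h.za).1 hx with h | h | h | h <;> simp [h]
  exact Set.Finite.to_subtype (Set.Finite.subset (Set.toFinite _) this)

theorem conj_b_V4 {x : Γ} (hx : x ∈ V4 z a) : x * b = b * x := by
  rcases (mem_V4 h.z_sq h.a_sq h.za).1 hx with rfl | rfl | rfl | rfl
  · simp
  · exact h.zb
  · exact h.ab
  · rw [mul_assoc, h.ab, ← mul_assoc, h.zb, mul_assoc]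

theorem V4_le_V8 : V4 z a ≤ V8 z a b :=
  Subgroup.closure_mono (by intro x hx; rcases hx with rfl | hx <;> simp_all)

theorem mem_V8 {x : Γ} : x ∈ V8 z a b ↔ ∃ v ∈ V4 z a, x = v ∨ x = v * b := by
  constructor
  · intro hx
    unfold V8 at hx
    induction hx using Subgroup.closure_induction with
    | mem x hx =>
      simp only [Set.mem_insert_iff, Set.mem_singleton_iff] at hx
      rcases hx with rfl | rfl | rfl
      · exact ⟨_, z_mem_V4, Or.inl rfl⟩
      · exact ⟨_, a_mem_V4, Or.inl rfl⟩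
      · exact ⟨1, one_mem _, Or.inr (one_mul _).symm⟩
    | one => exact ⟨1, one_mem _, Or.inl rfl⟩
    | mul x y _ _ hx hy =>
      obtain ⟨v, hv, hx⟩ := hx
      obtain ⟨w, hw, hy⟩ := hy
      refine ⟨v * w, mul_mem hv hw, ?_⟩
      have e := h.conj_b_V4 hw
      rcases hx with rfl | rfl <;> rcases hy with rfl | rfl
      · exact Or.inl rfl
      · exact Or.inr (mul_assoc _ _ _).symm
      · right; rw [mul_assoc, ← e, mul_assoc]
      · left
        calc v * b * (w * b) = v * (b * w) * b := by group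
          _ = v * (w * b) * b := by rw [e]
          _ = v * w * (b * b) := by group
          _ = v * w := by rw [h.b_sq, mul_one]
    | inv x _ hx =>
      obtain ⟨v, hv, hx⟩ := hx
      refine ⟨v⁻¹, inv_mem hv, ?_⟩
      rcases hx with rfl | rfl
      · exact Or.inl rfl
      · right
        rw [mul_inv_rev, inv_eq_of_mul_eq_one_right h.b_sq, h.conj_b_V4 (inv_mem hv)]
  · rintro ⟨v, hv, rfl | rfl⟩
    · exact h.V4_le_V8 hv
    · exact mul_mem (h.V4_le_V8 hv) b_mem_V8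

theorem finite_V8 : Finite (V8 z a b) := by
  have hf := h.finite_V4
  have : ((V8 z a b : Subgroup Γ) : Set Γ) ⊆ ((V4 z a : Subgroup Γ) : Set Γ) ∪
      (fun v => v * b) '' ((V4 z a : Subgroup Γ) : Set Γ) := by
    intro x hx
    obtain ⟨v, hv, rfl | rfl⟩ := h.mem_V8.1 hx
    · exact Or.inl hv
    · exact Or.inr ⟨v, hv, rfl⟩
  exact Set.Finite.to_subtype (Set.Finite.subset
    ((Set.toFinite _).union ((Set.toFinite _).image _)) this)

theorem mem_N_of {g : Γ} (h1 : g * z * g⁻¹ ∈ V4 z a) (h2 : g * a * g⁻¹ ∈ V4 z a) : g ∈ N z a := by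
  have : Finite (Subgroup.closure ({z, a} : Set Γ)) := h.finite_V4
  refine mem_normalizer_of (S := {z, a}) ?_
  intro s hs
  rcases hs with rfl | hs
  · exact h1
  · rw [Set.mem_singleton_iff] at hs
    rw [hs]; exact h2

theorem mem_P_of {g : Γ} (h1 : g * z * g⁻¹ ∈ V8 z a b) (h2 : g * a * g⁻¹ ∈ V8 z a b)
    (h3 : g * b * g⁻¹ ∈ V8 z a b) : g ∈ P z a b := by
  have : Finite (Subgroup.closure ({z, a, b} : Set Γ)) := h.finite_V8
  refine mem_normalizer_of (S := {z, a, b}) ?_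
  intro s hs
  simp only [Set.mem_insert_iff, Set.mem_singleton_iff] at hs
  rcases hs with rfl | rfl | rfl
  · exact h1
  · exact h2
  · exact h3

theorem a_ne : a ≠ 1 := by
  rintro rfl
  have := h.τ_a
  simp at this
  exact h.z_ne this.symm

theorem a_ne_z : a ≠ z := by
  intro e
  have h1 := h.τ_a
  rw [e, h.z_sq] at h1
  apply h.z_ne
  have h2 := h.τ_z
  rw [h1, e] at h2
  exact h2.symm

theorem τ_mem_N : τ ∈ N z a :=
  h.mem_N_of (by rw [h.τ_z]; exact a_mem_V4) (by rw [h.τ_a]; exact mul_mem z_mem_V4 a_mem_V4)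

theorem τ_mem_P : τ ∈ P z a b :=
  h.mem_P_of (by rw [h.τ_z]; exact a_mem_V8) (by rw [h.τ_a]; exact mul_mem z_mem_V8 a_mem_V8)
    (by rw [h.τ_b]; exact b_mem_V8)

theorem ξ_mem_K : ξ ∈ K z := mem_K.2 h.ξ_z

theorem ξ_mem_P : ξ ∈ P z a b :=
  h.mem_P_of (by rw [h.ξ_z]; exact z_mem_V8) (by rw [h.ξ_a]; exact mul_mem a_mem_V8 b_mem_V8)
    (by rw [h.ξ_b]; exact b_mem_V8)

theorem y_mem_K : y ∈ K z := mem_K.2 h.y_z

theorem y_mem_N : y ∈ N z a :=
  h.mem_N_of (by rw [h.y_z]; exact z_mem_V4) (by rw [h.y_a]; exact a_mem_V4)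

theorem y_mem_P : y ∈ P z a b :=
  h.mem_P_of (by rw [h.y_z]; exact z_mem_V8) (by rw [h.y_a]; exact a_mem_V8)
    (by rw [h.y_b]; exact mul_mem a_mem_V8 b_mem_V8)

omit h in
theorem conj_mem_V4 {n x : Γ} (hn : n ∈ N z a) (hx : x ∈ V4 z a) : n * x * n⁻¹ ∈ V4 z a :=
  (Subgroup.mem_normalizer_iff.1 hn x).1 hx

omit h in
theorem conj_mem_V8 {n x : Γ} (hn : n ∈ P z a b) (hx : x ∈ V8 z a b) : n * x * n⁻¹ ∈ V8 z a b :=
  (Subgroup.mem_normalizer_iff.1 hn x).1 hx

/-- the points of the line -/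
theorem point_V4 {v : Γ} (hv : v ∈ V4 z a) (h1 : v ≠ 1) : ∃ n ∈ ({1, τ, τ * τ} : Set Γ), n * z * n⁻¹ = v := by
  have e : (τ * τ) * z * (τ * τ)⁻¹ = z * a := by
    calc (τ * τ) * z * (τ * τ)⁻¹ = τ * (τ * z * τ⁻¹) * τ⁻¹ := by group
      _ = z * a := by rw [h.τ_z, h.τ_a]
  rcases (mem_V4 h.z_sq h.a_sq h.za).1 hv with rfl | rfl | rfl | rfl
  · exact absurd rfl h1
  · exact ⟨1, by simp, by simp⟩
  · exact ⟨τ, by simp, h.τ_z⟩
  · exact ⟨τ * τ, by simp, e⟩

theorem word_mem_N {n : Γ} (hn : n ∈ ({1, τ, τ * τ} : Set Γ)) : n ∈ N z a := by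
  simp only [Set.mem_insert_iff, Set.mem_singleton_iff] at hn
  rcases hn with rfl | rfl | rfl
  · exact one_mem _
  · exact h.τ_mem_N
  · exact mul_mem h.τ_mem_N h.τ_mem_N

theorem word_mem_P {n : Γ} (hn : n ∈ ({1, τ, τ * τ} : Set Γ)) : n ∈ P z a b := by
  simp only [Set.mem_insert_iff, Set.mem_singleton_iff] at hn
  rcases hn with rfl | rfl | rfl
  · exact one_mem _
  · exact h.τ_mem_P
  · exact mul_mem h.τ_mem_P h.τ_mem_P

/-- `N = {1, τ, τ²} D` -/
theorem N_eq {n : Γ} (hn : n ∈ N z a) : ∃ t ∈ ({1, τ, τ * τ} : Set Γ), ∃ d ∈ K z ⊓ N z a, n = t * d := by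
  have h1 : n * z * n⁻¹ ∈ V4 z a := conj_mem_V4 hn z_mem_V4
  have h2 : n * z * n⁻¹ ≠ 1 := by
    intro e
    rw [mul_inv_eq_one, mul_eq_left] at e
    exact h.z_ne e
  obtain ⟨t, ht, e⟩ := h.point_V4 h1 h2
  refine ⟨t, ht, t⁻¹ * n, Subgroup.mem_inf.2 ⟨mem_K.2 ?_, mul_mem (inv_mem (h.word_mem_N ht)) hn⟩, by group⟩
  calc t⁻¹ * n * z * (t⁻¹ * n)⁻¹ = t⁻¹ * (n * z * n⁻¹) * t := by group
    _ = z := by rw [← e]; group

/-- The three lines of the plane through the point. -/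
theorem lines {v : Γ} (hv : v ∈ V8 z a b) (h1 : v ≠ 1) :
    ∃ k ∈ ({1, ξ, y * ξ} : Set Γ), ∃ w ∈ V4 z a, w ≠ 1 ∧ k * w * k⁻¹ = v := by
  obtain ⟨w, hw, rfl | rfl⟩ := h.mem_V8.1 hv
  · exact ⟨1, by simp, v, hw, h1, by simp⟩
  · have za1 : z * a ≠ 1 := by
      intro e
      rw [mul_eq_one_iff_eq_inv, inv_eq_of_mul_eq_one_right h.a_sq] at e
      exact h.a_ne_z e.symm
    have e1 : ξ * (z * a) * ξ⁻¹ = z * (a * b) := by
      calc ξ * (z * a) * ξ⁻¹ = (ξ * z * ξ⁻¹) * (ξ * a * ξ⁻¹) := by group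
        _ = z * (a * b) := by rw [h.ξ_z, h.ξ_a]
    have e2 : y * (a * b) * y⁻¹ = b := by
      calc y * (a * b) * y⁻¹ = (y * a * y⁻¹) * (y * b * y⁻¹) := by group
        _ = a * (a * b) := by rw [h.y_a, h.y_b]
        _ = b := by rw [← mul_assoc, h.a_sq, one_mul]
    have e3 : y * (z * (a * b)) * y⁻¹ = z * b := by
      calc y * (z * (a * b)) * y⁻¹ = (y * z * y⁻¹) * (y * (a * b) * y⁻¹) := by group
        _ = z * b := by rw [h.y_z, e2]
    rcases (mem_V4 h.z_sq h.a_sq h.za).1 hw with rfl | rfl | rfl | rfl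
    · refine ⟨y * ξ, by simp, a, a_mem_V4, h.a_ne, ?_⟩
      calc y * ξ * a * (y * ξ)⁻¹ = y * (ξ * a * ξ⁻¹) * y⁻¹ := by group
        _ = 1 * b := by rw [h.ξ_a, e2, one_mul]
    · refine ⟨y * ξ, by simp, w * a, mul_mem z_mem_V4 a_mem_V4, za1, ?_⟩
      calc y * ξ * (w * a) * (y * ξ)⁻¹ = y * (ξ * (w * a) * ξ⁻¹) * y⁻¹ := by group
        _ = w * b := by rw [e1, e3]
    · exact ⟨ξ, by simp, w, a_mem_V4, h.a_ne, h.ξ_a⟩
    · refine ⟨ξ, by simp, z * a, mul_mem z_mem_V4 a_mem_V4, za1, ?_⟩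
      rw [e1, mul_assoc]

theorem word_mem_KP {k : Γ} (hk : k ∈ ({1, ξ, y * ξ} : Set Γ)) : k ∈ K z ∧ k ∈ P z a b := by
  simp only [Set.mem_insert_iff, Set.mem_singleton_iff] at hk
  rcases hk with rfl | rfl | rfl
  · exact ⟨one_mem _, one_mem _⟩
  · exact ⟨h.ξ_mem_K, h.ξ_mem_P⟩
  · exact ⟨mul_mem h.y_mem_K h.ξ_mem_K, mul_mem h.y_mem_P h.ξ_mem_P⟩

/-- `P = (K ∩ P) (N ∩ P) (K ∩ P)`, explicit -/
theorem P_eq {p : Γ} (hp : p ∈ P z a b) : ∃ k ∈ ({1, ξ, y * ξ} : Set Γ), ∃ n ∈ ({1, τ, τ * τ} : Set Γ),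
    ∃ k' ∈ K z ⊓ P z a b, p = k * n * k' := by
  have h1 : p * z * p⁻¹ ∈ V8 z a b := conj_mem_V8 hp z_mem_V8
  have h2 : p * z * p⁻¹ ≠ 1 := by
    intro e
    rw [mul_inv_eq_one, mul_eq_left] at e
    exact h.z_ne e
  obtain ⟨k, hk, w, hw, hw1, e1⟩ := h.lines h1 h2
  obtain ⟨n, hn, e2⟩ := h.point_V4 hw hw1
  refine ⟨k, hk, n, hn, (k * n)⁻¹ * p, Subgroup.mem_inf.2 ⟨mem_K.2 ?_, ?_⟩, by group⟩
  · calc (k * n)⁻¹ * p * z * ((k * n)⁻¹ * p)⁻¹ = n⁻¹ * (k⁻¹ * (p * z * p⁻¹) * k) * n := by group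
      _ = n⁻¹ * (k⁻¹ * (k * w * k⁻¹) * k) * n := by rw [e1]
      _ = n⁻¹ * (n * z * n⁻¹) * n := by rw [e2]; group
      _ = z := by group
  · exact mul_mem (inv_mem (mul_mem (h.word_mem_KP hk).2 (h.word_mem_P hn))) hp

/-- THE GEOMETRY -/
theorem geo : Geo (K z) (N z a) (P z a b) where
  unique := by
    intro m hm n hn n' hn' hn'K hk
    have := h.finite_V4
    set v := n' * z * n'⁻¹ with hv
    have hvV : v ∈ V4 z a := conj_mem_V4 hn' z_mem_V4
    have hvz : v ≠ z := fun e => hn'K (mem_K.2 e)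
    have hv1 : v ≠ 1 := by
      intro e
      rw [hv, mul_inv_eq_one, mul_eq_left] at e
      exact h.z_ne e
    have hmz := mem_K.1 hm
    have hmv : m * v * m⁻¹ ∈ V4 z a := by
      have e : m * v * m⁻¹ = n * ((n⁻¹ * m * n') * z * (n⁻¹ * m * n')⁻¹) * n⁻¹ := by rw [hv]; group
      rw [e, mem_K.1 hk]
      exact conj_mem_V4 hn z_mem_V4
    have ha : m * a * m⁻¹ ∈ V4 z a := by
      rcases (mem_V4 h.z_sq h.a_sq h.za).1 hvV with e | e | e | e
      · exact absurd e hv1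
      · exact absurd e hvz
      · rwa [e] at hmv
      · have e2 : m * a * m⁻¹ = (m * z * m⁻¹) * (m * v * m⁻¹) := by
          rw [e]
          calc m * a * m⁻¹ = m * ((z * z) * a) * m⁻¹ := by rw [h.z_sq, one_mul]
            _ = _ := by group
        rw [e2, hmz]
        exact mul_mem z_mem_V4 hmv
    exact h.mem_N_of (by rw [hmz]; exact z_mem_V4) ha
  plane := by
    intro p hp
    obtain ⟨k, hk, n, hn, k', hk', e⟩ := h.P_eq hp
    exact ⟨k, (h.word_mem_KP hk).1, (h.word_mem_KP hk).2, n, h.word_mem_N hn, h.word_mem_P hn, k', hk'.1, e⟩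

/-- `K ∩ P` and `N ∩ P` generate `P`. -/
theorem P_gen : Subgroup.closure (((K z ⊓ P z a b : Subgroup Γ) : Set Γ) ∪ ((N z a ⊓ P z a b : Subgroup Γ) : Set Γ)) =
    P z a b := by
  apply le_antisymm
  · rw [Subgroup.closure_le]
    rintro x (hx | hx)
    · exact hx.2
    · exact hx.2
  · intro p hp
    obtain ⟨k, hk, n, hn, k', hk', rfl⟩ := h.P_eq hp
    refine mul_mem (mul_mem ?_ ?_) ?_
    · exact Subgroup.subset_closure (Or.inl ⟨(h.word_mem_KP hk).1, (h.word_mem_KP hk).2⟩)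
    · exact Subgroup.subset_closure (Or.inr ⟨h.word_mem_N hn, h.word_mem_P hn⟩)
    · exact Subgroup.subset_closure (Or.inl hk')

/-- If the centraliser of `z` and `τ` generate, so do `K` and `N`. -/
theorem gen (hg : Subgroup.closure ((K z : Set Γ) ∪ {τ}) = ⊤) :
    Subgroup.closure ((K z : Set Γ) ∪ (N z a : Set Γ)) = ⊤ := by
  rw [eq_top_iff, ← hg]
  refine Subgroup.closure_mono ?_
  rintro x (hx | hx)
  · exact Or.inl hx
  · rw [Set.mem_singleton_iff.1 hx]
    exact Or.inr h.τ_mem_N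

end Plane

end Cfsg.Agent.MonsterU.PlaneGeo
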