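import Cfsg.Agent.MonsterX.CertTab
import Cfsg.Agent.MonsterX.CertV

/-!
# Level 3 of (F): exact vector identities (data `blueprints/R19/helper959/L3.txt`)

`ax` = base axis, `ax2 = vv a2w` the axis `a'` of `x_02`; class `t`: `K`-type `jt t`, `ct t = vv (ch t)` the third axis,
`ch t = bw (jt t) ++ hw t`.

* generators `gw`: `(t, word)`, each fixes `ax`, `ax2` and `ct t`, monomial or `n ξ n'`;
* rows `row i = (t, k, r, n')`: `k_i` fixes `ax` and `ax2`, `k_i (ct t) = n' v_r`, `n'` monomial; the rows of the class `t` are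
  `first t ≤ i < first (t + 1)`;
* `zrow`: `τ⁻¹ (ct 0) = W [1] ax` (the partner of the base axis).

Generated; all checks are kernel computations.
-/

set_option autoImplicit false
set_option Elab.async false
set_option maxRecDepth 100000

namespace Cfsg.Agent.MonsterU.VecThree

open Cfsg.Agent.MonsterX.CertVec Cfsg.Agent.MonsterX.CertBase Cfsg.Agent.MonsterX.CertB
open Cfsg.Agent.MonsterX.CertTab Cfsg.Agent.MonsterX.CertV Cfsg.Agent.MonsterX Cfsg.Agent.MonsterX.Space

/-- The `K`-types of the classes. -/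
noncomputable def jT : List ℕ := [0, 1, 2, 5]

/-- The words `h`. -/
noncomputable def hT : List (List ℕ) :=
  [[26], [25, 39, 43, 36, 37, 36, 36, 37, 27], [42, 42, 1, 36, 36, 37, 36, 37, 36, 37, 42], [42, 37, 42, 38, 42,
  25, 37, 38, 42, 37, 36, 36, 38, 12, 26]]

/-- The word `kA` with `kA a₀ = a₀`, `kA (W [37] a₀) = a'`. -/
noncomputable def kA : List ℕ :=
  [42, 43, 38, 36, 36, 37, 42, 43, 42, 42, 42, 38, 36, 36, 37, 37, 23, 22, 21, 20, 18, 17, 16, 14]

/-- The word of `a'`. -/
noncomputable def a2w : List ℕ := [37] ++ kA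

/-- The axis `a'`. -/
noncomputable def ax2 : V := vv a2w

/-- The `K`-type of the class `t`. -/
noncomputable def jt (t : ℕ) : ℕ := nth 0 jT t

/-- The word `h` of the class `t`. -/
noncomputable def hw (t : ℕ) : List ℕ := nth [] hT t

/-- The word of `ct t`. -/
noncomputable def ch (t : ℕ) : List ℕ := bw (jt t) ++ hw t

/-- The third axis of the class `t`. -/
noncomputable def ct (t : ℕ) : V := vv (ch t)

/-- The generators. -/
noncomputable def gw : List (ℕ × List ℕ) :=
  [(0, [37, 36, 37, 36, 37, 36, 30, 23, 22, 20, 17, 16, 11, 10, 7, 5, 0, 0, 24]), (0, [37, 38, 42, 37, 36, 43, 43,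
  36, 38, 33, 28, 20, 19, 16, 15, 10, 9, 8, 5, 3, 2, 1]), (1, [36, 39, 43, 42, 37, 37, 36, 36, 36, 37, 32, 30, 29,
  28, 22, 18, 14, 13, 12, 11, 10, 9, 8, 6, 4, 0, 0, 24]), (1, [34, 31, 30, 23, 21, 19, 17, 15, 14, 11, 9, 8, 4, 3,
  2, 1, 0]), (2, [36, 43, 42, 37, 37, 36, 36, 36, 37, 35, 32, 23, 19, 15, 14, 10, 9, 8, 5, 4, 0, 0, 24]), (2, [43,
  36, 37, 38, 36, 43, 42, 43, 38, 42, 32, 20, 19, 15, 9, 8, 7, 6, 5, 3, 2, 1, 0, 24]), (3, [36, 25, 39, 43, 43, 36,
  37, 42, 43, 42, 42, 42, 42, 32, 29, 28, 27, 26, 25, 22, 19, 16, 13, 11, 10, 9, 7, 0, 24]), (3, [35, 33, 30, 29,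
  20, 19, 15, 13, 11, 9, 6, 5, 0, 24])]

/-- The rows `(t, k, r, n')`. -/
noncomputable def rows : List (ℕ × List ℕ × ℕ × List ℕ) :=
  [(0, [], 0, [26]), (0, [39], 0, [36, 36, 28]), (0, [39, 36, 39, 42], 1, [28, 26]), (0, [25, 39, 37, 37, 42, 39,
  43, 43, 25, 39, 26], 2, [43, 42, 37, 37, 36, 36, 36, 36, 43, 38, 36, 43, 36, 36, 36, 34, 33, 32, 28, 26, 25, 17,
  14, 0]), (1, [], 3, [37, 38, 36, 37, 38, 42, 42, 43, 38, 42, 37, 36, 36, 36, 37, 36, 37, 23, 22, 18, 17, 14, 12,
  6, 2]), (1, [39], 5, [11, 3]), (2, [], 8, [43, 42, 37, 37, 36, 36, 36, 36, 43, 38, 36, 43, 36, 36, 36, 17, 14, 8,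
  5, 2, 1]), (2, [39], 9, [28, 27, 22, 11, 10, 9, 6, 2, 1]), (2, [39, 36, 39, 42], 10, [10, 9, 8, 7, 6, 2, 1, 0,
  24]), (2, [25, 39, 37, 37, 42, 39, 43, 43, 25, 39, 26], 14, [36, 43, 42, 43, 43, 36, 37, 36, 37, 37, 38, 36, 36,
  37, 38, 42, 35, 33, 31, 30, 29, 28, 25, 23, 20, 19, 17, 13, 11, 10, 7, 6, 5, 3]), (3, [], 47, [36, 43, 43, 42,
  43, 42, 38, 36, 36, 36, 38, 42, 43, 42, 43, 36, 36, 27, 19, 16, 13, 12, 11, 10, 9, 8, 7, 6, 3, 2, 0, 24])]

/-- The class of the generator `i`. -/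
noncomputable def gt (i : ℕ) : ℕ := (nth (0, []) gw i).1

/-- The word of the generator `i`. -/
noncomputable def gg (i : ℕ) : List ℕ := (nth (0, []) gw i).2

/-- The row `i`. -/
noncomputable def row (i : ℕ) : ℕ × List ℕ × ℕ × List ℕ := nth (0, [], 0, []) rows i

/-- class -/
noncomputable def rt (i : ℕ) : ℕ := (row i).1
/-- `k` -/
noncomputable def rk (i : ℕ) : List ℕ := (row i).2.1
/-- `r` -/
noncomputable def rr (i : ℕ) : ℕ := (row i).2.2.1
/-- `n'` -/
noncomputable def rd (i : ℕ) : List ℕ := (row i).2.2.2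

/-- The check of a generator. -/
noncomputable def genOK (i : ℕ) : Bool :=
  and (ident (ch (gt i) ++ gg i) (ch (gt i))) (and (ident (gg i) []) (ident (a2w ++ gg i) a2w))

/-- The check of a row. -/
noncomputable def rowOK (i : ℕ) : Bool :=
  and (ident (a2w ++ rk i) a2w) (and (ident (rk i) []) (ident (ch (rt i) ++ rk i) (vw (rr i) ++ rd i)))

theorem gen_0 : genOK 0 = true := by decide +kernel

theorem gen_1 : genOK 1 = true := by decide +kernel

theorem gen_2 : genOK 2 = true := by decide +kernel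

theorem gen_3 : genOK 3 = true := by decide +kernel

theorem gen_4 : genOK 4 = true := by decide +kernel

theorem gen_5 : genOK 5 = true := by decide +kernel

theorem gen_6 : genOK 6 = true := by decide +kernel

theorem gen_7 : genOK 7 = true := by decide +kernel

theorem row_0 : rowOK 0 = true := by decide +kernel

theorem row_1 : rowOK 1 = true := by decide +kernel

theorem row_2 : rowOK 2 = true := by decide +kernel

theorem row_3 : rowOK 3 = true := by decide +kernel

theorem row_4 : rowOK 4 = true := by decide +kernel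

theorem row_5 : rowOK 5 = true := by decide +kernel

theorem row_6 : rowOK 6 = true := by decide +kernel

theorem row_7 : rowOK 7 = true := by decide +kernel

theorem row_8 : rowOK 8 = true := by decide +kernel

theorem row_9 : rowOK 9 = true := by decide +kernel

theorem row_10 : rowOK 10 = true := by decide +kernel

theorem gen_all : ∀ i, i < 8 → genOK i = true
  | 0, _ => gen_0
  | 1, _ => gen_1
  | 2, _ => gen_2
  | 3, _ => gen_3
  | 4, _ => gen_4
  | 5, _ => gen_5
  | 6, _ => gen_6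
  | 7, _ => gen_7
  | k + 8, h => absurd h (by omega)

theorem row_all : ∀ i, i < 11 → rowOK i = true
  | 0, _ => row_0
  | 1, _ => row_1
  | 2, _ => row_2
  | 3, _ => row_3
  | 4, _ => row_4
  | 5, _ => row_5
  | 6, _ => row_6
  | 7, _ => row_7
  | 8, _ => row_8
  | 9, _ => row_9
  | 10, _ => row_10
  | k + 11, h => absurd h (by omega)

/-- The first rows of the classes. -/
noncomputable def base : List ℕ := [0, 4, 6, 10]

/-- The rows of the class `t` are `first t ≤ i < first (t + 1)`. -/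
noncomputable def first (t : ℕ) : ℕ := nth 11 base t

theorem base_k : ∀ t, t < 4 → rk (first t) = [] := by decide +kernel

theorem rt_iff : ∀ i, i < 11 → ∀ t, t < 4 → (rt i = t ↔ first t ≤ i ∧ i < first (t + 1)) := by decide +kernel

theorem monoN : ∀ i, i < 11 → allL isD (rd i) = true := by decide +kernel

/-! ### In `V` -/

theorem fix_of {w v : List ℕ} (h : ident (w ++ v) w = true) : Conc.W v (vv w) = vv w := by
  have h1 := vv_eq_of_ident h
  rwa [vv_append] at h1

/-- The generators fix the three axes. -/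
theorem gen_fix {i : ℕ} (hi : i < 8) :
    Conc.W (gg i) (ct (gt i)) = ct (gt i) ∧ Conc.W (gg i) ax = ax ∧ Conc.W (gg i) ax2 = ax2 := by
  have h := gen_all i hi
  unfold genOK at h
  have h' : (ident (ch (gt i) ++ gg i) (ch (gt i)) && (ident (gg i) [] && ident (a2w ++ gg i) a2w)) = true := h
  rw [Bool.and_eq_true, Bool.and_eq_true] at h'
  refine ⟨fix_of h'.1, ?_, fix_of h'.2.2⟩
  have h1 := vv_eq_of_ident h'.2.1
  rw [vv_nil] at h1
  exact h1

theorem row_spec {i : ℕ} (hi : i < 11) :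
    Conc.W (rk i) ax = ax ∧ Conc.W (rk i) ax2 = ax2 ∧
      Conc.W (rk i) (ct (rt i)) = Conc.W (rd i) (vv (vw (rr i))) := by
  have h := row_all i hi
  unfold rowOK at h
  have h' : (ident (a2w ++ rk i) a2w && (ident (rk i) [] && ident (ch (rt i) ++ rk i) (vw (rr i) ++ rd i))) = true := h
  rw [Bool.and_eq_true, Bool.and_eq_true] at h'
  refine ⟨?_, fix_of h'.1, ?_⟩
  · have h1 := vv_eq_of_ident h'.2.1
    rw [vv_nil] at h1
    exact h1
  · have h1 := vv_eq_of_ident h'.2.2
    rw [vv_append, vv_append] at h1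
    exact h1

/-- `k_i` fixes the base axis. -/
theorem k_fix {i : ℕ} (hi : i < 11) : Conc.W (rk i) ax = ax := (row_spec hi).1

/-- `k_i` fixes `a'`. -/
theorem k_fix2 {i : ℕ} (hi : i < 11) : Conc.W (rk i) ax2 = ax2 := (row_spec hi).2.1

/-- `k_i (ct t) = n' v_r`. -/
theorem k_ct {i : ℕ} (hi : i < 11) : Conc.W (rk i) (ct (rt i)) = Conc.W (rd i) (vv (vw (rr i))) := (row_spec hi).2.2

theorem ct_eq {t : ℕ} : ct t = Conc.W (hw t) (vv (bw (jt t))) := by
  unfold ct ch
  rw [vv_append]

/-- `τ⁻¹` maps the third axis of the class 2A to the partner of the base axis. -/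
theorem zrow : Conc.W [41] (ct 0) = vv [1] := by
  have h : ident (ch 0 ++ [41]) [1] = true := by decide +kernel
  have h1 := vv_eq_of_ident h
  rwa [vv_append] at h1

/-- `ξ` and `τ` fix `a'`, `τ` and `ξ` fix the base axis. -/
theorem fix_letters : Conc.W [39] ax2 = ax2 ∧ Conc.W [40] ax2 = ax2 ∧ Conc.W [39] ax = ax ∧ Conc.W [40] ax = ax := by
  have h1 : ident (a2w ++ [39]) a2w = true := by decide +kernel
  have h2 : ident (a2w ++ [40]) a2w = true := by decide +kernel
  have h3 : ident [39] [] = true := by decide +kernel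
  have h4 : ident [40] [] = true := by decide +kernel
  have e3 := vv_eq_of_ident h3
  have e4 := vv_eq_of_ident h4
  rw [vv_nil] at e3 e4
  exact ⟨fix_of h1, fix_of h2, e3, e4⟩

/-- `kA` fixes the base axis. -/
theorem kA_fix : Conc.W kA ax = ax := by
  have h : ident kA [] = true := by decide +kernel
  have h1 := vv_eq_of_ident h
  rw [vv_nil] at h1
  exact h1

/-- `kA (W [37] a₀) = a'`. -/
theorem kA_37 : Conc.W kA (vv [37]) = ax2 := by
  unfold ax2 a2w
  rw [vv_append]

/-- `W [37, 1] a₀ = W [37] a₀`. -/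
theorem vv_37_1 : vv [37, 1] = vv [37] := vv_eq_of_ident (by decide +kernel)

/-! Rows for the lines (numbers of rows; `H` = numbers of the generators of the class):

* low 7 6 | [] | []
* flat 1 0 | [] | []
* flat 8 7 | [] | [0, 1]

`low i p`: the line of `ξ n k_p` is that of `k_i`; `flat i s`: the line of `ξ n k_i` is that of `k_s`, `s` lowering. -/

end Cfsg.Agent.MonsterU.VecThree
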