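import Cfsg.Agent.MonsterU.LevelTwo
import Cfsg.Agent.MonsterU.VecThree
import Cfsg.Agent.MonsterX.ProgEqT

/-!
# Level 3 of (F): the local hypotheses for the triples `(s, s', x)`

`s, s' ∈ S`, `F s s' = 1`, `x ∈ X`, `F s x = 0`, `F s' x = 1`.  The height is `0` if `x = σ s`, otherwise the number of
the `C`-orbit of `x` plus `1`.

`cert` : from `Tab` (facts on the lines of axes), the coverage `hcov` of the triples, the values `Vals`, and the
factorisation `hfac` (`FactorThree.factor`).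
-/

set_option autoImplicit false
set_option maxRecDepth 100000

namespace Cfsg.Agent.MonsterU.LevelThree

open Cfsg.Agent.MonsterX Cfsg.Agent.MonsterX.Space Cfsg.Agent.MonsterX.Conc Cfsg.Agent.MonsterX.Model
open Cfsg.Agent.MonsterX.InstData Cfsg.Agent.MonsterX.CertVec Cfsg.Agent.MonsterX.CertTab
open Cfsg.Agent.MonsterX.CertV Cfsg.Agent.MonsterX.CertBase Cfsg.Agent.MonsterX.CertB
open Cfsg.Agent.MonsterU.Local Cfsg.Agent.MonsterU.Types Cfsg.Agent.MonsterU.LineTab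
open Cfsg.Agent.MonsterU.VecThree Cfsg.Agent.MonsterU.RowGlue Cfsg.Agent.MonsterP Cfsg.Agent.MonsterU.LevelsInst
open Cfsg.Agent.MonsterU.LevelTwo (W_mem_N' W_mem_C' splitOK gen_path F_C tau_ax tauInv_ax F_tau F_tauInv ax_mem_S
  isCl)

open Classical in
/-- The height of a triple. -/
noncomputable def h₃ (w : V × V × V) : ℕ := if w.2.2 = InstData.M.σ w.1 then 0 else hh w.2.2 + 1

/-- `σ` commutes with `C`. -/
def SigComm : Prop := ∀ g ∈ C, ∀ x : V, InstData.M.σ (g x) = g (InstData.M.σ x)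

/-- The partner of the base axis. -/
noncomputable def a1 : V := vv [1]

/-- `σ a₀ = a₁`. -/
def SigBase : Prop := InstData.M.σ ax = a1

theorem h₃_of_ne {w : V × V × V} (h : w.2.2 ≠ InstData.M.σ w.1) : h₃ w = hh w.2.2 + 1 := by
  unfold h₃
  exact if_neg h

theorem h₃_of_eq {w : V × V × V} (h : w.2.2 = InstData.M.σ w.1) : h₃ w = 0 := by
  unfold h₃
  exact if_pos h

variable {N' : Subgroup (V ≃ₗ[ℚ] V)} (T : Tab N')

theorem tau_ax2 : τ ax2 = ax2 := by
  have h := fix_letters.2.1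
  rw [Conc.W_single] at h
  exact h

theorem tauInv_ax2 : τ⁻¹ ax2 = ax2 := by
  have h := congrArg (fun x => τ⁻¹ x) tau_ax2
  have h2 : τ⁻¹ (τ ax2) = ax2 := τ.symm_apply_apply ax2
  exact h.symm.trans h2

theorem ax2_mem : ∃ g ∈ N, ax2 = g ax := ⟨W a2w, W_mem_N' (by decide +kernel), rfl⟩

theorem ax2_mem_S : ax2 ∈ InstData.M.S := by
  obtain ⟨g, hg, e⟩ := ax2_mem
  rw [e]
  exact S_smul (M := InstData.M) (N_le_C hg) ax_mem_S

theorem ax_eq_T : TZero.a₀ = ax := by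
  have h : vecV CertBase.a0 = vecV (up 8 a0B) := vecV_congr (by decide +kernel)
  unfold ax TZero.a₀
  rw [h, vecV_up, smul_smul]
  norm_num

/-- The letter `41` is `τ⁻¹`. -/
theorem ProgM_E41 : E 41 = τ⁻¹ := by
  have h : W [40, 41] = 1 := by
    apply LinearEquiv.ext
    intro v
    apply Subtype.ext
    rw [W_coe, show ((1 : V ≃ₗ[ℚ] V) v) = v from rfl]
    exact ProgEqT.tau_tauInv v.1 v.2
  rw [Conc.W_cons, Conc.W_single] at h
  exact eq_inv_of_mul_eq_one_left h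

include T

theorem inv₃ (hσ : SigComm) : Inv C (P₃ InstData.M) h₃ where
  P_smul := by
    rintro k hk ⟨s, s', x⟩ ⟨hs, hs', hss, hx, h1, h2⟩
    exact ⟨S_smul hk hs, S_smul hk hs', (F_C hk s s').trans hss, X_smul hk hx, (F_C hk s x).trans h1,
      (F_C hk s' x).trans h2⟩
  h_smul := by
    rintro k hk ⟨s, s', x⟩
    by_cases h : x = InstData.M.σ s
    · rw [h₃_of_eq (w := (s, s', x)) h]
      refine h₃_of_eq ?_
      show k x = InstData.M.σ (k s)
      rw [h, hσ k hk]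
    · rw [h₃_of_ne (w := (s, s', x)) h, h₃_of_ne]
      · exact congrArg (· + 1) (hgt_smul T.disj hk x)
      · show k x ≠ InstData.M.σ (k s)
        rw [hσ k hk]
        exact fun e => h (k.injective e)

/-! ### Lines of the triples `(a₀, a', y)` -/

theorem P_tau {y : V} (h : P₃ InstData.M ((ax, ax2, y) : V × V × V)) :
    P₃ InstData.M (τ • ((ax, ax2, y) : V × V × V)) ∧ P₃ InstData.M (τ⁻¹ • ((ax, ax2, y) : V × V × V)) := by
  obtain ⟨hs, hs', hss, hy, h1, h2⟩ := h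
  have hy' := T.tau y hy
  have e1 : τ • ((ax, ax2, y) : V × V × V) = (ax, ax2, τ y) :=
    Prod.ext tau_ax (Prod.ext tau_ax2 rfl)
  have e2 : τ⁻¹ • ((ax, ax2, y) : V × V × V) = (ax, ax2, τ⁻¹ y) :=
    Prod.ext tauInv_ax (Prod.ext tauInv_ax2 rfl)
  rw [e1, e2]
  refine ⟨⟨hs, hs', hss, hy'.1, ?_, ?_⟩, ⟨hs, hs', hss, hy'.2, ?_, ?_⟩⟩
  · have := F_tau ax y
    rw [tau_ax] at this
    exact this.trans h1
  · have := F_tau ax2 y
    rw [tau_ax2] at this
    exact this.trans h2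
  · have := F_tauInv ax y
    rw [tauInv_ax] at this
    exact this.trans h1
  · have := F_tauInv ax2 y
    rw [tauInv_ax2] at this
    exact this.trans h2

omit T in
/-- The height of the image under `τ^±1`. -/
theorem h_tau {n : V ≃ₗ[ℚ] V} (hn : n = τ ∨ n = τ⁻¹) (hb : SigBase) (h0 : hh a1 = 0) {y : V} :
    h₃ (n • ((ax, ax2, y) : V × V × V)) = hh (n y) + 1 ∨
      (n y = a1 ∧ hh (n y) = 0 ∧ h₃ (n • ((ax, ax2, y) : V × V × V)) = 0) := by
  have hax : n ax = ax := by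
    rcases hn with rfl | rfl
    · exact tau_ax
    · exact tauInv_ax
  by_cases e : n y = a1
  · right
    refine ⟨e, by rw [e]; exact h0, h₃_of_eq ?_⟩
    show n y = InstData.M.σ (n ax)
    rw [hax, e]
    exact hb.symm
  · left
    refine h₃_of_ne ?_
    show n y ≠ InstData.M.σ (n ax)
    rw [hax]
    intro h
    exact e (h.trans hb)

omit T in
theorem h_self (hb : SigBase) {y : V} (h : y ≠ a1) : h₃ ((ax, ax2, y) : V × V × V) = hh y + 1 := by
  refine h₃_of_ne ?_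
  show y ≠ InstData.M.σ ax
  intro e
  exact h (e.trans hb)

/-- Lowering lines, positive height of the axis. -/
theorem lo_iff (hb : SigBase) (h0 : hh a1 = 0) {y : V} (h : P₃ InstData.M ((ax, ax2, y) : V × V × V))
    (hpos : 0 < hh y) :
    Lo τ (P₃ InstData.M) h₃ ((ax, ax2, y) : V × V × V) ↔ Lo τ (fun x => x ∈ InstData.M.X) hh y := by
  have h1 := P_tau T h
  have h2 := T.tau y h.2.2.2.1
  have hne : y ≠ a1 := by rintro rfl; rw [h0] at hpos; exact absurd hpos (lt_irrefl 0)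
  have h3 := h_self hb hne
  constructor
  · rintro (⟨_, h4⟩ | ⟨_, h4⟩)
    · left
      refine ⟨h2.1, ?_⟩
      show hh (τ y) < hh y
      rcases h_tau (Or.inl rfl) hb h0 (y := y) with h5 | ⟨_, h5, _⟩
      · omega
      · omega
    · right
      refine ⟨h2.2, ?_⟩
      show hh (τ⁻¹ y) < hh y
      rcases h_tau (Or.inr rfl) hb h0 (y := y) with h5 | ⟨_, h5, _⟩
      · omega
      · omega
  · rintro (⟨_, h4⟩ | ⟨_, h4⟩)
    · left
      refine ⟨h1.1, ?_⟩
      have h4' : hh (τ y) < hh y := h4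
      rcases h_tau (Or.inl rfl) hb h0 (y := y) with h5 | ⟨_, _, h5⟩
      · omega
      · omega
    · right
      refine ⟨h1.2, ?_⟩
      have h4' : hh (τ⁻¹ y) < hh y := h4
      rcases h_tau (Or.inr rfl) hb h0 (y := y) with h5 | ⟨_, _, h5⟩
      · omega
      · omega

/-- Flat lines, positive height of the axis. -/
theorem flat_iff (hb : SigBase) (h0 : hh a1 = 0) {y : V} (h : P₃ InstData.M ((ax, ax2, y) : V × V × V))
    (hpos : 0 < hh y) :
    Flat τ (P₃ InstData.M) h₃ ((ax, ax2, y) : V × V × V) ↔ Flat τ (fun x => x ∈ InstData.M.X) hh y := by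
  have h1 := P_tau T h
  have h2 := T.tau y h.2.2.2.1
  have hne : y ≠ a1 := by rintro rfl; rw [h0] at hpos; exact absurd hpos (lt_irrefl 0)
  have h3 := h_self hb hne
  constructor
  · rintro (⟨_, h4⟩ | ⟨_, h4⟩)
    · left
      refine ⟨h2.1, ?_⟩
      show hh (τ y) = hh y
      rcases h_tau (Or.inl rfl) hb h0 (y := y) with h5 | ⟨_, _, h5⟩
      · omega
      · omega
    · right
      refine ⟨h2.2, ?_⟩
      show hh (τ⁻¹ y) = hh y
      rcases h_tau (Or.inr rfl) hb h0 (y := y) with h5 | ⟨_, _, h5⟩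
      · omega
      · omega
  · rintro (⟨_, h4⟩ | ⟨_, h4⟩)
    · left
      refine ⟨h1.1, ?_⟩
      have h4' : hh (τ y) = hh y := h4
      rcases h_tau (Or.inl rfl) hb h0 (y := y) with h5 | ⟨_, h6, h5⟩
      · omega
      · omega
    · right
      refine ⟨h1.2, ?_⟩
      have h4' : hh (τ⁻¹ y) = hh y := h4
      rcases h_tau (Or.inr rfl) hb h0 (y := y) with h5 | ⟨_, h6, h5⟩
      · omega
      · omega

/-- Height `0` of the axis: lowering or flat lines are flat for the axis. -/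
theorem flat_of_zero (hb : SigBase) (h0 : hh a1 = 0) {y : V} (h : P₃ InstData.M ((ax, ax2, y) : V × V × V))
    (hne : y ≠ a1) (hz : hh y = 0)
    (hl : Lo τ (P₃ InstData.M) h₃ ((ax, ax2, y) : V × V × V) ∨
      Flat τ (P₃ InstData.M) h₃ ((ax, ax2, y) : V × V × V)) :
    Flat τ (fun x => x ∈ InstData.M.X) hh y := by
  have h2 := T.tau y h.2.2.2.1
  have h3 := h_self hb hne
  rcases hl with (⟨_, h4⟩ | ⟨_, h4⟩) | (⟨_, h4⟩ | ⟨_, h4⟩)
  · left
    refine ⟨h2.1, ?_⟩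
    show hh (τ y) = hh y
    rcases h_tau (Or.inl rfl) hb h0 (y := y) with h5 | ⟨_, h6, h5⟩
    · omega
    · omega
  · right
    refine ⟨h2.2, ?_⟩
    show hh (τ⁻¹ y) = hh y
    rcases h_tau (Or.inr rfl) hb h0 (y := y) with h5 | ⟨_, h6, h5⟩
    · omega
    · omega
  · left
    refine ⟨h2.1, ?_⟩
    show hh (τ y) = hh y
    rcases h_tau (Or.inl rfl) hb h0 (y := y) with h5 | ⟨_, h6, h5⟩
    · omega
    · omega
  · right
    refine ⟨h2.2, ?_⟩
    show hh (τ⁻¹ y) = hh y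
    rcases h_tau (Or.inr rfl) hb h0 (y := y) with h5 | ⟨_, h6, h5⟩
    · omega
    · omega

/-! ### The rows -/

omit T in
theorem rr_lt : ∀ m, m < 11 → rr m < 57 := by decide +kernel

omit T in
theorem rt_lt : ∀ m, m < 11 → rt m < 4 := by decide +kernel

/-- The third vector of the row `m`. -/
noncomputable def ym (m : ℕ) : V := W (rd m) (vv (vw (rr m)))

omit T in
theorem ym_mem {m : ℕ} (hm : m < 11) : ym m ∈ MulAction.orbit N (vv (vw (rr m))) :=
  ⟨⟨_, W_mem_N' (monoN m hm)⟩, rfl⟩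

omit T in
theorem row_smul {m : ℕ} (hm : m < 11) : W (rk m) • ((ax, ax2, ct (rt m)) : V × V × V) = (ax, ax2, ym m) :=
  Prod.ext (k_fix hm) (Prod.ext (k_fix2 hm) (k_ct hm))

/-- The values of `F`. -/
structure Vals : Prop where
  F_ax : InstData.M.F ax ax2 = 1
  F_ct : ∀ t, t < 4 → InstData.M.F ax (ct t) = 0 ∧ InstData.M.F ax2 (ct t) = 1
  ne : ct 0 ≠ a1

omit T in
theorem rk_ok : ∀ m, m < 11 → allL isCl (rk m) = true := by decide +kernel

omit T in
theorem W_rk_mem {m : ℕ} (hm : m < 11) : W (rk m) ∈ C := W_mem_C' (rk_ok m hm)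

theorem P_row (hF : Vals) {m : ℕ} (hm : m < 11) : P₃ InstData.M ((ax, ax2, ym m) : V × V × V) := by
  have e : ym m = W (rk m) (ct (rt m)) := (k_ct hm).symm
  have h1 := F_C (W_rk_mem hm) ax (ct (rt m))
  have h2 := F_C (W_rk_mem hm) ax2 (ct (rt m))
  rw [k_fix hm, ← e] at h1
  rw [k_fix2 hm, ← e] at h2
  exact ⟨ax_mem_S, ax2_mem_S, hF.F_ax, T.mem _ (rr_lt m hm) _ (ym_mem hm),
    h1.trans (hF.F_ct _ (rt_lt m hm)).1, h2.trans (hF.F_ct _ (rt_lt m hm)).2⟩

theorem hh_row {m : ℕ} (hm : m < 11) : hh (ym m) = (ty (rr m)).1 := T.hgt _ (rr_lt m hm) _ (ym_mem hm)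

theorem lo_row (hb : SigBase) (h0 : hh a1 = 0) (hF : Vals) {m : ℕ} (hm : m < 11) (hpos : 0 < (ty (rr m)).1) :
    Lo τ (P₃ InstData.M) h₃ (W (rk m) • ((ax, ax2, ct (rt m)) : V × V × V)) ↔ lowB (rr m) = true := by
  rw [row_smul hm, lo_iff T hb h0 (P_row T hF hm) (by rw [hh_row T hm]; exact hpos)]
  exact T.lo _ (rr_lt m hm) _ (ym_mem hm)

theorem flat_row (hb : SigBase) (h0 : hh a1 = 0) (hF : Vals) {m : ℕ} (hm : m < 11) (hpos : 0 < (ty (rr m)).1) :
    Flat τ (P₃ InstData.M) h₃ (W (rk m) • ((ax, ax2, ct (rt m)) : V × V × V)) ↔ flatB (rr m) = true := by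
  rw [row_smul hm, flat_iff T hb h0 (P_row T hF hm) (by rw [hh_row T hm]; exact hpos)]
  exact T.flat _ (rr_lt m hm) _ (ym_mem hm)

/-! ### The classes -/

omit T in
theorem base_list : ∀ m, m < 11 → m ∈ base → rk m = [] := by decide +kernel

omit T in
theorem first_base : ∀ t, t < 4 → first t < 11 ∧ rk (first t) = [] ∧ rt (first t) = t := by decide +kernel

omit T in
theorem b_eq {t : ℕ} (ht : t < 4) : ((ax, ax2, ct t) : V × V × V) = (ax, ax2, ym (first t)) := by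
  have h := row_smul (first_base t ht).1
  rw [(first_base t ht).2.1, Conc.W_nil, one_smul, (first_base t ht).2.2] at h
  exact h

theorem P_b (hF : Vals) {t : ℕ} (ht : t < 4) : P₃ InstData.M ((ax, ax2, ct t) : V × V × V) := by
  rw [b_eq ht]
  exact P_row T hF (first_base t ht).1

omit T in
theorem pos_first : ∀ t, t < 4 → t ≠ 0 → 0 < (ty (rr (first t))).1 ∧ lowB (rr (first t)) = true := by
  decide +kernel

theorem hh_ct {t : ℕ} (ht : t < 4) : hh (ct t) = (ty (rr (first t))).1 := by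
  have h := congrArg (fun w : V × V × V => w.2.2) (b_eq ht)
  have h' : ct t = ym (first t) := h
  rw [h', hh_row T (first_base t ht).1]

theorem ct_ne (h0 : hh a1 = 0) (hF : Vals) {t : ℕ} (ht : t < 4) : ct t ≠ a1 := by
  by_cases h : t = 0
  · subst h
    exact hF.ne
  · intro e
    have h1 := (pos_first t ht h).1
    rw [← hh_ct T ht, e, h0] at h1
    exact absurd h1 (lt_irrefl 0)

theorem pos_b (hb : SigBase) (h0 : hh a1 = 0) (hF : Vals) {t : ℕ} (ht : t < 4) :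
    0 < h₃ ((ax, ax2, ct t) : V × V × V) := by
  rw [h_self hb (ct_ne T h0 hF ht)]
  exact Nat.succ_pos _

omit T in
theorem tauInv_ct0 : τ⁻¹ (ct 0) = a1 := by
  have h := zrow
  rw [Conc.W_single, ProgM_E41] at h
  exact h

theorem lo_b (hb : SigBase) (h0 : hh a1 = 0) (hF : Vals) {t : ℕ} (ht : t < 4) :
    Lo τ (P₃ InstData.M) h₃ ((ax, ax2, ct t) : V × V × V) := by
  by_cases h : t = 0
  · subst h
    right
    refine ⟨(P_tau T (P_b T hF ht)).2, ?_⟩
    rw [h_self hb (ct_ne T h0 hF ht)]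
    rw [h₃_of_eq]
    · exact Nat.succ_pos _
    · show τ⁻¹ (ct 0) = InstData.M.σ (τ⁻¹ ax)
      rw [tauInv_ax, tauInv_ct0]
      exact hb.symm
  · have h1 := lo_row T hb h0 hF (first_base t ht).1 (pos_first t ht h).1
    rw [(first_base t ht).2.1, Conc.W_nil, one_smul, (first_base t ht).2.2] at h1
    exact h1.2 (pos_first t ht h).2

/-- The third axis of a row is not the partner. -/
theorem ym_ne (hσ : SigComm) (hb : SigBase) (h0 : hh a1 = 0) (hF : Vals) {m : ℕ} (hm : m < 11) : ym m ≠ a1 := by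
  intro e
  have h1 : W (rk m) (ct (rt m)) = a1 := (k_ct hm).trans e
  have h2 : W (rk m) a1 = a1 := by
    have := hσ _ (W_rk_mem hm) ax
    rw [k_fix hm] at this
    rw [← hb]
    exact this.symm
  exact ct_ne T h0 hF (rt_lt m hm) ((W (rk m)).injective (h1.trans h2.symm))

/-- Rows of the class 2A with `r ≠ 0` are neither lowering nor flat. -/
theorem not_row (hσ : SigComm) (hb : SigBase) (h0 : hh a1 = 0) (hF : Vals) {m : ℕ} (hm : m < 11)
    (hz : (ty (rr m)).1 = 0) (hf : flatB (rr m) = false)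
    (h : Lo τ (P₃ InstData.M) h₃ (W (rk m) • ((ax, ax2, ct (rt m)) : V × V × V)) ∨
      Flat τ (P₃ InstData.M) h₃ (W (rk m) • ((ax, ax2, ct (rt m)) : V × V × V))) : False := by
  rw [row_smul hm] at h
  have h1 := flat_of_zero T hb h0 (P_row T hF hm) (ym_ne T hσ hb h0 hF hm) (by rw [hh_row T hm]; exact hz) h
  rw [T.flat _ (rr_lt m hm) _ (ym_mem hm), hf] at h1
  exact absurd h1 (by simp)

omit T in
theorem chk_up : ∀ m, m < 11 → m = 2 ∨ m = 3 → (ty (rr m)).1 = 0 ∧ flatB (rr m) = false := by decide +kernel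

omit T in
theorem chk_not : ∀ m, m < 11 → m = 5 ∨ m = 9 → 0 < (ty (rr m)).1 ∧ lowB (rr m) = false ∧ flatB (rr m) = false := by
  decide +kernel

omit T in
theorem chk_eight : 0 < (ty (rr 8)).1 ∧ lowB (rr 8) = false := by decide +kernel

omit T in
theorem chk_seven : 0 < (ty (rr 7)).1 ∧ lowB (rr 7) = true := by decide +kernel

omit T in
theorem k_xi : ∀ m, m < 11 → m = 1 ∨ m = 7 → rk m = [39] := by decide +kernel

omit T in
theorem W_xi : W [39] = Conc.ξ := Conc.W_single 39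

theorem tree (hσ : SigComm) (hb : SigBase) (h0 : hh a1 = 0) (hF : Vals) {m : ℕ} (hm : m < 11)
    (h : Lo τ (P₃ InstData.M) h₃ (W (rk m) • ((ax, ax2, ct (rt m)) : V × V × V))) :
    Relation.ReflTransGen (Step N Conc.ξ (Lo τ (P₃ InstData.M) h₃) ((ax, ax2, ct (rt m)) : V × V × V)) 1
      (W (rk m)) := by
  have hxi : m = 1 ∨ m = 7 → Relation.ReflTransGen (Step N Conc.ξ (Lo τ (P₃ InstData.M) h₃)
      ((ax, ax2, ct (rt m)) : V × V × V)) 1 (W (rk m)) := by
    intro hm'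
    refine Relation.ReflTransGen.single ⟨?_, h, Or.inr ?_⟩
    · rw [one_smul]
      exact lo_b T hb h0 hF (rt_lt m hm)
    · rw [k_xi m hm hm', W_xi, mul_one]
  have hbase : m ∈ base → Relation.ReflTransGen (Step N Conc.ξ (Lo τ (P₃ InstData.M) h₃)
      ((ax, ax2, ct (rt m)) : V × V × V)) 1 (W (rk m)) := by
    intro hm'
    rw [base_list m hm hm', Conc.W_nil]
  have hc : m ∈ base ∨ (m = 1 ∨ m = 7) ∨ (m = 2 ∨ m = 3) ∨ (m = 5 ∨ m = 9) ∨ m = 8 := by
    have : ∀ m, m < 11 → m ∈ base ∨ (m = 1 ∨ m = 7) ∨ (m = 2 ∨ m = 3) ∨ (m = 5 ∨ m = 9) ∨ m = 8 := by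
      decide +kernel
    exact this m hm
  rcases hc with h1 | h1 | h1 | h1 | rfl
  · exact hbase h1
  · exact hxi h1
  · exact (not_row T hσ hb h0 hF hm (chk_up m hm h1).1 (chk_up m hm h1).2 (Or.inl h)).elim
  · rw [lo_row T hb h0 hF hm (chk_not m hm h1).1, (chk_not m hm h1).2.1] at h
    exact absurd h (by simp)
  · rw [lo_row T hb h0 hF hm chk_eight.1, chk_eight.2] at h
    exact absurd h (by simp)

variable {u : leechLattice → V} (U : FrameConc.ULink u)

omit T in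
theorem row8 : rowB (rk 7) (rk 8 ++ [39]) (cat [gg 4, gg 5] [0, 1]) = true := by decide +kernel

include U in
theorem flat (hσ : SigComm) (hb : SigBase) (h0 : hh a1 = 0) (hF : Vals) {m : ℕ} (hm : m < 11)
    (h : Flat τ (P₃ InstData.M) h₃ (W (rk m) • ((ax, ax2, ct (rt m)) : V × V × V))) :
    Lo τ (P₃ InstData.M) h₃ (W (rk m) • ((ax, ax2, ct (rt m)) : V × V × V)) ∨
      ∃ d ∈ N, Lo τ (P₃ InstData.M) h₃ (Conc.ξ • d • W (rk m) • ((ax, ax2, ct (rt m)) : V × V × V)) := by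
  have hc : m ∈ base ∨ m = 1 ∨ (m = 2 ∨ m = 3) ∨ (m = 5 ∨ m = 9) ∨ m = 7 ∨ m = 8 := by
    have : ∀ m, m < 11 → m ∈ base ∨ m = 1 ∨ (m = 2 ∨ m = 3) ∨ (m = 5 ∨ m = 9) ∨ m = 7 ∨ m = 8 := by
      decide +kernel
    exact this m hm
  rcases hc with h1 | rfl | h1 | h1 | rfl | rfl
  · left
    rw [base_list m hm h1, Conc.W_nil, one_smul]
    exact lo_b T hb h0 hF (rt_lt m hm)
  · right
    refine ⟨1, N.one_mem, ?_⟩
    rw [one_smul, k_xi 1 hm (Or.inl rfl), W_xi, ← mul_smul, T.geo.ξ_sq, one_smul]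
    exact lo_b T hb h0 hF (rt_lt 1 hm)
  · exact (not_row T hσ hb h0 hF hm (chk_up m hm h1).1 (chk_up m hm h1).2 (Or.inr h)).elim
  · rw [flat_row T hb h0 hF hm (chk_not m hm h1).1, (chk_not m hm h1).2.2] at h
    exact absurd h (by simp)
  · left
    rw [lo_row T hb h0 hF hm chk_seven.1]
    exact chk_seven.2
  · right
    refine ⟨1, N.one_mem, ?_⟩
    have hfix : ∀ l ∈ Lw [gg 4, gg 5], l • ((ax, ax2, ct (rt 8)) : V × V × V) = (ax, ax2, ct (rt 8)) := by
      intro l hl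
      have hg : ∀ w ∈ [gg 4, gg 5], W w (ct 2) = ct 2 ∧ W w ax = ax ∧ W w ax2 = ax2 := by
        intro w hw
        rcases List.mem_cons.1 hw with rfl | hw
        · exact gen_fix (i := 4) (by norm_num)
        · rcases List.mem_cons.1 hw with rfl | hw
          · exact gen_fix (i := 5) (by norm_num)
          · exact absurd hw (by simp)
      exact Prod.ext (Lw_fix (fun w hw => (hg w hw).2.1) l hl)
        (Prod.ext (Lw_fix (fun w hw => (hg w hw).2.2) l hl) (Lw_fix (fun w hw => (hg w hw).1) l hl))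
    obtain ⟨d, hd, e⟩ := (dbl_of_rowH U [gg 4, gg 5] row8).smul hfix
    have h7 := (lo_row T hb h0 hF (m := 7) (by norm_num) chk_seven.1).2 chk_seven.2
    have e2 : Conc.W (rk 8 ++ [39]) • ((ax, ax2, ct (rt 8)) : V × V × V) =
        Conc.ξ • (1 : V ≃ₗ[ℚ] V) • Conc.W (rk 8) • ((ax, ax2, ct (rt 8)) : V × V × V) := by
      rw [Conc.W_append, W_xi, mul_smul, one_smul]
    rw [← e2, e]
    exact Lo.smul_D T.geo (inv₃ T hσ) hd h7

/-- A triple on a lowering or flat line. -/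
theorem mem_T {w : V × V × V} (hw : P₃ InstData.M w)
    (h : P₃ InstData.M (τ • w) ∨ P₃ InstData.M (τ⁻¹ • w)) : w.1 ∈ TZero.T₀ ∧ w.2.1 ∈ TZero.T₀ := by
  constructor
  · apply T.two w.1 hw.1
    rcases h with h | h
    · exact Or.inl h.1
    · exact Or.inr h.1
  · apply T.two w.2.1 hw.2.1
    rcases h with h | h
    · exact Or.inl h.2.1
    · exact Or.inr h.2.1

omit T in
theorem gen_ok : ∀ i, i < 8 → splitOK (gg i) = true := by decide +kernel

include U in
/-- **The certificate of level 3.** -/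
theorem cert (hσ : SigComm) (hb : SigBase) (h0 : hh a1 = 0) (hF : Vals)
    (hcov : ∀ s ∈ InstData.M.S, ∀ s' ∈ InstData.M.S, ∀ x ∈ InstData.M.X, InstData.M.F s s' = 1 →
      InstData.M.F s x = 0 → InstData.M.F s' x = 1 → x ≠ InstData.M.σ s →
      ∃ t, t < 4 ∧ ∃ k ∈ C, s = k ax ∧ s' = k ax2 ∧ x = k (ct t))
    {gs : ℕ → List (List ℕ)} (hgs : ∀ t, t < 4 → ∀ w ∈ gs t, ∃ i, i < 8 ∧ gt i = t ∧ w = gg i)
    (hfac : ∀ t, t < 4 → ∀ x ∈ C, x ax ∈ TZero.T₀ → x ax2 ∈ TZero.T₀ →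
      ∃ m, (m < 11 ∧ rt m = t) ∧ Dbl N (Lw (gs t)) (W (rk m)) x) :
    ClassCert C N τ Conc.ξ (P₃ InstData.M) h₃ (fun t : Fin 4 => ((ax, ax2, ct t.1) : V × V × V))
      (fun w => w.1 ∈ TZero.T₀ ∧ w.2.1 ∈ TZero.T₀)
      (fun m : Fin 11 => (⟨rt m.1, rt_lt m.1 m.2⟩ : Fin 4)) (fun m => W (rk m.1)) (fun t => Lw (gs t.1))
      (fun t => {g | ∃ w ∈ gs t.1, g = W w}) where
  cov := by
    rintro ⟨s, s', x⟩ ⟨hs, hs', hss, hx, h1, h2⟩ hpos
    have hne : x ≠ InstData.M.σ s := by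
      intro e
      rw [h₃_of_eq (w := (s, s', x)) e] at hpos
      exact absurd hpos (lt_irrefl 0)
    obtain ⟨t, ht, k, hk, rfl, rfl, rfl⟩ := hcov s hs s' hs' x hx hss h1 h2 hne
    exact ⟨⟨t, ht⟩, k, hk, rfl⟩
  mem_lo := by
    intro w hw _ h
    exact mem_T T hw (h.imp And.left And.left)
  mem_flat := by
    intro w hw _ h
    exact mem_T T hw (h.imp And.left And.left)
  P_b := fun t => P_b T hF t.2
  pos := fun t => pos_b T hb h0 hF t.2
  base := fun t => lo_b T hb h0 hF t.2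
  fix := by
    intro t l hl
    refine Prod.ext ?_ (Prod.ext ?_ ?_)
    · refine Lw_fix (b := ax) (fun w hw => ?_) l hl
      obtain ⟨i, hi, _, rfl⟩ := hgs t.1 t.2 w hw
      exact (gen_fix hi).2.1
    · refine Lw_fix (b := ax2) (fun w hw => ?_) l hl
      obtain ⟨i, hi, _, rfl⟩ := hgs t.1 t.2 w hw
      exact (gen_fix hi).2.2
    · refine Lw_fix (b := ct t.1) (fun w hw => ?_) l hl
      obtain ⟨i, hi, h1, rfl⟩ := hgs t.1 t.2 w hw
      rw [← h1]
      exact (gen_fix hi).1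
  factor := by
    intro t x hx hA
    obtain ⟨m, ⟨hm, hmt⟩, d, hd, l, hl, e⟩ := hfac t.1 t.2 x hx hA.1 hA.2
    exact ⟨⟨m, hm⟩, Fin.ext hmt, d, hd, l, hl, e⟩
  tree := fun m h => tree T hσ hb h0 hF m.2 h
  closure := fun t => rfl
  gens := by
    rintro t _ ⟨w, hw, rfl⟩
    obtain ⟨i, hi, h1, rfl⟩ := hgs t.1 t.2 w hw
    refine gen_path T.geo (inv₃ T hσ) (lo_b T hb h0 hF t.2) (gen_ok i hi)
      (Prod.ext (gen_fix hi).2.1 (Prod.ext (gen_fix hi).2.2 ?_))
    have h2 := (gen_fix hi).1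
    rw [h1] at h2
    exact h2
  flat := fun m h => flat T U hσ hb h0 hF m.2 h

end Cfsg.Agent.MonsterU.LevelThree
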