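import Cfsg.Agent.MonsterU.VecTwo
import Cfsg.Agent.MonsterU.VecThree
import Cfsg.Agent.MonsterX.InstEval

/-!
# Coverage data of levels 2 and 3 of (F)

* `link_2B`, `link_4A`, `link_4B`, `link_6A`: the pairs of the pair table with inner product `1` and the pairs
  `(ax, VecTwo.bt t)`; `link_2A`: the pair `(ax, ax2)`;
* `srep`: the short representatives `(t, g)` of the coverage modules `CovS*` (`SREP2.txt`), `s = (W (g ++ [1]^b))⁻¹ a₀`; the
  values `256 F(a₀, W g b')`, `256 F(a₁, W g b')`, `b' = VecTwo.bt t`;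
* `triple i` (`i < 3`): for the three of them with value `0` a word `q` with `q a₀ = a₀`, `q (w a₀) = a'`,
  `q (w b') = VecThree.ct (i + 1)`, `w = W (g ++ [1]^b)`.
-/

set_option autoImplicit false
set_option Elab.async false
set_option maxRecDepth 100000

namespace Cfsg.Agent.MonsterU.VecLink

open Cfsg.Agent.MonsterX.CertVec Cfsg.Agent.MonsterX.CertBase Cfsg.Agent.MonsterX.CertB
open Cfsg.Agent.MonsterX.CertTab Cfsg.Agent.MonsterX.CertV Cfsg.Agent.MonsterX Cfsg.Agent.MonsterX.Space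

open Cfsg.Agent.MonsterX.InstData Cfsg.Agent.MonsterX.InstEval

/-- The word for 2B. -/
noncomputable def kB : List ℕ :=
  [37, 38, 42, 37, 38, 42, 42, 38, 36, 43, 43, 38, 36, 36, 36, 21, 19, 16, 4]

/-- The word for 6A. -/
noncomputable def kS : List ℕ :=
  [42, 42, 43, 38, 36, 36, 36, 43, 36, 37, 36, 43, 38, 36, 36, 22, 21, 17, 16, 15, 14, 13, 11, 10, 9, 8, 6, 5, 4,
  2, 1, 0, 0, 24]

theorem link_2B : Conc.W kB ax = ax ∧ Conc.W kB (vv (bw 1 ++ [42, 1])) = VecTwo.bt 0 := by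
  have h1 : ident kB [] = true := by decide +kernel
  have h2 : ident ((bw 1 ++ [42, 1]) ++ kB) (VecTwo.bh 0) = true := by decide +kernel
  have e1 := vv_eq_of_ident h1
  have e2 := vv_eq_of_ident h2
  rw [vv_nil] at e1
  rw [vv_append] at e2
  exact ⟨e1, e2⟩

theorem link_4A : vv (bw 2 ++ [42, 42, 1]) = VecTwo.bt 1 := by
  have h : bw 2 ++ [42, 42, 1] = VecTwo.bh 1 := by decide +kernel
  rw [h]
  rfl

theorem link_4B : vv (bw 3 ++ []) = VecTwo.bt 2 := by
  have h : bw 3 ++ [] = VecTwo.bh 2 := by decide +kernel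
  rw [h]
  rfl

theorem link_6A : Conc.W kS ax = ax ∧ Conc.W kS (vv (bw 5 ++ [37, 42, 38, 42, 43, 25, 1])) = VecTwo.bt 3 := by
  have h1 : ident kS [] = true := by decide +kernel
  have h2 : ident ((bw 5 ++ [37, 42, 38, 42, 43, 25, 1]) ++ kS) (VecTwo.bh 3) = true := by decide +kernel
  have e1 := vv_eq_of_ident h1
  have e2 := vv_eq_of_ident h2
  rw [vv_nil] at e1
  rw [vv_append] at e2
  exact ⟨e1, e2⟩

/-- `k` fixes the base axis and maps `W [37] a₀` and `W [37, 1] a₀` to `a'`. -/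
theorem link_2A : Conc.W VecThree.kA ax = ax ∧ Conc.W VecThree.kA (vv [37]) = VecThree.ax2 ∧
    Conc.W VecThree.kA (vv [37, 1]) = VecThree.ax2 :=
  ⟨VecThree.kA_fix, VecThree.kA_37, by rw [VecThree.vv_37_1]; exact VecThree.kA_37⟩

/-- The short representatives `(t, code, g, 256 F(a₀, W g b'), 256 F(a₁, W g b'))`. -/
def srep : List (ℕ × ℕ × List ℕ × ℤ × ℤ) :=
  [(0, 0x75e0, [36, 31, 26, 36, 39, 43], 64, 64), (0, 0x2783a, [38, 36, 38, 39, 43, 36], 32, 32), (0, 0x49f8bc,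
  [29, 27, 39, 36], 256, 0), (1, 0x75e0, [36, 31, 26, 36, 39, 43], 64, 64), (1, 0xc, [42], 256, 64), (1, 0xa, [37,
  37], 0, 64), (1, 0x5, [34, 27, 39, 28, 43, 39, 36], 104, 104), (1, 0x3, [31, 27, 39, 30, 43, 39, 36], 40, 40),
  (2, 0x75e0, [36, 31, 26, 36, 39, 43], 64, 64), (2, 0x2783a, [38, 36, 38, 39, 43, 36], 104, 40), (2, 0x49f8bc,
  [29, 27, 39, 36], 32, 64), (3, 0x75e0, [36, 31, 26, 36, 39, 43], 64, 64), (3, 0x877e2, [26, 36, 36, 39, 37, 36],
  40, 64), (3, 0x877e4, [25, 36, 36, 39, 42, 43], 104, 64), (3, 0x1084, [39, 34, 26, 25, 39, 36], 256, 40), (3,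
  0x1082, [25, 37], 104, 0)]

/-- The entry `i`. -/
noncomputable def sr (i : ℕ) : ℕ × ℕ × List ℕ × ℤ × ℤ := nth (0, 0, [], 0, 0) srep i

/-- The check of the values. -/
noncomputable def srOK (i : ℕ) : Bool :=
  formIs 8 (VecTwo.bh (sr i).1 ++ (sr i).2.2.1) a0B (sr i).2.2.2.1 (sr i).2.2.2.2

theorem sr_0 : srOK 0 = true := by decide +kernel

theorem sr_1 : srOK 1 = true := by decide +kernel

theorem sr_2 : srOK 2 = true := by decide +kernel

theorem sr_3 : srOK 3 = true := by decide +kernel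

theorem sr_4 : srOK 4 = true := by decide +kernel

theorem sr_5 : srOK 5 = true := by decide +kernel

theorem sr_6 : srOK 6 = true := by decide +kernel

theorem sr_7 : srOK 7 = true := by decide +kernel

theorem sr_8 : srOK 8 = true := by decide +kernel

theorem sr_9 : srOK 9 = true := by decide +kernel

theorem sr_10 : srOK 10 = true := by decide +kernel

theorem sr_11 : srOK 11 = true := by decide +kernel

theorem sr_12 : srOK 12 = true := by decide +kernel

theorem sr_13 : srOK 13 = true := by decide +kernel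

theorem sr_14 : srOK 14 = true := by decide +kernel

theorem sr_15 : srOK 15 = true := by decide +kernel

theorem sr_all : ∀ i, i < 16 → srOK i = true
  | 0, _ => sr_0
  | 1, _ => sr_1
  | 2, _ => sr_2
  | 3, _ => sr_3
  | 4, _ => sr_4
  | 5, _ => sr_5
  | 6, _ => sr_6
  | 7, _ => sr_7
  | 8, _ => sr_8
  | 9, _ => sr_9
  | 10, _ => sr_10
  | 11, _ => sr_11
  | 12, _ => sr_12
  | 13, _ => sr_13
  | 14, _ => sr_14
  | 15, _ => sr_15
  | k + 16, h => absurd h (by omega)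

theorem ax_eq : ax = vecV a0B := by
  have h : vecV CertBase.a0 = vecV (up 8 a0B) := vecV_congr (by decide +kernel)
  unfold ax
  rw [h, vecV_up, smul_smul]
  norm_num

/-- The values. -/
theorem sr_val {i : ℕ} (hi : i < 16) :
    F (vecV a0B) (Conc.W (sr i).2.2.1 (VecTwo.bt (sr i).1)) = ((sr i).2.2.2.1 : ℚ) / 2 ^ 8 ∧
      F (vecV a1B) (Conc.W (sr i).2.2.1 (VecTwo.bt (sr i).1)) = ((sr i).2.2.2.2 : ℚ) / 2 ^ 8 := by
  have h := formIs_sound sym_a0B (sr_all i hi)
  rw [Conc.W_append] at h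
  have e : VecTwo.bt (sr i).1 = Conc.W (VecTwo.bh (sr i).1) (vecV a0B) := by
    unfold VecTwo.bt vv
    rw [ax_eq]
  rw [e]
  exact h

/-- The three triples `(t, w, q)`. -/
noncomputable def triT : List (ℕ × List ℕ × List ℕ) :=
  [(0, [29, 27, 39, 36, 1], [43, 38, 36, 36, 36, 36, 36, 37, 37, 36, 36, 37, 38, 36, 21, 18, 15, 14, 13, 10]), (1,
  [37, 37], [36, 43, 43, 42, 42, 43, 38, 42, 37, 42, 37, 36, 37, 36, 36, 38, 23, 22, 20, 17, 16, 15, 14, 11, 8, 6,
  5, 3, 2, 1]), (3, [25, 37, 1], [42, 43, 38, 36, 36, 37, 42, 43, 42, 42, 42, 38, 36, 36, 37, 37, 27, 23, 22, 21,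
  19, 14, 12, 11, 10, 9, 5, 3, 2, 1])]

/-- The triple `i`. -/
noncomputable def tri (i : ℕ) : ℕ × List ℕ × List ℕ := nth (0, [], []) triT i

/-- The check of a triple. -/
noncomputable def triOK (i : ℕ) : Bool :=
  and (ident (tri i).2.2 []) (and (ident ((tri i).2.1 ++ (tri i).2.2) VecThree.a2w)
    (ident (VecTwo.bh (tri i).1 ++ ((tri i).2.1 ++ (tri i).2.2)) (VecThree.ch (i + 1))))

theorem tri_0 : triOK 0 = true := by decide +kernel

theorem tri_1 : triOK 1 = true := by decide +kernel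

theorem tri_2 : triOK 2 = true := by decide +kernel

theorem tri_all : ∀ i, i < 3 → triOK i = true
  | 0, _ => tri_0
  | 1, _ => tri_1
  | 2, _ => tri_2
  | k + 3, h => absurd h (by omega)

/-- `q` fixes `a₀`, `q w` maps `a₀` to `a'` and `VecTwo.bt t` to `VecThree.ct (i + 1)`. -/
theorem triple {i : ℕ} (hi : i < 3) :
    Conc.W (tri i).2.2 ax = ax ∧ Conc.W (tri i).2.2 (Conc.W (tri i).2.1 ax) = VecThree.ax2 ∧
      Conc.W (tri i).2.2 (Conc.W (tri i).2.1 (VecTwo.bt (tri i).1)) = VecThree.ct (i + 1) := by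
  have h := tri_all i hi
  unfold triOK at h
  have h' : (ident (tri i).2.2 [] && (ident ((tri i).2.1 ++ (tri i).2.2) VecThree.a2w &&
    ident (VecTwo.bh (tri i).1 ++ ((tri i).2.1 ++ (tri i).2.2)) (VecThree.ch (i + 1)))) = true := h
  rw [Bool.and_eq_true, Bool.and_eq_true] at h'
  have e1 := vv_eq_of_ident h'.1
  have e2 := vv_eq_of_ident h'.2.1
  have e3 := vv_eq_of_ident h'.2.2
  rw [vv_nil] at e1
  rw [vv_append] at e2
  rw [vv_append, Conc.W_append] at e3
  exact ⟨e1, e2, e3⟩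

/-- The second generator of the stabiliser of `a₀` and `a'` (the first is `ξ`). -/
noncomputable def k2g : List ℕ :=
  [42, 37, 37, 38, 36, 36, 37, 38, 36, 33, 32, 23, 20, 15, 14, 13, 12, 10, 8, 7, 0]

theorem k2_fix : Conc.W k2g ax = ax ∧ Conc.W k2g VecThree.ax2 = VecThree.ax2 := by
  have h1 : ident k2g [] = true := by decide +kernel
  have h2 : ident (VecThree.a2w ++ k2g) VecThree.a2w = true := by decide +kernel
  have e1 := vv_eq_of_ident h1
  rw [vv_nil] at e1
  exact ⟨e1, VecThree.fix_of h2⟩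

end Cfsg.Agent.MonsterU.VecLink
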