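import Cfsg.Agent.MonsterU.VecLink

/-!
# Coverage data of level 3 of (F), class 2A

The pair `(ax, ax2)`, short representatives of `CovS2A`: `s = (W (g ++ [1]^b))⁻¹ a₀`.

* `sr i = (code, g, 256 F(a₀, W g a'), 256 F(a₁, W g a'))`, `sr_val`;
* `partner`: the representative `([37, 37], true)` is the partner of `a'`;
* `trip b`: for the representative `1` and both signs a word `q b` with `q a₀ = a₀`, `q (w a₀) = a'`,
  `q (w a') = VecThree.ct 0`, `w = g ++ [1]^b`.
-/

set_option autoImplicit false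
set_option Elab.async false
set_option maxRecDepth 100000

namespace Cfsg.Agent.MonsterU.VecLinkA

open Cfsg.Agent.MonsterX.CertVec Cfsg.Agent.MonsterX.CertBase Cfsg.Agent.MonsterX.CertB
open Cfsg.Agent.MonsterX.CertTab Cfsg.Agent.MonsterX.CertV Cfsg.Agent.MonsterX Cfsg.Agent.MonsterX.Space
open Cfsg.Agent.MonsterX.InstData Cfsg.Agent.MonsterX.InstEval

/-- The short representatives `(code, g, 256 F(a₀, W g a'), 256 F(a₁, W g a'))`. -/
def srep : List (ℕ × List ℕ × ℤ × ℤ) :=
  [(0x75e0, [36, 31, 26, 36, 39, 43], 64, 64), (0xf6c0, [30, 26, 36, 39, 43], 0, 0), (0xf6c6, [33, 25, 36, 39, 43],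
  256, 256), (0xc, [42], 256, 256), (0xa, [37, 37], 2048, 0)]

/-- The entry `i`. -/
noncomputable def sr (i : ℕ) : ℕ × List ℕ × ℤ × ℤ := nth (0, [], 0, 0) srep i

/-- The check of the values. -/
noncomputable def srOK (i : ℕ) : Bool := formIs 8 (VecThree.a2w ++ (sr i).2.1) a0B (sr i).2.2.1 (sr i).2.2.2

theorem sr_0 : srOK 0 = true := by decide +kernel

theorem sr_1 : srOK 1 = true := by decide +kernel

theorem sr_2 : srOK 2 = true := by decide +kernel

theorem sr_3 : srOK 3 = true := by decide +kernel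

theorem sr_4 : srOK 4 = true := by decide +kernel

theorem sr_all : ∀ i, i < 5 → srOK i = true
  | 0, _ => sr_0
  | 1, _ => sr_1
  | 2, _ => sr_2
  | 3, _ => sr_3
  | 4, _ => sr_4
  | k + 5, h => absurd h (by omega)

/-- The values. -/
theorem sr_val {i : ℕ} (hi : i < 5) :
    F (vecV a0B) (Conc.W (sr i).2.1 VecThree.ax2) = ((sr i).2.2.1 : ℚ) / 2 ^ 8 ∧
      F (vecV a1B) (Conc.W (sr i).2.1 VecThree.ax2) = ((sr i).2.2.2 : ℚ) / 2 ^ 8 := by
  have h := formIs_sound sym_a0B (sr_all i hi)
  rw [Conc.W_append] at h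
  have e : VecThree.ax2 = Conc.W VecThree.a2w (vecV a0B) := by
    unfold VecThree.ax2 vv
    rw [VecLink.ax_eq]
  rw [e]
  exact h

/-- `W [37, 37, 1]` maps `a'` to the partner of the base axis. -/
theorem partner : Conc.W [37, 37, 1] VecThree.ax2 = vv [1] := by
  have h : ident (VecThree.a2w ++ [37, 37, 1]) [1] = true := by decide +kernel
  have h1 := vv_eq_of_ident h
  rwa [vv_append] at h1

/-- The word `g` of the representative `1`. -/
noncomputable def g1 : List ℕ := [30, 26, 36, 39, 43]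

/-- The word `w`. -/
noncomputable def w1 (b : Bool) : List ℕ := Bool.rec g1 (g1 ++ [1]) b

/-- The word `q`. -/
noncomputable def q1 (b : Bool) : List ℕ :=
  Bool.rec
    ([38, 36, 43, 42, 37, 42, 42, 37, 36, 43, 36, 43, 38, 27, 23, 22, 21, 18, 17, 16, 13, 39])
    ([38, 36, 43, 42, 37, 42, 42, 37, 36, 43, 36, 43, 38, 27, 23, 22, 21, 18, 17, 16, 13, 4, 3, 39]) b

/-- The check of a triple. -/
noncomputable def triOK (b : Bool) : Bool :=
  and (ident (q1 b) []) (and (ident (w1 b ++ q1 b) VecThree.a2w) (ident (VecThree.a2w ++ (w1 b ++ q1 b)) (VecThree.ch 0)))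

theorem tri_false : triOK false = true := by decide +kernel

theorem tri_true : triOK true = true := by decide +kernel

/-- `q` fixes `a₀`, `q w` maps `a₀` to `a'` and `a'` to `VecThree.ct 0`. -/
theorem triple (b : Bool) :
    Conc.W (q1 b) ax = ax ∧ Conc.W (q1 b) (Conc.W (w1 b) ax) = VecThree.ax2 ∧
      Conc.W (q1 b) (Conc.W (w1 b) VecThree.ax2) = VecThree.ct 0 := by
  have h : triOK b = true := by
    cases b
    · exact tri_false
    · exact tri_true
  unfold triOK at h
  have h' : (ident (q1 b) [] && (ident (w1 b ++ q1 b) VecThree.a2w &&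
    ident (VecThree.a2w ++ (w1 b ++ q1 b)) (VecThree.ch 0))) = true := h
  rw [Bool.and_eq_true, Bool.and_eq_true] at h'
  have e1 := vv_eq_of_ident h'.1
  have e2 := vv_eq_of_ident h'.2.1
  have e3 := vv_eq_of_ident h'.2.2
  rw [vv_nil] at e1
  rw [vv_append] at e2
  rw [vv_append, Conc.W_append] at e3
  exact ⟨e1, e2, e3⟩

theorem sr_one : (sr 1).2.1 = g1 := by decide +kernel

end Cfsg.Agent.MonsterU.VecLinkA
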