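import Cfsg.Agent.MonsterX.FieldsP
import Cfsg.Agent.MonsterX.CertCovD
import Cfsg.Agent.MonsterU.LevelThree
import Cfsg.Agent.MonsterU.VecLink
import Cfsg.Agent.MonsterU.VecLinkA

/-!
# Coverage of level 2 and the values of `F`

* `exists_pair` : every pair `(s, x)`, `s ∈ S`, `x ∈ X`, is the image under `C` of a pair `(a₀, yv j m b)` of the
  pair table;
* `cov₂` : the pairs with `F s x = 1`;
* `vals₂`, `vals₃` : the values of `F` for the levels 2 and 3.
-/

set_option autoImplicit false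
set_option maxRecDepth 100000

namespace Cfsg.Agent.MonsterU.CovTwo

open Cfsg Cfsg.Agent.MonsterX Cfsg.Agent.MonsterX.Space Cfsg.Agent.MonsterX.Conc Cfsg.Agent.MonsterX.Model
open Cfsg.Agent.MonsterX.InstData Cfsg.Agent.MonsterX.FieldsP Cfsg.Agent.MonsterX.PairZero
open Cfsg.Agent.MonsterX.CertUTab Cfsg.Agent.MonsterX.CertCovD
open Cfsg.Agent.MonsterX.CertV (vv ax vv_append vv_nil)
open Cfsg.Agent.MonsterU.LevelTwo (F_C W_mem_C' isCl)
open Cfsg.Agent.MonsterU

theorem bw_bj : ∀ j, j < 12 → CertB.bw j = bj j := by decide +kernel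

theorem vv_eq' (w : List ℕ) : vv w = W w (vecV a0B) := by
  unfold vv
  rw [VecLink.ax_eq]

theorem yv_eq {j m : ℕ} {b : Bool} (hj : j < 12) : yv j m b = vv (CertB.bw j ++ wd j m b) := by
  rw [vv_append, vv_eq', bw_bj j hj]
  unfold yv
  rw [M_a₀]

variable {u : leechLattice → V} (U : FrameConc.ULink u) (H : LineStab U)

include H in
/-- **The pairs of `S × X`.** -/
theorem exists_pair {s x : V} (hs : s ∈ InstData.M.S) (hx : x ∈ InstData.M.X) :
    ∃ j m, ∃ b : Bool, j < 12 ∧ m < nr j ∧ ∃ k ∈ C, s = k ax ∧ x = k (yv j m b) := by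
  obtain ⟨j, g, hg, rfl⟩ := hx
  change Fin 12 at j
  obtain ⟨g', hg', e⟩ : g⁻¹ s ∈ InstData.M.S := Types.S_smul (M := InstData.M) (InstData.M.C.inv_mem hg) hs
  rw [M_C] at hg hg'
  obtain ⟨m, hm, b, l, hl, h1, h2⟩ := cov_S U H j.2 hg'
  rw [M_a₀] at e
  have hw : W (word j.1 m b) ∈ C := by
    have h := word_ok (b := b) (uw_ok j.1 m)
    rw [← CertCovB.prodF_coe U h]
    exact (FrameGam.prodF _ _ : C).2
  refine ⟨j.1, m, b, j.2, hm, g * l * (W (word j.1 m b))⁻¹, C.mul_mem (C.mul_mem hg hl) (C.inv_mem hw), ?_, ?_⟩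
  · rw [LinearEquiv.mul_apply, LinearEquiv.mul_apply, VecLink.ax_eq, ← h2, ← e]
    exact (g.apply_symm_apply s).symm
  · rw [LinearEquiv.mul_apply, LinearEquiv.mul_apply]
    have h3 : (W (word j.1 m b))⁻¹ (yv j.1 m b) = W (bj j.1) (vecV a0B) := by
      unfold yv
      rw [M_a₀]
      exact (W (word j.1 m b)).symm_apply_apply _
    rw [h3, h1]
    rfl

theorem F_ax_yv {j m : ℕ} (hj : j < 12) (hm : m < nr j) (b : Bool) :
    InstData.M.F ax (yv j m b) = (vb j m b : ℚ) / 2 ^ 8 := by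
  rw [VecLink.ax_eq]
  exact F_a₀_yv hj hm b

/-- The pairs with inner product `1`. -/
def oneL : List (ℕ × ℕ × Bool) :=
  [(0, 1, false), (0, 1, true), (1, 0, true), (2, 1, true), (3, 0, false), (5, 4, true)]

theorem tab_one' : (List.range 12).all (fun j => (List.range (nr j)).all fun m =>
    [false, true].all fun b => decide (vb j m b = 256 → (j, m, b) ∈ oneL)) = true := by decide +kernel

theorem tab_one (j : ℕ) (hj : j < 12) (m : ℕ) (hm : m < nr j) (b : Bool) (h : vb j m b = 256) :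
    (j, m, b) = (0, 1, false) ∨ (j, m, b) = (0, 1, true) ∨ (j, m, b) = (1, 0, true) ∨ (j, m, b) = (2, 1, true) ∨
      (j, m, b) = (3, 0, false) ∨ (j, m, b) = (5, 4, true) := by
  have h1 := List.all_eq_true.1 tab_one' j (List.mem_range.2 hj)
  have h1 := List.all_eq_true.1 h1 m (List.mem_range.2 hm)
  have h1 := of_decide_eq_true (List.all_eq_true.1 h1 b (by cases b <;> simp)) h
  simpa only [oneL, List.mem_cons, List.not_mem_nil, or_false] using h1

theorem vb_of_F {j m : ℕ} (hj : j < 12) (hm : m < nr j) {b : Bool} (h : InstData.M.F ax (yv j m b) = 1) :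
    vb j m b = 256 := by
  rw [F_ax_yv hj hm] at h
  have : (vb j m b : ℚ) = 256 := by
    rw [div_eq_iff (by norm_num)] at h; rw [h]; norm_num
  exact_mod_cast this

theorem F_of_vb {j m : ℕ} (hj : j < 12) (hm : m < nr j) {b : Bool} (h : vb j m b = 256) :
    InstData.M.F ax (yv j m b) = 1 := by
  rw [F_ax_yv hj hm, h]
  norm_num

/-! ### The links -/

theorem W_kB : W VecLink.kB ∈ C := W_mem_C' (by decide +kernel)

theorem W_kS : W VecLink.kS ∈ C := W_mem_C' (by decide +kernel)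

theorem W_kA : W VecThree.kA ∈ C := W_mem_C' (by decide +kernel)

theorem y_2B : W VecLink.kB ax = ax ∧ W VecLink.kB (yv 1 0 true) = VecTwo.bt 0 := by
  refine ⟨VecLink.link_2B.1, ?_⟩
  rw [yv_eq (by norm_num)]
  exact VecLink.link_2B.2

theorem y_4A : yv 2 1 true = VecTwo.bt 1 := by
  rw [yv_eq (by norm_num)]
  exact VecLink.link_4A

theorem y_4B : yv 3 0 false = VecTwo.bt 2 := by
  rw [yv_eq (by norm_num)]
  exact VecLink.link_4B

theorem y_6A : W VecLink.kS ax = ax ∧ W VecLink.kS (yv 5 4 true) = VecTwo.bt 3 := by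
  refine ⟨VecLink.link_6A.1, ?_⟩
  rw [yv_eq (by norm_num)]
  exact VecLink.link_6A.2

theorem y_2A (b : Bool) : W VecThree.kA ax = ax ∧ W VecThree.kA (yv 0 1 b) = VecThree.ax2 := by
  refine ⟨VecLink.link_2A.1, ?_⟩
  rw [yv_eq (by norm_num)]
  cases b
  · have e : CertB.bw 0 ++ wd 0 1 false = [37] := by decide +kernel
    rw [e]
    exact VecLink.link_2A.2.1
  · have e : CertB.bw 0 ++ wd 0 1 true = [37, 1] := by decide +kernel
    rw [e]
    exact VecLink.link_2A.2.2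

/-- A pair `(s, x)` from a link. -/
theorem of_link {s x y y' : V} {k q : V ≃ₗ[ℚ] V} (hk : k ∈ C) (hq : q ∈ C) (hs : s = k ax) (hx : x = k y)
    (h1 : q ax = ax) (h2 : q y = y') : ∃ k' ∈ C, s = k' ax ∧ x = k' y' := by
  refine ⟨k * q⁻¹, C.mul_mem hk (C.inv_mem hq), ?_, ?_⟩
  · have e : q⁻¹ ax = ax := by
      nth_rewrite 1 [← h1]
      exact q.symm_apply_apply ax
    rw [LinearEquiv.mul_apply, e, hs]
  · have e : q⁻¹ y' = y := by
      rw [← h2]
      exact q.symm_apply_apply y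
    rw [LinearEquiv.mul_apply, e, hx]

include H in
/-- **Coverage of level 2.** -/
theorem cov₂ {s x : V} (hs : s ∈ InstData.M.S) (hx : x ∈ InstData.M.X) (hF : InstData.M.F s x = 1) :
    (∃ t, t < 4 ∧ ∃ k ∈ C, s = k ax ∧ x = k (VecTwo.bt t)) ∨ ∃ k ∈ C, s = k ax ∧ x = k VecThree.ax2 := by
  obtain ⟨j, m, b, hj, hm, k, hk, rfl, rfl⟩ := exists_pair U H hs hx
  rw [F_C hk] at hF
  rcases tab_one j hj m hm b (vb_of_F hj hm hF) with h | h | h | h | h | h
  · rw [Prod.mk.injEq, Prod.mk.injEq] at h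
    obtain ⟨rfl, rfl, rfl⟩ := h
    exact Or.inr (of_link hk W_kA rfl rfl (y_2A false).1 (y_2A false).2)
  · rw [Prod.mk.injEq, Prod.mk.injEq] at h
    obtain ⟨rfl, rfl, rfl⟩ := h
    exact Or.inr (of_link hk W_kA rfl rfl (y_2A true).1 (y_2A true).2)
  · rw [Prod.mk.injEq, Prod.mk.injEq] at h
    obtain ⟨rfl, rfl, rfl⟩ := h
    exact Or.inl ⟨0, by norm_num, of_link hk W_kB rfl rfl y_2B.1 y_2B.2⟩
  · rw [Prod.mk.injEq, Prod.mk.injEq] at h
    obtain ⟨rfl, rfl, rfl⟩ := h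
    exact Or.inl ⟨1, by norm_num, k, hk, rfl, by rw [y_4A]⟩
  · rw [Prod.mk.injEq, Prod.mk.injEq] at h
    obtain ⟨rfl, rfl, rfl⟩ := h
    exact Or.inl ⟨2, by norm_num, k, hk, rfl, by rw [y_4B]⟩
  · rw [Prod.mk.injEq, Prod.mk.injEq] at h
    obtain ⟨rfl, rfl, rfl⟩ := h
    exact Or.inl ⟨3, by norm_num, of_link hk W_kS rfl rfl y_6A.1 y_6A.2⟩

/-! ### The values -/

theorem F_link {q : V ≃ₗ[ℚ] V} (hq : q ∈ C) {y y' : V} (h1 : q ax = ax) (h2 : q y = y') :
    InstData.M.F ax y' = InstData.M.F ax y := by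
  have h := F_C hq ax y
  rw [h1, h2] at h
  exact h

/-- The values for level 2. -/
theorem vals₂ : LevelTwo.Vals := by
  intro t ht
  interval_cases t
  · rw [F_link W_kB y_2B.1 y_2B.2]
    exact F_of_vb (by norm_num) (by decide) (by decide)
  · rw [← y_4A]
    exact F_of_vb (by norm_num) (by decide) (by decide)
  · rw [← y_4B]
    exact F_of_vb (by norm_num) (by decide) (by decide)
  · rw [F_link W_kS y_6A.1 y_6A.2]
    exact F_of_vb (by norm_num) (by decide) (by decide)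

theorem F_ax_ax2 : InstData.M.F ax VecThree.ax2 = 1 := by
  rw [F_link W_kA (y_2A false).1 (y_2A false).2]
  exact F_of_vb (by norm_num) (by decide) (by decide)

/-! ### The values for level 3 -/

theorem F_W' (w : List ℕ) (x y : V) : InstData.M.F (W w x) (W w y) = InstData.M.F x y := F_W w x y

/-- `F(a₀, W (g ++ [1]) y) = F(a₁, W g y)`. -/
theorem F_snoc (g : List ℕ) (y : V) : F (vecV a0B) (W (g ++ [1]) y) = F (vecV a1B) (W g y) := by
  rw [W_append, LinearEquiv.mul_apply, ← FieldsP.x1_a1, F_W]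

theorem tri_w : ((VecLink.tri 0).2.1 = (VecLink.sr 2).2.2.1 ++ [1] ∧ (VecLink.sr 2).1 = (VecLink.tri 0).1) ∧
    ((VecLink.tri 1).2.1 = (VecLink.sr 5).2.2.1 ∧ (VecLink.sr 5).1 = (VecLink.tri 1).1) ∧
    ((VecLink.tri 2).2.1 = (VecLink.sr 15).2.2.1 ++ [1] ∧ (VecLink.sr 15).1 = (VecLink.tri 2).1) := by decide +kernel

theorem sr_v : (VecLink.sr 2).2.2.2.2 = 0 ∧ (VecLink.sr 5).2.2.2.1 = 0 ∧ (VecLink.sr 15).2.2.2.2 = 0 ∧
    (VecLinkA.sr 1).2.2.1 = 0 := by decide +kernel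

theorem tri_t : ∀ i, i < 3 → (VecLink.tri i).1 < 4 := by decide +kernel

/-- `F(a₀, W w b') = 0` for the triple `i`. -/
theorem tri_zero : ∀ i, i < 3 → F (vecV a0B) (W (VecLink.tri i).2.1 (VecTwo.bt (VecLink.tri i).1)) = 0 := by
  intro i hi
  interval_cases i
  · rw [tri_w.1.1, ← tri_w.1.2, F_snoc, (VecLink.sr_val (i := 2) (by norm_num)).2, sr_v.1]
    norm_num
  · rw [tri_w.2.1.1, ← tri_w.2.1.2, (VecLink.sr_val (i := 5) (by norm_num)).1, sr_v.2.1]
    norm_num
  · rw [tri_w.2.2.1, ← tri_w.2.2.2, F_snoc, (VecLink.sr_val (i := 15) (by norm_num)).2, sr_v.2.2.1]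
    norm_num

theorem F_ct_succ {i : ℕ} (hi : i < 3) :
    InstData.M.F ax (VecThree.ct (i + 1)) = 0 ∧ InstData.M.F VecThree.ax2 (VecThree.ct (i + 1)) = 1 := by
  obtain ⟨h1, h2, h3⟩ := VecLink.triple hi
  constructor
  · have h := F_W' (VecLink.tri i).2.2 ax (W (VecLink.tri i).2.1 (VecTwo.bt (VecLink.tri i).1))
    rw [h1, h3] at h
    rw [h]
    have := tri_zero i hi
    rw [← VecLink.ax_eq] at this
    exact this
  · have h := F_W' (VecLink.tri i).2.2 (W (VecLink.tri i).2.1 ax)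
      (W (VecLink.tri i).2.1 (VecTwo.bt (VecLink.tri i).1))
    rw [h2, h3, F_W'] at h
    rw [h]
    exact vals₂ _ (tri_t i hi)

theorem F_ct_zero : InstData.M.F ax (VecThree.ct 0) = 0 ∧ InstData.M.F VecThree.ax2 (VecThree.ct 0) = 1 := by
  obtain ⟨h1, h2, h3⟩ := VecLinkA.triple false
  constructor
  · have h := F_W' (VecLinkA.q1 false) ax (W (VecLinkA.w1 false) VecThree.ax2)
    rw [h1, h3] at h
    rw [h]
    have h4 := (VecLinkA.sr_val (i := 1) (by norm_num)).1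
    rw [VecLinkA.sr_one, sr_v.2.2.2, ← VecLink.ax_eq] at h4
    have h5 : InstData.M.F ax (W (VecLinkA.w1 false) VecThree.ax2) = ((0 : ℤ) : ℚ) / 2 ^ 8 := h4
    rw [h5]
    norm_num
  · have h := F_W' (VecLinkA.q1 false) (W (VecLinkA.w1 false) ax) (W (VecLinkA.w1 false) VecThree.ax2)
    rw [h2, h3, F_W'] at h
    rw [h]
    exact F_ax_ax2

theorem ct0_chk : InstEval.formIs 8 (VecThree.ch 0) a0B 0 0 = true := by decide +kernel

theorem ct0_ne : VecThree.ct 0 ≠ LevelThree.a1 := by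
  intro e
  have h := (InstEval.formIs_sound sym_a0B ct0_chk).2
  have e1 : W (VecThree.ch 0) (vecV a0B) = VecThree.ct 0 := (vv_eq' _).symm
  have e2 : yv 0 0 false = LevelThree.a1 := by
    rw [yv_eq (by norm_num)]
    unfold LevelThree.a1
    congr 1
  have h2 := F_a₁_yv (j := 0) (m := 0) (by norm_num) (by decide) false
  rw [e1, e, ← e2, h2] at h
  have h3 : vb 0 0 (!false) = 2048 := by decide
  rw [h3] at h
  norm_num at h

/-- The values for level 3. -/
theorem vals₃ : LevelThree.Vals where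
  F_ax := F_ax_ax2
  F_ct := by
    intro t ht
    rcases Nat.eq_zero_or_pos t with rfl | h
    · exact F_ct_zero
    · obtain ⟨i, rfl⟩ := Nat.exists_eq_succ_of_ne_zero h.ne'
      exact F_ct_succ (by omega)
  ne := ct0_ne

end Cfsg.Agent.MonsterU.CovTwo
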