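import Cfsg.Agent.MonsterU.CovFactor
import Cfsg.Agent.MonsterU.VecTwo
import Cfsg.Agent.MonsterU.CovS2B
import Cfsg.Agent.MonsterU.CovS4A
import Cfsg.Agent.MonsterU.CovS4B
import Cfsg.Agent.MonsterU.CovS6A

/-!
# Level 2: every allowed frame is in the orbit of a representative

`gs t`: the words of the generators of the class `t` of `VecTwo`; `factor`: if `x ∈ C` and `code (x⁻¹ y0) = w + 6` for a
lane `w` orthogonal to `6`, then `x ∈ N (W k) ⟨gs t⟩` for one of the rows `k` of the class `t`.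
-/

set_option autoImplicit false
set_option Elab.async false
set_option maxRecDepth 100000

namespace Cfsg.Agent.MonsterU.FactorTwo

open Cfsg Cfsg.Agent.MonsterX.Space Cfsg.Agent.MonsterX.Conc
open Cfsg.Agent.MonsterX.FrameAct Cfsg.Agent.MonsterX.FrameInst Cfsg.Agent.MonsterX.FrameCover
open Cfsg.Agent.MonsterX.FrameGam Cfsg.Agent.MonsterX.FrameConc Cfsg.Agent.MonsterX.Lin24
open Cfsg.Agent.MonsterX.CertLin Cfsg.Agent.MonsterX.CertSPl Cfsg.Agent.MonsterX.CertCov
open Cfsg.Agent.MonsterX.CertCovB Cfsg.Agent.MonsterU.CovBase Cfsg.Agent.MonsterU.RowGlue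
open Cfsg.Agent.MonsterU.CovFactor Cfsg.Agent.MonsterU.VecTwo

/-- The words of the generators of the class `t`. -/
noncomputable def gs (t : ℕ) : List (List ℕ) :=
  match t with
  | 0 => [gg 0, gg 1]
  | 1 => [gg 2, gg 3]
  | 2 => [gg 4, gg 5, gg 6]
  | 3 => [gg 7, gg 8]
  | _ => []

theorem mem_gs {t : ℕ} {w : List ℕ} (h : w ∈ gs t) : ∃ i, i < 9 ∧ gt i = t ∧ w = gg i := by
  unfold gs at h
  split at h
  · rcases List.mem_cons.1 h with h | h
    · exact ⟨0, by norm_num, rfl, h⟩
    rcases List.mem_cons.1 h with h | h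
    · exact ⟨1, by norm_num, rfl, h⟩
    exact absurd h (by simp)
  · rcases List.mem_cons.1 h with h | h
    · exact ⟨2, by norm_num, rfl, h⟩
    rcases List.mem_cons.1 h with h | h
    · exact ⟨3, by norm_num, rfl, h⟩
    exact absurd h (by simp)
  · rcases List.mem_cons.1 h with h | h
    · exact ⟨4, by norm_num, rfl, h⟩
    rcases List.mem_cons.1 h with h | h
    · exact ⟨5, by norm_num, rfl, h⟩
    rcases List.mem_cons.1 h with h | h
    · exact ⟨6, by norm_num, rfl, h⟩
    exact absurd h (by simp)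
  · rcases List.mem_cons.1 h with h | h
    · exact ⟨7, by norm_num, rfl, h⟩
    rcases List.mem_cons.1 h with h | h
    · exact ⟨8, by norm_num, rfl, h⟩
    exact absurd h (by simp)
  · exact absurd h (by simp)

theorem gg_mem_gs : ∀ i, i < 9 → gg i ∈ gs (gt i)
  | 0, _ => List.mem_cons_self
  | 1, _ => List.mem_cons_of_mem _ List.mem_cons_self
  | 2, _ => List.mem_cons_self
  | 3, _ => List.mem_cons_of_mem _ List.mem_cons_self
  | 4, _ => List.mem_cons_self
  | 5, _ => List.mem_cons_of_mem _ List.mem_cons_self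
  | 6, _ => List.mem_cons_of_mem _ (List.mem_cons_of_mem _ List.mem_cons_self)
  | 7, _ => List.mem_cons_self
  | 8, _ => List.mem_cons_of_mem _ List.mem_cons_self
  | k + 9, h => absurd h (by omega)

theorem gg_ok : ∀ i, i < 9 → okW (gg i) = true := by decide +kernel

theorem rk_ok : ∀ i, i < 16 → okW (rk i) = true := by decide +kernel

/-! ### Columns of the generators -/

theorem c0_0 : Nat.beq (evalF ltc (gg 0)) CovS2B.e0 = true := by decide +kernel

theorem c0_1 : Nat.beq (evalF ltc (gg 1)) CovS2B.e1 = true := by decide +kernel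

theorem c1_0 : Nat.beq (evalF ltc (gg 2)) CovS4A.e0 = true := by decide +kernel

theorem c1_1 : Nat.beq (evalF ltc (gg 3)) CovS4A.e1 = true := by decide +kernel

theorem c2_0 : Nat.beq (evalF ltc (gg 4)) CovS4B.e0 = true := by decide +kernel

theorem c2_1 : Nat.beq (evalF ltc (gg 5)) CovS4B.e1 = true := by decide +kernel

theorem c2_2 : Nat.beq (evalF ltc (gg 6)) CovS4B.e2 = true := by decide +kernel

theorem c3_0 : Nat.beq (evalF ltc (gg 7)) CovS6A.e0 = true := by decide +kernel

theorem c3_1 : Nat.beq (evalF ltc (gg 8)) CovS6A.e1 = true := by decide +kernel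

/-! ### Codes of the rows -/

/-- The codes of the rows `i, i + 1, …` are the codes of the list. -/
noncomputable def codesOK (l : List ℕ) : ℕ → Bool :=
  List.rec (motive := fun _ => ℕ → Bool) (fun _ => true)
    (fun c _ ih i => and (Nat.beq (icode (rk i)) c) (ih (Nat.succ i))) l

theorem codesOK_sound {l : List ℕ} {i : ℕ} (h : codesOK l i = true) {c : ℕ} (hc : c ∈ l) :
    ∃ m, i ≤ m ∧ m < i + l.length ∧ icode (rk m) = c := by
  induction l generalizing i with
  | nil => exact absurd hc (by simp)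
  | cons a l ih =>
    have h' : (Nat.beq (icode (rk i)) a && codesOK l (i + 1)) = true := h
    rw [Bool.and_eq_true] at h'
    rw [List.length_cons]
    rcases List.mem_cons.1 hc with rfl | hc
    · exact ⟨i, le_rfl, by omega, Nat.eq_of_beq_eq_true h'.1⟩
    · obtain ⟨m, h1, h2, h3⟩ := ih h'.2 hc
      exact ⟨m, by omega, by omega, h3⟩

theorem k0 : codesOK CovS2B.codes 0 = true := by decide +kernel

theorem k1 : codesOK CovS4A.codes 4 = true := by decide +kernel

theorem k2 : codesOK CovS4B.codes 9 = true := by decide +kernel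

theorem k3 : codesOK CovS6A.codes 13 = true := by decide +kernel

/-! ### The factorisation -/

variable {u : leechLattice → V} (U : ULink u)

/-- **Level 2**: the lines `x⁻¹ y0` with `x⁻¹ y0 + 6` a lane orthogonal to `6` are in the orbits of the rows. -/
theorem factor {t : ℕ} (ht : t < 4) {x : C} {i : ℕ} (hi : UX.testBit i = true)
    (hf : form (num P i) 6 = false)
    (hx : (coded U.ind).code (x⁻¹ • (coded U.ind).y0) = num P i ^^^ 6) :
    ∃ m, (m < 16 ∧ rt m = t) ∧ Dbl N (Lw (gs t)) (W (rk m)) x := by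
  have hT : ∀ m, m < 16 → first t ≤ m → m < first (t + 1) → rt m = t := fun m h1 h2 h3 =>
    (rt_iff m h1 t ht).2 ⟨h2, h3⟩
  interval_cases t
  · refine factor_of U CovS2B.short_ok (CovS2B.cover (S := coded U.ind)
      (inL_gs U (gg_mem_gs 0 (by norm_num)) (gg_ok 0 (by norm_num)) c0_0)
      (inL_gs U (gg_mem_gs 1 (by norm_num)) (gg_ok 1 (by norm_num)) c0_1) hi hf hx) ?_
    intro c hc
    obtain ⟨m, h1, h2, h3⟩ := codesOK_sound k0 hc
    exact ⟨m, ⟨lt_of_lt_of_le h2 (by decide +kernel), hT m (lt_of_lt_of_le h2 (by decide +kernel)) h1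
      (lt_of_lt_of_le h2 (by decide +kernel))⟩, rk_ok m (lt_of_lt_of_le h2 (by decide +kernel)), h3⟩
  · refine factor_of U CovS4A.short_ok (CovS4A.cover (S := coded U.ind)
      (inL_gs U (gg_mem_gs 2 (by norm_num)) (gg_ok 2 (by norm_num)) c1_0)
      (inL_gs U (gg_mem_gs 3 (by norm_num)) (gg_ok 3 (by norm_num)) c1_1) hi hf hx) ?_
    intro c hc
    obtain ⟨m, h1, h2, h3⟩ := codesOK_sound k1 hc
    exact ⟨m, ⟨lt_of_lt_of_le h2 (by decide +kernel), hT m (lt_of_lt_of_le h2 (by decide +kernel)) h1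
      (lt_of_lt_of_le h2 (by decide +kernel))⟩, rk_ok m (lt_of_lt_of_le h2 (by decide +kernel)), h3⟩
  · refine factor_of U CovS4B.short_ok (CovS4B.cover (S := coded U.ind)
      (inL_gs U (gg_mem_gs 4 (by norm_num)) (gg_ok 4 (by norm_num)) c2_0)
      (inL_gs U (gg_mem_gs 5 (by norm_num)) (gg_ok 5 (by norm_num)) c2_1)
      (inL_gs U (gg_mem_gs 6 (by norm_num)) (gg_ok 6 (by norm_num)) c2_2) hi hf hx) ?_
    intro c hc
    obtain ⟨m, h1, h2, h3⟩ := codesOK_sound k2 hc
    exact ⟨m, ⟨lt_of_lt_of_le h2 (by decide +kernel), hT m (lt_of_lt_of_le h2 (by decide +kernel)) h1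
      (lt_of_lt_of_le h2 (by decide +kernel))⟩, rk_ok m (lt_of_lt_of_le h2 (by decide +kernel)), h3⟩
  · refine factor_of U CovS6A.short_ok (CovS6A.cover (S := coded U.ind)
      (inL_gs U (gg_mem_gs 7 (by norm_num)) (gg_ok 7 (by norm_num)) c3_0)
      (inL_gs U (gg_mem_gs 8 (by norm_num)) (gg_ok 8 (by norm_num)) c3_1) hi hf hx) ?_
    intro c hc
    obtain ⟨m, h1, h2, h3⟩ := codesOK_sound k3 hc
    exact ⟨m, ⟨lt_of_lt_of_le h2 (by decide +kernel), hT m (lt_of_lt_of_le h2 (by decide +kernel)) h1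
      (lt_of_lt_of_le h2 (by decide +kernel))⟩, rk_ok m (lt_of_lt_of_le h2 (by decide +kernel)), h3⟩

/-- The generated group fixes both axes. -/
theorem fix {t : ℕ} : ∀ l ∈ Lw (gs t), l • bt t = bt t ∧ l • Cfsg.Agent.MonsterX.CertV.ax = Cfsg.Agent.MonsterX.CertV.ax := by
  intro l hl
  refine ⟨Lw_fix (fun w hw => ?_) l hl, Lw_fix (fun w hw => ?_) l hl⟩
  · obtain ⟨i, hi, h1, rfl⟩ := mem_gs hw
    rw [← h1]
    exact (gen_fix hi).1
  · obtain ⟨i, hi, h1, rfl⟩ := mem_gs hw
    exact (gen_fix hi).2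

include U in
theorem le_C (t : ℕ) : Lw (gs t) ≤ C := Lw_le U fun w hw => by
  obtain ⟨i, hi, -, rfl⟩ := mem_gs hw
  exact (okW_iff _).1 (gg_ok i hi)

end Cfsg.Agent.MonsterU.FactorTwo
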