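import Cfsg.Agent.MonsterU.LaneOf
import Cfsg.Agent.MonsterU.FactorTwo
import Cfsg.Agent.MonsterU.FactorThree
import Cfsg.Agent.MonsterU.CovTwo

/-!
# The three levels of (F): assembly

`lev` : the structure `LevelsInst.Lev` for `InstData.M`, `K = C`, `D = N` (as subgroups of `↥M.G`), from the facts on
the standard lines (`Tab`), the coverage of level 3 and the local hypotheses of level 1.
-/

set_option autoImplicit false
set_option maxRecDepth 100000

namespace Cfsg.Agent.MonsterU.LevAsm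

open Cfsg Cfsg.Agent.MonsterX Cfsg.Agent.MonsterX.Space Cfsg.Agent.MonsterX.Conc Cfsg.Agent.MonsterX.Model
open Cfsg.Agent.MonsterX.InstData Cfsg.Agent.MonsterX.CertCovD
open Cfsg.Agent.MonsterX.CertV (vv ax vv_append vv_nil)
open Cfsg.Agent.MonsterU.Local Cfsg.Agent.MonsterU.Types Cfsg.Agent.MonsterU.LineTab Cfsg.Agent.MonsterU.RowGlue
open Cfsg.Agent.MonsterU.LevelsInst Cfsg.Agent.MonsterU.LaneOf Cfsg.Agent.MonsterU.LevelThree Cfsg.Agent.MonsterP

variable {u : leechLattice → V} (U : FrameConc.ULink u)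

/-! ### Factorisation -/

include U in
theorem fac₂ (hF : FixLine U) : ∀ t, t < 4 → ∀ x ∈ C, x ax ∈ TZero.T₀ →
    ∃ m, (m < 16 ∧ VecTwo.rt m = t) ∧ Dbl N (Lw (FactorTwo.gs t)) (W (VecTwo.rk m)) x := by
  rintro t ht x hx ⟨d, hd, e⟩
  rw [ax_eq_T] at e
  obtain ⟨i, hi, hf, h1⟩ := lane_two hF (x := ⟨x, hx⟩) hd e
  exact FactorTwo.factor U ht hi hf h1

include U in
theorem fac₃ (hF : FixLine U) : ∀ t, t < 4 → ∀ x ∈ C, x ax ∈ TZero.T₀ → x VecThree.ax2 ∈ TZero.T₀ →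
    ∃ m, (m < 11 ∧ VecThree.rt m = t) ∧ Dbl N (Lw (FactorThree.gs t)) (W (VecThree.rk m)) x := by
  rintro t ht x hx ⟨d, hd, e⟩ ⟨d', hd', e'⟩
  rw [ax_eq_T] at e e'
  obtain ⟨i, i', hi, hf, hf', h1, hi', h2⟩ := lane_three hF (x := ⟨x, hx⟩) hd e hd' e'
  exact FactorThree.factor U ht hi hf hf' h1 hi' h2

/-! ### Heights -/

theorem d_zero : InstData.M.d (0 : Fin 12) = ax := by
  rw [M_d, VecLink.ax_eq]
  have : bj (0 : Fin 12).1 = [] := by decide +kernel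
  rw [this, W_nil]
  rfl

theorem hh_le (x : V) : hh x ≤ 11 := by
  unfold hh hgt
  split
  · rename_i h
    have := (Classical.choose h : Fin 12).2
    exact Nat.lt_succ_iff.1 this
  · exact Nat.zero_le _

variable {N' : Subgroup (V ≃ₗ[ℚ] V)} (T : Tab N')

include T in
theorem hh_S {x : V} (hx : x ∈ InstData.M.S) : hh x = 0 := by
  obtain ⟨g, hg, rfl⟩ := hx
  have h := hgt_eq (num := fun j : Fin 12 => j.1) T.disj (j := (0 : Fin 12)) hg
  rw [d_zero] at h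
  rw [M_a₀, ← VecLink.ax_eq]
  exact h

include T in
theorem mem_S {x : V} (hx : x ∈ InstData.M.X) (h : hh x = 0) : x ∈ InstData.M.S := by
  obtain ⟨j, g, hg, rfl⟩ := hx
  change Fin 12 at j
  have h1 := hgt_eq (num := fun j : Fin 12 => j.1) T.disj (j := j) hg
  have hj : j = (0 : Fin 12) := Fin.ext (h1.symm.trans h)
  subst hj
  rw [d_zero, VecLink.ax_eq, ← M_a₀]
  exact ⟨g, hg, rfl⟩

include T in
theorem hh_a1 : hh a1 = 0 := by
  apply hh_S T
  refine ⟨W [1], LevelTwo.W_mem_C' (by decide +kernel), ?_⟩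
  unfold a1
  rw [M_a₀, ← VecLink.ax_eq]
  rfl

/-! ### Level 2 -/

include U T in
theorem loc₂ (H : LineStab U) (hF : FixLine U) : LocHyp C N τ Conc.ξ (P₂ InstData.M) LevelTwo.h₂ := by
  refine locHyp_of_classes T.geo (LevelTwo.inv₂ T) (LevelTwo.cert T CovTwo.vals₂ ?_
    (gs := FactorTwo.gs) (fun _ _ _ hw => FactorTwo.mem_gs hw) (fac₂ U hF))
  intro s hs x hx hsx hpos
  rcases CovTwo.cov₂ U H hs hx hsx with h | ⟨k, hk, rfl, rfl⟩
  · exact h
  · exfalso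
    rw [hh_S T (S_smul (M := InstData.M) hk ax2_mem_S)] at hpos
    exact lt_irrefl 0 hpos

/-! ### Level 3 -/

/-- The coverage of level 3. -/
def Cov₃ : Prop := ∀ s ∈ InstData.M.S, ∀ s' ∈ InstData.M.S, ∀ x ∈ InstData.M.X, InstData.M.F s s' = 1 →
  InstData.M.F s x = 0 → InstData.M.F s' x = 1 → x ≠ InstData.M.σ s →
  ∃ t, t < 4 ∧ ∃ k ∈ C, s = k ax ∧ s' = k VecThree.ax2 ∧ x = k (VecThree.ct t)

include U T in
theorem loc₃ (hF : FixLine U) (hσ : SigComm) (hb : SigBase) (hc : Cov₃) :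
    LocHyp C N τ Conc.ξ (P₃ InstData.M) h₃ :=
  locHyp_of_classes T.geo (inv₃ T hσ) (LevelThree.cert T U hσ hb (hh_a1 T) CovTwo.vals₃ hc
    (gs := FactorThree.gs) (fun _ _ _ hw => FactorThree.mem_gs hw) (fac₃ U hF))

theorem h₃_zero {w : V × V × V} (h : h₃ w = 0) : w.2.2 = InstData.M.σ w.1 := by
  by_contra hne
  rw [h₃_of_ne hne] at h
  omega

/-! ### Assembly -/

/-- `C` as a subgroup of `↥M.G`. -/
noncomputable def KG : Subgroup InstData.M.G := C.subgroupOf InstData.M.G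

/-- `N` as a subgroup of `↥M.G`. -/
noncomputable def DG : Subgroup InstData.M.G := N.subgroupOf InstData.M.G

theorem C_le : C ≤ InstData.M.G := C_le_G

theorem τ_mem : τ ∈ InstData.M.G := τ_mem_G

/-- `τ` in `↥M.G`. -/
noncomputable def τG : InstData.M.G := ⟨τ, τ_mem⟩

/-- `ξ` in `↥M.G`. -/
noncomputable def ξG : InstData.M.G := ⟨Conc.ξ, C_le (E_mem_C (by norm_num))⟩

include U T in
/-- **The three levels.** -/
theorem lev (H : LineStab U) (hF : FixLine U) (hσ : SigComm) (hb : SigBase) (hc : Cov₃)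
    (l₁ : LocHyp C N τ Conc.ξ (fun x => x ∈ InstData.M.X) hh) :
    Lev InstData.M KG DG τG ξG hh LevelTwo.h₂ h₃ where
  i₁ := (inv₁ T.disj).subgroupOf
  l₁ := l₁.subgroupOf C_le τ_mem T.geo
  n₁ := ⟨11, hh_le⟩
  z₁ := fun x hx h => mem_S T hx h
  i₂ := (LevelTwo.inv₂ T).subgroupOf
  l₂ := (loc₂ U T H hF).subgroupOf C_le τ_mem T.geo
  n₂ := ⟨11, fun w => hh_le w.2⟩
  z₂ := fun s _ x hx _ h => mem_S T hx h
  i₃ := (inv₃ T hσ).subgroupOf
  l₃ := (loc₃ U T hF hσ hb hc).subgroupOf C_le τ_mem T.geo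
  n₃ := ⟨12, fun w => by
    unfold h₃
    split
    · exact Nat.zero_le _
    · exact Nat.succ_le_succ (hh_le _)⟩
  z₃ := fun s _ s' _ _ x _ _ _ h => h₃_zero h

end Cfsg.Agent.MonsterU.LevAsm
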