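import Cfsg.Agent.MonsterU.LocalCert

/-!
# The local hypotheses from a certificate with classes, rows and generators

* `b t` : representatives of the `K`-orbits of positive height, `L t` : a subgroup fixing `b t`;
* rows `m` : class `cl m`, element `c m ∈ K`; `factor` : `K`-elements mapping `b t` to a vector with the property `A`
  are in `D (c m) (L t)`;
* `locHyp_of_classes` : the local hypotheses;
* `LocHyp.subgroupOf` : the local hypotheses in a subgroup containing `K` and `τ`.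
-/

set_option autoImplicit false

namespace Cfsg.Agent.MonsterU.Local

variable {G W : Type*} [Group G] [MulAction G W]
  {K N D : Subgroup G} {τ ξ : G} {P : W → Prop} {h : W → ℕ}

/-- A certificate for the local hypotheses. -/
structure ClassCert (K D : Subgroup G) (τ ξ : G) (P : W → Prop) (h : W → ℕ) {κ μ : Type*} (b : κ → W)
    (A : W → Prop) (cl : μ → κ) (c : μ → G) (L : κ → Subgroup G) (S : κ → Set G) : Prop where
  cov : ∀ w, P w → 0 < h w → ∃ t, ∃ k ∈ K, w = k • b t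
  mem_lo : ∀ w, P w → 0 < h w → Lo τ P h w → A w
  mem_flat : ∀ w, P w → 0 < h w → Flat τ P h w → A w
  P_b : ∀ t, P (b t)
  pos : ∀ t, 0 < h (b t)
  base : ∀ t, Lo τ P h (b t)
  fix : ∀ t, ∀ l ∈ L t, l • b t = b t
  factor : ∀ t, ∀ x ∈ K, A (x • b t) → ∃ m, cl m = t ∧ ∃ d ∈ D, ∃ l ∈ L t, x = d * c m * l
  tree : ∀ m, Lo τ P h (c m • b (cl m)) →
    Relation.ReflTransGen (Step D ξ (Lo τ P h) (b (cl m))) 1 (c m)
  closure : ∀ t, L t = Subgroup.closure (S t)
  gens : ∀ t, ∀ g ∈ S t, Relation.ReflTransGen (Step D ξ (Lo τ P h) (b t)) 1 g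
  flat : ∀ m, Flat τ P h (c m • b (cl m)) →
    Lo τ P h (c m • b (cl m)) ∨ ∃ d ∈ D, Lo τ P h (ξ • d • c m • b (cl m))

/-- **The local hypotheses from a certificate.** -/
theorem locHyp_of_classes (hG : Geom K N D τ ξ) (hi : Inv K P h) {κ μ : Type*} {b : κ → W}
    {A : W → Prop} {cl : μ → κ} {c : μ → G} {L : κ → Subgroup G} {S : κ → Set G}
    (C : ClassCert K D τ ξ P h b A cl c L S) : LocHyp K D τ ξ P h := by
  let B : κ ⊕ {w : W // h w = 0} → W := Sum.elim b (fun w => w.1)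
  have hr : Reps K D τ ξ P h B (fun m => c m • b (cl m)) := by
    refine ⟨?_, ?_, ?_, ?_, ?_⟩
    · intro w hw
      rcases Nat.eq_zero_or_pos (h w) with h0 | h0
      · exact ⟨Sum.inr ⟨w, h0⟩, 1, K.one_mem, (one_smul G w).symm⟩
      · obtain ⟨t, k, hk, e⟩ := C.cov w hw h0
        exact ⟨Sum.inl t, k, hk, e⟩
    · intro w hw h0 hf
      obtain ⟨t, k, hk, rfl⟩ := C.cov w hw h0
      obtain ⟨m, rfl, d, hd, l, hl, e⟩ := C.factor t k hk (C.mem_flat _ hw h0 hf)
      refine ⟨m, d, hd, ?_⟩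
      rw [e, mul_smul, mul_smul, C.fix _ l hl]
    · rintro (t | ⟨w, h0⟩) hpos
      · exact C.base t
      · exact absurd hpos (by simp [B, h0])
    · rintro (t | ⟨w, h0⟩) hpos
      · intro x hx hlo
        have ht : TreeCert K D (L t) ξ (Lo τ P h) (b t) (fun m : {m : μ // cl m = t} => c m.1) (S t) := by
          refine ⟨C.fix t, ?_, C.base t, ?_, C.closure t, C.gens t⟩
          · intro x hx hlo
            have hP : P (x • b t) := hi.P_smul x hx _ (C.P_b t)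
            have hp : 0 < h (x • b t) := by rw [hi.h_smul x hx]; exact C.pos t
            obtain ⟨m, hm, d, hd, l, hl, e⟩ := C.factor t x hx (C.mem_lo _ hP hp hlo)
            exact ⟨⟨m, hm⟩, l, hl, d, hd, e⟩
          · rintro ⟨m, rfl⟩ hlo
            exact ⟨c m, C.tree m hlo, 1, D.one_mem, 1, (L _).one_mem, by rw [one_mul, mul_one]⟩
        exact ht.conn hG.ξ_sq (fun d hd w => Lo.smul_D_iff hG hi hd) x hx hlo
      · exact absurd hpos (by simp [B, h0])
    · intro m _ _ hf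
      exact C.flat m hf
  exact hr.locHyp hG hi

/-- A step of the tree. -/
theorem chain_step (hG : Geom K N D τ ξ) (hi : Inv K P h) {b : W} {k n k' : G} (hn : n ∈ D)
    (e : k' = ξ * n * k) (hk : Relation.ReflTransGen (Step D ξ (Lo τ P h) b) 1 k) (hlo : Lo τ P h (k • b))
    (hlo' : Lo τ P h (k' • b)) : Relation.ReflTransGen (Step D ξ (Lo τ P h) b) 1 k' := by
  have h1 : Lo τ P h ((n * k) • b) := by
    rw [mul_smul]
    exact Lo.smul_D hG hi hn hlo
  subst e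
  refine (hk.tail ⟨hlo, h1, Or.inl ⟨n, hn, rfl⟩⟩).tail ⟨h1, hlo', Or.inr ?_⟩
  rw [mul_assoc]

theorem Flat.smul_D_iff (hG : Geom K N D τ ξ) (hi : Inv K P h) {d : G} (hd : d ∈ D) {w : W} (hP : P w) :
    Flat τ P h (d • w) ↔ Flat τ P h w := by
  refine ⟨fun h1 => ?_, Flat.smul_D hG hi hd hP⟩
  have := Flat.smul_D hG hi (D.inv_mem hd) (hi.P_smul _ (hG.D_K hd) _ hP) h1
  rwa [inv_smul_smul] at this

/-! ### Subgroups -/

section Sub

variable {H : Subgroup G} (hKH : K ≤ H) (hτ : τ ∈ H)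

include hKH hτ

/-- The geometry in a subgroup. -/
theorem Geom.subgroupOf (hG : Geom K N D τ ξ) :
    Geom (K.subgroupOf H) (N.subgroupOf H) (D.subgroupOf H) ⟨τ, hτ⟩ ⟨ξ, hKH hG.ξ_K⟩ where
  D_K := fun _ hx => hG.D_K hx
  D_N := fun _ hx => hG.D_N hx
  τ_N := hG.τ_N
  ξ_K := hG.ξ_K
  ξ_sq := Subtype.ext hG.ξ_sq
  cases := by
    intro n hn
    rcases hG.cases n hn with h1 | ⟨d, hd, h1⟩ | ⟨d, hd, h1⟩
    · exact Or.inl h1
    · exact Or.inr (Or.inl ⟨⟨d, hKH (hG.D_K hd)⟩, hd, Subtype.ext h1⟩)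
    · exact Or.inr (Or.inr ⟨⟨d, hKH (hG.D_K hd)⟩, hd, Subtype.ext h1⟩)

omit hKH hτ in
theorem Inv.subgroupOf (hi : Inv K P h) : Inv (K.subgroupOf H) P h where
  P_smul := fun k hk w hw => hi.P_smul k hk w hw
  h_smul := fun k hk w => hi.h_smul k hk w

/-- **The local hypotheses in a subgroup.** -/
theorem LocHyp.subgroupOf (hG : Geom K N D τ ξ) (hl : LocHyp K D τ ξ P h) :
    LocHyp (K.subgroupOf H) (D.subgroupOf H) (⟨τ, hτ⟩ : H) ⟨ξ, hKH hG.ξ_K⟩ P h where
  m1 := by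
    intro w hw h0
    obtain ⟨k, hk, h1⟩ := hl.m1 w hw h0
    exact ⟨⟨k, hKH hk⟩, hk, h1⟩
  m2 := by
    intro w hw h0 x hx y hy h1 h2
    have h3 := hl.m2 w hw h0 x hx y hy h1 h2
    have key : ∀ z : G, Relation.ReflTransGen (Step D ξ (Lo τ P h) w) (x : G) z → ∃ hz : z ∈ H,
        Relation.ReflTransGen (Step (D.subgroupOf H) (⟨ξ, hKH hG.ξ_K⟩ : H) (Lo (⟨τ, hτ⟩ : H) P h) w) x
          ⟨z, hz⟩ := by
      intro z hz
      induction hz with
      | refl => exact ⟨x.2, Relation.ReflTransGen.refl⟩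
      | @tail b c _ hbc ih =>
        obtain ⟨hb, ih⟩ := ih
        obtain ⟨h4, h5, h6⟩ := hbc
        have hc : c ∈ H := by
          rcases h6 with ⟨d, hd, rfl⟩ | rfl
          · exact H.mul_mem (hKH (hG.D_K hd)) hb
          · exact H.mul_mem (hKH hG.ξ_K) hb
        refine ⟨hc, ih.tail ⟨h4, h5, ?_⟩⟩
        rcases h6 with ⟨d, hd, e⟩ | e
        · exact Or.inl ⟨⟨d, hKH (hG.D_K hd)⟩, hd, Subtype.ext e⟩
        · exact Or.inr (Subtype.ext e)
    obtain ⟨_, h4⟩ := key y h3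
    exact h4
  m3 := by
    intro w hw h0 hf
    rcases hl.m3 w hw h0 hf with h1 | ⟨d, hd, h1⟩
    · exact Or.inl h1
    · exact Or.inr ⟨⟨d, hKH (hG.D_K hd)⟩, hd, h1⟩

end Sub

end Cfsg.Agent.MonsterU.Local
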