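import Cfsg.Agent.MonsterU.Local
import Cfsg.Agent.MonsterU.EmbedAbs

/-!
# The three levels from local hypotheses (helper620)

`levels3`: `Levels3 K N τ ξ` (the input of `EmbedAbs.embed`, `GlueP.exists_hom_of_levels`) from the local hypotheses `LocHyp`
of `Local.lean` for three `G`-sets `W₁, W₂, W₃` with base elements `w₁, w₂, w₃`: all points belong to the first level, a point
of height `0` of the first level belongs to the second, a point of height `0` of the second to the third, and the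
third level has only one point of height `0`.

`levels3_tuples`: the form for tuples of elements of one `G`-set `X` (axes): level 1 = `a`, level 2 = `(a, b)`,
level 3 = `(a, b, c)`, `S ≤ X` a `K`-invariant set.
-/

set_option autoImplicit false

namespace Cfsg.Agent.MonsterU.Sheet3

open Cfsg.Agent.MonsterU.Morse Cfsg.Agent.MonsterU.Glue Cfsg.Agent.MonsterU.Levels Cfsg.Agent.MonsterU.GlueP
open Cfsg.Agent.MonsterU.Local

variable {G : Type*} [Group G] {K N D : Subgroup G} {τ ξ : G}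

/-- The triangles of `GlueP` satisfy `TriHyp`. -/
theorem triHyp : TriHyp K N τ ξ (TriP K N τ ξ) where
  swap := TriP.swap
  line g _ hn _ hn' := TriP.line g hn hn'
  plane g _ _ hn hn' := TriP.plane g hn hn'

/-- The height is bounded if `h` is bounded on `P`. -/
theorem ht_bounded {W : Type*} [MulAction G W] {P : W → Prop} {h : W → ℕ} (hi : Inv K P h) (w₀ : W)
    (hb : ∃ n, ∀ w, P w → h w ≤ n) : ∃ n, ∀ x ∈ Pts K P w₀, ht K h w₀ x ≤ n := by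
  obtain ⟨n, hn⟩ := hb
  refine ⟨n, ?_⟩
  rintro _ ⟨g, rfl, hg⟩
  rw [ht_mk hi]
  exact hn _ hg

/-- **Three levels from local hypotheses.** -/
theorem levels3 (hG : Geom K N D τ ξ)
    {W₁ W₂ W₃ : Type*} [MulAction G W₁] [MulAction G W₂] [MulAction G W₃]
    {P₁ : W₁ → Prop} {h₁ : W₁ → ℕ} {P₂ : W₂ → Prop} {h₂ : W₂ → ℕ} {P₃ : W₃ → Prop} {h₃ : W₃ → ℕ}
    (i₁ : Inv K P₁ h₁) (i₂ : Inv K P₂ h₂) (i₃ : Inv K P₃ h₃)
    (l₁ : LocHyp K D τ ξ P₁ h₁) (l₂ : LocHyp K D τ ξ P₂ h₂) (l₃ : LocHyp K D τ ξ P₃ h₃)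
    (n₁ : ∃ n, ∀ w, P₁ w → h₁ w ≤ n) (n₂ : ∃ n, ∀ w, P₂ w → h₂ w ≤ n) (n₃ : ∃ n, ∀ w, P₃ w → h₃ w ≤ n)
    (w₁ : W₁) (w₂ : W₂) (w₃ : W₃)
    (b₀ : ∀ g : G, P₁ (g • w₁)) (b₁ : ∀ g : G, h₁ (g • w₁) = 0 → P₂ (g • w₂))
    (b₂ : ∀ g : G, P₂ (g • w₂) → h₂ (g • w₂) = 0 → P₃ (g • w₃))
    (g₀ : G) (b₃ : ∀ g : G, P₃ (g • w₃) → h₃ (g • w₃) = 0 → ∃ k ∈ K, g = k * g₀) :
    Levels3 K N τ ξ := by
  refine ⟨Pts K P₁ w₁, Pts K P₂ w₂, Pts K P₃ w₃, ht K h₁ w₁, ht K h₂ w₂, ht K h₃ w₃, ((g₀⁻¹ : G) : G ⧸ K),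
    morse hG triHyp i₁ l₁ w₁, morse hG triHyp i₂ l₂ w₂, morse hG triHyp i₃ l₃ w₃, ht_bounded i₁ w₁ n₁,
    ht_bounded i₂ w₂ n₂, ht_bounded i₃ w₃ n₃, ?_, ?_, ?_, ?_⟩
  · intro x
    obtain ⟨g, rfl⟩ := QuotientGroup.mk_surjective x
    rw [mem_Pts i₁]
    exact b₀ _
  · intro x _ hx
    obtain ⟨g, rfl⟩ := QuotientGroup.mk_surjective x
    rw [ht_mk i₁] at hx
    rw [mem_Pts i₂]
    exact b₁ _ hx
  · intro x hxE hx
    obtain ⟨g, rfl⟩ := QuotientGroup.mk_surjective x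
    rw [mem_Pts i₂] at hxE
    rw [ht_mk i₂] at hx
    rw [mem_Pts i₃]
    exact b₂ _ hxE hx
  · intro x hxE hx
    obtain ⟨g, rfl⟩ := QuotientGroup.mk_surjective x
    rw [mem_Pts i₃] at hxE
    rw [ht_mk i₃] at hx
    obtain ⟨k, hk, h⟩ := b₃ _ hxE hx
    rw [QuotientGroup.eq]
    have : g⁻¹ * g₀⁻¹ = k := by rw [h]; group
    rw [this]
    exact hk

section Tuples

variable {X : Type*} [MulAction G X]

/-- Level 1: the axes. -/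
def P₁ (X' : Set X) : X → Prop := fun x => x ∈ X'

/-- Level 2: pairs of an element of `S` and an axis in a given relation. -/
def P₂ (X' S : Set X) (R : X → X → Prop) : X × X → Prop := fun w => w.1 ∈ S ∧ w.2 ∈ X' ∧ R w.1 w.2

/-- Level 3: triples. -/
def P₃ (X' S : Set X) (R : X → X → Prop) (R' : X → X → X → Prop) : X × X × X → Prop :=
  fun w => w.1 ∈ S ∧ w.2.1 ∈ S ∧ R w.1 w.2.1 ∧ w.2.2 ∈ X' ∧ R' w.1 w.2.1 w.2.2

/-- **Three levels for tuples.**  `X'` is `G`-invariant, `S` is `K`-invariant, `R` and `R'` are `G`-invariant relations with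
`R a b` and `R' a b c`; `h₁` vanishes only on `S`, `h₂ (s, x)` only if `x ∈ S`; if `h₃ (s, s', x) = 0` then `x = σ s`. -/
theorem levels3_tuples (hG : Geom K N D τ ξ) {X' S : Set X} {R : X → X → Prop} {R' : X → X → X → Prop}
    {h₁ : X → ℕ} {h₂ : X × X → ℕ} {h₃ : X × X × X → ℕ}
    (hX : ∀ (g : G) (x : X), x ∈ X' → g • x ∈ X') (hR : ∀ (g : G) (x y : X), R x y → R (g • x) (g • y))
    (hR' : ∀ (g : G) (x y w : X), R' x y w → R' (g • x) (g • y) (g • w))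
    (i₁ : Inv K (P₁ X') h₁) (i₂ : Inv K (P₂ X' S R) h₂) (i₃ : Inv K (P₃ X' S R R') h₃)
    (l₁ : LocHyp K D τ ξ (P₁ X') h₁) (l₂ : LocHyp K D τ ξ (P₂ X' S R) h₂) (l₃ : LocHyp K D τ ξ (P₃ X' S R R') h₃)
    (n₁ : ∃ n, ∀ w, h₁ w ≤ n) (n₂ : ∃ n, ∀ w, h₂ w ≤ n) (n₃ : ∃ n, ∀ w, h₃ w ≤ n)
    {a b c : X} (ha : a ∈ X') (hb : b ∈ X') (hc : c ∈ X') (hab : R a b) (habc : R' a b c)
    (z₁ : ∀ x ∈ X', h₁ x = 0 → x ∈ S) (z₂ : ∀ s ∈ S, ∀ x ∈ X', R s x → h₂ (s, x) = 0 → x ∈ S)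
    (g₀ : G) (z₃ : ∀ g : G, g • a ∈ S → g • b ∈ S → h₃ (g • a, g • b, g • c) = 0 → ∃ k ∈ K, g = k * g₀) :
    Levels3 K N τ ξ := by
  refine levels3 hG i₁ i₂ i₃ l₁ l₂ l₃ ?_ ?_ ?_ a (a, b) (a, b, c) ?_ ?_ ?_ g₀ ?_
  · obtain ⟨n, hn⟩ := n₁; exact ⟨n, fun w _ => hn w⟩
  · obtain ⟨n, hn⟩ := n₂; exact ⟨n, fun w _ => hn w⟩
  · obtain ⟨n, hn⟩ := n₃; exact ⟨n, fun w _ => hn w⟩
  · intro g
    exact hX g a ha
  · intro g hg
    exact ⟨z₁ _ (hX g a ha) hg, hX g b hb, hR g a b hab⟩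
  · intro g hg hg0
    exact ⟨hg.1, z₂ _ hg.1 _ (hX g b hb) (hR g a b hab) hg0, hR g a b hab, hX g c hc, hR' g a b c habc⟩
  · intro g hg hg0
    exact z₃ g hg.1 hg.2.1 hg0

/-- The third level has one point at the bottom: `t x` the involution of the axis `x`, `t c = z₀ t a` with
`z₀ = g₀⁻¹ z g₀`, and at the bottom `t (g c) = z t (g a)`. -/
theorem z₃_of {z : G} (hK : K = Subgroup.centralizer {z}) {t : X → G} (ht : ∀ (g : G) (x : X), t (g • x) = g * t x * g⁻¹)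
    {a c : X} {g₀ : G} (hc : t c = g₀⁻¹ * z * g₀ * t a) {g : G} (hg : t (g • c) = z * t (g • a)) :
    ∃ k ∈ K, g = k * g₀ := by
  refine ⟨g * g₀⁻¹, ?_, by group⟩
  rw [hK, Subgroup.mem_centralizer_singleton_iff]
  rw [ht, ht, hc] at hg
  have h1 : g * (g₀⁻¹ * z * g₀) * g⁻¹ = z := by
    have h2 : g * (g₀⁻¹ * z * g₀ * t a) * g⁻¹ = (g * (g₀⁻¹ * z * g₀) * g⁻¹) * (g * t a * g⁻¹) := by group
    rw [h2] at hg
    exact mul_right_cancel hg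
  calc g * g₀⁻¹ * z = (g * (g₀⁻¹ * z * g₀) * g⁻¹) * (g * g₀⁻¹) := by group
    _ = z * (g * g₀⁻¹) := by rw [h1]

end Tuples

end Cfsg.Agent.MonsterU.Sheet3
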