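import Mathlib
import Cfsg.Agent.MonsterU.Gasch

/-!
# The isomorphism of the involution centralisers by transfer (piece (D4))

`Γ ≤ G × G'` is a correspondence whose kernels have order two, `Dg ≤ Γ` a normal graph, `Pg ≤ Γ` the graph of an isomorphism of
two subgroups of odd index.  Then there is a graph `DC ≤ Γ` of an isomorphism containing `Pg`.
-/

set_option autoImplicit false

open scoped commutatorElement

namespace Cfsg.Agent.MonsterU.AmalC

/-- the transfer kills a normal subgroup contained in the kernel -/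
theorem transfer_normal {T A : Type*} [Group T] [CommGroup A] {H : Subgroup T} [H.FiniteIndex] (χ : H →* A)
    (D : Subgroup T) [hD : D.Normal] (h1 : ∀ d (hd : d ∈ H), d ∈ D → χ ⟨d, hd⟩ = 1) {d : T} (hd : d ∈ D) :
    χ.transfer d = 1 := by
  classical
  have : Fintype (Quotient (MulAction.orbitRel (Subgroup.zpowers d) (T ⧸ H))) := Fintype.ofFinite _
  rw [MonoidHom.transfer_eq_prod_quotient_orbitRel_zpowers_quot]
  refine Finset.prod_eq_one fun q _ => ?_
  apply h1
  have h2 := hD.conj_mem _ (D.pow_mem hd (Function.minimalPeriod (fun x => d • x) (Quotient.out q)))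
    (Quotient.out (Quotient.out q))⁻¹
  rw [inv_inv] at h2
  exact h2

section

variable {G G' : Type*} [Group G] [Group G']

/-- **(D4)** -/
theorem exists_graph (Γ Pg Dg : Subgroup (G × G')) [Finite Γ] (K P Q : Subgroup G)
    (hK : Γ.map (MonoidHom.fst G G') = K) (hP : Pg.map (MonoidHom.fst G G') = P)
    (hQ : Dg.map (MonoidHom.fst G G') = Q) (hDP : Dg ≤ Pg) (hPΓ : Pg ≤ Γ)
    (hDn : ∀ t ∈ Γ, ∀ d ∈ Dg, t * d * t⁻¹ ∈ Dg) {z' : G'} (hz' : z' ≠ 1)
    (hΓ1 : ∀ c', ((1 : G), c') ∈ Γ ↔ c' = 1 ∨ c' = z') (hP1 : ((1 : G), z') ∉ Pg)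
    (hodd : Odd (P.relIndex K)) (hperf : P ≤ ⁅P, P⁆ ⊔ Q) :
    ∃ DC : Subgroup (G × G'), Pg ≤ DC ∧ DC ≤ Γ ∧ ((1 : G), z') ∉ DC ∧
      ∀ c c', (c, c') ∈ Γ → (c, c') ∈ DC ∨ (c, c' * z') ∈ DC := by
  classical
  have hω : ((1 : G), z') ∈ Γ := (hΓ1 z').2 (Or.inr rfl)
  let ω : Γ := ⟨(1, z'), hω⟩
  have hz2 : z' * z' = 1 := by
    have h1 : ((1 : G), z' * z') ∈ Γ := by
      have := Γ.mul_mem hω hω
      rwa [Prod.mk_mul_mk, one_mul] at this
    rcases (hΓ1 _).1 h1 with h | h
    · exact h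
    · exact absurd (mul_eq_left.1 h) hz'
  have hω2 : ω * ω = 1 := by
    apply Subtype.ext
    show ((1 : G), z') * ((1 : G), z') = 1
    rw [Prod.mk_mul_mk, one_mul, hz2]; rfl
  have hωne : ω ≠ 1 := by
    intro h
    exact hz' (congrArg (fun t : Γ => (t : G × G').2) h)
  have hωc : ∀ t : Γ, t * ω = ω * t := by
    rintro ⟨⟨c, c'⟩, ht⟩
    have h1 : ((1 : G), c' * z' * c'⁻¹) ∈ Γ := by
      have := Γ.mul_mem (Γ.mul_mem ht hω) (Γ.inv_mem ht)
      rw [Prod.mk_mul_mk, Prod.inv_mk, Prod.mk_mul_mk, mul_one, mul_inv_cancel] at this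
      exact this
    apply Subtype.ext
    show (c, c') * ((1 : G), z') = ((1 : G), z') * (c, c')
    rw [Prod.mk_mul_mk, Prod.mk_mul_mk, mul_one, one_mul]
    rcases (hΓ1 _).1 h1 with h | h
    · exfalso
      apply hz'
      rw [mul_inv_eq_one] at h
      exact mul_eq_left.1 h
    · rw [mul_inv_eq_iff_eq_mul] at h
      rw [h]
  -- uniqueness in `Pg` and `Γ`
  have huΓ : ∀ c c' c'', (c, c') ∈ Γ → (c, c'') ∈ Γ → c'' = c' ∨ c'' = c' * z' := by
    intro c c' c'' h1 h2
    have h3 : ((1 : G), c'⁻¹ * c'') ∈ Γ := by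
      have := Γ.mul_mem (Γ.inv_mem h1) h2
      rwa [Prod.inv_mk, Prod.mk_mul_mk, inv_mul_cancel] at this
    rcases (hΓ1 _).1 h3 with h | h
    · left; exact (inv_mul_eq_one.1 h).symm
    · right; rw [← h]; group
  have huP : ∀ c c' c'', (c, c') ∈ Pg → (c, c'') ∈ Pg → c'' = c' := by
    intro c c' c'' h1 h2
    rcases huΓ c c' c'' (hPΓ h1) (hPΓ h2) with h | h
    · exact h
    · exfalso
      apply hP1
      have := Pg.mul_mem (Pg.inv_mem h1) h2
      rwa [h, Prod.inv_mk, Prod.mk_mul_mk, inv_mul_cancel, inv_mul_cancel_left] at this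
  -- the projection
  let f : Γ →* K :=
    { toFun := fun t => ⟨(t : G × G').1, by rw [← hK]; exact ⟨t, t.2, rfl⟩⟩
      map_one' := rfl
      map_mul' := fun _ _ => rfl }
  have hf : Function.Surjective f := by
    rintro ⟨c, hc⟩
    rw [← hK] at hc
    obtain ⟨t, ht, htc⟩ := hc
    exact ⟨⟨t, ht⟩, Subtype.ext htc⟩
  let H : Subgroup Γ := (P.subgroupOf K).comap f
  have hHi : H.index = P.relIndex K := Subgroup.index_comap_of_surjective _ hf
  have hHodd : Odd H.index := by rw [hHi]; exact hodd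
  have : H.FiniteIndex := inferInstance
  have memH : ∀ t : Γ, t ∈ H ↔ (t : G × G').1 ∈ P := fun t => Iff.rfl
  have hPgH : ∀ t : Γ, (t : G × G') ∈ Pg → t ∈ H := by
    intro t ht
    rw [memH, ← hP]
    exact ⟨_, ht, rfl⟩
  have hH : ∀ t : Γ, t ∈ H → (t : G × G') ∈ Pg ∨ ((t * ω : Γ) : G × G') ∈ Pg := by
    rintro ⟨⟨c, c'⟩, ht⟩ htH
    rw [memH, ← hP] at htH
    obtain ⟨⟨d, d'⟩, hd, hdc⟩ := htH
    have hdc' : d = c := hdc
    subst hdc'
    rcases huΓ d c' d' ht (hPΓ hd) with h | h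
    · left
      show (d, c') ∈ Pg
      rw [← h]; exact hd
    · right
      show (d, c') * ((1 : G), z') ∈ Pg
      rw [Prod.mk_mul_mk, mul_one, ← h]
      exact hd
  have hωH : ω ∈ H := by
    rw [memH]
    exact P.one_mem
  -- the character
  let sg : H → Multiplicative (ZMod 2) := fun h =>
    if ((h : Γ) : G × G') ∈ Pg then 1 else Multiplicative.ofAdd 1
  have sg_one : ∀ h : H, sg h = 1 ↔ ((h : Γ) : G × G') ∈ Pg := by
    intro h
    simp only [sg]
    split_ifs with h1
    · exact iff_of_true rfl h1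
    · exact iff_of_false (by decide) h1
  have two : ∀ a : Multiplicative (ZMod 2), a = 1 ∨ a = Multiplicative.ofAdd 1 := by decide
  have hωP : (ω : G × G') ∉ Pg := hP1
  have hex : ∀ t : Γ, (t : G × G') ∈ Pg → ((t * ω : Γ) : G × G') ∉ Pg := by
    intro t h1 h2
    apply hωP
    have := Pg.mul_mem (Pg.inv_mem h1) h2
    rwa [Subgroup.coe_mul, inv_mul_cancel_left] at this
  let χ : H →* Multiplicative (ZMod 2) :=
    { toFun := sg
      map_one' := (sg_one 1).2 Pg.one_mem
      map_mul' := by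
        intro a b
        rcases hH a a.2 with ha | ha <;> rcases hH b b.2 with hb | hb
        · rw [(sg_one a).2 ha, (sg_one b).2 hb, one_mul, sg_one]
          exact Pg.mul_mem ha hb
        · have h1 : sg b ≠ 1 := fun h => hex _ ((sg_one b).1 h) hb
          have h2 : sg (a * b) ≠ 1 := fun h => by
            rw [sg_one] at h
            apply hex _ h
            have := Pg.mul_mem ha hb
            show (((a : Γ) * b * ω : Γ) : G × G') ∈ Pg
            rw [mul_assoc]
            exact this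
          rw [(sg_one a).2 ha, one_mul, (two _).resolve_left h1, (two _).resolve_left h2]
        · have h1 : sg a ≠ 1 := fun h => hex _ ((sg_one a).1 h) ha
          have h2 : sg (a * b) ≠ 1 := fun h => by
            rw [sg_one] at h
            apply hex _ h
            have := Pg.mul_mem ha hb
            show (((a : Γ) * b * ω : Γ) : G × G') ∈ Pg
            rw [mul_assoc, hωc, ← mul_assoc]
            exact this
          rw [(sg_one b).2 hb, mul_one, (two _).resolve_left h1, (two _).resolve_left h2]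
        · have h1 : sg a ≠ 1 := fun h => hex _ ((sg_one a).1 h) ha
          have h3 : sg b ≠ 1 := fun h => hex _ ((sg_one b).1 h) hb
          rw [(two _).resolve_left h1, (two _).resolve_left h3,
            show (Multiplicative.ofAdd (1 : ZMod 2)) * Multiplicative.ofAdd 1 = 1 by decide, sg_one]
          have h4 := Pg.mul_mem ha hb
          have h5 : ((a : Γ) * ω) * (b * ω) = a * b := by
            rw [mul_assoc, ← mul_assoc ω, ← hωc, mul_assoc, hω2, mul_one]
          have h6 : (((a : Γ) * ω : Γ) : G × G') * ((b * ω : Γ) : G × G') = ((a * b : Γ) : G × G') := by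
            rw [← Subgroup.coe_mul, h5]
          rw [h6] at h4
          exact h4 }
  have hχω : χ ⟨ω, hωH⟩ ≠ 1 := fun h => hωP ((sg_one ⟨ω, hωH⟩).1 h)
  have hVω : χ.transfer ω ≠ 1 := by
    rw [Gasch.transfer_center χ hω2 hωc hHodd hωH]
    exact hχω
  -- the transfer kills `Dg`
  let D : Subgroup Γ := Dg.subgroupOf Γ
  have hD : D.Normal := ⟨fun d hd t => hDn t t.2 d hd⟩
  have hVD : ∀ d : Γ, (d : G × G') ∈ Dg → χ.transfer d = 1 := by
    intro d hd
    exact transfer_normal χ D (fun e he heD => (sg_one ⟨e, he⟩).2 (hDP heD)) hd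
  -- the kernel
  let S : Subgroup (G × G') := χ.transfer.ker.map Γ.subtype
  have memS : ∀ t : Γ, (t : G × G') ∈ S ↔ χ.transfer t = 1 := by
    intro t
    constructor
    · rintro ⟨s, hs, hst⟩
      have : s = t := Subtype.ext hst
      rw [← this]; exact hs
    · intro h
      exact ⟨t, h, rfl⟩
  have hSΓ : S ≤ Γ := by
    rintro _ ⟨s, _, rfl⟩
    exact s.2
  -- `Pg ≤ S`
  have hcom : ⁅Pg, Pg⁆ ⊔ Dg ≤ S := by
    rw [sup_le_iff]
    constructor
    · rw [Subgroup.commutator_le]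
      intro a ha b hb
      have h1 : χ.transfer ⁅(⟨a, hPΓ ha⟩ : Γ), ⟨b, hPΓ hb⟩⁆ = 1 := by
        rw [map_commutatorElement, commutatorElement_eq_one_iff_mul_comm, mul_comm]
      exact (memS ⁅(⟨a, hPΓ ha⟩ : Γ), ⟨b, hPΓ hb⟩⁆).2 h1
    · intro d hd
      exact (memS ⟨d, hPΓ (hDP hd)⟩).2 (hVD ⟨d, hPΓ (hDP hd)⟩ hd)
  have hPS : Pg ≤ S := by
    rintro ⟨c, c'⟩ hc
    have h1 : c ∈ P := by rw [← hP]; exact ⟨_, hc, rfl⟩
    have h2 : P ≤ (⁅Pg, Pg⁆ ⊔ Dg).map (MonoidHom.fst G G') := by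
      rw [Subgroup.map_sup, Subgroup.map_commutator, hP, hQ]
      exact hperf
    obtain ⟨⟨d, d'⟩, hd, hdc⟩ := h2 h1
    have hdc' : d = c := hdc
    subst hdc'
    have h3 : ⁅Pg, Pg⁆ ⊔ Dg ≤ Pg := sup_le (Subgroup.commutator_le.2 fun a ha b hb => by
      rw [commutatorElement_def]
      exact Pg.mul_mem (Pg.mul_mem (Pg.mul_mem ha hb) (Pg.inv_mem ha)) (Pg.inv_mem hb)) hDP
    rw [huP d d' c' (h3 hd) hc]
    exact hcom hd
  have hlast : ∀ t : Γ, (t : G × G') ∈ S ∨ (t : G × G') * ((1 : G), z') ∈ S := by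
    intro t
    rcases two (χ.transfer t) with h | h
    · left; exact (memS t).2 h
    · right
      have h1 : χ.transfer (t * ω) = 1 := by
        rw [map_mul, h, (two _).resolve_left hVω]; rfl
      exact (memS (t * ω)).2 h1
  refine ⟨S, hPS, hSΓ, fun h => hVω ((memS ω).1 h), fun c c' hc => ?_⟩
  have h2 := hlast ⟨(c, c'), hc⟩
  rw [Prod.mk_mul_mk, mul_one] at h2
  exact h2

end

end Cfsg.Agent.MonsterU.AmalC
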