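import Cfsg.Agent.MonsterU.AmalIso
import Cfsg.Agent.MonsterU.EmbedAbs
import Cfsg.Agent.MonsterU.PlaneE

/-!
# From the graphs of step (D) to homomorphisms (helper620)

`exists_homs`: `Side` for two groups, `Two` and the odd index give `α : C(z) →* G'` injective onto `C(z')` and
`β : N(⟨z, y⟩) →* G'` agreeing on the intersection.  `data`: the input of step (E).  `embed`: the embedding of the simple
group `G` (the model) into `G'`.
-/

set_option autoImplicit false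

namespace Cfsg.Agent.MonsterU.AmalHom

open Cfsg.Agent.MonsterU.AmalPin Cfsg.Agent.MonsterU.AmalSide Cfsg.Agent.MonsterU.AmalSide.Side
open Cfsg.Agent.MonsterU.AmalQuot Cfsg.Agent.MonsterU.AmalTwo Cfsg.Agent.MonsterU.AmalGraph
open Cfsg.Agent.MonsterU.AmalIso Cfsg.Agent.MonsterU.GlueP

variable {G G' : Type*} [Group G] [Group G']

/-- The two forms of the normaliser of the four group. -/
theorem NN_eq {G : Type*} [Group G] (z y : G) : NN z y = PlaneGeo.N z y := by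
  ext c
  show _ ↔ c ∈ Subgroup.normalizer (four z y : Set G)
  rw [Subgroup.mem_normalizer_iff]
  constructor
  · rintro ⟨h1, h2⟩ v
    refine ⟨h1 v, fun hv => ?_⟩
    have h3 := h2 _ hv
    have h4 : c⁻¹ * (c * v * c⁻¹) * c = v := by group
    rwa [h4] at h3
  · intro h1
    refine ⟨fun v hv => (h1 v).1 hv, fun v hv => ?_⟩
    have h2 := h1 (c⁻¹ * v * c)
    have h4 : c * (c⁻¹ * v * c) * c⁻¹ = v := by group
    rw [h4] at h2
    exact h2.2 hv

section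

variable {Q E : Subgroup G} {z y τ x u q₀ e₁ a₁ : G} {Q' E' : Subgroup G'}
  {z' y' τ' x' u' q₀' e₁' a₁' : G'} {D : Subgroup (G × G')}
  (h : Side Q E z y τ x u q₀ e₁ a₁) (h' : Side Q' E' z' y' τ' x' u' q₀' e₁' a₁')
  (t : Two Q E z y x q₀ Q' E' z' y' x' q₀' D)

theorem PP_le_NN : PP z y ≤ NN z y := fun _ hc => hc.2

include h in
theorem τ_mem_NN : τ ∈ NN z y := ⟨fun _ hv => h.four_τ hv, fun _ hv => h.four_τ' hv⟩

include h in
theorem q₀_mem_NN : q₀ ∈ NN z y := PP_le_NN (Q_le_PP h h.q₀Q)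

theorem DN_fst {g : G × G'} (hg : g ∈ DN h h' t) : g.1 ∈ NN z y := by
  obtain ⟨a, ha, s, hs, rfl⟩ := hg
  refine Subgroup.mul_mem _ (PP_le_NN (cent_le_PP h (DB_B h h' t ha).1)) ?_
  obtain ⟨i, j, -, -, rfl⟩ := SS_cases h h' t hs
  show τ ^ i * q₀ ^ j ∈ NN z y
  exact Subgroup.mul_mem _ (Subgroup.pow_mem _ (τ_mem_NN h) i) (Subgroup.pow_mem _ (q₀_mem_NN h) j)

include h h' t

/-- **The homomorphisms.** -/
theorem exists_homs (hodd : Odd ((PP z y).relIndex (Subgroup.centralizer {z}))) :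
    ∃ (α : PlaneGeo.K z →* G') (β : PlaneGeo.N z y →* G'),
      (∀ c (hc : c ∈ PlaneGeo.K z) (hn : c ∈ PlaneGeo.N z y), α ⟨c, hc⟩ = β ⟨c, hn⟩) ∧
      Function.Injective α ∧ α.range = Subgroup.centralizer {z'} ∧
      (∀ c (hc : c ∈ PlaneGeo.K z), ((c, α ⟨c, hc⟩) : G × G') ∈ Gam D z z') ∧
      (∀ d ∈ D, ∀ hc : d.1 ∈ PlaneGeo.K z, α ⟨d.1, hc⟩ = d.2) ∧
      ∀ hτ : τ ∈ PlaneGeo.N z y, β ⟨τ, hτ⟩ = τ' := by
  obtain ⟨DC, h1, h2, h3, h4, h5, h6⟩ := exists_DC h h' t hodd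
  have memK : ∀ c : G, c ∈ PlaneGeo.K z ↔ c * z = z * c := fun c => by
    show c ∈ Subgroup.centralizer {z} ↔ _
    rw [Subgroup.mem_centralizer_singleton_iff]
  obtain ⟨α, hα⟩ := EmbedAbs.exists_hom_of_graph (K := PlaneGeo.K z) DC (fun c => by
    rw [memK]
    exact ⟨h5 c, fun ⟨c', hc'⟩ => (h1 hc').1⟩) h3
  obtain ⟨β, hβ⟩ := EmbedAbs.exists_hom_of_graph (K := PlaneGeo.N z y) (DN h h' t) (fun c => by
    rw [← NN_eq]
    exact ⟨DN_surj h h' t, fun ⟨c', hc'⟩ => DN_fst h h' t hc'⟩) (fun c' hc' => DN_one h h' t hc')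
  have huniq : ∀ (D : Subgroup (G × G')), (∀ c', ((1 : G), c') ∈ D → c' = 1) → ∀ (c : G) (a b : G'),
      (c, a) ∈ D → (c, b) ∈ D → a = b := by
    intro D h2 c a b h3 h4
    have h5 := D.mul_mem (D.inv_mem h3) h4
    have h6 := h2 (a⁻¹ * b) (by
      have e : ((1 : G), a⁻¹ * b) = (c, a)⁻¹ * (c, b) := by
        refine Prod.ext ?_ rfl
        show (1 : G) = c⁻¹ * c
        rw [inv_mul_cancel]
      rw [e]; exact h5)
    rw [inv_mul_eq_one] at h6
    exact h6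
  have hN1 : ∀ c', ((1 : G), c') ∈ DN h h' t → c' = 1 := fun c' hc' => DN_one h h' t hc'
  refine ⟨α, β, ?_, ?_, ?_, fun c hc => h1 (hα c hc), ?_, ?_⟩
  · intro c hc hn
    have hcP : c ∈ PP z y := ⟨(memK c).1 hc, by rw [← NN_eq] at hn; exact hn⟩
    obtain ⟨c', hc'⟩ := DP_surj h h' t hcP
    rw [huniq DC h3 c _ _ (hα c hc) (h2 hc'), huniq _ hN1 c _ _ (hβ c hn) (DP_le_DN h h' t hc')]
  · rw [injective_iff_map_eq_one]
    rintro ⟨c, hc⟩ e
    have := hα c hc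
    rw [e] at this
    exact Subtype.ext (h4 c this)
  · ext g
    rw [Subgroup.mem_centralizer_singleton_iff]
    constructor
    · rintro ⟨⟨c, hc⟩, rfl⟩
      exact (h1 (hα c hc)).2.1
    · intro hg
      obtain ⟨c, hc⟩ := h6 g hg
      have hcK : c ∈ PlaneGeo.K z := (memK c).2 (h1 hc).1
      exact ⟨⟨c, hcK⟩, huniq DC h3 c _ _ (hα c hcK) hc⟩
  · intro d hd hc
    exact huniq DC h3 d.1 _ _ (hα d.1 hc) (h2 (D_le_DP h h' t hd))
  · intro hτ
    exact huniq _ hN1 τ _ _ (hβ τ hτ) (T_mem_DN h h' t)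

/-- **The embedding** of the simple group `G` into `G'` from the data of step (D), the model facts of step (E) and the
three levels. -/
theorem embed (hodd : Odd ((PP z y).relIndex (Subgroup.centralizer {z}))) (hsimple : IsSimpleGroup G)
    {b τ₁ ξ y₁ q : G} (pl : PlaneGeo.Plane z y b τ₁ ξ y₁) (q_z : q * z * q⁻¹ = z) (q_a : q * y * q⁻¹ = z * y)
    (q_b : q * b * q⁻¹ = b)
    (cent : ∀ k ∈ PlaneGeo.K z, (∀ x ∈ PlaneE.X z y b, k * x = x * k) → ∃ v, k = PlaneAct.ev z y b v)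
    (unique : ∀ m ∈ PlaneGeo.K z, ∀ n ∈ PlaneGeo.N z y, ∀ n' ∈ PlaneGeo.N z y, n' ∉ PlaneGeo.K z →
      n⁻¹ * m * n' ∈ PlaneGeo.K z → m ∈ PlaneGeo.N z y)
    (hgen : Subgroup.closure ((PlaneGeo.K z : Set G) ∪ PlaneGeo.N z y) = ⊤)
    (hL : Levels3 (PlaneGeo.K z) (PlaneGeo.N z y) τ₁ ξ) :
    ∃ φ : G →* G', Function.Injective φ ∧ φ z = z' ∧
      (PlaneGeo.K z).map φ = Subgroup.centralizer {z'} ∧ (∀ d ∈ D, φ d.1 = d.2) ∧ φ τ = τ' := by
  obtain ⟨α, β, kn, hinj, hrange, -, hD, hτ⟩ := exists_homs h h' t hodd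
  have hzK : z ∈ PlaneGeo.K z := by
    show z ∈ Subgroup.centralizer {z}
    rw [Subgroup.mem_centralizer_singleton_iff]
  have hz : α ⟨z, hzK⟩ = z' := hD (z, z') t.Dz hzK
  have data : PlaneE.Data z y b τ₁ ξ y₁ q α β :=
    { pl := pl
      q_z := q_z
      q_a := q_a
      q_b := q_b
      inj := hinj
      kn := kn
      onto := by
        intro _ g hg
        rw [hz] at hg
        have : g ∈ α.range := by
          rw [hrange, Subgroup.mem_centralizer_singleton_iff]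
          exact hg
        exact this
      cent := cent }
  obtain ⟨φ, h1, h2, h3, h4, h5⟩ := EmbedAbs.embed hsimple kn unique data.planeRel hgen hL hzK h'.z_ne hz
    hrange
  refine ⟨φ, h1, h2, h3, fun d hd => ?_, ?_⟩
  · have hdK : d.1 ∈ PlaneGeo.K z := by
      show d.1 ∈ Subgroup.centralizer {z}
      rw [Subgroup.mem_centralizer_singleton_iff]
      exact h.Qz _ (t.D1 d hd)
    rw [h4 _ hdK, hD d hd hdK]
  · have hτN : τ ∈ PlaneGeo.N z y := by rw [← NN_eq]; exact τ_mem_NN h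
    rw [h5 _ hτN, hτ hτN]

end

end Cfsg.Agent.MonsterU.AmalHom
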