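import Cfsg.Agent.MonsterU.Chart

/-!
# The isomorphism of two charted extraspecial groups

For charts `(Q, z, eta, pi)`, `(Q', z', eta', pi')` there is `psi : Q ≃* Q'` with `eta' (psi x) = eta x`; it induces an
isomorphism `C_G(z) / ⟨z⟩ ≃ C_G'(z') / ⟨z'⟩` (relation `Rel`).
-/

set_option autoImplicit false

namespace Cfsg.Agent.MonsterU.Ch

open Cfsg Cfsg.Spor Cfsg.Agent.LeechMat.Core Cfsg.Agent.MonsterU.Lam2 Cfsg.Agent.Co2Type.Quad

/-- a complement of index two -/
theorem exists_index_two {T : Type*} [Group T] [Finite T] (d e : T) (hd : ∀ t, d * t = t * d)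
    (he : ∀ t, e * t = t * e) (hd2 : d * d = 1) (hne : e ≠ 1) (hned : e ≠ d)
    (hsq : ∀ t : T, t * t = 1 ∨ t * t = d) (hcomm : ∀ s t : T, s * t = t * s ∨ s * t = t * s * d) :
    ∃ S : Subgroup T, d ∈ S ∧ e ∉ S ∧ ∀ t, t ∈ S ∨ t * e ∈ S := by
  let P : Set (Subgroup T) := {S | d ∈ S ∧ e ∉ S}
  have hP : ({ carrier := {x | x = 1 ∨ x = d}
               one_mem' := Or.inl rfl
               mul_mem' := by
                rintro a b (rfl | rfl) (rfl | rfl)
                · left; simp
                · right; simp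
                · right; simp
                · left; exact hd2
               inv_mem' := by
                rintro a (rfl | rfl)
                · left; simp
                · right; exact inv_eq_of_mul_eq_one_left hd2 } : Subgroup T) ∈ P :=
    ⟨Or.inr rfl, fun h => by
      rcases h with h | h
      · exact hne h
      · exact hned h⟩
  obtain ⟨S, hS⟩ := (Set.toFinite P).exists_maximal ⟨_, hP⟩
  obtain ⟨hdS, heS⟩ := hS.1
  have hsqS : ∀ t : T, t * t ∈ S := fun t => by
    rcases hsq t with h | h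
    · rw [h]; exact S.one_mem
    · rw [h]; exact hdS
  -- commute modulo `S`
  have hswap : ∀ a s t : T, a * (s * t) ∈ S ↔ a * (t * s) ∈ S := by
    intro a s t
    rcases hcomm s t with h | h
    · rw [h]
    · rw [h, ← mul_assoc a (t * s) d]
      exact Subgroup.mul_mem_cancel_right S hdS
  refine ⟨S, hdS, heS, fun t => ?_⟩
  by_cases ht : t ∈ S
  · exact Or.inl ht
  right
  let S' : Subgroup T :=
    { carrier := {x | x ∈ S ∨ x * t ∈ S}
      one_mem' := Or.inl S.one_mem
      mul_mem' := by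
        rintro x y (hx | hx) (hy | hy)
        · exact Or.inl (S.mul_mem hx hy)
        · right
          show x * y * t ∈ S
          rw [mul_assoc]; exact S.mul_mem hx hy
        · right
          show x * y * t ∈ S
          rw [mul_assoc, hswap, ← mul_assoc]
          exact S.mul_mem hx hy
        · left
          have h1 : x * t * (y * t) ∈ S := S.mul_mem hx hy
          have h2 : x * t * (y * t) = x * (t * (y * t)) := by group
          have h3 : x * (y * t * t) ∈ S := by rw [← hswap, ← h2]; exact h1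
          have h4 : x * (y * t * t) = x * y * (t * t) := by group
          rw [h4, Subgroup.mul_mem_cancel_right S (hsqS t)] at h3
          exact h3
      inv_mem' := by
        rintro x (hx | hx)
        · exact Or.inl (S.inv_mem hx)
        · right
          show x⁻¹ * t ∈ S
          have h1 : t * t * (x * t)⁻¹ ∈ S := S.mul_mem (hsqS t) (S.inv_mem hx)
          have h2 : t * t * (x * t)⁻¹ = 1 * (t * x⁻¹) := by group
          rw [h2, hswap, one_mul] at h1
          exact h1 }
  have hle : S ≤ S' := fun x hx => Or.inl hx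
  have htS' : t ∈ S' := Or.inr (hsqS t)
  have heS' : e ∈ S' := by
    by_contra hno
    have : S' ≤ S := hS.2 ⟨hle hdS, hno⟩ hle
    exact ht (this htS')
  rcases heS' with h | h
  · exact absurd h heS
  · have h' : e * t ∈ S := h
    rwa [he] at h'

section two

variable {G G' : Type*} [Group G] [Group G'] {Q : Subgroup G} {Q' : Subgroup G'} {z : G} {z' : G'}
  {eta : G → L2} {eta' : G' → L2} {pi : Subgroup.centralizer ({z} : Set G) →* Co1}
  {pi' : Subgroup.centralizer ({z'} : Set G') →* Co1}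

/-- the fibre product -/
def fib (h : Chart Q z eta pi) (h' : Chart Q' z' eta' pi') : Subgroup (Q × Q') where
  carrier := {p | eta p.1 = eta' p.2}
  one_mem' := by
    show eta ((1 : Q) : G) = eta' ((1 : Q') : G')
    rw [Subgroup.coe_one, Subgroup.coe_one, h.eta_one, h'.eta_one]
  mul_mem' := by
    rintro ⟨a, a'⟩ ⟨b, b'⟩ ha hb
    show eta ((a * b : Q) : G) = eta' ((a' * b' : Q') : G')
    have ha1 : eta a = eta' a' := ha
    have hb1 : eta b = eta' b' := hb
    rw [Subgroup.coe_mul, Subgroup.coe_mul, h.eta_mul a a.2 b b.2, h'.eta_mul a' a'.2 b' b'.2, ha1, hb1]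
  inv_mem' := by
    rintro ⟨a, a'⟩ ha
    show eta ((a⁻¹ : Q) : G) = eta' ((a'⁻¹ : Q') : G')
    have ha1 : eta a = eta' a' := ha
    rw [Subgroup.coe_inv, Subgroup.coe_inv, h.eta_inv a.2, h'.eta_inv a'.2, ha1]

/-- **The isomorphism of the extraspecial groups.** -/
theorem exists_psi (h : Chart Q z eta pi) (h' : Chart Q' z' eta' pi') :
    ∃ psi : Q ≃* Q', ∀ x : Q, eta' (psi x) = eta x := by
  have := h.fin
  have := h'.fin
  have hL := h.large
  have hL' := h'.large
  let T := fib h h'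
  have mem : ∀ {p : Q × Q'}, p ∈ T ↔ eta p.1 = eta' p.2 := Iff.rfl
  let d : T := ⟨(⟨z, hL.z_mem⟩, ⟨z', hL'.z_mem⟩), by
    rw [mem]; show eta z = eta' z'; rw [h.eta_z, h'.eta_z]⟩
  let e : T := ⟨(⟨z, hL.z_mem⟩, 1), by
    rw [mem]; show eta z = eta' ((1 : Q') : G'); rw [h.eta_z, Subgroup.coe_one, h'.eta_one]⟩
  have ext : ∀ {s t : T}, ((s : Q × Q').1 : G) = (t : Q × Q').1 → ((s : Q × Q').2 : G') = (t : Q × Q').2 → s = t := by
    intro s t h1 h2
    exact Subtype.ext (Prod.ext (Subtype.ext h1) (Subtype.ext h2))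
  have hd : ∀ t : T, d * t = t * d := by
    intro t
    apply ext
    · exact (hL.comm_z _ (t : Q × Q').1.2).symm
    · exact (hL'.comm_z _ (t : Q × Q').2.2).symm
  have he : ∀ t : T, e * t = t * e := by
    intro t
    apply ext
    · exact (hL.comm_z _ (t : Q × Q').1.2).symm
    · show (1 : G') * (t : Q × Q').2 = (t : Q × Q').2 * 1
      rw [one_mul, mul_one]
  have hd2 : d * d = 1 := by
    apply ext
    · exact hL.z_sq
    · exact hL'.z_sq
  have hne : e ≠ 1 := by
    intro h1
    exact hL.z_ne (congrArg (fun t : T => ((t : Q × Q').1 : G)) h1)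
  have hned : e ≠ d := by
    intro h1
    exact hL'.z_ne (congrArg (fun t : T => ((t : Q × Q').2 : G')) h1).symm
  have hsq : ∀ t : T, t * t = 1 ∨ t * t = d := by
    rintro ⟨⟨x, x'⟩, hx⟩
    have hx1 : eta x = eta' x' := hx
    have h01 : ∀ a : ZMod 2, a = 0 ∨ a = 1 := by decide
    rcases h01 (qf (eta x)) with h2 | h2
    · left
      apply ext
      · exact (h.sq_one x.2).2 h2
      · exact (h'.sq_one x'.2).2 (by rw [← hx1]; exact h2)
    · right
      apply ext
      · exact (h.sq_z x.2).2 h2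
      · exact (h'.sq_z x'.2).2 (by rw [← hx1]; exact h2)
  have hcomm : ∀ s t : T, s * t = t * s ∨ s * t = t * s * d := by
    rintro ⟨⟨x, x'⟩, hx⟩ ⟨⟨y, y'⟩, hy⟩
    have hx1 : eta x = eta' x' := hx
    have hy1 : eta y = eta' y' := hy
    have h01 : ∀ a : ZMod 2, a = 0 ∨ a = 1 := by decide
    rcases h01 (bf (eta x) (eta y)) with h2 | h2
    · left
      apply ext
      · exact (h.comm_iff x.2 y.2).2 h2
      · exact (h'.comm_iff x'.2 y'.2).2 (by rw [← hx1, ← hy1]; exact h2)
    · right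
      apply ext
      · exact (h.comm_z_iff x.2 y.2).2 h2
      · exact (h'.comm_z_iff x'.2 y'.2).2 (by rw [← hx1, ← hy1]; exact h2)
  obtain ⟨S, hdS, heS, hS⟩ := exists_index_two d e hd he hd2 hne hned hsq hcomm
  let f : S →* Q := (MonoidHom.fst Q Q').comp (T.subtype.comp S.subtype)
  let g : S →* Q' := (MonoidHom.snd Q Q').comp (T.subtype.comp S.subtype)
  have hf : Function.Bijective f := by
    constructor
    · rw [injective_iff_map_eq_one]
      rintro ⟨⟨⟨x, x'⟩, hx⟩, hxS⟩ hfx
      have hx1 : x = 1 := hfx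
      subst hx1
      have hx2 : eta ((1 : Q) : G) = eta' x' := hx
      rw [Subgroup.coe_one, h.eta_one] at hx2
      rcases (h'.eta_zero x' x'.2).1 hx2.symm with h3 | h3
      · apply Subtype.ext
        apply ext
        · rfl
        · exact h3
      · exfalso
        apply heS
        have h4 : e = (⟨(1, x'), hx⟩ : T) * d := by
          apply ext
          · show z = 1 * z
            rw [one_mul]
          · show (1 : G') = x' * z'
            rw [h3, hL'.z_sq]
        rw [h4]
        exact S.mul_mem hxS hdS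
    · intro x
      obtain ⟨x', hx', hxe⟩ := h'.eta_surj (eta x)
      let t : T := ⟨(x, ⟨x', hx'⟩), hxe.symm⟩
      rcases hS t with h3 | h3
      · exact ⟨⟨t, h3⟩, rfl⟩
      · refine ⟨⟨t * e * d, S.mul_mem h3 hdS⟩, ?_⟩
        apply Subtype.ext
        show (x : G) * z * z = x
        rw [mul_assoc, hL.z_sq, mul_one]
  have hg : Function.Bijective g := by
    constructor
    · rw [injective_iff_map_eq_one]
      rintro ⟨⟨⟨x, x'⟩, hx⟩, hxS⟩ hgx
      have hx1 : x' = 1 := hgx
      subst hx1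
      have hx2 : eta x = eta' ((1 : Q') : G') := hx
      rw [Subgroup.coe_one, h'.eta_one] at hx2
      rcases (h.eta_zero x x.2).1 hx2 with h3 | h3
      · apply Subtype.ext
        apply ext
        · exact h3
        · rfl
      · exfalso
        apply heS
        have h4 : e = (⟨(x, 1), hx⟩ : T) := by
          apply ext
          · exact h3.symm
          · rfl
        rw [h4]
        exact hxS
    · intro x'
      obtain ⟨x, hx, hxe⟩ := h.eta_surj (eta' x')
      let t : T := ⟨(⟨x, hx⟩, x'), hxe⟩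
      rcases hS t with h3 | h3
      · exact ⟨⟨t, h3⟩, rfl⟩
      · refine ⟨⟨t * e, h3⟩, ?_⟩
        apply Subtype.ext
        show (x' : G') * 1 = x'
        rw [mul_one]
  let F : S ≃* Q := MulEquiv.ofBijective f hf
  let K : S ≃* Q' := MulEquiv.ofBijective g hg
  refine ⟨F.symm.trans K, fun x => ?_⟩
  obtain ⟨s, rfl⟩ := F.surjective x
  show eta' ((K (F.symm (F s)) : Q') : G') = eta ((F s : Q) : G)
  rw [F.symm_apply_apply]
  exact ((s : T).2).symm

end two

/-! ### inner automorphisms -/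

/-- a homomorphism `Q → Q` fixing `z` which is trivial modulo `⟨z⟩` is conjugation by an element of `Q` -/
theorem exists_inner {G : Type*} [Group G] {z : G} {Q : Subgroup G} [Finite Q] (h : Large Q z) (F : Q →* Q)
    (h1 : ∀ x : Q, (F x : G) = x ∨ (F x : G) = x * z) (hz : ∀ x : Q, (x : G) = z → (F x : G) = z) :
    ∃ y ∈ Q, ∀ x : Q, (F x : G) = y * x * y⁻¹ := by
  classical
  have hval : ∀ x : Q, (F x : G) * (x : G)⁻¹ = 1 ∨ (F x : G) * (x : G)⁻¹ = z := by
    intro x
    rcases h1 x with h2 | h2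
    · left; rw [h2]; group
    · right; rw [h2, (h.commz x.2).eq]; group
  let f0 : Q → ZMod 2 := fun x => Large.val ((F x : G) * (x : G)⁻¹)
  have f0_mul : ∀ x y, f0 (x * y) = f0 x + f0 y := by
    intro x y
    show Large.val ((F (x * y) : G) * ((x * y : Q) : G)⁻¹) = _
    have e : (F (x * y) : G) * ((x * y : Q) : G)⁻¹ =
        ((F x : G) * (x : G)⁻¹) * (x * ((F y : G) * (y : G)⁻¹) * (x : G)⁻¹) := by
      rw [map_mul, Subgroup.coe_mul, Subgroup.coe_mul]; group
    rw [e]
    show _ = Large.val ((F x : G) * (x : G)⁻¹) + Large.val ((F y : G) * (y : G)⁻¹)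
    have hxz : (x : G) * z * (x : G)⁻¹ = z := by rw [(h.commz x.2).eq]; group
    rcases hval x with h2 | h2 <;> rcases hval y with h3 | h3 <;> rw [h2, h3]
    · simp [Large.val_one]
    · rw [hxz, one_mul, Large.val_one, zero_add]
    · rw [mul_one, mul_inv_cancel, mul_one, Large.val_one, add_zero]
    · rw [hxz, h.z_sq, h.val_z, Large.val_one]; decide
  have f0_one : f0 1 = 0 := by
    have h0 := f0_mul 1 1
    rw [mul_one] at h0
    simpa using h0
  have f0_z : ∀ c : Q, (c : G) = z → f0 c = 0 := by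
    intro c hc
    show Large.val ((F c : G) * (c : G)⁻¹) = 0
    rw [hz c hc, hc, mul_inv_cancel, Large.val_one]
  have f0_congr : ∀ x y : Q, h.pr x = h.pr y → f0 x = f0 y := by
    intro x y hxy
    rcases h.pr_eq_pr.1 hxy with h2 | h2
    · rw [Subtype.ext h2]
    · have h3 : x = y * ⟨z, h.z_mem⟩ := Subtype.ext h2
      rw [h3, f0_mul, f0_z ⟨z, h.z_mem⟩ rfl, add_zero]
  let f : h.V → ZMod 2 := fun v => f0 (Function.surjInv h.pr_surjective v)
  have hf : ∀ x : Q, f (h.pr x) = f0 x := fun x => f0_congr _ _ (Function.surjInv_eq h.pr_surjective (h.pr x))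
  have hadd : ∀ v w, f (v + w) = f v + f w := by
    intro v w
    obtain ⟨x, rfl⟩ := h.pr_surjective v
    obtain ⟨y, rfl⟩ := h.pr_surjective w
    rw [← h.pr_mul, hf, hf, hf, f0_mul]
  obtain ⟨v, hv⟩ := h.exists_b_eq (AddMonoidHom.toZModLinearMap 2
    { toFun := f
      map_zero' := by
        have := hadd 0 0
        simpa using this
      map_add' := hadd } : h.V →ₗ[ZMod 2] ZMod 2)
  obtain ⟨y, rfl⟩ := h.pr_surjective v
  refine ⟨y, y.2, fun x => ?_⟩
  have h2 : h.b0 (h.pr y) (h.pr x) = f0 x := by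
    have h3 : h.b (h.pr y) (h.pr x) = f (h.pr x) := hv _
    rw [hf] at h3
    exact h3
  rcases h1 x with h3 | h3
  · have h4 : f0 x = 0 := by
      show Large.val ((F x : G) * (x : G)⁻¹) = 0
      rw [h3, mul_inv_cancel, Large.val_one]
    rw [h4, h.b0_eq_zero] at h2
    rw [h3, h2, mul_inv_cancel_right]
  · have h4 : f0 x = 1 := by
      show Large.val ((F x : G) * (x : G)⁻¹) = 1
      rw [h3, (h.commz x.2).eq, mul_inv_cancel_right, h.val_z]
    rw [h4, h.b0_eq_one] at h2
    rw [h3, h2, mul_assoc _ z, ← (h.commz y.2).inv_left.eq]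
    group

/-- noncentral elements are moved by conjugation -/
theorem exists_flip {G : Type*} [Group G] {z : G} {Q : Subgroup G} (h : Large Q z) {y : G} (hy : y ∈ Q) (h1 : y ≠ 1)
    (h2 : y ≠ z) : ∃ w ∈ Q, w * y * w⁻¹ = y * z := by
  by_contra hno
  push Not at hno
  rcases h.cent y hy (fun w hw => by
    rcases h.comm w hw y hy with h3 | h3
    · exact h3.symm
    · exfalso
      apply hno w hw
      rw [h3, mul_assoc _ z, ← (h.commz hw).inv_left.eq]
      group) with h3 | h3
  · exact h1 h3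
  · exact h2 h3

section two

variable {G G' : Type*} [Group G] [Group G'] {Q : Subgroup G} {Q' : Subgroup G'} {z : G} {z' : G'}
  {eta : G → L2} {eta' : G' → L2} {pi : Subgroup.centralizer ({z} : Set G) →* Co1}
  {pi' : Subgroup.centralizer ({z'} : Set G') →* Co1}

/-- `psi` may be chosen with a given value at one noncentral element -/
theorem exists_psi_of (h : Chart Q z eta pi) (h' : Chart Q' z' eta' pi') {y : G} {y' : G'} (hy : y ∈ Q) (hy' : y' ∈ Q')
    (he : eta y = eta' y') (hne : eta y ≠ 0) :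
    ∃ psi : Q ≃* Q', (∀ x : Q, eta' (psi x) = eta x) ∧ (psi ⟨y, hy⟩ : G') = y' := by
  obtain ⟨psi, hpsi⟩ := exists_psi h h'
  have h1 : eta' (psi ⟨y, hy⟩) = eta' y' := by rw [hpsi]; exact he
  rcases (h'.eta_eq (psi ⟨y, hy⟩).2 hy').1 h1 with h2 | h2
  · exact ⟨psi, hpsi, h2⟩
  · have hy1 : y' ≠ 1 := by
      intro h3
      apply hne
      rw [he, h3, h'.eta_one]
    have hy2 : y' ≠ z' := by
      intro h3
      apply hne
      rw [he, h3, h'.eta_z]
    obtain ⟨w, hw, hwy⟩ := exists_flip h'.large hy' hy1 hy2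
    refine ⟨psi.trans (MulAut.conj (⟨w, hw⟩ : Q')), fun x => ?_, ?_⟩
    · show eta' (w * (psi x : G') * w⁻¹) = eta x
      rw [h'.eta_mul _ (Q'.mul_mem hw (psi x).2) _ (Q'.inv_mem hw), h'.eta_mul _ hw _ (psi x).2, h'.eta_inv hw,
        add_comm (eta' w), add_assoc, add_self, add_zero, hpsi]
    · show w * (psi ⟨y, hy⟩ : G') * w⁻¹ = y'
      rw [h2]
      have hwz : z' * w⁻¹ = w⁻¹ * z' := (h'.large.commz hw).inv_left.eq.symm
      calc w * (y' * z') * w⁻¹ = w * y' * (z' * w⁻¹) := by group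
        _ = (w * y' * w⁻¹) * z' := by rw [hwz]; group
        _ = y' := by rw [hwy, mul_assoc, h'.large.z_sq, mul_one]

/-- the identification is possible for any two elements of the same type, after a change of the second chart -/
theorem exists_psi_type (h : Chart Q z eta pi) (h' : Chart Q' z' eta' pi') {y : G} {y' : G'} (hy : y ∈ Q) (hy' : y' ∈ Q')
    {n : ℤ} (hn : n = 2 ∨ n = 3 ∨ n = 4) (ht : IsType n (eta y)) (ht' : IsType n (eta' y')) (hne : eta y ≠ 0) :
    ∃ (eta'' : G' → L2) (pi'' : Subgroup.centralizer ({z'} : Set G') →* Co1), Chart Q' z' eta'' pi'' ∧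
      ∃ psi : Q ≃* Q', (∀ x : Q, eta'' (psi x) = eta x) ∧ (psi ⟨y, hy⟩ : G') = y' := by
  obtain ⟨g, hg⟩ := IsType.trans hn ht' ht
  have h'' := h'.smul (QuotientGroup.mk g)
  refine ⟨_, _, h'', exists_psi_of h h'' hy hy' ?_ hne⟩
  exact hg.symm

/-! ### the induced correspondence of the centralisers -/

/-- `c` and `c'` act in the same way -/
def Rel (psi : Q ≃* Q') (z : G) (z' : G') (c : G) (c' : G') : Prop :=
  c * z = z * c ∧ c' * z' = z' * c' ∧ ∀ x y : Q, (y : G) = c * x * c⁻¹ → (psi y : G') = c' * psi x * c'⁻¹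

/-- hypotheses on `psi` -/
structure Good (h : Chart Q z eta pi) (h' : Chart Q' z' eta' pi') (psi : Q ≃* Q') : Prop where
  eta_psi : ∀ x : Q, eta' (psi x) = eta x

namespace Good

variable {h : Chart Q z eta pi} {h' : Chart Q' z' eta' pi'} {psi : Q ≃* Q'}

theorem psi_z (H : Good h h' psi) {x : Q} (hx : (x : G) = z) : (psi x : G') = z' := by
  have h1 : eta' (psi x) = 0 := by rw [H.eta_psi, hx, h.eta_z]
  rcases (h'.eta_zero _ (psi x).2).1 h1 with h2 | h2
  · exfalso
    have h3 : psi x = 1 := Subtype.ext h2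
    rw [MulEquiv.map_eq_one_iff] at h3
    apply h.large.z_ne
    rw [← hx, h3, Subgroup.coe_one]
  · exact h2

theorem symm (H : Good h h' psi) : Good h' h psi.symm :=
  ⟨fun x => by rw [← H.eta_psi, psi.apply_symm_apply]⟩

theorem psi_mul_z (H : Good h h' psi) {x y : Q} (hxy : (y : G) = x * z) : (psi y : G') = psi x * z' := by
  have h1 : y = x * ⟨z, h.large.z_mem⟩ := Subtype.ext hxy
  rw [h1, map_mul, Subgroup.coe_mul, H.psi_z (x := ⟨z, h.large.z_mem⟩) rfl]

end Good

namespace Rel

variable {psi : Q ≃* Q'}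

theorem one (psi : Q ≃* Q') : Rel psi z z' 1 1 := by
  refine ⟨by simp, by simp, fun x y hxy => ?_⟩
  have : y = x := Subtype.ext (by rw [hxy]; simp)
  rw [this]; simp

theorem mul (h : Large Q z) {c d : G} {c' d' : G'} (h1 : Rel psi z z' c c') (h2 : Rel psi z z' d d') :
    Rel psi z z' (c * d) (c' * d') := by
  refine ⟨?_, ?_, fun x y hxy => ?_⟩
  · rw [mul_assoc, h2.1, ← mul_assoc, h1.1, mul_assoc]
  · rw [mul_assoc, h2.2.1, ← mul_assoc, h1.2.1, mul_assoc]
  · have h3 := h2.2.2 x ⟨_, h.conj_mem d h2.1 x x.2⟩ rfl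
    have h4 := h1.2.2 ⟨_, h.conj_mem d h2.1 x x.2⟩ y (by rw [hxy]; group)
    rw [h4, h3]; group

theorem inv {c : G} {c' : G'} (h1 : Rel psi z z' c c') : Rel psi z z' c⁻¹ c'⁻¹ := by
  refine ⟨?_, ?_, fun x y hxy => ?_⟩
  · exact (Commute.inv_left (show Commute c z from h1.1)).eq
  · exact (Commute.inv_left (show Commute c' z' from h1.2.1)).eq
  · have h3 := h1.2.2 y x (by rw [hxy]; group)
    rw [h3]; group

theorem symm (h : Large Q z) {c : G} {c' : G'} (h1 : Rel psi z z' c c') : Rel psi.symm z' z c' c := by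
  refine ⟨h1.2.1, h1.1, fun x y hxy => ?_⟩
  have h2 := h1.2.2 (psi.symm x) ⟨_, h.conj_mem c h1.1 _ (psi.symm x).2⟩ rfl
  rw [psi.apply_symm_apply, ← hxy] at h2
  have h3 : y = psi ⟨_, h.conj_mem c h1.1 _ (psi.symm x).2⟩ := Subtype.ext h2.symm
  rw [h3, psi.symm_apply_apply]

/-- elements of `Q` correspond by `psi` -/
theorem of_mem (h : Large Q z) (h' : Large Q' z') (psi : Q ≃* Q') (x : Q) : Rel psi z z' x (psi x) := by
  refine ⟨h.comm_z x x.2, h'.comm_z _ (psi x).2, fun y w hw => ?_⟩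
  have : w = x * y * x⁻¹ := Subtype.ext hw
  rw [this, map_mul, map_mul, map_inv]
  rfl

/-- `c'` is determined up to the centre -/
theorem unique_right (h : Large Q z) (h' : Large Q' z') {c : G} {c' d' : G'} (h1 : Rel psi z z' c c')
    (h2 : Rel psi z z' c d') : d' = c' ∨ d' = c' * z' := by
  have h3 := mul h (inv h1) h2
  rw [inv_mul_cancel] at h3
  have h4 : ∀ x : Q', (c'⁻¹ * d') * x = x * (c'⁻¹ * d') := by
    intro x
    have := h3.2.2 (psi.symm x) (psi.symm x) (by simp)
    rw [psi.apply_symm_apply] at this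
    rw [eq_mul_inv_iff_mul_eq] at this
    exact this.symm
  have h5 : c'⁻¹ * d' ∈ Q' := h'.self _ h3.2.1 fun x hx => h4 ⟨x, hx⟩
  rcases h'.cent _ h5 (fun y hy => h4 ⟨y, hy⟩) with h6 | h6
  · left; exact (inv_mul_eq_one.1 h6).symm
  · right; rw [← h6]; group

theorem unique_left (h : Large Q z) (h' : Large Q' z') {c d : G} {c' : G'} (h1 : Rel psi z z' c c')
    (h2 : Rel psi z z' d c') : d = c ∨ d = c * z :=
  unique_right h' h (h1.symm h) (h2.symm h)

/-- multiplication by the central involutions -/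
theorem mul_z_right (h' : Large Q' z') {c : G} {c' : G'} (h1 : Rel psi z z' c c') :
    Rel psi z z' c (c' * z') := by
  refine ⟨h1.1, ?_, fun x y hxy => ?_⟩
  · rw [h1.2.1, mul_assoc, h1.2.1]
  · rw [h1.2.2 x y hxy]
    have h2 : z' * (psi x : G') * z'⁻¹ = psi x := by
      rw [← h'.comm_z _ (psi x).2, mul_inv_cancel_right]
    have : c' * z' * (psi x : G') * (c' * z')⁻¹ = c' * (z' * (psi x : G') * z'⁻¹) * c'⁻¹ := by group
    rw [this, h2]

theorem mul_z_left (h : Large Q z) (h' : Large Q' z') {c : G} {c' : G'} (h1 : Rel psi z z' c c') :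
    Rel psi z z' (c * z) c' := by
  have h2 := mul_z_right h (h1.symm h)
  have h3 := h2.symm h'
  rwa [MulEquiv.symm_symm] at h3

end Rel

namespace Good

variable {h : Chart Q z eta pi} {h' : Chart Q' z' eta' pi'} {psi : Q ≃* Q'}

/-- corresponding elements have the same image in `Co1` -/
theorem pi_eq (H : Good h h' psi) {c : Subgroup.centralizer ({z} : Set G)} {c' : Subgroup.centralizer ({z'} : Set G')}
    (h1 : Rel psi z z' (c : G) (c' : G')) : pi c = pi' c' := by
  apply eq_of_smul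
  intro v
  obtain ⟨x, hx, rfl⟩ := h.eta_surj v
  have h2 := h1.2.2 ⟨x, hx⟩ ⟨_, h.large.conj_mem c h1.1 x hx⟩ rfl
  have h3 : pi c • eta x = eta' (psi ⟨(c : G) * x * (c : G)⁻¹, h.large.conj_mem c h1.1 x hx⟩) := by
    rw [H.eta_psi]; exact (h.eta_conj c x hx).symm
  rw [h3, h2, h'.eta_conj c' _ (psi ⟨x, hx⟩).2, H.eta_psi]

/-- **every element of `C_G(z)` has a partner** -/
theorem exists_right (H : Good h h' psi) {c : G} (hc : c * z = z * c) : ∃ c', Rel psi z z' c c' := by
  have := h'.fin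
  have hL := h.large
  have hL' := h'.large
  let cc : Subgroup.centralizer ({z} : Set G) := ⟨c, Subgroup.mem_centralizer_singleton_iff.2 hc⟩
  obtain ⟨c₁, hc₁⟩ := h'.pi_surj (pi cc)
  have hc₁z : (c₁ : G') * z' = z' * c₁ := Subgroup.mem_centralizer_singleton_iff.1 c₁.2
  have hc₁z' : (c₁ : G')⁻¹ * z' = z' * (c₁ : G')⁻¹ := (Commute.inv_left (show Commute (c₁ : G') z' from hc₁z)).eq
  -- the map on `Q'`
  let A : Q' →* Q :=
    { toFun := fun x => ⟨c * (psi.symm x) * c⁻¹, hL.conj_mem c hc _ (psi.symm x).2⟩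
      map_one' := by apply Subtype.ext; simp
      map_mul' := fun x y => by
        apply Subtype.ext
        show c * ((psi.symm (x * y) : Q) : G) * c⁻¹ = (c * (psi.symm x) * c⁻¹) * (c * (psi.symm y) * c⁻¹)
        rw [map_mul, Subgroup.coe_mul]; group }
  let B : Q' →* Q' :=
    { toFun := fun x => ⟨(c₁ : G')⁻¹ * x * (c₁ : G')⁻¹⁻¹, hL'.conj_mem _ hc₁z' _ x.2⟩
      map_one' := by apply Subtype.ext; simp
      map_mul' := fun x y => by
        apply Subtype.ext
        show (c₁ : G')⁻¹ * ((x * y : Q') : G') * (c₁ : G')⁻¹⁻¹ =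
          ((c₁ : G')⁻¹ * x * (c₁ : G')⁻¹⁻¹) * ((c₁ : G')⁻¹ * y * (c₁ : G')⁻¹⁻¹)
        rw [Subgroup.coe_mul]; group }
  let F : Q' →* Q' := B.comp (psi.toMonoidHom.comp A)
  have hF : ∀ x, (F x : G') = (c₁ : G')⁻¹ * (psi (A x)) * (c₁ : G') := fun x => by
    show (c₁ : G')⁻¹ * (psi (A x)) * (c₁ : G')⁻¹⁻¹ = _
    rw [inv_inv]
  have hA : ∀ x, ((A x : Q) : G) = c * (psi.symm x) * c⁻¹ := fun x => rfl
  have hFeta : ∀ x, eta' (F x) = eta' x := by
    intro x
    have h1 : eta' (psi (A x)) = pi cc • eta' x := by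
      rw [H.eta_psi, hA]
      have h2 := h.eta_conj cc (psi.symm x) (psi.symm x).2
      have h3 : eta (psi.symm x) = eta' x := by rw [← H.eta_psi, psi.apply_symm_apply]
      rw [h3] at h2
      exact h2
    have h4 := h'.eta_conj c₁⁻¹ (psi (A x)) (psi (A x)).2
    rw [h1, map_inv, hc₁, inv_smul_smul] at h4
    exact h4
  have hF1 : ∀ x : Q', (F x : G') = x ∨ (F x : G') = x * z' := fun x => (h'.eta_eq (F x).2 x.2).1 (hFeta x)
  have hFz : ∀ x : Q', (x : G') = z' → (F x : G') = z' := by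
    intro x hx
    have h2 : ((psi.symm x : Q) : G) = z := H.symm.psi_z hx
    have h3 : ((A x : Q) : G) = z := by rw [hA, h2, hc, mul_inv_cancel_right]
    rw [hF, H.psi_z h3, hc₁z', mul_assoc, inv_mul_cancel, mul_one]
  obtain ⟨y, hy, hyF⟩ := exists_inner hL' F hF1 hFz
  refine ⟨(c₁ : G') * y, hc, ?_, fun x w hw => ?_⟩
  · rw [mul_assoc, hL'.comm_z y hy, ← mul_assoc, hc₁z, mul_assoc]
  · have h2 := hyF (psi x)
    have h3 : A (psi x) = w := by
      apply Subtype.ext
      rw [hA, psi.symm_apply_apply, hw]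
    rw [hF, h3] at h2
    calc (psi w : G') = (c₁ : G') * ((c₁ : G')⁻¹ * (psi w) * (c₁ : G')) * (c₁ : G')⁻¹ := by group
      _ = _ := by rw [h2]; group

theorem exists_left (H : Good h h' psi) {c' : G'} (hc : c' * z' = z' * c') : ∃ c, Rel psi z z' c c' := by
  obtain ⟨c, hcc⟩ := H.symm.exists_right hc
  have := hcc.symm h'.large
  rw [MulEquiv.symm_symm] at this
  exact ⟨c, this⟩

end Good

end two

end Cfsg.Agent.MonsterU.Ch
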