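import Cfsg.Agent.MonsterU.AmalMod

/-!
The automorphism of order three is determined by its commuting with the element of order 23
(abstract form).
-/

set_option autoImplicit false

namespace Cfsg.Agent.MonsterU.AmalPin

open Cfsg.Agent.MonsterU.AmalMod

/-- The nonzero squares modulo 23. -/
def qr : List ℕ := [1, 2, 3, 4, 6, 8, 9, 12, 13, 16, 18]

section

variable {H : Type*} [Group H]

/-- The product of the conjugates of `a` under the powers `x ^ i`, `i` a square modulo 23. -/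
def qrProd (x a : H) : H := (qr.map fun i => x ^ i * a * (x ^ i)⁻¹).prod

/-- The hypotheses on `H = 2^(11+22).M24`. -/
structure PinHyp (E Q₀ Q₁ : Subgroup H) (x u e₀ q₀ : H) : Prop where
  normE : E.Normal
  norm0 : Q₀.Normal
  norm1 : Q₁.Normal
  E0 : E ≤ Q₀
  E1 : E ≤ Q₁
  inf : Q₀ ⊓ Q₁ ≤ E
  sq0 : ∀ a ∈ Q₀, a * a = 1
  comm1 : ∀ r ∈ Q₁, ∀ e ∈ E, r * e = e * r
  cent : ∀ b, (∀ e ∈ E, b * e = e * b) → ∃ r ∈ Q₀, ∃ s ∈ Q₁, b = r * s
  sep0 : ∀ a ∈ Q₀, (∀ b ∈ Q₁, a * b = b * a) → a ∈ E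
  sep1 : ∀ b ∈ Q₁, (∀ a ∈ Q₀, a * b = b * a) → b ∈ E
  x23 : x ^ 23 = 1
  ux : ∃ r ∈ Q₀ ⊔ Q₁, u * x = r * x ^ 2 * u
  e₀_mem : e₀ ∈ E
  q₀_mem : q₀ ∈ Q₀
  genE : ∀ e ∈ E, e ∈ Subgroup.closure (Set.range fun n : ℕ => x ^ n * e₀ * (x ^ n)⁻¹)
  gen0 : ∀ a ∈ Q₀, a ∈ Subgroup.closure
    ((Set.range fun n : ℕ => x ^ n * q₀ * (x ^ n)⁻¹) ∪ (E : Set H))
  qrE : ∀ e ∈ E, qrProd x e = e
  qr0 : ∀ a ∈ Q₀, qrProd x a ∈ E

namespace PinHyp

variable {E Q₀ Q₁ : Subgroup H} {x u e₀ q₀ : H} (h : PinHyp E Q₀ Q₁ x u e₀ q₀)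
include h

theorem comm0' : ∀ a ∈ Q₀, ∀ b ∈ Q₀, a * b = b * a := by
  intro a ha b hb
  have h1 := h.sq0 a ha
  have h2 := h.sq0 b hb
  have h3 := h.sq0 _ (Q₀.mul_mem ha hb)
  have ea : a⁻¹ = a := inv_eq_of_mul_eq_one_left h1
  have eb : b⁻¹ = b := inv_eq_of_mul_eq_one_left h2
  have e : (a * b)⁻¹ = a * b := inv_eq_of_mul_eq_one_left h3
  rw [← e, mul_inv_rev, ea, eb]

theorem comm0 : ∀ r ∈ Q₀, ∀ e ∈ E, r * e = e * r := fun r hr e he => h.comm0' r hr e (h.E0 he)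

theorem commR : ∀ r ∈ Q₀ ⊔ Q₁, ∀ e ∈ E, r * e = e * r := by
  intro r hr e he
  have := h.norm1
  rw [Subgroup.mem_sup_of_normal_right] at hr
  obtain ⟨a, ha, b, hb, rfl⟩ := hr
  rw [mul_assoc, h.comm1 b hb e he, ← mul_assoc, h.comm0 a ha e he, mul_assoc]

/-- `R` acts trivially on `Q₀ / E`. -/
theorem triv : ∀ r ∈ Q₀ ⊔ Q₁, ∀ a ∈ Q₀, r * a * r⁻¹ * a⁻¹ ∈ E := by
  intro r hr a ha
  have := h.norm0
  have := h.norm1
  have := h.normE
  rw [Subgroup.mem_sup_of_normal_right] at hr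
  obtain ⟨c, hc, b, hb, rfl⟩ := hr
  have h1 : b * a * b⁻¹ * a⁻¹ ∈ E := by
    apply h.inf
    refine ⟨Q₀.mul_mem (h.norm0.conj_mem a ha b) (Q₀.inv_mem ha), ?_⟩
    have : b * a * b⁻¹ * a⁻¹ = b * (a * b⁻¹ * a⁻¹) := by group
    rw [this]
    exact Q₁.mul_mem hb (h.norm1.conj_mem _ (Q₁.inv_mem hb) a)
  have h2 : c * b * a * (c * b)⁻¹ * a⁻¹ = c * (b * a * b⁻¹ * a⁻¹) * c⁻¹ * (c * a * c⁻¹ * a⁻¹) := by
    group
  have h3 : c * a * c⁻¹ * a⁻¹ = 1 := by
    rw [h.comm0' c hc a ha]; group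
  rw [h2, h3, mul_one]
  exact h.normE.conj_mem _ h1 c

omit h in
theorem conj_pow_iter (x a : H) (n : ℕ) : (fun t => x * t * x⁻¹)^[n] a = x ^ n * a * (x ^ n)⁻¹ := by
  induction n with
  | zero => simp
  | succ n ih =>
    rw [Function.iterate_succ', Function.comp, ih, pow_succ']
    group

/-- An automorphism of order three commuting with `x` is trivial on `E`. -/
theorem fixE (θ : H ≃* H) (h3 : ∀ a, θ (θ (θ a)) = a) (hx : θ x = x) (hE : ∀ e ∈ E, θ e ∈ E) :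
    ∀ e ∈ E, θ e = e := by
  have := h.normE
  let _ : CommGroup E :=
    { (inferInstance : Group E) with
      mul_comm := fun a b => Subtype.ext (h.comm0 a (h.E0 a.2) b b.2) }
  let X : E →* E :=
    { toFun := fun e => ⟨x * e * x⁻¹, h.normE.conj_mem _ e.2 x⟩
      map_one' := Subtype.ext (by simp)
      map_mul' := fun a b => Subtype.ext (by simp) }
  let σ : E →* E :=
    { toFun := fun e => ⟨θ e, hE e e.2⟩
      map_one' := Subtype.ext (by simp)
      map_mul' := fun a b => Subtype.ext (by simp) }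
  have hXit : ∀ (n : ℕ) (a : E), ((X^[n] a : E) : H) = x ^ n * a * (x ^ n)⁻¹ := by
    intro n a
    induction n with
    | zero => simp
    | succ n ih =>
      rw [Function.iterate_succ', Function.comp]
      show x * ((X^[n] a : E) : H) * x⁻¹ = _
      rw [ih, pow_succ']; group
  intro e he
  have key := grp_eq_of_cube (A := E) (fun a => Subtype.ext (h.sq0 a (h.E0 a.2))) X σ
    (by
      intro a
      apply Subtype.ext
      rw [hXit, h.x23]; simp)
    (by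
      intro a
      apply Subtype.ext
      show θ (x * a * x⁻¹) = x * θ a * x⁻¹
      rw [map_mul, map_mul, map_inv, hx]) ⟨e₀, h.e₀_mem⟩
    (by
      intro a
      have h1 := h.genE a a.2
      have h2 : ∀ t : H, t ∈ Subgroup.closure (Set.range fun n : ℕ => x ^ n * e₀ * (x ^ n)⁻¹) →
          ∃ s : E, (s : H) = t ∧ s ∈ Subgroup.closure
            (Set.range fun n : ℕ => X^[n] (⟨e₀, h.e₀_mem⟩ : E)) := by
        intro t ht
        induction ht using Subgroup.closure_induction with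
        | mem y hy =>
          obtain ⟨n, rfl⟩ := hy
          exact ⟨X^[n] ⟨e₀, h.e₀_mem⟩, hXit n _, Subgroup.subset_closure ⟨n, rfl⟩⟩
        | one => exact ⟨1, rfl, Subgroup.one_mem _⟩
        | mul y z _ _ hy hz =>
          obtain ⟨s, rfl, hs⟩ := hy
          obtain ⟨s', rfl, hs'⟩ := hz
          exact ⟨s * s', rfl, Subgroup.mul_mem _ hs hs'⟩
        | inv y _ hy =>
          obtain ⟨s, rfl, hs⟩ := hy
          exact ⟨s⁻¹, rfl, Subgroup.inv_mem _ hs⟩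
      obtain ⟨s, hs, hs'⟩ := h2 a h1
      have : s = a := Subtype.ext hs
      rw [← this]; exact hs')
    (by
      intro a
      exact Subtype.ext (h3 a)) ⟨e, he⟩
  exact congrArg Subtype.val key

/-- Such an automorphism is trivial modulo `R`. -/
theorem mod_R (θ : H ≃* H) (hE : ∀ e ∈ E, θ e = e) (b : H) : b⁻¹ * θ b ∈ Q₀ ⊔ Q₁ := by
  have := h.normE
  obtain ⟨r, hr, s, hs, e⟩ := h.cent (b⁻¹ * θ b) (by
    intro e he
    have h1 : θ (b * e * b⁻¹) = b * e * b⁻¹ := hE _ (h.normE.conj_mem _ he b)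
    rw [map_mul, map_mul, map_inv, hE e he] at h1
    have h2 : θ b * e = b * e * b⁻¹ * θ b := by rw [← h1]; group
    calc b⁻¹ * θ b * e = b⁻¹ * (θ b * e) := by group
      _ = b⁻¹ * (b * e * b⁻¹ * θ b) := by rw [h2]
      _ = e * (b⁻¹ * θ b) := by group)
  rw [e]
  exact Subgroup.mul_mem _ (Subgroup.mem_sup_left hr) (Subgroup.mem_sup_right hs)

/-- An automorphism with these properties is trivial on `Q₀`. -/
theorem fix0 (δ : H ≃* H) (hx : δ x = x) (hE : ∀ e ∈ E, δ e = e) (h0 : ∀ a ∈ Q₀, δ a ∈ Q₀)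
    (hR : ∀ b, b⁻¹ * δ b ∈ Q₀ ⊔ Q₁) : ∀ a ∈ Q₀, δ a = a := by
  have := h.normE
  have := h.norm0
  let _ : CommGroup Q₀ :=
    { (inferInstance : Group Q₀) with
      mul_comm := fun a b => Subtype.ext (h.comm0' a a.2 b b.2) }
  let X : Q₀ →* Q₀ :=
    { toFun := fun e => ⟨x * e * x⁻¹, h.norm0.conj_mem _ e.2 x⟩
      map_one' := Subtype.ext (by simp)
      map_mul' := fun a b => Subtype.ext (by simp) }
  let U : Q₀ →* Q₀ :=
    { toFun := fun e => ⟨u * e * u⁻¹, h.norm0.conj_mem _ e.2 u⟩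
      map_one' := Subtype.ext (by simp)
      map_mul' := fun a b => Subtype.ext (by simp) }
  let D : Q₀ →* Q₀ :=
    { toFun := fun e => ⟨δ e, h0 e e.2⟩
      map_one' := Subtype.ext (by simp)
      map_mul' := fun a b => Subtype.ext (by simp) }
  have hXit : ∀ (n : ℕ) (a : Q₀), ((X^[n] a : Q₀) : H) = x ^ n * a * (x ^ n)⁻¹ := by
    intro n a
    induction n with
    | zero => simp
    | succ n ih =>
      rw [Function.iterate_succ', Function.comp]
      show x * ((X^[n] a : Q₀) : H) * x⁻¹ = _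
      rw [ih, pow_succ']; group
  have key := grp_mem_of_frob (A := Q₀) (fun a => Subtype.ext (h.sq0 a a.2)) (E.subgroupOf Q₀) X U D
    (by
      intro a ha
      rw [Subgroup.mem_subgroupOf] at ha ⊢
      exact h.normE.conj_mem _ ha x)
    (by
      intro a ha
      rw [Subgroup.mem_subgroupOf] at ha ⊢
      exact h.normE.conj_mem _ ha u)
    (by
      intro a
      rw [Subgroup.mem_subgroupOf, Subgroup.mem_subgroupOf]
      constructor
      · intro ha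
        have h1 : δ (δ a) = δ a := hE _ ha
        have h2 : δ a = a := δ.injective h1
        have ha' : δ a ∈ E := ha
        rwa [h2] at ha'
      · intro ha
        show δ a ∈ E
        rw [hE _ ha]; exact ha)
    (by
      intro a
      rw [Subgroup.mem_subgroupOf]
      show δ (x * a * x⁻¹) * (x * δ a * x⁻¹)⁻¹ ∈ E
      rw [map_mul, map_mul, map_inv, hx, mul_inv_cancel]
      exact E.one_mem)
    (by
      intro a
      rw [Subgroup.mem_subgroupOf]
      show u * (x * a * x⁻¹) * u⁻¹ * (x * (x * (u * a * u⁻¹) * x⁻¹) * x⁻¹)⁻¹ ∈ E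
      obtain ⟨r, hr, hux⟩ := h.ux
      have e1 : u * (x * a * x⁻¹) * u⁻¹ =
          r * (x ^ 2 * (u * a * u⁻¹) * (x ^ 2)⁻¹) * r⁻¹ := by
        calc u * (x * a * x⁻¹) * u⁻¹ = (u * x) * a * (u * x)⁻¹ := by group
          _ = (r * x ^ 2 * u) * a * (r * x ^ 2 * u)⁻¹ := by rw [hux]
          _ = _ := by group
      have e2 : x * (x * (u * a * u⁻¹) * x⁻¹) * x⁻¹ = x ^ 2 * (u * a * u⁻¹) * (x ^ 2)⁻¹ := by
        rw [pow_two]; group
      rw [e1, e2]
      exact h.triv r hr _ (h.norm0.conj_mem _ (h.norm0.conj_mem _ a.2 u) (x ^ 2)))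
    (by
      intro a
      rw [Subgroup.mem_subgroupOf]
      show δ (u * a * u⁻¹) * (u * δ a * u⁻¹)⁻¹ ∈ E
      have e1 : δ (u * a * u⁻¹) * (u * δ a * u⁻¹)⁻¹ =
          u * ((u⁻¹ * δ u) * δ a * (u⁻¹ * δ u)⁻¹ * (δ a)⁻¹) * u⁻¹ := by
        rw [map_mul, map_mul, map_inv]; group
      rw [e1]
      exact h.normE.conj_mem _ (h.triv _ (hR u) _ (h0 a a.2)) u)
    (by
      intro a
      refine ⟨⟨u⁻¹ * a * u, ?_⟩, ?_⟩
      · have := h.norm0.conj_mem _ a.2 u⁻¹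
        rwa [inv_inv] at this
      · apply Subtype.ext
        show u * (u⁻¹ * a * u) * u⁻¹ = a
        group)
    ⟨q₀, h.q₀_mem⟩
    (by
      intro a
      have h1 := h.gen0 a a.2
      have h2 : ∀ t : H, t ∈ Subgroup.closure
          ((Set.range fun n : ℕ => x ^ n * q₀ * (x ^ n)⁻¹) ∪ (E : Set H)) →
          ∃ s : Q₀, (s : H) = t ∧ s ∈ Subgroup.closure
            ((Set.range fun n : ℕ => X^[n] (⟨q₀, h.q₀_mem⟩ : Q₀)) ∪ (E.subgroupOf Q₀ : Set Q₀)) := by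
        intro t ht
        induction ht using Subgroup.closure_induction with
        | mem y hy =>
          rcases hy with ⟨n, rfl⟩ | hy
          · exact ⟨X^[n] ⟨q₀, h.q₀_mem⟩, hXit n _, Subgroup.subset_closure (Or.inl ⟨n, rfl⟩)⟩
          · exact ⟨⟨y, h.E0 hy⟩, rfl, Subgroup.subset_closure (Or.inr hy)⟩
        | one => exact ⟨1, rfl, Subgroup.one_mem _⟩
        | mul y z _ _ hy hz =>
          obtain ⟨s, rfl, hs⟩ := hy
          obtain ⟨s', rfl, hs'⟩ := hz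
          exact ⟨s * s', rfl, Subgroup.mul_mem _ hs hs'⟩
        | inv y _ hy =>
          obtain ⟨s, rfl, hs⟩ := hy
          exact ⟨s⁻¹, rfl, Subgroup.inv_mem _ hs⟩
      obtain ⟨s, hs, hs'⟩ := h2 a h1
      have : s = a := Subtype.ext hs
      rw [← this]; exact hs')
  intro a ha
  -- the homomorphism `a ↦ δ a * a⁻¹` to `E`
  let P : Q₀ →* Q₀ :=
    { toFun := fun b => (qr.map fun i => X^[i] b).prod
      map_one' := by
        have : ∀ n : ℕ, X^[n] (1 : Q₀) = 1 := fun n => iterate_map_one X n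
        simp [this]
      map_mul' := fun b c => by
        have : ∀ n : ℕ, X^[n] (b * c) = X^[n] b * X^[n] c := fun n => iterate_map_mul X n b c
        rw [← List.prod_map_mul]
        simp only [this] }
  have hP : ∀ b : Q₀, ((P b : Q₀) : H) = qrProd x b := by
    intro b
    show (((qr.map fun i => X^[i] b).prod : Q₀) : H) = _
    rw [qrProd, ← Subgroup.coe_subtype, map_list_prod, List.map_map]
    congr 1
    apply List.map_congr_left
    intro i _
    exact hXit i b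
  have hDX : ∀ (n : ℕ) (b : Q₀), D (X^[n] b) = X^[n] (D b) := by
    intro n b
    apply Subtype.ext
    rw [hXit]
    show δ ((X^[n] b : Q₀) : H) = _
    rw [hXit, map_mul, map_mul, map_inv, map_pow, hx]
    rfl
  have hDP : ∀ b : Q₀, D (P b) = P (D b) := by
    intro b
    show D ((qr.map fun i => X^[i] b).prod) = ((qr.map fun i => X^[i] (D b)).prod)
    rw [map_list_prod, List.map_map]
    congr 1
    apply List.map_congr_left
    intro i _
    exact hDX i b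
  set a' : Q₀ := ⟨a, ha⟩ with ha'
  have hf : (D a' * a'⁻¹ : Q₀) ∈ E.subgroupOf Q₀ := key a'
  rw [Subgroup.mem_subgroupOf] at hf
  have e1 : D a' = (D a' * a'⁻¹) * a' := by group
  have e2 : P (D a' * a'⁻¹) = D a' * a'⁻¹ := by
    apply Subtype.ext
    rw [hP]
    exact h.qrE _ hf
  have e3 : D (P a') = P a' := by
    apply Subtype.ext
    have : ((P a' : Q₀) : H) ∈ E := by rw [hP]; exact h.qr0 a ha
    exact hE _ this
  have e4 : P a' = (D a' * a'⁻¹) * P a' := by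
    calc P a' = D (P a') := e3.symm
      _ = P (D a') := hDP a'
      _ = P ((D a' * a'⁻¹) * a') := by rw [← e1]
      _ = P (D a' * a'⁻¹) * P a' := map_mul _ _ _
      _ = _ := by rw [e2]
  have e5 : D a' * a'⁻¹ = 1 := mul_eq_right.1 e4.symm
  have e6 : D a' = a' := mul_inv_eq_one.1 e5
  exact congrArg Subtype.val e6

/-- An element of `R` commuting with `Q₀` and `Q₁` lies in `E`. -/
theorem center_R (comm1' : ∀ a ∈ Q₁, ∀ b ∈ Q₁, a * b = b * a) (r : H) (hr : r ∈ Q₀ ⊔ Q₁)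
    (hc0 : ∀ a ∈ Q₀, r * a = a * r) (hc1 : ∀ b ∈ Q₁, r * b = b * r) : r ∈ E := by
  have := h.norm1
  rw [Subgroup.mem_sup_of_normal_right] at hr
  obtain ⟨c, hc, b, hb, rfl⟩ := hr
  have hb' : b ∈ E := by
    apply h.sep1 b hb
    intro a ha
    have h1 := hc0 a ha
    have h2 : c * (b * a) = c * (a * b) := by
      calc c * (b * a) = c * b * a := by group
        _ = a * (c * b) := h1
        _ = (a * c) * b := by group
        _ = (c * a) * b := by rw [h.comm0' a ha c hc]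
        _ = c * (a * b) := by group
    exact (mul_left_cancel h2).symm
  have hc' : c ∈ E := by
    apply h.sep0 c hc
    intro a ha
    have h1 := hc1 a ha
    have h2 : (c * a) * b = (a * c) * b := by
      calc (c * a) * b = c * (a * b) := by group
        _ = c * (b * a) := by rw [comm1' a ha b hb]
        _ = c * b * a := by group
        _ = a * (c * b) := h1
        _ = (a * c) * b := by group
    exact mul_right_cancel h2
  exact E.mul_mem hc' hb'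

/-- The main result: uniqueness of the automorphism. -/
theorem unique (Q₂ : Subgroup H) (θ θ' : H ≃* H) (h3 : ∀ a, θ (θ (θ a)) = a)
    (h3' : ∀ a, θ' (θ' (θ' a)) = a) (hx : θ x = x) (hx' : θ' x = x)
    (h0 : ∀ a ∈ Q₀, θ a ∈ Q₁) (h1 : ∀ a ∈ Q₁, θ a ∈ Q₂) (h2 : ∀ a ∈ Q₂, θ a ∈ Q₀)
    (h0' : ∀ a ∈ Q₀, θ' a ∈ Q₁) (h1' : ∀ a ∈ Q₁, θ' a ∈ Q₂) (h2' : ∀ a ∈ Q₂, θ' a ∈ Q₀)
    (hE : ∀ e ∈ E, θ e ∈ E) (hE' : ∀ e ∈ E, θ' e ∈ E) (a : H) : θ a = θ' a := by
  have fE := h.fixE θ h3 hx hE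
  have fE' := h.fixE θ' h3' hx' hE'
  have mR := h.mod_R θ fE
  have mR' := h.mod_R θ' fE'
  have := h.norm0
  have := h.norm1
  -- commutativity of `Q₁`
  have comm1' : ∀ a ∈ Q₁, ∀ b ∈ Q₁, a * b = b * a := by
    intro a ha b hb
    have e1 : θ (θ a) * θ (θ b) = θ (θ b) * θ (θ a) :=
      h.comm0' _ (h2 _ (h1 a ha)) _ (h2 _ (h1 b hb))
    have e2 := congrArg θ e1
    rwa [map_mul, map_mul, h3, h3] at e2
  -- the inverse is the square
  have inv_eq : ∀ a, θ'.symm a = θ' (θ' a) := fun a => by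
    rw [MulEquiv.symm_apply_eq]; exact (h3' a).symm
  have inv_x : θ'.symm x = x := by rw [inv_eq, hx', hx']
  have inv_E : ∀ e ∈ E, θ'.symm e = e := fun e he => by rw [inv_eq, fE' e he, fE' e he]
  have inv_0 : ∀ a ∈ Q₀, θ'.symm a ∈ Q₂ := fun a ha => by rw [inv_eq]; exact h1' _ (h0' a ha)
  have inv_1 : ∀ a ∈ Q₁, θ'.symm a ∈ Q₀ := fun a ha => by rw [inv_eq]; exact h2' _ (h1' a ha)
  -- `R` is invariant
  have hR0 : ∀ r ∈ Q₀ ⊔ Q₁, θ r ∈ Q₀ ⊔ Q₁ := by
    intro r hr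
    have := mR r
    have e : θ r = r * (r⁻¹ * θ r) := by group
    rw [e]; exact Subgroup.mul_mem _ hr this
  have mRi : ∀ b, b⁻¹ * θ'.symm b ∈ Q₀ ⊔ Q₁ := by
    intro b
    have e : b⁻¹ * θ'.symm b = ((θ'.symm b)⁻¹ * θ' (θ'.symm b))⁻¹ := by
      rw [MulEquiv.apply_symm_apply]; group
    rw [e]
    exact Subgroup.inv_mem _ (mR' _)
  -- `δ = θ'⁻¹ θ` and `δ' = θ θ'⁻¹`
  let δ : H ≃* H := θ.trans θ'.symm
  let δ' : H ≃* H := θ'.symm.trans θ
  have hδ : ∀ a, δ a = θ'.symm (θ a) := fun a => rfl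
  have hδ' : ∀ a, δ' a = θ (θ'.symm a) := fun a => rfl
  have fix : ∀ a ∈ Q₀, δ a = a := h.fix0 δ (by rw [hδ, hx, inv_x])
    (fun e he => by rw [hδ, fE e he, inv_E e he])
    (fun a ha => by rw [hδ]; exact inv_1 _ (h0 a ha))
    (fun b => by
      rw [hδ]
      have e : b⁻¹ * θ'.symm (θ b) = (b⁻¹ * θ b) * ((θ b)⁻¹ * θ'.symm (θ b)) := by group
      rw [e]; exact Subgroup.mul_mem _ (mR b) (mRi _))
  have fix' : ∀ a ∈ Q₀, δ' a = a := h.fix0 δ' (by rw [hδ', inv_x, hx])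
    (fun e he => by rw [hδ', inv_E e he, fE e he])
    (fun a ha => by rw [hδ']; exact h2 _ (inv_0 a ha))
    (fun b => by
      rw [hδ']
      have e : b⁻¹ * θ (θ'.symm b) = (b⁻¹ * θ'.symm b) * ((θ'.symm b)⁻¹ * θ (θ'.symm b)) := by
        group
      rw [e]; exact Subgroup.mul_mem _ (mRi b) (mR _))
  -- `δ` is trivial on `Q₁`
  have fix1 : ∀ a ∈ Q₁, δ' a = a := by
    intro a ha
    have e1 : θ'.symm a ∈ Q₀ := inv_1 a ha
    have e2 : δ (θ'.symm a) = θ'.symm a := fix _ e1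
    rw [hδ] at e2
    rw [hδ']
    exact θ'.symm.injective e2
  have fixR : ∀ r ∈ Q₀ ⊔ Q₁, δ' r = r := by
    intro r hr
    rw [Subgroup.mem_sup_of_normal_right] at hr
    obtain ⟨c, hc, b, hb, rfl⟩ := hr
    rw [map_mul, fix' c hc, fix1 b hb]
  have mRδ : ∀ b, b⁻¹ * δ' b ∈ Q₀ ⊔ Q₁ := by
    intro b
    rw [hδ']
    have e : b⁻¹ * θ (θ'.symm b) = (b⁻¹ * θ'.symm b) * ((θ'.symm b)⁻¹ * θ (θ'.symm b)) := by
      group
    rw [e]; exact Subgroup.mul_mem _ (mRi b) (mR _)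
  have memE : ∀ b, b⁻¹ * δ' b ∈ E := by
    intro b
    have hn : (Q₀ ⊔ Q₁).Normal := inferInstance
    have hcomm : ∀ r ∈ Q₀ ⊔ Q₁, (b⁻¹ * δ' b) * r = r * (b⁻¹ * δ' b) := by
      intro r hr
      have e1 : δ' (b * r * b⁻¹) = b * r * b⁻¹ := fixR _ (hn.conj_mem _ hr b)
      rw [map_mul, map_mul, map_inv, fixR r hr] at e1
      have e2 : δ' b * r = b * r * b⁻¹ * δ' b := by rw [← e1]; group
      calc b⁻¹ * δ' b * r = b⁻¹ * (δ' b * r) := by group
        _ = b⁻¹ * (b * r * b⁻¹ * δ' b) := by rw [e2]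
        _ = r * (b⁻¹ * δ' b) := by group
    exact h.center_R comm1' _ (mRδ b) (fun a ha => hcomm a (Subgroup.mem_sup_left ha))
      (fun a ha => hcomm a (Subgroup.mem_sup_right ha))
  -- `δ'² = 1`
  have fE'' : ∀ e ∈ E, δ' e = e := fun e he => by rw [hδ', inv_E e he, fE e he]
  have sq : ∀ b, δ' (δ' b) = b := by
    intro b
    have e1 : δ' b = b * (b⁻¹ * δ' b) := by group
    have e2 : δ' (δ' b) = δ' b * (b⁻¹ * δ' b) := by
      calc δ' (δ' b) = δ' (b * (b⁻¹ * δ' b)) := by rw [← e1]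
        _ = δ' b * δ' (b⁻¹ * δ' b) := map_mul _ _ _
        _ = _ := by rw [fE'' _ (memE b)]
    rw [e2]
    calc δ' b * (b⁻¹ * δ' b) = (b * (b⁻¹ * δ' b)) * (b⁻¹ * δ' b) := by rw [← e1]
      _ = b * ((b⁻¹ * δ' b) * (b⁻¹ * δ' b)) := by group
      _ = b := by rw [h.sq0 _ (h.E0 (memE b)), mul_one]
  -- `δ'` commutes with `θ'`
  have comm : ∀ b, δ' (θ' b) = θ' (δ' b) := by
    intro b
    have e1 : δ' b = b * (b⁻¹ * δ' b) := by group
    have e2 : θ' (δ' b) = θ' b * (b⁻¹ * δ' b) := by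
      calc θ' (δ' b) = θ' (b * (b⁻¹ * δ' b)) := by rw [← e1]
        _ = θ' b * θ' (b⁻¹ * δ' b) := map_mul _ _ _
        _ = _ := by rw [fE' _ (memE b)]
    have e3 : θ' b = b * (b⁻¹ * θ' b) := by group
    have e4 : δ' (θ' b) = δ' b * (b⁻¹ * θ' b) := by
      calc δ' (θ' b) = δ' (b * (b⁻¹ * θ' b)) := by rw [← e3]
        _ = δ' b * δ' (b⁻¹ * θ' b) := map_mul _ _ _
        _ = _ := by rw [fixR _ (mR' b)]
    rw [e2, e4]
    calc δ' b * (b⁻¹ * θ' b) = b * ((b⁻¹ * δ' b) * (b⁻¹ * θ' b)) := by group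
      _ = b * ((b⁻¹ * θ' b) * (b⁻¹ * δ' b)) := by rw [h.commR _ (mR' b) _ (memE b)]
      _ = θ' b * (b⁻¹ * δ' b) := by group
  -- `θ = δ' θ'`
  have hθ : ∀ b, θ b = δ' (θ' b) := fun b => by rw [hδ', MulEquiv.symm_apply_apply]
  have cube : ∀ b, δ' b = b := by
    intro b
    have e1 : ∀ b, θ (θ b) = θ' (θ' b) := fun b => by
      rw [hθ (θ b), hθ b, ← comm (θ' b), sq]
    have e2 := e1 (θ b)
    rw [h3, hθ b, ← comm (θ' b), ← comm (θ' (θ' b)), h3'] at e2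
    exact e2.symm
  rw [hθ, cube]

end PinHyp

end

end Cfsg.Agent.MonsterU.AmalPin
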