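import Cfsg.Agent.MonsterU.CoFrame

/-!
# The monomial group on the frame flag (uniqueness of the Monster)

The action of the sign changes `signCo0 c` and of the coordinate permutations `permCo0 σ` on the flag
`V1 < V12 < V23` of `CoFrame`, the pairing `pair` of `V12` with the code, and its dualities.
-/

set_option autoImplicit false
open Cfsg

namespace Cfsg.Agent.MonsterU.CoFrameAct

open Cfsg.Agent.MonsterU.CoFrame

open Cfsg.Agent.SporadicA
open Cfsg.Agent.SporadicA.Co0Mono
open Cfsg.Agent.SporadicA.Co1Simple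
open Cfsg.Agent.SporadicStructure.Co0Base (e8 e8_coe two_mul_mem four_mul_mem four_dvd_sum_of_mem
  minus3_mem)
open Cfsg.Agent.SporadicStructure.LeechBase (zmod2_cases mem_support₂ red red_apply red_add
  red_sub mem_leech_iff mem_support₂_iff_one)
open Cfsg.Agent.Leech.FrameAux (even_form odd_of_odd)
open Cfsg.Agent.CoOneType.SignFacts

theorem coe_sub' (u v : leechLattice) (i : GolayPt) :
    ((u - v : leechLattice) : GolayPt → ℤ) i = (u : GolayPt → ℤ) i - (v : GolayPt → ℤ) i := rfl

theorem coe_add' (u v : leechLattice) (i : GolayPt) :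
    ((u + v : leechLattice) : GolayPt → ℤ) i = (u : GolayPt → ℤ) i + (v : GolayPt → ℤ) i := rfl

/-- Coordinates of a sign change. -/
theorem sign_coe (c : golayCode) (v : leechLattice) (i : GolayPt) :
    ((signCo0 c • v : leechLattice) : GolayPt → ℤ) i =
      if i ∈ sup c then -(v : GolayPt → ℤ) i else (v : GolayPt → ℤ) i := by
  rw [signCo0_smul, signMap_apply]
  by_cases h : i ∈ sup c
  · rw [if_pos h, (mem_sup c i).1 h, sgn_one]; ring
  · rw [if_neg h, (notMem_sup c i).1 h, sgn_zero, one_mul]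

theorem perm_coe (σ : M24) (v : leechLattice) (i : GolayPt) :
    ((permCo0 σ • v : leechLattice) : GolayPt → ℤ) i =
      (v : GolayPt → ℤ) ((σ : Equiv.Perm GolayPt).symm i) := rfl

theorem mem_sup_wordPerm (σ : M24) (c : golayCode) (i : GolayPt) :
    i ∈ sup (wordPerm σ c) ↔ (σ : Equiv.Perm GolayPt).symm i ∈ sup c := by
  rw [mem_sup, mem_sup, wordPerm_apply]

/-! ### Sign changes -/

/-- Half of the restriction of a vector to a word. -/
def rest (c : golayCode) (v : leechLattice) (i : GolayPt) : ℤ :=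
  if i ∈ sup c then (v : GolayPt → ℤ) i / 2 else 0

/-- `2` at the extra point. -/
def s2 (i : GolayPt) : ℤ := if i = none then 2 else 0

theorem red_s2 : red s2 = 0 := by
  funext i
  show ((s2 i : ℤ) : ZMod 2) = 0
  unfold s2
  split_ifs
  · rfl
  · simp

theorem sum_s2 : ∑ i, s2 i = 2 := by
  unfold s2
  rw [Finset.sum_ite_eq']
  simp

/-- The words of the restrictions of the vectors of `V12`. -/
theorem red_rest {v : leechLattice} (hv : v ∈ V12) (c : golayCode) :
    red (rest c v) ∈ golayCode := by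
  rcases (mem_V12_iff_hw (V12_le_V23 hv)).1 hv with h | h
  · have : red (rest c v) = 0 := by
      funext i
      rw [red_apply, rest]
      split_ifs
      · exact congrFun h i
      · simp
    rw [this]; exact golayCode.zero_mem
  · have : red (rest c v) = c := by
      funext i
      rw [red_apply, rest]
      by_cases hi : i ∈ sup c
      · rw [if_pos hi, (mem_sup c i).1 hi]
        exact congrFun h i
      · rw [if_neg hi, (notMem_sup c i).1 hi]; simp
    rw [this]; exact c.2

theorem sum_rest {v : leechLattice} (hv : v ∈ V23) (c : golayCode) :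
    2 * ∑ i, rest c v i = ∑ i ∈ sup c, (v : GolayPt → ℤ) i := by
  unfold rest
  rw [Finset.sum_ite_mem, Finset.univ_inter, Finset.mul_sum]
  refine Finset.sum_congr rfl fun i _ => ?_
  exact Int.mul_ediv_cancel' (hv i)

/-- `ε_c v = v` modulo twice the lattice if the pairing is trivial. -/
theorem sign_V12_zero {v : leechLattice} (hv : v ∈ V12) {c : golayCode} (h : pair v c = 0) :
    Cong (signCo0 c • v) v := by
  rw [pair_eq_zero_iff] at h
  rw [cong_iff_coe]
  refine ⟨-fun i => 2 * rest c v i, neg_mem (two_mul_mem _ (red_rest hv c) ?_), fun i => ?_⟩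
  · have := sum_rest (V12_le_V23 hv) c
    omega
  · rw [sign_coe, Pi.neg_apply, rest]
    have := hv.1 i
    split_ifs <;> omega

/-- `ε_c v = v + 8 e_∞` modulo twice the lattice if the pairing is not trivial. -/
theorem sign_V12_one {v : leechLattice} (hv : v ∈ V12) {c : golayCode} (h : pair v c = 1) :
    Cong (signCo0 c • v) (v + e8 none) := by
  have h' : ¬ (8 : ℤ) ∣ ∑ i ∈ sup c, (v : GolayPt → ℤ) i := by
    rw [← pair_eq_zero_iff, h]; decide
  have h4 := four_dvd_sum v c
  rw [cong_iff_coe]
  have hr : red (rest c v + s2) ∈ golayCode := by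
    rw [red_add, red_s2, add_zero]
    exact red_rest hv c
  refine ⟨-fun i => 2 * (rest c v + s2) i, neg_mem (two_mul_mem _ hr ?_), fun i => ?_⟩
  · have := sum_rest (V12_le_V23 hv) c
    have h2 : ∑ i, (rest c v + s2) i = ∑ i, rest c v i + ∑ i, s2 i := Finset.sum_add_distrib
    rw [h2, sum_s2]
    omega
  · rw [sign_coe, coe_add', coe_e8, Pi.neg_apply, Pi.add_apply, rest, s2]
    have := hv.1 i
    split_ifs <;> omega

theorem sign_V12 {v : leechLattice} (hv : v ∈ V12) (c : golayCode) :
    Cong (signCo0 c • v) v ∨ Cong (signCo0 c • v) (v + e8 none) := by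
  rcases zmod2_cases (pair v c) with h | h
  · exact Or.inl (sign_V12_zero hv h)
  · exact Or.inr (sign_V12_one hv h)

theorem sign_sub_mem_V1 {v : leechLattice} (hv : v ∈ V12) (c : golayCode) :
    signCo0 c • v - v ∈ V1 := by
  rcases sign_V12 hv c with h | h
  · exact Or.inl h.sub_zero
  · right
    have := h.sub (Cong.refl v)
    rwa [add_sub_cancel_left] at this

/-- The frame class is not trivial. -/
theorem not_cong_e8 : ¬ Cong (e8 none) 0 := by
  rw [cong_iff_coe]
  rintro ⟨y, hy, h⟩
  have h1 : y = Pi.single none 4 := by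
    funext i
    have h2 := h i
    have h3 : ((0 : leechLattice) : GolayPt → ℤ) i = 0 := rfl
    rw [coe_e8, h3] at h2
    rw [Pi.single_apply]
    split_ifs at h2 ⊢ <;> omega
  rw [h1] at hy
  have h2 := four_dvd_sum ⟨_, hy⟩ 0
  obtain ⟨z, -, hs, hz⟩ := even_form hy (i := none) (by rw [Pi.single_eq_same]; norm_num)
  have h3 : ∑ i, (Pi.single none 4 : GolayPt → ℤ) i = 4 := by
    rw [Finset.sum_pi_single']; simp
  have h4 : ∑ i, (Pi.single none 4 : GolayPt → ℤ) i = 2 * ∑ i, z i := by
    rw [Finset.mul_sum]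
    exact Finset.sum_congr rfl fun i _ => hz i
  omega

theorem not_cong_add_e8 (v : leechLattice) : ¬ Cong (v + e8 none) v := by
  intro h
  apply not_cong_e8
  have := h.sub (Cong.refl v)
  rwa [add_sub_cancel_left, sub_self] at this

theorem sign_cong_iff {v : leechLattice} (hv : v ∈ V12) (c : golayCode) :
    Cong (signCo0 c • v) v ↔ pair v c = 0 := by
  constructor
  · intro h
    rcases zmod2_cases (pair v c) with h1 | h1
    · exact h1
    · exact absurd ((sign_V12_one hv h1).symm.trans h) (not_cong_add_e8 v)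
  · exact sign_V12_zero hv

/-- `ε_c v - v` for a vector with even coordinates. -/
theorem sign_sub_coe (c : golayCode) (v : leechLattice) (i : GolayPt) :
    ((signCo0 c • v - v : leechLattice) : GolayPt → ℤ) i =
      if i ∈ sup c then -(2 * (v : GolayPt → ℤ) i) else 0 := by
  rw [coe_sub', sign_coe]
  split_ifs <;> ring

theorem sign_sub_mem_V12 {v : leechLattice} (hv : v ∈ V23) (c : golayCode) :
    signCo0 c • v - v ∈ V12 := by
  refine (mem_V12 _).2 ⟨fun i => ?_, fun i j => ?_⟩
  · rw [sign_sub_coe]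
    split_ifs
    · exact (dvd_neg).2 (dvd_mul_right _ _)
    · exact dvd_zero _
  · rw [sign_sub_coe, sign_sub_coe]
    have h1 := hv i
    have h2 := hv j
    split_ifs <;> omega

/-- The commutator of a vector with even coordinates with a sign change. -/
theorem pair_sign_sub {v : leechLattice} (hv : v ∈ V23) (c d : golayCode) :
    pair (signCo0 c • v - v) d =
      ∑ i, hw v i * (c : GolayPt → ZMod 2) i * (d : GolayPt → ZMod 2) i := by
  have h1 : ∑ i ∈ sup d, ((signCo0 c • v - v : leechLattice) : GolayPt → ℤ) i =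
      4 * ∑ i ∈ sup d, (if i ∈ sup c then -((v : GolayPt → ℤ) i / 2) else 0) := by
    rw [Finset.mul_sum]
    refine Finset.sum_congr rfl fun i _ => ?_
    rw [sign_sub_coe]
    have := hv i
    split_ifs <;> omega
  rw [pair, h1, Int.mul_ediv_cancel_left _ (by norm_num), Int.cast_sum,
    ← Finset.sum_subset (Finset.subset_univ (sup d))]
  · refine Finset.sum_congr rfl fun i hi => ?_
    rw [(mem_sup d i).1 hi, mul_one]
    by_cases hc : i ∈ sup c
    · rw [if_pos hc, (mem_sup c i).1 hc, mul_one, hw_apply, Int.cast_neg]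
      have key : ∀ a : ZMod 2, -a = a := by decide
      exact key _
    · rw [if_neg hc, (notMem_sup c i).1 hc, mul_zero, Int.cast_zero]
  · intro i _ hi
    rw [(notMem_sup d i).1 hi, mul_zero]

theorem sign_sub_mem_V23 (v : leechLattice) (c : golayCode) : signCo0 c • v - v ∈ V23 := by
  intro i
  rw [sign_sub_coe]
  split_ifs
  · exact (dvd_neg).2 (dvd_mul_right _ _)
  · exact dvd_zero _

/-- The commutator of a vector with odd coordinates with a sign change. -/
theorem hw_sign_sub {v : leechLattice} (hv : v ∉ V23) (c : golayCode) :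
    hw (signCo0 c • v - v) = c := by
  funext i
  rw [hw_apply, sign_sub_coe]
  have hi : ¬ (2 : ℤ) ∣ (v : GolayPt → ℤ) i := fun h => hv (mem_V23_of_one h)
  by_cases hc : i ∈ sup c
  · rw [if_pos hc, (mem_sup c i).1 hc]
    have h1 : (-(2 * (v : GolayPt → ℤ) i)) / 2 = -(v : GolayPt → ℤ) i := by omega
    rw [h1]
    have h2 := (ZMod.intCast_eq_intCast_iff_dvd_sub (-(v : GolayPt → ℤ) i) 1 2).2
      (by push_cast; omega)
    rw [h2]; rfl
  · rw [if_neg hc, (notMem_sup c i).1 hc]; rfl

/-! ### Coordinate permutations -/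

theorem perm_mem_V23 (σ : M24) {v : leechLattice} (hv : v ∈ V23) : permCo0 σ • v ∈ V23 :=
  fun _ => hv _

theorem perm_mem_V12 (σ : M24) {v : leechLattice} (hv : v ∈ V12) : permCo0 σ • v ∈ V12 :=
  ⟨fun _ => hv.1 _, fun _ _ => hv.2 _ _⟩

theorem hw_perm (σ : M24) (v : leechLattice) (i : GolayPt) :
    hw (permCo0 σ • v) i = hw v ((σ : Equiv.Perm GolayPt).symm i) := rfl

theorem pair_perm (σ : M24) (v : leechLattice) (c : golayCode) :
    pair (permCo0 σ • v) (wordPerm σ c) = pair v c := by
  unfold pair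
  congr 2
  refine Finset.sum_nbij' (σ : Equiv.Perm GolayPt).symm (σ : Equiv.Perm GolayPt) ?_ ?_ ?_ ?_ ?_
  · intro i hi
    exact (mem_sup_wordPerm σ c i).1 hi
  · intro i hi
    rw [mem_sup_wordPerm, Equiv.symm_apply_apply]
    exact hi
  · intro i _; exact Equiv.apply_symm_apply _ _
  · intro i _; exact Equiv.symm_apply_apply _ _
  · intro i _; rfl

/-! ### Invariance under the stabiliser of the frame -/

/-- The classes of all `8 e_i` are the same. -/
theorem cong_e8 (i j : GolayPt) : Cong (e8 i) (e8 j) := by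
  rw [cong_iff_coe]
  refine ⟨fun k => 4 * ((Pi.single i 1 : GolayPt → ℤ) k - (Pi.single j 1 : GolayPt → ℤ) k),
    four_mul_mem (fun k => (Pi.single i 1 : GolayPt → ℤ) k - (Pi.single j 1 : GolayPt → ℤ) k) ?_,
    fun k => ?_⟩
  · rw [Finset.sum_sub_distrib, Finset.sum_pi_single', Finset.sum_pi_single']
    simp
  · rw [coe_e8, coe_e8]
    show _ = _ + 2 * (4 * ((Pi.single i 1 : GolayPt → ℤ) k - (Pi.single j 1 : GolayPt → ℤ) k))
    rw [Pi.single_apply, Pi.single_apply]
    split_ifs <;> ring

theorem crossSet_cong {v : leechLattice} (hv : v ∈ crossSet) : Cong v (e8 none) := by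
  obtain ⟨i, rfl | rfl⟩ := (mem_crossSet v).1 hv
  · exact cong_e8 i none
  · exact (Cong.neg_self _).trans (cong_e8 i none)

theorem N_smul_e8 {g : Co0} (hg : g ∈ N) (i : GolayPt) : Cong (g • e8 i) (e8 none) := by
  rw [mem_N_iff] at hg
  exact crossSet_cong (hg (e8 i) (e8_mem i))

theorem N_mem_V1 {g : Co0} (hg : g ∈ N) {v : leechLattice} (hv : v ∈ V1) : g • v ∈ V1 := by
  rcases hv with h | h
  · left
    have := h.smul g
    rwa [Co0Mono.smul_zero] at this
  · right
    exact (h.smul g).trans (N_smul_e8 hg none)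

theorem sign_mem_V12 (c : golayCode) {v : leechLattice} (hv : v ∈ V12) : signCo0 c • v ∈ V12 := by
  have := V12.add_mem (sign_sub_mem_V12 (V12_le_V23 hv) c) hv
  rwa [sub_add_cancel] at this

theorem sign_mem_V23 (c : golayCode) {v : leechLattice} (hv : v ∈ V23) : signCo0 c • v ∈ V23 := by
  have := V23.add_mem (sign_sub_mem_V23 v c) hv
  rwa [sub_add_cancel] at this

theorem N_mem_V12 {g : Co0} (hg : g ∈ N) {v : leechLattice} (hv : v ∈ V12) : g • v ∈ V12 := by
  obtain ⟨c, σ, rfl⟩ := exists_sign_perm hg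
  rw [mul_smul]
  exact sign_mem_V12 c (perm_mem_V12 σ hv)

theorem N_mem_V23 {g : Co0} (hg : g ∈ N) {v : leechLattice} (hv : v ∈ V23) : g • v ∈ V23 := by
  obtain ⟨c, σ, rfl⟩ := exists_sign_perm hg
  rw [mul_smul]
  exact sign_mem_V23 c (perm_mem_V23 σ hv)

theorem N_smul_mem_V1_iff {g : Co0} (hg : g ∈ N) (v : leechLattice) : g • v ∈ V1 ↔ v ∈ V1 :=
  ⟨fun h => by simpa using N_mem_V1 (N.inv_mem hg) h, N_mem_V1 hg⟩

theorem N_smul_mem_V12_iff {g : Co0} (hg : g ∈ N) (v : leechLattice) : g • v ∈ V12 ↔ v ∈ V12 :=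
  ⟨fun h => by simpa using N_mem_V12 (N.inv_mem hg) h, N_mem_V12 hg⟩

theorem N_smul_mem_V23_iff {g : Co0} (hg : g ∈ N) (v : leechLattice) : g • v ∈ V23 ↔ v ∈ V23 :=
  ⟨fun h => by simpa using N_mem_V23 (N.inv_mem hg) h, N_mem_V23 hg⟩

theorem hw_sign {v : leechLattice} (hv : v ∈ V23) (c : golayCode) :
    hw (signCo0 c • v) = hw v := by
  funext i
  rw [hw_apply, hw_apply, sign_coe]
  split_ifs
  · have h1 : (-(v : GolayPt → ℤ) i) / 2 = -((v : GolayPt → ℤ) i / 2) := by
      have := hv i
      omega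
    rw [h1, Int.cast_neg]
    have key : ∀ a : ZMod 2, -a = a := by decide
    exact key _
  · rfl

theorem pair_sign {v : leechLattice} (hv : v ∈ V12) (c d : golayCode) :
    pair (signCo0 c • v) d = pair v d := by
  have h := pair_V1 (sign_sub_mem_V1 hv c) d
  rw [pair_sub] at h
  have key : ∀ a b : ZMod 2, a + b = 0 → a = b := by decide
  exact key _ _ h

/-! ### Dualities -/

/-- A vector of `V12` is in `V1` iff its pairing with all words is trivial. -/
theorem mem_V1_iff_pair {v : leechLattice} (hv : v ∈ V12) : v ∈ V1 ↔ ∀ c, pair v c = 0 := by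
  classical
  refine ⟨fun h c => pair_V1 h c, fun h => ?_⟩
  -- we may suppose that the coordinates are divisible by `4`
  have key : ∀ u ∈ V12, (∀ i, (4 : ℤ) ∣ (u : GolayPt → ℤ) i) → (∀ c, pair u c = 0) → u ∈ V1 := by
    intro u hu h4 hp
    choose w hw' using h4
    have hred : red w ∈ golayCode := by
      apply Cfsg.Agent.SporadicStructure.GolayInterp.mem_golayCode_of_orthogonal
      intro c hc
      have h1 := hp ⟨c, hc⟩
      rw [pair] at h1
      have h2 : ∑ i ∈ sup ⟨c, hc⟩, (u : GolayPt → ℤ) i = 4 * ∑ i ∈ sup ⟨c, hc⟩, w i := by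
        rw [Finset.mul_sum]
        exact Finset.sum_congr rfl fun i _ => hw' i
      rw [h2, Int.mul_ediv_cancel_left _ (by norm_num), Int.cast_sum] at h1
      rw [← h1, ← Finset.sum_subset (Finset.subset_univ (sup ⟨c, hc⟩))]
      · refine Finset.sum_congr rfl fun i hi => ?_
        have h3 : c i = 1 := (mem_sup ⟨c, hc⟩ i).1 hi
        rw [h3, mul_one, red_apply]
      · intro i _ hi
        have h3 : c i = 0 := (notMem_sup ⟨c, hc⟩ i).1 hi
        rw [h3, mul_zero]
    obtain ⟨z, -, hs, hz⟩ := even_form u.2 (hu.1 none)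
    have hsw : (2 : ℤ) ∣ ∑ i, w i := by
      have h1 : ∑ i, z i = 2 * ∑ i, w i := by
        rw [Finset.mul_sum]
        refine Finset.sum_congr rfl fun i _ => ?_
        have h2 := hw' i
        have h3 := hz i
        omega
      omega
    by_cases hs4 : (4 : ℤ) ∣ ∑ i, w i
    · left
      rw [cong_iff_coe]
      refine ⟨fun i => 2 * w i, two_mul_mem w hred hs4, fun i => ?_⟩
      rw [hw' i]
      show _ = (0 : ℤ) + 2 * (2 * w i)
      ring
    · right
      rw [cong_iff_coe]
      have hr : red (w - s2) ∈ golayCode := by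
        rw [red_sub, red_s2, sub_zero]
        exact hred
      refine ⟨fun i => 2 * (w - s2) i, two_mul_mem _ hr ?_, fun i => ?_⟩
      · have h2 : ∑ i, (w - s2) i = ∑ i, w i - ∑ i, s2 i := Finset.sum_sub_distrib _ _
        rw [h2, sum_s2]
        omega
      · rw [hw' i, coe_e8]
        show _ = _ + 2 * (2 * (w i - s2 i))
        rw [s2]
        split_ifs <;> ring
  rcases (mem_V12_iff_hw (V12_le_V23 hv)).1 hv with h0 | h1
  · exact key v hv ((hw_eq_zero_iff (V12_le_V23 hv)).1 h0) h
  · have hv' : v - (2 : ℕ) • u0 ∈ V12 := V12.sub_mem hv (two_smul_mem_V12 u0)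
    have h2 : v - (2 : ℕ) • u0 ∈ V1 := by
      refine key _ hv' (fun i => ?_) (fun c => ?_)
      · have h3 := congrFun h1 i
        rw [hw_apply, Pi.one_apply] at h3
        have h3' : (((v : GolayPt → ℤ) i / 2 : ℤ) : ZMod 2) = ((1 : ℤ) : ZMod 2) := by
          rw [h3]; norm_num
        rw [ZMod.intCast_eq_intCast_iff_dvd_sub] at h3'
        have h4 := hv.1 i
        have h5 : ((v - (2 : ℕ) • u0 : leechLattice) : GolayPt → ℤ) i =
            (v : GolayPt → ℤ) i - 2 * (if i = none then -3 else 1) := by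
          rw [coe_sub']
          congr 1
        rw [h5]
        push_cast at h3'
        split_ifs <;> omega
      · rw [pair_sub, pair_two, add_zero]
        exact h c
    have h3 := V1.add_mem h2 (two_smul_mem_V1 u0)
    rwa [sub_add_cancel] at h3

/-- The pairing is additive in the word. -/
theorem pair_add_right {v : leechLattice} (hv : v ∈ V12) (c d : golayCode) :
    pair v (c + d) = pair v c + pair v d := by
  have h1 : Cong (signCo0 d • v) v ∨ Cong (signCo0 d • v) (v + e8 none) := sign_V12 hv d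
  have hc := sign_mem_V12 c hv
  rcases zmod2_cases (pair v c) with hpc | hpc <;> rcases zmod2_cases (pair v d) with hpd | hpd
  · rw [hpc, hpd, add_zero, ← sign_cong_iff hv, signCo0_add, mul_smul]
    exact ((sign_V12_zero hv hpd).smul _).trans (sign_V12_zero hv hpc)
  · rw [hpc, hpd, zero_add]
    rcases zmod2_cases (pair v (c + d)) with h | h
    · exfalso
      rw [← sign_cong_iff hv, signCo0_add, mul_smul] at h
      have h2 := (((sign_V12_one hv hpd).smul (signCo0 c)).symm.trans h)
      rw [Co0Mono.smul_add] at h2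
      have h3 := ((sign_V12_zero hv hpc).add (N_smul_e8 (sign_mem_N c) none)).symm.trans h2
      exact not_cong_add_e8 v h3
    · exact h
  · rw [hpc, hpd, add_zero]
    rcases zmod2_cases (pair v (c + d)) with h | h
    · exfalso
      rw [← sign_cong_iff hv, signCo0_add, mul_smul] at h
      have h2 := (((sign_V12_zero hv hpd).smul (signCo0 c)).symm.trans h)
      exact not_cong_add_e8 v ((sign_V12_one hv hpc).symm.trans h2)
    · exact h
  · rw [hpc, hpd, show (1 : ZMod 2) + 1 = 0 from by decide, ← sign_cong_iff hv, signCo0_add,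
      mul_smul]
    have h2 := (sign_V12_one hv hpd).smul (signCo0 c)
    rw [Co0Mono.smul_add] at h2
    have h3 := h2.trans ((sign_V12_one hv hpc).add (N_smul_e8 (sign_mem_N c) none))
    refine h3.trans ?_
    rw [add_assoc]
    have h4 := (Cong.refl v).add (cong_add_self (e8 none))
    rwa [add_zero] at h4

/-- `4 e_i - 4 e_j`. -/
def duad (i j : GolayPt) : leechLattice :=
  ⟨fun k => 4 * ((Pi.single i 1 : GolayPt → ℤ) k - (Pi.single j 1 : GolayPt → ℤ) k),
    four_mul_mem (fun k => (Pi.single i 1 : GolayPt → ℤ) k - (Pi.single j 1 : GolayPt → ℤ) k) (by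
      rw [Finset.sum_sub_distrib, Finset.sum_pi_single', Finset.sum_pi_single']
      simp)⟩

theorem duad_coe (i j k : GolayPt) : ((duad i j : leechLattice) : GolayPt → ℤ) k =
    4 * ((if k = i then 1 else 0) - (if k = j then 1 else 0)) := by
  show 4 * ((Pi.single i 1 : GolayPt → ℤ) k - (Pi.single j 1 : GolayPt → ℤ) k) = _
  rw [Pi.single_apply, Pi.single_apply]

theorem four_mem_V12 {v : leechLattice} (h : ∀ i, (4 : ℤ) ∣ (v : GolayPt → ℤ) i) : v ∈ V12 :=
  (mem_V12 v).2 ⟨fun i => by have := h i; omega, fun i j => dvd_sub (h i) (h j)⟩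

theorem duad_mem (i j : GolayPt) : duad i j ∈ V12 :=
  four_mem_V12 fun k => by rw [duad_coe]; exact dvd_mul_right _ _

/-- The pairing of a vector with coordinates divisible by `4` with a word. -/
theorem pair_of_four {v : leechLattice} {w : GolayPt → ℤ}
    (h : ∀ i, (v : GolayPt → ℤ) i = 4 * w i) (c : golayCode) :
    pair v c = ∑ i, (w i : ZMod 2) * (c : GolayPt → ZMod 2) i := by
  have h2 : ∑ i ∈ sup c, (v : GolayPt → ℤ) i = 4 * ∑ i ∈ sup c, w i := by
    rw [Finset.mul_sum]
    exact Finset.sum_congr rfl fun i _ => h i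
  rw [pair, h2, Int.mul_ediv_cancel_left _ (by norm_num), Int.cast_sum,
    ← Finset.sum_subset (Finset.subset_univ (sup c))]
  · refine Finset.sum_congr rfl fun i hi => ?_
    rw [(mem_sup c i).1 hi, mul_one]
  · intro i _ hi
    rw [(notMem_sup c i).1 hi, mul_zero]

theorem pair_duad (i j : GolayPt) (c : golayCode) :
    pair (duad i j) c = (c : GolayPt → ZMod 2) i + (c : GolayPt → ZMod 2) j := by
  rw [pair_of_four (fun k => duad_coe i j k) c]
  have h : ∀ k, (((if k = i then 1 else 0) - (if k = j then 1 else 0) : ℤ) : ZMod 2) *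
      (c : GolayPt → ZMod 2) k = (if k = i then (c : GolayPt → ZMod 2) k else 0) +
      (if k = j then (c : GolayPt → ZMod 2) k else 0) := by
    intro k
    have key : ∀ a : ZMod 2, ((((1 : ℤ) - 1 : ℤ) : ZMod 2) * a = a + a) ∧
        ((((1 : ℤ) - 0 : ℤ) : ZMod 2) * a = a + 0) ∧ ((((0 : ℤ) - 1 : ℤ) : ZMod 2) * a = 0 + a) ∧
        ((((0 : ℤ) - 0 : ℤ) : ZMod 2) * a = 0 + 0) := by decide
    obtain ⟨k1, k2, k3, k4⟩ := key ((c : GolayPt → ZMod 2) k)
    split_ifs
    · exact k1
    · exact k2
    · exact k3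
    · exact k4
  rw [Finset.sum_congr rfl fun k _ => h k, Finset.sum_add_distrib, Finset.sum_ite_eq' ,
    Finset.sum_ite_eq']
  simp

/-- The words with trivial pairing with `V12`. -/
theorem word_of_pair {c : golayCode} (h : ∀ v ∈ V12, pair v c = 0) : c = 0 ∨ c = allOne := by
  have h1 : ∀ i, (c : GolayPt → ZMod 2) i = (c : GolayPt → ZMod 2) none := by
    intro i
    have h2 := h _ (duad_mem i none)
    rw [pair_duad] at h2
    have key : ∀ a b : ZMod 2, a + b = 0 → a = b := by decide
    exact key _ _ h2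
  rcases zmod2_cases ((c : GolayPt → ZMod 2) none) with h0 | h0
  · left
    apply Subtype.ext
    funext i
    rw [h1 i, h0]; rfl
  · right
    apply Subtype.ext
    funext i
    rw [h1 i, h0]; rfl

theorem pair_allOne {v : leechLattice} (hv : v ∈ V12) : pair v allOne = 0 := by
  rw [← sign_cong_iff hv, allOne_smul]
  exact Cong.neg_self v

/-- Every functional on the code trivial on the all-one word is a pairing. -/
theorem exists_pair (φ : golayCode →ₗ[ZMod 2] ZMod 2) (h : φ allOne = 0) :
    ∃ v ∈ V12, ∀ c, pair v c = φ c := by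
  classical
  obtain ⟨ψ, hψ⟩ := φ.exists_extend
  let w : GolayPt → ZMod 2 := fun i => ψ (Pi.single i 1)
  have hw' : ∀ c : GolayPt → ZMod 2, ψ c = ∑ i, w i * c i := by
    intro c
    have h1 : c = ∑ i, c i • (Pi.single i 1 : GolayPt → ZMod 2) := by
      funext j
      rw [Finset.sum_apply]
      simp [Pi.single_apply]
    conv_lhs => rw [h1]
    rw [map_sum]
    refine Finset.sum_congr rfl fun i _ => ?_
    rw [map_smul, smul_eq_mul, mul_comm]
  have hφ : ∀ c : golayCode, φ c = ∑ i, w i * (c : GolayPt → ZMod 2) i := by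
    intro c
    rw [← hw' c, ← hψ]; rfl
  let z : GolayPt → ℤ := fun i => if w i = 0 then 0 else 1
  have hz : ∀ i, ((z i : ℤ) : ZMod 2) = w i := by
    intro i
    show ((if w i = 0 then (0 : ℤ) else 1 : ℤ) : ZMod 2) = w i
    rcases zmod2_cases (w i) with h0 | h0 <;> rw [h0] <;> simp
  have hs : (2 : ℤ) ∣ ∑ i, z i := by
    have h1 := hφ allOne
    rw [h] at h1
    have h2 : ((∑ i, z i : ℤ) : ZMod 2) = 0 := by
      rw [Int.cast_sum, h1]
      refine Finset.sum_congr rfl fun i _ => ?_
      rw [hz i]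
      show w i = w i * 1
      rw [mul_one]
    exact (ZMod.intCast_zmod_eq_zero_iff_dvd _ 2).1 h2
  refine ⟨⟨fun i => 4 * z i, four_mul_mem z hs⟩, four_mem_V12 fun i => dvd_mul_right _ _,
    fun c => ?_⟩
  rw [hφ c, pair_of_four (w := z) (fun i => rfl) c]
  exact Finset.sum_congr rfl fun i _ => by rw [hz i]

/-- `V23` is the orthogonal space of the frame class. -/
theorem mem_V23_iff_dot (v : leechLattice) :
    v ∈ V23 ↔ (16 : ℤ) ∣ dotInt (v : GolayPt → ℤ) ((e8 none : leechLattice) : GolayPt → ℤ) := by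
  have h : dotInt (v : GolayPt → ℤ) ((e8 none : leechLattice) : GolayPt → ℤ) =
      8 * (v : GolayPt → ℤ) none := by
    unfold dotInt
    simp only [coe_e8, mul_ite, mul_zero]
    rw [Finset.sum_ite_eq']
    simp [mul_comm]
  rw [h]
  constructor
  · intro hv
    have := hv none
    omega
  · intro h'
    exact mem_V23_of_one (i := none) (by omega)

/-- Two vectors not in `V23` differ by a vector of `V23`. -/
theorem sub_mem_V23 {u v : leechLattice} (hu : u ∉ V23) (hv : v ∉ V23) : u - v ∈ V23 := by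
  apply mem_V23_of_one (i := none)
  rw [coe_sub']
  have h1 : ¬ (2 : ℤ) ∣ (u : GolayPt → ℤ) none := fun h => hu (mem_V23_of_one h)
  have h2 : ¬ (2 : ℤ) ∣ (v : GolayPt → ℤ) none := fun h => hv (mem_V23_of_one h)
  omega

theorem u0_coe (i : GolayPt) : ((u0 : leechLattice) : GolayPt → ℤ) i = if i = none then -3 else 1 :=
  rfl

theorem u0_not_mem : u0 ∉ V23 := by
  intro h
  have := h (some 0)
  rw [u0_coe, if_neg (by simp)] at this
  omega

end Cfsg.Agent.MonsterU.CoFrameAct
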