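import Cfsg.Agent.MonsterU.CoFrameF
import Cfsg.Agent.MonsterU.CoFrameAct
import Cfsg.Agent.MonsterU.AmalPin
import Cfsg.Agent.S0371

/-!
# The element of order 23 of the frame stabiliser

`x = x23` (the shift) on the sections `V12 / V1`, `V23 / V12` of `Λ / 2Λ` and on the sign changes:
generation by one orbit, the idempotent of the quadratic residues, fixed vectors, centraliser
in `M24`, the element `u` with `u x u⁻¹ = x ^ 2`.
-/

set_option autoImplicit false

namespace Cfsg.Agent.MonsterU.CoFrame23

open Cfsg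
open Cfsg.Agent.SporadicA.Co0Mono hiding smul_add smul_sub smul_neg smul_zero
open Cfsg.Agent.SporadicA.Co1Simple
open Cfsg.Agent.CoOneType
open Cfsg.Agent.CoOneType.CoOneE (pr pr_surjective E mem_E)
open Cfsg.Agent.SporadicStructure.Co0Base (e8 e8_coe)
open Cfsg.Agent.SporadicStructure.LeechBase (zmod2_cases)
open Cfsg.Agent.CoOneType.SignFacts
open Cfsg.Agent.SporadicA
open Cfsg.Agent.MonsterU.CoFrame
open Cfsg.Agent.MonsterU.CoFrameAct
open Cfsg.Agent.MonsterU.AmalPin (qr qrProd)
open Cfsg.Agent.MonsterU.CoFrameF (eq_of_shift)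
open Cfsg.Spor (Co1)
open scoped Pointwise

/-! ### The element `u` -/

/-- multiplication by `2` on the 24 points -/
def dbl : M24 := ⟨Equiv.optionCongr (Units.mulLeft (ZMod.unitOfCoprime 2 (by norm_num))),
  Cfsg.Agent.S0371.result _ ⟨ZMod.unitOfCoprime 5 (by norm_num), by decide⟩⟩

theorem dbl_none : (dbl : Equiv.Perm GolayPt) none = none := rfl

theorem dbl_some (a : ZMod 23) : (dbl : Equiv.Perm GolayPt) (some a) = some (2 * a) := rfl

theorem dbl_shift : dbl * shift = shift ^ 2 * dbl := by
  apply Subtype.ext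
  ext1 i
  cases i with
  | none => rfl
  | some a =>
    show some (2 * (a + 1)) = some (2 * a + 1 + 1)
    congr 1
    ring

/-- The element `u`. -/
def u : Co0 := permCo0 dbl

theorem u_mem_N : u ∈ N := perm_mem_N dbl

theorem u_mul_x : u * x23 = x23 ^ 2 * u := by
  unfold u x23
  rw [← map_mul, ← map_pow, ← map_mul, dbl_shift]

/-! ### The centraliser in `M24` -/

theorem shift_none : (shift : Equiv.Perm GolayPt) none = none := rfl

theorem shift_some (a : ZMod 23) : (shift : Equiv.Perm GolayPt) (some a) = some (a + 1) := rfl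

theorem centralizer_shift {σ : M24} (h : σ * shift = shift * σ) : ∃ n : ℕ, σ = shift ^ n := by
  have hc : ∀ i, (σ : Equiv.Perm GolayPt) ((shift : Equiv.Perm GolayPt) i) =
      (shift : Equiv.Perm GolayPt) ((σ : Equiv.Perm GolayPt) i) := by
    intro i
    exact congrArg (fun t : M24 => (t : Equiv.Perm GolayPt) i) h
  have h0 : (σ : Equiv.Perm GolayPt) none = none := by
    have h1 := hc none
    rw [shift_none] at h1
    cases h2 : (σ : Equiv.Perm GolayPt) none with
    | none => rfl
    | some a =>
      rw [h2, shift_some] at h1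
      exfalso
      have h3 : a = a + 1 := Option.some_injective _ h1
      exact absurd (left_eq_add.1 h3) (by decide)
  obtain ⟨b, hb⟩ : ∃ b, (σ : Equiv.Perm GolayPt) (some 0) = some b := by
    cases h2 : (σ : Equiv.Perm GolayPt) (some 0) with
    | none =>
      exfalso
      have h3 := (σ : Equiv.Perm GolayPt).injective (h2.trans h0.symm)
      exact absurd h3 (by simp)
    | some b => exact ⟨b, rfl⟩
  have h1 : ∀ n : ℕ, (σ : Equiv.Perm GolayPt) (some (n : ZMod 23)) = some ((n : ZMod 23) + b) := by
    intro n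
    induction n with
    | zero => rw [Nat.cast_zero, hb, zero_add]
    | succ n ih =>
      rw [Nat.cast_succ, ← shift_some, hc, ih, shift_some]
      congr 1
      ring
  refine ⟨b.val, ?_⟩
  apply Subtype.ext
  ext1 i
  cases i with
  | none => rw [h0]; exact (shift_pow_none _).symm
  | some a =>
    have h2 := h1 a.val
    rw [ZMod.natCast_zmod_val] at h2
    rw [h2]
    have h3 := shift_pow_some b.val a
    rw [ZMod.natCast_zmod_val] at h3
    exact h3.symm

/-! ### The powers of `x` -/

theorem x23_pow_eq (n : ℕ) : x23 ^ n = permCo0 (shift ^ n) := by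
  unfold x23
  rw [map_pow]

theorem pow_duad (n : ℕ) : x23 ^ n • duad none (some 0) = duad none (some (n : ZMod 23)) := by
  rw [x23_pow_eq]
  apply Subtype.ext
  funext k
  rw [perm_coe, duad_coe, duad_coe]
  have h1 : ((shift ^ n : M24) : Equiv.Perm GolayPt).symm k = none ↔ k = none := by
    rw [Equiv.symm_apply_eq, shift_pow_none]
  have h2 : ((shift ^ n : M24) : Equiv.Perm GolayPt).symm k = some 0 ↔ k = some (n : ZMod 23) := by
    rw [Equiv.symm_apply_eq, shift_pow_some, zero_add]
  simp only [h1, h2]

theorem pow_smul_sub {v : leechLattice} {S : AddSubgroup leechLattice}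
    (hS : ∀ w ∈ S, x23 • w ∈ S) (h : x23 • v - v ∈ S) (n : ℕ) : x23 ^ n • v - v ∈ S := by
  induction n with
  | zero => rw [pow_zero, one_smul, sub_self]; exact S.zero_mem
  | succ n ih =>
    have h1 := S.add_mem (hS _ ih) h
    rwa [Co0Mono.smul_sub, ← mul_smul, ← pow_succ', sub_add_sub_cancel] at h1

theorem pow_mem_N (n : ℕ) : x23 ^ n ∈ N := N.pow_mem x23_mem_N n

/-! ### Generation of `V12 / V1` -/

theorem closure_V12 : V12 ≤ AddSubgroup.closure
    ((Set.range fun n : ℕ => x23 ^ n • duad none (some 0)) ∪ (V1 : Set leechLattice)) := by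
  set S := AddSubgroup.closure
    ((Set.range fun n : ℕ => x23 ^ n • duad none (some 0)) ∪ (V1 : Set leechLattice)) with hS
  have hV1 : ∀ v ∈ V1, v ∈ S := fun v hv => AddSubgroup.subset_closure (Or.inr hv)
  have hd : ∀ a : ZMod 23, duad none (some a) ∈ S := by
    intro a
    refine AddSubgroup.subset_closure (Or.inl ⟨a.val, ?_⟩)
    show x23 ^ a.val • duad none (some 0) = _
    rw [pow_duad, ZMod.natCast_zmod_val]
  have key : ∀ v : leechLattice, (∀ i, (4 : ℤ) ∣ (v : GolayPt → ℤ) i) → v ∈ S := by
    intro v hv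
    choose w hw using hv
    have hsum : (8 : ℤ) ∣ ∑ i, (v : GolayPt → ℤ) i := by
      have h1 := (pair_eq_zero_iff v allOne).1 (pair_allOne (four_mem_V12 fun i => ⟨w i, hw i⟩))
      have h2 : sup allOne = Finset.univ := by
        ext i
        rw [mem_sup]
        exact ⟨fun _ => Finset.mem_univ _, fun _ => rfl⟩
      rwa [h2] at h1
    obtain ⟨m, hm⟩ := hsum
    have e : v = m • e8 none - ∑ a : ZMod 23, w (some a) • duad none (some a) := by
      apply Subtype.ext
      funext k
      have h1 : ((∑ a : ZMod 23, w (some a) • duad none (some a) : leechLattice) : GolayPt → ℤ) k =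
          ∑ a : ZMod 23, w (some a) * (4 * ((if k = none then 1 else 0) -
            (if k = some a then 1 else 0))) := by
        rw [AddSubgroup.val_finsetSum, Finset.sum_apply]
        refine Finset.sum_congr rfl fun a _ => ?_
        rw [← duad_coe]; rfl
      have h2 : ((m • e8 none - ∑ a : ZMod 23, w (some a) • duad none (some a) : leechLattice) :
          GolayPt → ℤ) k = m * (if k = none then 8 else 0) -
          ∑ a : ZMod 23, w (some a) * (4 * ((if k = none then 1 else 0) -
            (if k = some a then 1 else 0))) := by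
        rw [← h1, ← coe_e8]; rfl
      rw [h2]
      have h3 : ∑ i, (v : GolayPt → ℤ) i = 4 * w none + ∑ a : ZMod 23, 4 * w (some a) := by
        rw [Finset.sum_congr rfl fun i _ => hw i]
        exact Fintype.sum_option _
      rw [h3, ← Finset.mul_sum] at hm
      cases k with
      | none =>
        have h4 : ∑ a : ZMod 23, w (some a) * (4 * ((if (none : GolayPt) = none then 1 else 0) -
            (if (none : GolayPt) = some a then 1 else 0))) = 4 * ∑ a : ZMod 23, w (some a) := by
          rw [Finset.mul_sum]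
          refine Finset.sum_congr rfl fun a _ => ?_
          simp; ring
        rw [h4, if_pos rfl, hw none]
        linarith
      | some b =>
        have h4 : ∑ a : ZMod 23, w (some a) * (4 * ((if (some b : GolayPt) = none then 1 else 0) -
            (if (some b : GolayPt) = some a then 1 else 0))) = -(4 * w (some b)) := by
          rw [Finset.sum_eq_single b]
          · simp; ring
          · intro a _ hab
            rw [if_neg (by simp), if_neg (fun h => hab (Option.some_injective _ h).symm)]
            ring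
          · intro h; exact absurd (Finset.mem_univ _) h
        rw [h4, if_neg (by simp), hw (some b)]
        ring
    rw [e]
    refine S.sub_mem (S.zsmul_mem (hV1 _ e8_mem_V1) m) ?_
    exact AddSubgroup.sum_mem _ fun a _ => S.zsmul_mem (hd a) _
  intro v hv
  rcases (mem_V12_iff_hw (V12_le_V23 hv)).1 hv with h | h
  · exact key v ((hw_eq_zero_iff (V12_le_V23 hv)).1 h)
  · have h1 : v - (2 : ℕ) • u0 ∈ S := by
      apply key
      intro i
      have h2 : hw v i = 1 := by rw [h]; rfl
      have h3 := hv.1 i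
      have h4 : ¬ (4 : ℤ) ∣ (v : GolayPt → ℤ) i := by
        intro h5
        obtain ⟨k, hk⟩ := h5
        rw [hw_apply, hk, show 4 * k / 2 = 2 * k by omega] at h2
        push_cast at h2
        have : (2 : ZMod 2) = 0 := rfl
        rw [this, zero_mul] at h2
        exact absurd h2 (by decide)
      have h5 : (((v - (2 : ℕ) • u0 : leechLattice)) : GolayPt → ℤ) i =
          (v : GolayPt → ℤ) i - 2 * (if i = none then -3 else 1) := by
        rw [coe_sub', ← u0_coe]
        show _ - (2 : ℕ) • (u0 : GolayPt → ℤ) i = _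
        rw [nsmul_eq_mul]; rfl
      rw [h5]
      split_ifs <;> omega
    have h2 := S.add_mem h1 (hV1 _ (two_smul_mem_V1 u0))
    rwa [sub_add_cancel] at h2

/-! ### Generation of `V23 / V12` -/

theorem hw_two_u0 : hw ((2 : ℕ) • u0) = 1 := by
  funext i
  rw [hw_apply]
  have h : (((2 : ℕ) • u0 : leechLattice) : GolayPt → ℤ) i = 2 * (if i = none then -3 else 1) := by
    rw [← u0_coe]
    show (2 : ℕ) • (u0 : GolayPt → ℤ) i = _
    rw [nsmul_eq_mul]; rfl
  rw [h]
  split_ifs <;> rfl

theorem hw_pow (n : ℕ) {v : leechLattice} (hv : hw v = qrWord 0) :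
    hw (x23 ^ n • v) = qrWord n := by
  have h1 := congrArg (fun c : golayCode => (c : GolayPt → ZMod 2)) (wordPerm_shift_pow n)
  rw [x23_pow_eq]
  funext i
  rw [hw_perm, hv]
  exact congrFun h1 i

theorem closure_V23 {q₀ : leechLattice} (hq : q₀ ∈ V23) (h0 : hw q₀ = qrWord 0) :
    V23 ≤ AddSubgroup.closure
      ((Set.range fun n : ℕ => x23 ^ n • q₀) ∪ (V12 : Set leechLattice)) := by
  set S := AddSubgroup.closure
    ((Set.range fun n : ℕ => x23 ^ n • q₀) ∪ (V12 : Set leechLattice)) with hS
  have hV12 : ∀ v ∈ V12, v ∈ S := fun v hv => AddSubgroup.subset_closure (Or.inr hv)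
  have key : ∀ c : GolayPt → ZMod 2, c ∈ golayCode → ∃ s ∈ S, s ∈ V23 ∧ hw s = c := by
    intro c hc
    unfold golayCode at hc
    induction hc using Submodule.span_induction with
    | mem c hc =>
      rcases hc with ⟨t, rfl⟩ | hc
      · refine ⟨x23 ^ t.val • q₀, AddSubgroup.subset_closure (Or.inl ⟨t.val, rfl⟩),
          N_mem_V23 (pow_mem_N _) hq, ?_⟩
        rw [hw_pow _ h0, ZMod.natCast_zmod_val]
      · rw [Set.mem_singleton_iff.1 hc]
        exact ⟨(2 : ℕ) • u0, hV12 _ (two_smul_mem_V12 _), V12_le_V23 (two_smul_mem_V12 _), hw_two_u0⟩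
    | zero => exact ⟨0, S.zero_mem, V23.zero_mem, by funext i; rfl⟩
    | add a b _ _ ha hb =>
      obtain ⟨s, h1, h2, h3⟩ := ha
      obtain ⟨t, h4, h5, h6⟩ := hb
      exact ⟨s + t, S.add_mem h1 h4, V23.add_mem h2 h5, by rw [hw_add h2, h3, h6]⟩
    | smul a c _ hc =>
      obtain ⟨s, h1, h2, h3⟩ := hc
      rcases zmod2_cases a with rfl | rfl
      · exact ⟨0, S.zero_mem, V23.zero_mem, by rw [zero_smul]; funext i; rfl⟩
      · exact ⟨s, h1, h2, by rw [h3, one_smul]⟩
  intro v hv
  obtain ⟨s, h1, h2, h3⟩ := key _ (hw_mem hv)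
  have h4 : v - s ∈ V12 := by
    rw [mem_V12_iff_hw (V23.sub_mem hv h2)]
    left
    have h5 := hw_add (u := v - s) (V23.sub_mem hv h2) (v := s)
    rw [sub_add_cancel, h3] at h5
    exact (right_eq_add.1 h5)
  have h5 := S.add_mem (hV12 _ h4) h1
  rwa [sub_add_cancel] at h5

/-! ### The idempotent of the quadratic residues -/

/-- The sum of the translates of `v` under `x ^ i`, `i` a nonzero square modulo 23. -/
def qrSum (v : leechLattice) : leechLattice := (qr.map fun i => x23 ^ i • v).sum

theorem qrSum_add (v w : leechLattice) : qrSum (v + w) = qrSum v + qrSum w := by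
  unfold qrSum
  rw [← List.sum_map_add]
  exact congrArg _ (List.map_congr_left fun i _ => Co0Mono.smul_add _ _ _)

theorem qrSum_neg (v : leechLattice) : qrSum (-v) = -qrSum v := by
  have h := qrSum_add v (-v)
  have h0 : qrSum 0 = 0 := by
    unfold qrSum
    rw [List.map_congr_left (g := fun _ => (0 : leechLattice)) fun i _ => Co0Mono.smul_zero _]
    simp
  rw [add_neg_cancel, h0] at h
  exact (neg_eq_of_add_eq_zero_right h.symm).symm

theorem list_sum_mem {S : AddSubgroup leechLattice} {f : ℕ → leechLattice} (h : ∀ i, f i ∈ S) :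
    (qr.map f).sum ∈ S := by
  apply AddSubgroup.list_sum_mem
  intro w hw
  obtain ⟨i, -, rfl⟩ := List.mem_map.1 hw
  exact h i

theorem pair_sum (f : ℕ → leechLattice) (c : golayCode) :
    pair (qr.map f).sum c = (qr.map fun i => pair (f i) c).sum := by
  have h : ∀ l : List ℕ, pair (l.map f).sum c = (l.map fun i => pair (f i) c).sum := by
    intro l
    induction l with
    | nil => exact pair_zero_left c
    | cons a l ih => rw [List.map_cons, List.sum_cons, pair_add, ih, List.map_cons, List.sum_cons]
  exact h qr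

/-- sums over the squares -/
theorem sum_qr (f : ZMod 23 → ZMod 2) :
    ∑ b : ZMod 23, (if b = 0 ∨ b.val ∈ qr then f b else 0) =
      f 0 + (qr.map fun i : ℕ => f i).sum := by
  rw [← Finset.sum_filter]
  have h : (Finset.univ.filter fun b : ZMod 23 => b = 0 ∨ b.val ∈ qr) =
      (((0 :: qr).map fun i : ℕ => (i : ZMod 23)).toFinset) := by decide
  rw [h, List.sum_toFinset _ (by decide), List.map_map, List.map_cons, List.sum_cons]
  simp [Function.comp_def]

theorem qr_check : ∀ t a : ZMod 23,
    qrWord t (some (t + a)) = if (a = 0 ∨ a.val ∈ qr) then 1 else 0 := by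
  decide +kernel

theorem qr_pair (n : ZMod 23) (c : golayCode) :
    (qr.map fun i : ℕ => (c : GolayPt → ZMod 2) (some (n + i))).sum =
      (c : GolayPt → ZMod 2) (some n) := by
  have h := Co0Basic.code_dot (q n).2 c.2
  have h1 : ∑ p, (q n : GolayPt → ZMod 2) p * (c : GolayPt → ZMod 2) p =
      (q n : GolayPt → ZMod 2) none * (c : GolayPt → ZMod 2) none +
      ∑ a : ZMod 23, (q n : GolayPt → ZMod 2) (some a) * (c : GolayPt → ZMod 2) (some a) :=
    Fintype.sum_option _
  have h2 : (q n : GolayPt → ZMod 2) none = 0 := rfl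
  have h3 : ∑ a : ZMod 23, (q n : GolayPt → ZMod 2) (some a) * (c : GolayPt → ZMod 2) (some a) =
      ∑ b : ZMod 23, (if b = 0 ∨ b.val ∈ qr then (c : GolayPt → ZMod 2) (some (n + b)) else 0) := by
    rw [← Equiv.sum_comp (Equiv.addLeft n)]
    refine Finset.sum_congr rfl fun b _ => ?_
    show qrWord n (some (n + b)) * (c : GolayPt → ZMod 2) (some (n + b)) = _
    rw [qr_check]
    split_ifs
    · rw [one_mul]
    · rw [zero_mul]
  rw [h1, h2, zero_mul, zero_add, h3, sum_qr, add_zero] at h
  have key : ∀ a b : ZMod 2, a + b = 0 → b = a := by decide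
  exact key _ _ h

theorem qrSum_V12 {v : leechLattice} (hv : v ∈ V12) : qrSum v - v ∈ V1 := by
  have h := closure_V12 hv
  refine AddSubgroup.closure_induction (p := fun v _ => qrSum v - v ∈ V1) ?_ ?_ ?_ ?_ h
  · rintro w (⟨n, rfl⟩ | hw)
    · show qrSum (x23 ^ n • duad none (some 0)) - x23 ^ n • duad none (some 0) ∈ V1
      have h1 : x23 ^ n • duad none (some 0) ∈ V12 := N_mem_V12 (pow_mem_N n) (duad_mem _ _)
      have h2 : qrSum (x23 ^ n • duad none (some 0)) ∈ V12 :=
        list_sum_mem fun i => N_mem_V12 (pow_mem_N i) h1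
      rw [mem_V1_iff_pair (V12.sub_mem h2 h1)]
      intro c
      rw [pair_sub]
      unfold qrSum
      rw [pair_sum]
      have h3 : ∀ i : ℕ, pair (x23 ^ i • x23 ^ n • duad none (some 0)) c =
          (c : GolayPt → ZMod 2) none + (c : GolayPt → ZMod 2) (some ((n : ZMod 23) + i)) := by
        intro i
        rw [← mul_smul, ← pow_add, pow_duad, pair_duad]
        push_cast
        rw [add_comm (i : ZMod 23)]
      rw [List.map_congr_left fun i _ => h3 i, pow_duad, pair_duad, List.sum_map_add, qr_pair]
      have h4 : (qr.map fun _ : ℕ => (c : GolayPt → ZMod 2) none).sum =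
          (c : GolayPt → ZMod 2) none := by
        have : ∀ a : ZMod 2, (qr.map fun _ : ℕ => a).sum = a := by decide
        exact this _
      rw [h4]
      have : ∀ a b : ZMod 2, a + b + (a + b) = 0 := by decide
      exact this _ _
    · show qrSum w - w ∈ V1
      exact V1.sub_mem (list_sum_mem fun i => N_mem_V1 (pow_mem_N i) hw) hw
  · rw [sub_zero]
    exact list_sum_mem fun i => N_mem_V1 (pow_mem_N i) V1.zero_mem
  · intro a b _ _ ha hb
    rw [qrSum_add, add_sub_add_comm]
    exact V1.add_mem ha hb
  · intro a _ ha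
    rw [qrSum_neg, ← neg_sub']
    exact V1.neg_mem ha

theorem hw_sum {f : ℕ → leechLattice} (hf : ∀ i, f i ∈ V23) :
    hw (qr.map f).sum = (qr.map fun i => hw (f i)).sum := by
  have h : ∀ l : List ℕ, (l.map f).sum ∈ V23 ∧ hw (l.map f).sum = (l.map fun i => hw (f i)).sum := by
    intro l
    induction l with
    | nil => exact ⟨V23.zero_mem, by funext i; rfl⟩
    | cons a l ih =>
      rw [List.map_cons, List.sum_cons, List.map_cons, List.sum_cons]
      exact ⟨V23.add_mem (hf a) ih.1, by rw [hw_add (hf a), ih.2]⟩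
  exact (h qr).2

theorem qr_words : ∀ t : ZMod 23, ∀ p : GolayPt,
    (qr.map fun i : ℕ => qrWord (t + i) p).sum = 0 := by decide +kernel

theorem qr_words' (t : ZMod 23) : (qr.map fun i : ℕ => qrWord (t + i)).sum = 0 := by
  funext p
  have h : ∀ l : List ℕ, (l.map fun i : ℕ => qrWord (t + i)).sum p =
      (l.map fun i : ℕ => qrWord (t + i) p).sum := by
    intro l
    induction l with
    | nil => rfl
    | cons a l ih => rw [List.map_cons, List.sum_cons, Pi.add_apply, ih, List.map_cons, List.sum_cons]
  rw [h, qr_words]; rfl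

theorem qrSum_V23 {v : leechLattice} (hv : v ∈ V23) : qrSum v ∈ V12 := by
  obtain ⟨q₀, hq, h0⟩ := exists_hw (q 0)
  have h := closure_V23 hq h0 hv
  refine AddSubgroup.closure_induction (p := fun v _ => qrSum v ∈ V12) ?_ ?_ ?_ ?_ h
  · rintro w (⟨n, rfl⟩ | hw')
    · show qrSum (x23 ^ n • q₀) ∈ V12
      have h1 : ∀ i : ℕ, x23 ^ i • x23 ^ n • q₀ ∈ V23 := fun i =>
        N_mem_V23 (pow_mem_N i) (N_mem_V23 (pow_mem_N n) hq)
      rw [mem_V12_iff_hw (show qrSum (x23 ^ n • q₀) ∈ V23 from list_sum_mem h1)]
      left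
      unfold qrSum
      rw [hw_sum h1, ← qr_words' (n : ZMod 23)]
      congr 1
      refine List.map_congr_left fun i _ => ?_
      rw [← mul_smul, ← pow_add, hw_pow _ h0]
      push_cast
      rw [add_comm (i : ZMod 23)]
    · exact list_sum_mem fun i => N_mem_V12 (pow_mem_N i) hw'
  · exact list_sum_mem fun i => N_mem_V12 (pow_mem_N i) V12.zero_mem
  · intro a b _ _ ha hb
    rw [qrSum_add]
    exact V12.add_mem ha hb
  · intro a _ ha
    rw [qrSum_neg]
    exact V12.neg_mem ha

/-! ### The sign changes -/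

theorem wordPerm_add (σ : M24) (c d : golayCode) :
    wordPerm σ (c + d) = wordPerm σ c + wordPerm σ d := rfl

/-- the word version -/
def qrWordSum (c : golayCode) : golayCode := (qr.map fun i => wordPerm (shift ^ i) c).sum

theorem qrWordSum_add (c d : golayCode) : qrWordSum (c + d) = qrWordSum c + qrWordSum d := by
  unfold qrWordSum
  rw [← List.sum_map_add]
  rfl

theorem qrWordSum_q (t : ZMod 23) : qrWordSum (q t) = 0 := by
  have h1 : ∀ i : ℕ, wordPerm (shift ^ i) (q t) = q (t + i) := by
    intro i
    have h2 := wordPerm_shift_pow t.val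
    rw [ZMod.natCast_zmod_val] at h2
    rw [← h2, ← wordPerm_mul, ← pow_add, wordPerm_shift_pow]
    congr 1
    push_cast
    rw [ZMod.natCast_zmod_val, add_comm]
  apply Subtype.ext
  have h2 : ∀ l : List ℕ, ((l.map fun i => wordPerm (shift ^ i) (q t)).sum : golayCode).1 =
      (l.map fun i : ℕ => qrWord (t + i)).sum := by
    intro l
    induction l with
    | nil => rfl
    | cons a l ih =>
      rw [List.map_cons, List.sum_cons, List.map_cons, List.sum_cons, ← ih, h1]
      rfl
  exact (h2 qr).trans (qr_words' t)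

theorem qrWordSum_allOne : qrWordSum allOne = allOne := by
  apply Subtype.ext
  funext p
  have h2 : ∀ l : List ℕ, ((l.map fun i => wordPerm (shift ^ i) allOne).sum : golayCode).1 p =
      (l.map fun _ : ℕ => (1 : ZMod 2)).sum := by
    intro l
    induction l with
    | nil => rfl
    | cons a l ih =>
      rw [List.map_cons, List.sum_cons, List.map_cons, List.sum_cons, ← ih]
      rfl
  have h3 : (qr.map fun _ : ℕ => (1 : ZMod 2)).sum = 1 := by decide
  exact (h2 qr).trans h3

theorem qrWordSum_zero : qrWordSum 0 = 0 := by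
  have h := qrWordSum_add 0 0
  rwa [add_zero, signCo0_add_self] at h

theorem qrWordSum_cases (c : golayCode) : qrWordSum c = 0 ∨ qrWordSum c = allOne := by
  obtain ⟨w, hw⟩ := c
  unfold golayCode at hw
  refine Submodule.span_induction
    (p := fun w hw => qrWordSum ⟨w, hw⟩ = 0 ∨ qrWordSum ⟨w, hw⟩ = allOne) ?_ ?_ ?_ ?_ hw
  · rintro w (⟨t, rfl⟩ | hw)
    · left; exact qrWordSum_q t
    · right
      have hw' : w = 1 := hw
      subst hw'
      exact qrWordSum_allOne
  · left; exact qrWordSum_zero
  · intro a b ha hb h1 h2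
    have e : qrWordSum ⟨a + b, golayCode.add_mem ha hb⟩ = qrWordSum ⟨a, ha⟩ + qrWordSum ⟨b, hb⟩ :=
      qrWordSum_add ⟨a, ha⟩ ⟨b, hb⟩
    rw [e]
    rcases h1 with h1 | h1 <;> rcases h2 with h2 | h2 <;> rw [h1, h2]
    · left; rw [add_zero]
    · right; rw [zero_add]
    · right; rw [add_zero]
    · left; exact signCo0_add_self _
  · intro a x hx h1
    rcases zmod2_cases a with rfl | rfl
    · left
      have e : (⟨(0 : ZMod 2) • x, golayCode.smul_mem 0 hx⟩ : golayCode) = 0 :=
        Subtype.ext (zero_smul _ _)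
      rw [e]; exact qrWordSum_zero
    · have e : (⟨(1 : ZMod 2) • x, golayCode.smul_mem 1 hx⟩ : golayCode) = ⟨x, hx⟩ :=
        Subtype.ext (one_smul _ _)
      rw [e]; exact h1

/-- The residue product kills the sign changes of `Co1`. -/
theorem qrProd_E {e : Co1} (he : e ∈ E) : qrProd (pr x23) e = 1 := by
  obtain ⟨c, rfl⟩ := he
  have h1 : ∀ i : ℕ, pr x23 ^ i * pr (signCo0 c) * (pr x23 ^ i)⁻¹ =
      pr (signCo0 (wordPerm (shift ^ i) c)) := by
    intro i
    rw [← map_pow, ← map_inv, ← map_mul, ← map_mul, x23_pow_eq, perm_mul_sign_mul_inv]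
  have h2 : ∀ l : List ℕ, (l.map fun i => pr x23 ^ i * pr (signCo0 c) * (pr x23 ^ i)⁻¹).prod =
      pr (signCo0 (l.map fun i => wordPerm (shift ^ i) c).sum) := by
    intro l
    induction l with
    | nil => rw [List.map_nil, List.prod_nil, List.map_nil, List.sum_nil, signCo0_zero, map_one]
    | cons a l ih =>
      rw [List.map_cons, List.prod_cons, ih, List.map_cons, List.sum_cons, h1, signCo0_add, map_mul]
  unfold qrProd
  rw [h2]
  rcases qrWordSum_cases c with h3 | h3
  · rw [show (qr.map fun i => wordPerm (shift ^ i) c).sum = 0 from h3, signCo0_zero, map_one]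
  · rw [show (qr.map fun i => wordPerm (shift ^ i) c).sum = allOne from h3]
    exact CoFrameF.pr_eq_one.2 (Or.inr rfl)

/-- A word fixed by the shift modulo the all-one word is `0` or the all-one word. -/
theorem word_fixed {c : golayCode} (h : wordPerm shift c = c ∨ wordPerm shift c = c + allOne) :
    c = 0 ∨ c = allOne := by
  rcases h with h | h
  · exact eq_of_shift h
  · exfalso
    have h5 : ∀ n : ℕ, wordPerm (shift ^ n) c = c + n • allOne := by
      intro n
      induction n with
      | zero => rw [pow_zero, zero_smul, add_zero]; rfl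
      | succ n ih =>
        have hn : ∀ m : ℕ, wordPerm shift (m • allOne) = m • allOne := fun m => rfl
        rw [pow_succ', wordPerm_mul, ih, wordPerm_add, hn, h, succ_nsmul]
        abel
    have h6 := h5 23
    rw [shift_pow_23] at h6
    have h8 : c = c + (23 : ℕ) • allOne := h6
    have h9 := congrArg (fun d : golayCode => (d : GolayPt → ZMod 2) none) (left_eq_add.1 h8)
    exact absurd h9 (by decide)

/-! ### Fixed vectors -/

/-- `x` has no fixed vector on `V23 / V12`. -/
theorem fixed_V23 {v : leechLattice} (hv : v ∈ V23) (h : x23 • v - v ∈ V12) : v ∈ V12 := by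
  rw [mem_V12_iff_hw hv]
  have h1 : hw (x23 • v - v) + hw v = hw (x23 • v) := by
    have := hw_add (u := x23 • v - v) (V12_le_V23 h) (v := v)
    rw [sub_add_cancel] at this
    exact this.symm
  let c : golayCode := ⟨hw v, hw_mem hv⟩
  have h2 : (wordPerm shift c : GolayPt → ZMod 2) = hw (x23 • v) := by
    funext i
    rw [wordPerm_apply]
    rfl
  have h3 : wordPerm shift c = c ∨ wordPerm shift c = c + allOne := by
    rcases (mem_V12_iff_hw (V12_le_V23 h)).1 h with h4 | h4
    · left; apply Subtype.ext; rw [h2, ← h1, h4, zero_add]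
    · right; apply Subtype.ext; rw [h2, ← h1, h4, add_comm]; rfl
  rcases word_fixed h3 with h4 | h4
  · left; exact congrArg (fun d : golayCode => (d : GolayPt → ZMod 2)) h4
  · right; exact congrArg (fun d : golayCode => (d : GolayPt → ZMod 2)) h4

/-- `x` has no fixed vector on `V12 / V1`. -/
theorem fixed_V12 {v : leechLattice} (hv : v ∈ V12) (h : x23 • v - v ∈ V1) : v ∈ V1 := by
  rw [mem_V1_iff_pair hv]
  -- the pairing with `q t` does not depend on `t`
  have h1 : ∀ c : golayCode, pair v (wordPerm shift c) = pair v c := by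
    intro c
    have h2 := pair_V1 h (wordPerm shift c)
    rw [pair_sub, show pair (x23 • v) (wordPerm shift c) = pair v c from pair_perm shift v c] at h2
    have key : ∀ a b : ZMod 2, a + b = 0 → b = a := by decide
    exact key _ _ h2
  have h2 : ∀ n : ℕ, pair v (q n) = pair v (q 0) := by
    intro n
    induction n with
    | zero => rw [Nat.cast_zero]
    | succ n ih => rw [Nat.cast_succ, ← wordPerm_shift, h1, ih]
  have h3 : ∀ t : ZMod 23, pair v (q t) = pair v (q 0) := by
    intro t
    have := h2 t.val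
    rwa [ZMod.natCast_zmod_val] at this
  have hadd : ∀ c d : golayCode, pair v (c + d) = pair v c + pair v d := fun c d =>
    pair_add_right hv c d
  have hzero : pair v (0 : golayCode) = 0 := by
    have := hadd 0 0
    rw [add_zero] at this
    exact left_eq_add.1 this
  have h4 : pair v (q 0) = 0 := by
    have h5 : pair v (∑ m ∈ Finset.range 23, (q 0 + q (m : ZMod 23))) = pair v (q 0) := by
      rw [sum_q]
    have h6 : ∀ n : ℕ, pair v (∑ m ∈ Finset.range n, (q 0 + q (m : ZMod 23))) = 0 := by
      intro n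
      induction n with
      | zero => rw [Finset.sum_range_zero, hzero]
      | succ n ih =>
        have h7 : ∀ a b : ZMod 2, b = a → 0 + (a + b) = 0 := by decide
        rw [Finset.sum_range_succ, hadd (∑ m ∈ Finset.range n, (q 0 + q (m : ZMod 23))), ih,
          hadd (q 0) (q (n : ZMod 23))]
        exact h7 _ _ (h3 n)
    exact h5.symm.trans (h6 23)
  intro c
  obtain ⟨w, hw⟩ := c
  unfold golayCode at hw
  refine Submodule.span_induction (p := fun w hw => pair v ⟨w, hw⟩ = 0) ?_ ?_ ?_ ?_ hw
  · rintro w (⟨t, rfl⟩ | hw)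
    · exact (h3 t).trans h4
    · have hw' : w = 1 := hw
      subst hw'
      exact pair_allOne hv
  · exact hzero
  · intro a b ha hb h5 h6
    have e : pair v ⟨a + b, golayCode.add_mem ha hb⟩ = pair v ⟨a, ha⟩ + pair v ⟨b, hb⟩ :=
      hadd ⟨a, ha⟩ ⟨b, hb⟩
    rw [e, h5, h6, add_zero]
  · intro a y hy h5
    rcases zmod2_cases a with rfl | rfl
    · have e : (⟨(0 : ZMod 2) • y, golayCode.smul_mem 0 hy⟩ : golayCode) = 0 :=
        Subtype.ext (zero_smul _ _)
      rw [e]; exact hzero
    · have e : (⟨(1 : ZMod 2) • y, golayCode.smul_mem 1 hy⟩ : golayCode) = ⟨y, hy⟩ :=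
        Subtype.ext (one_smul _ _)
      rw [e]; exact h5

theorem x23_u0 : x23 • u0 = u0 := by
  apply Subtype.ext
  funext i
  show (u0 : GolayPt → ℤ) ((shift : Equiv.Perm GolayPt).symm i) = _
  rw [u0_coe, u0_coe]
  have h : (shift : Equiv.Perm GolayPt).symm i = none ↔ i = none := by
    rw [Equiv.symm_apply_eq, shift_none]
  simp only [h]

theorem x23_e8 : x23 • e8 none = e8 none := perm_smul_e8 shift none

/-- **The fixed vectors of `x` on `Λ / 2Λ`.** -/
theorem fixed_cong {v : leechLattice} (h : Cong (x23 • v) v) :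
    v ∈ V1 ∨ v - u0 ∈ V1 := by
  have key : ∀ w ∈ V23, Cong (x23 • w) w → w ∈ V1 := by
    intro w hw hc
    have h1 : x23 • w - w ∈ V1 := Or.inl hc.sub_zero
    exact fixed_V12 (fixed_V23 hw (V1_le_V12 h1)) h1
  by_cases hv : v ∈ V23
  · exact Or.inl (key v hv h)
  · right
    apply key _ (sub_mem_V23 hv u0_not_mem)
    rw [Co0Mono.smul_sub, x23_u0]
    exact h.sub (Cong.refl _)

theorem fixed_cong' {v : leechLattice} (h : Cong (x23 • v) v) :
    Cong v 0 ∨ Cong v (e8 none) ∨ Cong v u0 ∨ Cong v (u0 + e8 none) := by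
  rcases fixed_cong h with (h1 | h1) | (h1 | h1)
  · exact Or.inl h1
  · exact Or.inr (Or.inl h1)
  · right; right; left
    exact cong_of_sub h1
  · right; right; right
    have := h1.add (Cong.refl u0)
    rwa [sub_add_cancel, add_comm (e8 none)] at this

end Cfsg.Agent.MonsterU.CoFrame23
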