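import Cfsg.Agent.MonsterU.CoFrameSep
import Cfsg.Agent.MonsterU.Lam2
import Cfsg.Agent.CoOneType.CoOneE

/-!
# The frame flag in `Λ/2Λ` with the action of `Co1`

`W1 < W12 < W23 : AddSubgroup L2`, the images of `V1 < V12 < V23`.  `E : Subgroup Co1` (sign changes, of
`CoOneE`), `F : Subgroup Co1` the image of the monomial group `N`, the stabiliser of the frame class `f0`.
-/

set_option autoImplicit false
open Cfsg

namespace Cfsg.Agent.MonsterU.CoFrameL2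

open Cfsg.Agent.MonsterU.CoFrame
open Cfsg.Agent.MonsterU.CoFrameAct
open Cfsg.Agent.MonsterU.CoFrameSep

open Cfsg.Agent.SporadicA
open Cfsg.Agent.SporadicA.Co0Mono
open Cfsg.Agent.SporadicA.Co1Simple
open Cfsg.Agent.SporadicStructure.Co0Base (e8 e8_coe)
open Cfsg.Agent.CoOneType.SignFacts
open Cfsg.Agent.CoOneType.CoOneE (pr pr_surjective E mem_E pr_sign_eq_iff pr_eq_iff)
open Cfsg.Agent.MonsterU.Lam2 (L2 cl cl_surjective cl_eq smul_cl bf bf_cl_eq_zero)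

theorem cong_iff_cl (u v : leechLattice) : Cong u v ↔ cl u = cl v := by
  rw [cl_eq]
  constructor
  · rintro ⟨w, rfl⟩
    exact ⟨w, by rw [add_sub_cancel_left]⟩
  · rintro ⟨w, hw⟩
    exact ⟨w, by rw [← hw]; abel⟩

/-- The class of the standard frame. -/
noncomputable def f0 : L2 := cl (e8 none)

/-- The image of `V1`. -/
noncomputable def W1 : AddSubgroup L2 := V1.map cl

/-- The image of `V12`. -/
noncomputable def W12 : AddSubgroup L2 := V12.map cl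

/-- The image of `V23`. -/
noncomputable def W23 : AddSubgroup L2 := V23.map cl

theorem cl_mem_W1 {v : leechLattice} : cl v ∈ W1 ↔ v ∈ V1 := by
  constructor
  · rintro ⟨u, hu, h⟩
    exact mem_V1_of_cong ((cong_iff_cl v u).2 h.symm) hu
  · exact fun h => ⟨v, h, rfl⟩

theorem cl_mem_W12 {v : leechLattice} : cl v ∈ W12 ↔ v ∈ V12 := by
  constructor
  · rintro ⟨u, hu, h⟩
    exact mem_V12_of_cong ((cong_iff_cl v u).2 h.symm) hu
  · exact fun h => ⟨v, h, rfl⟩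

theorem cl_mem_W23 {v : leechLattice} : cl v ∈ W23 ↔ v ∈ V23 := by
  constructor
  · rintro ⟨u, hu, h⟩
    exact mem_V23_of_cong ((cong_iff_cl v u).2 h.symm) hu
  · exact fun h => ⟨v, h, rfl⟩

theorem mem_W1 (x : L2) : x ∈ W1 ↔ x = 0 ∨ x = f0 := by
  obtain ⟨v, rfl⟩ := cl_surjective x
  rw [cl_mem_W1, mem_V1, cong_iff_cl, cong_iff_cl, map_zero]
  rfl

theorem W1_le_W12 : W1 ≤ W12 := AddSubgroup.map_mono V1_le_V12

theorem W12_le_W23 : W12 ≤ W23 := AddSubgroup.map_mono V12_le_V23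

theorem f0_mem_W1 : f0 ∈ W1 := (mem_W1 _).2 (Or.inr rfl)

theorem f0_ne : f0 ≠ 0 := by
  intro h
  apply not_cong_e8
  rw [cong_iff_cl, map_zero]
  exact h

/-- `W23` is the orthogonal space of the frame class. -/
theorem mem_W23_iff_bf (x : L2) : x ∈ W23 ↔ bf x f0 = 0 := by
  obtain ⟨v, rfl⟩ := cl_surjective x
  rw [cl_mem_W23, f0, bf_cl_eq_zero, mem_V23_iff_dot]

theorem pr_smul (g : Co0) (x : L2) : pr g • x = g • x := rfl

theorem pr_smul_cl (g : Co0) (v : leechLattice) : pr g • cl v = cl (g • v) := rfl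

/-- The stabiliser of the frame in `Co1`. -/
def F : Subgroup Spor.Co1 := N.map pr

theorem pr_mem_F {g : Co0} (hg : g ∈ N) : pr g ∈ F := ⟨g, hg, rfl⟩

theorem E_le_F : E ≤ F := by
  rintro _ ⟨c, rfl⟩
  exact pr_mem_F (sign_mem_N c)

theorem smul_f0 {s : Spor.Co1} (hs : s ∈ F) : s • f0 = f0 := by
  obtain ⟨g, hg, rfl⟩ := hs
  show pr g • cl (e8 none) = cl (e8 none)
  rw [pr_smul_cl, ← cong_iff_cl]
  exact N_smul_e8 hg none

/-- An element of `Co0` fixing the frame class preserves the standard cross. -/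
theorem mem_N_of_cong {g : Co0} (h : Cong (g • e8 none) (e8 none)) : g ∈ N := by
  apply mem_N_of_e8
  intro i
  have h1 : Cong (g • e8 i) (e8 none) := ((cong_e8 i none).smul g).trans h
  obtain ⟨w, hw⟩ := h1
  exact mem_crossSet_of_congr _ w none (by
    rw [sqNorm_smul]
    exact sqNorm_e8 i) hw

theorem mem_F_iff (s : Spor.Co1) : s ∈ F ↔ s • f0 = f0 := by
  refine ⟨smul_f0, fun h => ?_⟩
  obtain ⟨g, rfl⟩ := pr_surjective s
  refine pr_mem_F (mem_N_of_cong ?_)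
  rw [cong_iff_cl]
  exact h

theorem pr_mem_F_iff (g : Co0) : pr g ∈ F ↔ g ∈ N := by
  refine ⟨fun h => mem_N_of_cong ?_, pr_mem_F⟩
  rw [cong_iff_cl]
  exact smul_f0 h

theorem F_mem_W1 {s : Spor.Co1} (hs : s ∈ F) {x : L2} (hx : x ∈ W1) : s • x ∈ W1 := by
  obtain ⟨g, hg, rfl⟩ := hs
  obtain ⟨v, rfl⟩ := cl_surjective x
  exact cl_mem_W1.2 (N_mem_V1 hg (cl_mem_W1.1 hx))

theorem F_mem_W12 {s : Spor.Co1} (hs : s ∈ F) {x : L2} (hx : x ∈ W12) : s • x ∈ W12 := by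
  obtain ⟨g, hg, rfl⟩ := hs
  obtain ⟨v, rfl⟩ := cl_surjective x
  exact cl_mem_W12.2 (N_mem_V12 hg (cl_mem_W12.1 hx))

theorem F_mem_W23 {s : Spor.Co1} (hs : s ∈ F) {x : L2} (hx : x ∈ W23) : s • x ∈ W23 := by
  obtain ⟨g, hg, rfl⟩ := hs
  obtain ⟨v, rfl⟩ := cl_surjective x
  exact cl_mem_W23.2 (N_mem_V23 hg (cl_mem_W23.1 hx))

/-! ### The action of `E` -/

theorem E_sub_mem_W1 {s : Spor.Co1} (hs : s ∈ E) {x : L2} (hx : x ∈ W12) : s • x - x ∈ W1 := by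
  obtain ⟨c, rfl⟩ := hs
  obtain ⟨v, rfl⟩ := cl_surjective x
  exact cl_mem_W1.2 (sign_sub_mem_V1 (cl_mem_W12.1 hx) c)

theorem E_sub_mem_W12 {s : Spor.Co1} (hs : s ∈ E) {x : L2} (hx : x ∈ W23) : s • x - x ∈ W12 := by
  obtain ⟨c, rfl⟩ := hs
  obtain ⟨v, rfl⟩ := cl_surjective x
  exact cl_mem_W12.2 (sign_sub_mem_V12 (cl_mem_W23.1 hx) c)

theorem E_sub_mem_W23 {s : Spor.Co1} (hs : s ∈ E) (x : L2) : s • x - x ∈ W23 := by
  obtain ⟨c, rfl⟩ := hs
  obtain ⟨v, rfl⟩ := cl_surjective x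
  exact cl_mem_W23.2 (sign_sub_mem_V23 v c)

/-- The fixed points of `E` on `W23/W1`. -/
theorem mem_W12_of_E {x : L2} (hx : x ∈ W23) (h : ∀ s ∈ E, s • x - x ∈ W1) : x ∈ W12 := by
  obtain ⟨v, rfl⟩ := cl_surjective x
  exact cl_mem_W12.2 (mem_V12_of_sign (cl_mem_W23.1 hx) fun c =>
    cl_mem_W1.1 (h _ ((mem_E _).2 ⟨c, rfl⟩)))

theorem mem_V12_of_sign' {v : leechLattice} (h : ∀ c : golayCode, signCo0 c • v - v ∈ V1) :
    v ∈ V12 := by
  refine mem_V12_of_sign ?_ h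
  by_contra hv
  obtain ⟨c, hc, hp, -⟩ := exists_octad none none
  have h1 := hw_sign_sub hv c
  rcases (mem_V12_iff_hw (V12_le_V23 (V1_le_V12 (h c)))).1 (V1_le_V12 (h c)) with h2 | h2
  · rw [h2] at h1
    have h3 := congrFun h1 none
    rw [hp] at h3
    exact absurd h3 (by decide)
  · rw [h2] at h1
    have h3 : c = allOne := Subtype.ext h1.symm
    have h4 := wt_add_allOne c
    have h5 : wt (c + allOne) = 0 := by
      rw [h3, Cfsg.Agent.CoOneType.CoOneE.allOne_add_self]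
      unfold wt
      rw [Cfsg.Agent.CoOneType.CoOneE.sup_zero, Finset.card_empty]
    omega

/-- The fixed points of `E` on `L2/W1`. -/
theorem mem_W12_of_E' {x : L2} (h : ∀ s ∈ E, s • x - x ∈ W1) : x ∈ W12 := by
  obtain ⟨v, rfl⟩ := cl_surjective x
  exact cl_mem_W12.2 (mem_V12_of_sign' fun c => cl_mem_W1.1 (h _ ((mem_E _).2 ⟨c, rfl⟩)))

/-- The fixed points of `E`. -/
theorem mem_W1_of_E {x : L2} (h : ∀ s ∈ E, s • x = x) : x ∈ W1 := by
  have h1 : x ∈ W12 := mem_W12_of_E' fun s hs => by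
    rw [h s hs, sub_self]; exact W1.zero_mem
  obtain ⟨v, rfl⟩ := cl_surjective x
  rw [cl_mem_W1, mem_V1_iff_pair (cl_mem_W12.1 h1)]
  intro c
  rw [← sign_cong_iff (cl_mem_W12.1 h1), cong_iff_cl]
  exact h _ ((mem_E _).2 ⟨c, rfl⟩)

/-- `E` is faithful on `W23/W1`. -/
theorem E_eq_one_of_W23 {s : Spor.Co1} (hs : s ∈ E) (h : ∀ x ∈ W23, s • x - x ∈ W1) : s = 1 := by
  obtain ⟨c, rfl⟩ := hs
  have h1 := eq_of_sign_V23 (c := c) fun v hv => cl_mem_W1.1 (h _ (cl_mem_W23.2 hv))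
  have h2 : pr (signCo0 c) = pr (signCo0 0) := by
    rw [pr_sign_eq_iff]
    rcases h1 with rfl | rfl
    · exact Or.inl rfl
    · right
      rw [Cfsg.Agent.CoOneType.CoOneE.allOne_add_self]
  rw [h2, signCo0_zero, map_one]

/-- `E` is faithful on `W12`. -/
theorem E_eq_one_of_W12 {s : Spor.Co1} (hs : s ∈ E) (h : ∀ x ∈ W12, s • x = x) : s = 1 := by
  obtain ⟨c, rfl⟩ := hs
  have h1 := eq_of_sign_V12 (c := c) fun v hv => (cong_iff_cl _ _).2 (h _ (cl_mem_W12.2 hv))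
  have h2 : pr (signCo0 c) = pr (signCo0 0) := by
    rw [pr_sign_eq_iff]
    rcases h1 with rfl | rfl
    · exact Or.inl rfl
    · right
      rw [Cfsg.Agent.CoOneType.CoOneE.allOne_add_self]
  rw [h2, signCo0_zero, map_one]

/-- An element of `F` acting trivially on `W12/W1` is in `E`. -/
theorem mem_E_of_trivial {s : Spor.Co1} (hs : s ∈ F) (h : ∀ x ∈ W12, s • x - x ∈ W1) : s ∈ E := by
  obtain ⟨g, hg, rfl⟩ := hs
  obtain ⟨c, rfl⟩ := exists_sign_of_trivial hg fun v hv => cl_mem_W1.1 (h _ (cl_mem_W12.2 hv))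
  exact (mem_E _).2 ⟨c, rfl⟩

/-- `E` is normal in `F`. -/
theorem F_conj_E {s e : Spor.Co1} (hs : s ∈ F) (he : e ∈ E) : s * e * s⁻¹ ∈ E := by
  obtain ⟨g, hg, rfl⟩ := hs
  obtain ⟨c, rfl⟩ := he
  obtain ⟨d, hd⟩ := Cfsg.Agent.CoOneType.CoOneE.N_normalises g hg c
  exact ⟨d, by rw [← hd, map_mul, map_mul, map_inv]⟩

end Cfsg.Agent.MonsterU.CoFrameL2
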