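import Cfsg.Agent.MonsterU.AmalIso
import Cfsg.Agent.MonsterU.ChartIso
import Cfsg.Agent.MonsterU.CoFrameL2
import Cfsg.Agent.MonsterU.CoFrame23

/-!
# The facts connecting two charted groups

`exists_two`: two groups with charts and the facts `Side`, with `x`, `x'` over the same element `x23` of `Co1`, are connected
by an isomorphism `psi : Q ≃* Q'` with `psi y = y'`, `psi q₀ = q₀'`, compatible with `x`, `x'`.
-/

set_option autoImplicit false

namespace Cfsg.Agent.MonsterU.AmalTwoOf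

open Cfsg Cfsg.Spor Cfsg.Agent.MonsterU.Lam2 Cfsg.Agent.MonsterU.Ch Cfsg.Agent.Co2Type.Quad
open Cfsg.Agent.MonsterU.AmalSide Cfsg.Agent.MonsterU.AmalTwo Cfsg.Agent.MonsterU.CoFrameL2
open Cfsg.Agent.MonsterU.CoFrame Cfsg.Agent.MonsterU.CoFrameAct Cfsg.Agent.MonsterU.CoFrame23
open Cfsg.Agent.SporadicA.Co1Simple (x23)
open Cfsg.Agent.CoOneType.CoOneE (pr)

/-! ### fixed vectors -/

theorem fixed_W23 {v : L2} (hv : v ∈ W23) (h : pr x23 • v = v) : v = 0 ∨ v = f0 := by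
  obtain ⟨w, rfl⟩ := cl_surjective v
  rw [cl_mem_W23] at hv
  rw [pr_smul_cl, ← cong_iff_cl] at h
  rw [← mem_W1, cl_mem_W1]
  rcases fixed_cong h with h1 | h1
  · exact h1
  · exfalso
    apply u0_not_mem
    have h2 := V23.sub_mem hv (V12_le_V23 (V1_le_V12 h1))
    rwa [sub_sub_cancel] at h2

/-- a fixed singular vector not orthogonal to `f0` is unique -/
theorem fixed_unique {v w : L2} (hv : pr x23 • v = v) (hw : pr x23 • w = w) (hv1 : bf v f0 = 1) (hw1 : bf w f0 = 1)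
    (hv2 : qf v = 0) (hw2 : qf w = 0) (hf : qf f0 = 0) : v = w := by
  have h1 : v + w ∈ W23 := by
    rw [mem_W23_iff_bf, bf_add_left, hv1, hw1]; decide
  rcases fixed_W23 h1 (by rw [smul_add, hv, hw]) with h2 | h2
  · exact eq_of_add_eq_zero h2
  · exfalso
    have h3 : v = w + f0 := by
      rw [← h2, add_comm v w, ← add_assoc, add_self, zero_add]
    have h4 := qf_add w f0
    rw [← h3, hv2, hw2, hf, hw1] at h4
    exact absurd h4 (by decide)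

/-! ### elements of order 23 in a coset of a 2-group -/

/-- two elements of order 23 in the same coset of a finite normalised subgroup of order prime to 23 are conjugate -/
theorem exists_conj {G : Type*} [Group G] (K : Subgroup G) [Finite K] (hK : ¬ 23 ∣ Nat.card K) {a b : G}
    (ha : a ^ 23 = 1) (hb : b ^ 23 = 1) (hab : b⁻¹ * a ∈ K) (hn : ∀ k ∈ K, b * k * b⁻¹ ∈ K) :
    ∃ w ∈ K, w * a * w⁻¹ = b := by
  classical
  have hfin : Fintype K := Fintype.ofFinite K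
  have hmem : ∀ k ∈ K, a * k * b⁻¹ ∈ K := by
    intro k hk
    have h1 := hn _ (K.mul_mem hab hk)
    have h2 : b * (b⁻¹ * a * k) * b⁻¹ = a * k * b⁻¹ := by group
    rwa [h2] at h1
  let f : K → K := fun k => ⟨a * k * b⁻¹, hmem k k.2⟩
  have hf : ∀ (n : ℕ) (k : K), ((f^[n] k : K) : G) = a ^ n * k * (b ^ n)⁻¹ := by
    intro n
    induction n with
    | zero => intro k; simp
    | succ n ih =>
      intro k
      rw [Function.iterate_succ_apply']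
      show a * ((f^[n] k : K) : G) * b⁻¹ = _
      rw [ih, pow_succ', pow_succ']
      group
  have hf23 : ∀ k, f^[23] k = k := by
    intro k
    apply Subtype.ext
    rw [hf, ha, hb]; simp
  let σ : Equiv.Perm K :=
    { toFun := f
      invFun := f^[22]
      left_inv := fun k => by
        show f^[22] (f k) = k
        rw [← Function.iterate_succ_apply]
        exact hf23 k
      right_inv := fun k => by
        show f (f^[22] k) = k
        rw [← Function.iterate_succ_apply' f]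
        exact hf23 k }
  have hσ : σ ^ 23 ^ 1 = 1 := by
    ext k
    rw [pow_one, Equiv.Perm.iterate_eq_pow σ 23 |>.symm]
    show ((f^[23] k : K) : G) = k
    rw [hf23]
  have : Fact (Nat.Prime 23) := ⟨by norm_num⟩
  obtain ⟨k, hk⟩ := Equiv.Perm.exists_fixed_point_of_prime (p := 23) (n := 1)
    (by rw [← Nat.card_eq_fintype_card]; exact hK) hσ
  have hk' : a * (k : G) * b⁻¹ = k := congrArg Subtype.val hk
  refine ⟨(k : G)⁻¹, K.inv_mem k.2, ?_⟩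
  rw [inv_inv, mul_assoc]
  rw [mul_inv_eq_iff_eq_mul] at hk'
  rw [hk']; group

section

variable {G G' : Type*} [Group G] [Group G'] {Q E : Subgroup G} {Q' E' : Subgroup G'}
  {z y τ x u q₀ e₁ a₁ : G} {z' y' τ' x' u' q₀' e₁' a₁' : G'}
  {eta : G → L2} {eta' : G' → L2} {pi : Subgroup.centralizer ({z} : Set G) →* Co1}
  {pi' : Subgroup.centralizer ({z'} : Set G') →* Co1}

/-- the graph of `psi` -/
def graph (psi : Q ≃* Q') : Subgroup (G × G') where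
  carrier := {d | ∃ q : Q, (q : G) = d.1 ∧ (psi q : G') = d.2}
  one_mem' := ⟨1, rfl, by rw [map_one]; rfl⟩
  mul_mem' := by
    rintro a b ⟨q, hq1, hq2⟩ ⟨r, hr1, hr2⟩
    exact ⟨q * r, by rw [Subgroup.coe_mul, hq1, hr1]; rfl, by rw [map_mul, Subgroup.coe_mul, hq2, hr2]; rfl⟩
  inv_mem' := by
    rintro a ⟨q, hq1, hq2⟩
    exact ⟨q⁻¹, by rw [Subgroup.coe_inv, hq1]; rfl, by rw [map_inv, Subgroup.coe_inv, hq2]; rfl⟩

theorem mem_graph {psi : Q ≃* Q'} {d : G × G'} : d ∈ graph psi ↔ ∃ q : Q, (q : G) = d.1 ∧ (psi q : G') = d.2 :=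
  Iff.rfl

/-- partners normalise the graph -/
theorem mem_Gam_of_rel (hL : Large Q z) {psi : Q ≃* Q'} {c : G} {c' : G'} (h : Rel psi z z' c c') :
    (c, c') ∈ Gam (graph psi) z z' := by
  have key : ∀ {c : G} {c' : G'}, Rel psi z z' c c' → ∀ d ∈ graph psi, (c, c') * d * (c, c')⁻¹ ∈ graph psi := by
    rintro c c' h ⟨d, d'⟩ ⟨q, hq1, hq2⟩
    refine ⟨⟨c * q * c⁻¹, hL.conj_mem c h.1 q q.2⟩, ?_, ?_⟩
    · show c * (q : G) * c⁻¹ = c * d * c⁻¹
      rw [show (q : G) = d from hq1]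
    · show (psi ⟨c * q * c⁻¹, _⟩ : G') = c' * d' * c'⁻¹
      rw [h.2.2 q ⟨c * q * c⁻¹, hL.conj_mem c h.1 q q.2⟩ rfl, show (psi q : G') = d' from hq2]
  refine ⟨h.1, h.2.1, key h, fun d hd => ?_⟩
  have h1 := key h.inv d hd
  have h2 : ((c⁻¹, c'⁻¹) : G × G') = (c, c')⁻¹ := rfl
  rw [h2, inv_inv] at h1
  exact h1

/-- **The facts connecting the two groups.** -/
theorem exists_two (hc : Chart Q z eta pi) (hc' : Chart Q' z' eta' pi') (h : Side Q E z y τ x u q₀ e₁ a₁)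
    (h' : Side Q' E' z' y' τ' x' u' q₀' e₁' a₁') (hE : ∀ q ∈ Q, q ∈ E ↔ eta q ∈ W12)
    (hE' : ∀ q ∈ Q', q ∈ E' ↔ eta' q ∈ W12) (hy : eta y = f0) (hy' : eta' y' = f0)
    (hx : ∀ c : Subgroup.centralizer ({z} : Set G), (c : G) = x → pi c = pr x23)
    (hx' : ∀ c : Subgroup.centralizer ({z'} : Set G'), (c : G') = x' → pi' c = pr x23) :
    ∃ psi : Q ≃* Q', (∀ q : Q, eta' (psi q) = eta q) ∧
      Two Q E z y x q₀ Q' E' z' y' x' q₀' (graph psi) := by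
  have hL := hc.large
  have hL' := hc'.large
  have := hc.fin
  have := hc'.fin
  have hxz : x * z = z * x := (mem_cent2.1 h.xB).1
  have hxy : x * y = y * x := (mem_cent2.1 h.xB).2
  have hxz' : x' * z' = z' * x' := (mem_cent2.1 h'.xB).1
  have hxy' : x' * y' = y' * x' := (mem_cent2.1 h'.xB).2
  have hxC : x ∈ Subgroup.centralizer ({z} : Set G) := Subgroup.mem_centralizer_singleton_iff.2 hxz
  have hxC' : x' ∈ Subgroup.centralizer ({z'} : Set G') := Subgroup.mem_centralizer_singleton_iff.2 hxz'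
  have hpx : pi ⟨x, hxC⟩ = pr x23 := hx _ rfl
  have hpx' : pi' ⟨x', hxC'⟩ = pr x23 := hx' _ rfl
  -- the first isomorphism
  obtain ⟨psi, hpsi, hpsiy⟩ := exists_psi_of hc hc' h.yQ h'.yQ (hy.trans hy'.symm) (by rw [hy]; exact f0_ne)
  have H : Good hc hc' psi := ⟨hpsi⟩
  -- a partner of `x` of order 23
  obtain ⟨x₁, hx₁, hx₁23⟩ : ∃ x₁, Rel psi z z' x x₁ ∧ x₁ ^ 23 = 1 := by
    obtain ⟨x₁, hx₁⟩ := H.exists_right hxz
    have hpow : ∀ n : ℕ, Rel psi z z' (x ^ n) (x₁ ^ n) := by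
      intro n
      induction n with
      | zero => rw [pow_zero, pow_zero]; exact Rel.one psi
      | succ n ih => rw [pow_succ, pow_succ]; exact Rel.mul hL ih hx₁
    have h23 := hpow 23
    rw [h.x23] at h23
    rcases Rel.unique_right hL hL' (Rel.one psi) h23 with h1 | h1
    · exact ⟨x₁, hx₁, h1⟩
    · refine ⟨x₁ * z', Rel.mul_z_right hL' hx₁, ?_⟩
      have hcz : Commute x₁ z' := hx₁.2.1
      rw [hcz.mul_pow, h1, one_mul]
      have : z' ^ 23 = (z' * z') ^ 11 * z' := by rw [← pow_two, ← pow_mul, ← pow_succ]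
      rw [this, hL'.z_sq, one_pow, one_mul, hL'.z_sq]
  -- it lies in the coset of `x'`
  have hx₁C : x₁ ∈ Subgroup.centralizer ({z'} : Set G') := Subgroup.mem_centralizer_singleton_iff.2 hx₁.2.1
  have hpx₁ : pi' ⟨x₁, hx₁C⟩ = pr x23 := by
    rw [← hpx]
    exact (H.pi_eq (c := ⟨x, hxC⟩) (c' := ⟨x₁, hx₁C⟩) hx₁).symm
  have hQ1 : x'⁻¹ * x₁ ∈ Q' := by
    have := (hc'.pi_eq (c := ⟨x', hxC'⟩) (d := ⟨x₁, hx₁C⟩)).1 (by rw [hpx', hpx₁])
    exact this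
  have hx₁y : x₁ * y' = y' * x₁ := by
    have h1 := hx₁.2.2 ⟨y, h.yQ⟩ ⟨y, h.yQ⟩ (by
      show y = x * y * x⁻¹
      rw [hxy, mul_inv_cancel_right])
    rw [hpsiy, eq_mul_inv_iff_mul_eq] at h1
    exact h1.symm
  let K : Subgroup G' := Q' ⊓ Subgroup.centralizer {y'}
  have hKQ : K ≤ Q' := inf_le_left
  have memK : ∀ {k : G'}, k ∈ K ↔ k ∈ Q' ∧ k * y' = y' * k := fun {k} => by
    rw [Subgroup.mem_inf, Subgroup.mem_centralizer_singleton_iff]
  have hKfin : Finite K := Finite.of_injective (Subgroup.inclusion hKQ) (Subgroup.inclusion_injective hKQ)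
  have hK23 : ¬ 23 ∣ Nat.card K := by
    intro h1
    have h2 := h1.trans (Subgroup.card_dvd_of_le hKQ)
    rw [hc'.card_Q] at h2
    have h3 := (Nat.Prime.dvd_of_dvd_pow (by norm_num : Nat.Prime 23) h2)
    norm_num at h3
  obtain ⟨w, hwK, hw⟩ := exists_conj K hK23 hx₁23 h'.x23
    (memK.2 ⟨hQ1, by
      have h1 : x'⁻¹ * y' = y' * x'⁻¹ := (Commute.inv_left (show Commute x' y' from hxy')).eq
      rw [mul_assoc, hx₁y, ← mul_assoc, h1, mul_assoc]⟩)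
    (fun k hk => by
      rw [memK] at hk ⊢
      refine ⟨hL'.conj_mem x' hxz' k hk.1, ?_⟩
      have h1 : x'⁻¹ * y' = y' * x'⁻¹ := (Commute.inv_left (show Commute x' y' from hxy')).eq
      calc x' * k * x'⁻¹ * y' = x' * k * (x'⁻¹ * y') := by group
        _ = x' * (k * y') * x'⁻¹ := by rw [h1]; group
        _ = (x' * y') * k * x'⁻¹ := by rw [hk.2]; group
        _ = y' * (x' * k * x'⁻¹) := by rw [hxy']; group)
  have hwQ : w ∈ Q' := (memK.1 hwK).1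
  have hwy : w * y' = y' * w := (memK.1 hwK).2
  -- change by inner automorphisms
  have hconj : ∀ (psi : Q ≃* Q') (v : G') (hv : v ∈ Q'), (∀ q : Q, eta' (psi q) = eta q) →
      (∀ q : Q, eta' ((psi.trans (MulAut.conj (⟨v, hv⟩ : Q'))) q) = eta q) ∧
      (∀ q : Q, ((psi.trans (MulAut.conj (⟨v, hv⟩ : Q'))) q : G') = v * psi q * v⁻¹) ∧
      (∀ c c', Rel psi z z' c c' → Rel (psi.trans (MulAut.conj (⟨v, hv⟩ : Q'))) z z' c (v * c' * v⁻¹)) := by
    intro psi v hv hpsi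
    have e : ∀ q : Q, ((psi.trans (MulAut.conj (⟨v, hv⟩ : Q'))) q : G') = v * psi q * v⁻¹ := fun q => rfl
    refine ⟨fun q => ?_, e, fun c c' hcc => ?_⟩
    · rw [e, hc'.eta_mul _ (Q'.mul_mem hv (psi q).2) _ (Q'.inv_mem hv), hc'.eta_mul _ hv _ (psi q).2,
        hc'.eta_inv hv, add_comm (eta' v), add_assoc, add_self, add_zero, hpsi]
    · refine ⟨hcc.1, ?_, fun a b hab => ?_⟩
      · have hvz : Commute v z' := hL'.commz hv
        exact ((hvz.mul_left hcc.2.1).mul_left hvz.inv_left).eq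
      · rw [e, e, hcc.2.2 a b hab]; group
  obtain ⟨k1, k2, k3⟩ := hconj psi w hwQ hpsi
  have hx2 : Rel (psi.trans (MulAut.conj (⟨w, hwQ⟩ : Q'))) z z' x x' := by
    have := k3 x x₁ hx₁
    rwa [hw] at this
  have hy2 : ((psi.trans (MulAut.conj (⟨w, hwQ⟩ : Q'))) ⟨y, h.yQ⟩ : G') = y' := by
    rw [k2, hpsiy, hwy, mul_inv_cancel_right]
  revert k1 hx2 hy2
  generalize psi.trans (MulAut.conj (⟨w, hwQ⟩ : Q')) = phi
  intro k1 hx2 hy2
  -- `phi q₀`
  have hqf0 : qf f0 = 0 := by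
    rw [← hy]
    exact (hc.sq_one h.yQ).1 h.y_sq
  have a1 : pr x23 • eta q₀ = eta q₀ := by
    rw [← hpx, ← hc.eta_conj ⟨x, hxC⟩ q₀ h.q₀Q]
    show eta (x * q₀ * x⁻¹) = _
    rw [← h.q₀x, mul_inv_cancel_right]
  have a2 : bf (eta q₀) f0 = 1 := by
    rw [← hy, ← hc.comm_z_iff h.q₀Q h.yQ]
    have := h.q₀y
    rw [mul_inv_eq_iff_eq_mul] at this
    rw [this, mul_assoc, ← hL.comm_z _ (Q.mul_mem h.yQ h.q₀Q)]
  have a3 : qf (eta q₀) = 0 := (hc.sq_one h.q₀Q).1 h.q₀_sq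
  have b1 : pr x23 • eta' q₀' = eta' q₀' := by
    rw [← hpx', ← hc'.eta_conj ⟨x', hxC'⟩ q₀' h'.q₀Q]
    show eta' (x' * q₀' * x'⁻¹) = _
    rw [← h'.q₀x, mul_inv_cancel_right]
  have b2 : bf (eta' q₀') f0 = 1 := by
    rw [← hy', ← hc'.comm_z_iff h'.q₀Q h'.yQ]
    have := h'.q₀y
    rw [mul_inv_eq_iff_eq_mul] at this
    rw [this, mul_assoc, ← hL'.comm_z _ (Q'.mul_mem h'.yQ h'.q₀Q)]
  have b3 : qf (eta' q₀') = 0 := (hc'.sq_one h'.q₀Q).1 h'.q₀_sq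
  have heq : eta q₀ = eta' q₀' := fixed_unique a1 b1 a2 b2 a3 b3 hqf0
  -- the final isomorphism
  obtain ⟨ph, l1, l2, l3, l4⟩ : ∃ ph : Q ≃* Q', (∀ q : Q, eta' (ph q) = eta q) ∧ (ph ⟨y, h.yQ⟩ : G') = y' ∧
      (ph ⟨q₀, h.q₀Q⟩ : G') = q₀' ∧ Rel ph z z' x x' := by
    have h1 : eta' (phi ⟨q₀, h.q₀Q⟩) = eta' q₀' := by rw [k1]; exact heq
    rcases (hc'.eta_eq (phi ⟨q₀, h.q₀Q⟩).2 h'.q₀Q).1 h1 with h2 | h2
    · exact ⟨phi, k1, hy2, h2, hx2⟩
    · obtain ⟨m1, m2, m3⟩ := hconj phi y' h'.yQ k1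
      refine ⟨_, m1, ?_, ?_, ?_⟩
      · rw [m2, hy2, mul_inv_cancel_right]
      · rw [m2, h2]
        have h3 := h'.q₀y
        rw [mul_inv_eq_iff_eq_mul] at h3
        -- q₀' y' = z' y' q₀'
        have h4 : y' * (q₀' * z') = q₀' * y' := by
          rw [h3, ← mul_assoc, hL'.comm_z _ (Q'.mul_mem h'.yQ h'.q₀Q), mul_assoc]
        rw [h4, mul_inv_cancel_right]
      · have := m3 x x' hx2
        rwa [← hxy', mul_inv_cancel_right] at this
  have H' : Good hc hc' ph := ⟨l1⟩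
  refine ⟨ph, l1, ?_⟩
  refine ⟨?_, ?_, ?_, ?_, ?_, ?_, ?_, ?_, ?_, ?_, ?_, ?_, ?_⟩
  · rintro d ⟨q, hq1, _⟩
    rw [← hq1]; exact q.2
  · rintro d ⟨q, _, hq2⟩
    rw [← hq2]; exact (ph q).2
  · intro q hq
    exact ⟨ph ⟨q, hq⟩, ⟨q, hq⟩, rfl, rfl⟩
  · intro q' hq'
    exact ⟨ph.symm ⟨q', hq'⟩, ph.symm ⟨q', hq'⟩, rfl, by rw [ph.apply_symm_apply]⟩
  · rintro q' ⟨q, hq1, hq2⟩
    have h1 : q = 1 := Subtype.ext hq1
    rw [h1, map_one] at hq2
    exact hq2.symm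
  · rintro q ⟨q1, hq1, hq2⟩
    have h1 : ph q1 = 1 := Subtype.ext hq2
    rw [MulEquiv.map_eq_one_iff] at h1
    rw [h1] at hq1
    exact hq1.symm
  · exact ⟨⟨z, h.zQ⟩, rfl, H'.psi_z rfl⟩
  · exact ⟨⟨y, h.yQ⟩, rfl, l2⟩
  · exact ⟨⟨q₀, h.q₀Q⟩, rfl, l3⟩
  · rintro ⟨d, d'⟩ ⟨q, hq1, hq2⟩
    have hq1' : (q : G) = d := hq1
    have hq2' : (ph q : G') = d' := hq2
    show d ∈ E ↔ d' ∈ E'
    rw [← hq1', ← hq2', hE q q.2, hE' _ (ph q).2, l1]
  · intro c hcz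
    obtain ⟨c', hcc⟩ := H'.exists_right hcz
    exact ⟨c', mem_Gam_of_rel hL hcc⟩
  · intro c' hcz
    obtain ⟨c, hcc⟩ := H'.exists_left hcz
    exact ⟨c, mem_Gam_of_rel hL hcc⟩
  · exact mem_Gam_of_rel hL l4

end

end Cfsg.Agent.MonsterU.AmalTwoOf
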