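import Cfsg.Agent.MonsterU.AmalSideOf
import Cfsg.Agent.MonsterU.AmalTwoOf
import Cfsg.Agent.MonsterU.AmalHom
import Cfsg.Agent.MonsterU.EmbOf
import Cfsg.Agent.MonsterU.ModFinal

/-!
# Step (D) of the uniqueness of the Monster

`amal`: a finite group `Γ` with a chart and a conjugate `a ≠ z` of `z` in `Q`, a finite simple group `G` satisfying
the literal hypotheses: the centraliser of `z` and the normaliser of `⟨z, a⟩` map compatibly to `G`.
`model_chart`: the chart of the model.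
-/

set_option autoImplicit false

universe u

open Cfsg

namespace Cfsg.Agent.MonsterU.AmalD

open Cfsg.Agent.MonsterU.Lam2 (L2 IsType)
open Cfsg.Agent.MonsterU.CoFrameL2
open Cfsg.Agent.MonsterU.CoFrameIrr
open Cfsg.Agent.MonsterU.AmalSide (cent2 four mem_cent2 Side)
open Cfsg.Agent.MonsterU.Ch
open Cfsg.Spor (Co1)

section

variable {Γ G : Type*} [Group Γ] [Group G] [Finite Γ] [Finite G]
  {Q : Subgroup Γ} {z : Γ} {eta : Γ → L2} {pi : Subgroup.centralizer ({z} : Set Γ) →* Co1}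
  {Q' : Subgroup G} {z' : G} {eta' : G → L2} {pi' : Subgroup.centralizer ({z'} : Set G) →* Co1}

/-- Step (D) for two charted groups. -/
theorem homs (h : Chart Q z eta pi) (h' : Chart Q' z' eta' pi') {y : Γ} {y' : G}
    (hyQ : y ∈ Q) (hne : y ≠ z) (hconj : ∃ g, g * z * g⁻¹ = y)
    (hyQ' : y' ∈ Q') (hne' : y' ≠ z') (hconj' : ∃ g, g * z' * g⁻¹ = y') :
    ∃ (α : PlaneGeo.K z →* G) (β : PlaneGeo.N z y →* G),
      (∀ c (hc : c ∈ PlaneGeo.K z) (hn : c ∈ PlaneGeo.N z y), α ⟨c, hc⟩ = β ⟨c, hn⟩) ∧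
      Function.Injective α ∧ α.range = Subgroup.centralizer {z'} ∧
      ∀ hz : z ∈ PlaneGeo.K z, α ⟨z, hz⟩ = z' := by
  obtain ⟨eta₁, pi₁, h₁, τ, x, u, q₀, e₁, a₁, S, hy₁, hx₁⟩ :=
    AmalSideOf.exists_side h hyQ hne hconj
  obtain ⟨eta₂, pi₂, h₂, τ', x', u', q₀', e₁', a₁', S', hy₂, hx₂⟩ :=
    AmalSideOf.exists_side h' hyQ' hne' hconj'
  obtain ⟨psi, hpsi, T⟩ := AmalTwoOf.exists_two h₁ h₂ S S'
    (fun q hq => ⟨fun t => t.2, fun t => ⟨hq, t⟩⟩) (fun q hq => ⟨fun t => t.2, fun t => ⟨hq, t⟩⟩)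
    hy₁ hy₂ hx₁ hx₂
  obtain ⟨α, β, k1, k2, k3, k4, k5, k6⟩ := AmalHom.exists_homs S S' T
    (AmalPerf.odd_relIndex h₁ hyQ hy₁)
  refine ⟨α, β, k1, k2, k3, fun hz => ?_⟩
  exact k5 (z, z') T.Dz hz

/-- **Step (D)**. -/
theorem amal_of (h : Chart Q z eta pi) (h' : Chart Q' z' eta' pi') [IsSimpleGroup G] {y : Γ}
    (hyQ : y ∈ Q) (hne : y ≠ z) (hconj : ∃ g, g * z * g⁻¹ = y) : EmbOf.Amal z y G := by
  obtain ⟨g, hg1, hg2, -⟩ := Fused.exists_type_four h'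
  obtain ⟨α, β, k1, k2, k3, k4⟩ := homs h h' hyQ hne hconj hg1 hg2 ⟨g, rfl⟩
  refine ⟨α, β, k2, k1, fun hz c hc => ?_⟩
  have h1 : c ∈ α.range := by
    rw [k3, Subgroup.mem_centralizer_singleton_iff, ← k4 hz]
    exact hc
  exact h1

end

/-- A chart from the literal hypotheses. -/
theorem chart_of_lit {G : Type u} [Group G] (h : Assembly.Lit G) :
    ∃ (Q : Subgroup G) (z : G) (eta : G → L2) (pi : Subgroup.centralizer ({z} : Set G) →* Co1),
      Chart Q z eta pi := by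
  obtain ⟨z, hz, Q, hn, h1, h2, -, h3, h4⟩ := h
  obtain ⟨eta, pi, hc⟩ := exists_chart ModFinal.moduleThm z hz Q h1 h2 h3 h4
  exact ⟨_, z, eta, pi, hc⟩

/-- **Step (D)** for the literal hypotheses. -/
theorem amal {Γ : Type*} [Group Γ] [Finite Γ] {Q : Subgroup Γ} {z : Γ} {eta : Γ → L2}
    {pi : Subgroup.centralizer ({z} : Set Γ) →* Co1} (h : Chart Q z eta pi) {a : Γ}
    (haQ : a ∈ Q) (hne : a ≠ z) (hconj : ∃ g, g * z * g⁻¹ = a) (G : Type u) [Group G] [Finite G]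
    [IsSimpleGroup G] (hL : Assembly.Lit G) : EmbOf.Amal z a G := by
  obtain ⟨Q', z', eta', pi', h'⟩ := chart_of_lit hL
  exact amal_of h h' haQ hne hconj

end Cfsg.Agent.MonsterU.AmalD
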