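import Cfsg.Agent.MonsterU.AmalHom
import Cfsg.Agent.MonsterU.EmbOf

/-!
# `EmbOf.Amal` from the two sides
-/

set_option autoImplicit false

namespace Cfsg.Agent.MonsterU.AmalOf

open Cfsg.Agent.MonsterU.AmalSide Cfsg.Agent.MonsterU.AmalTwo Cfsg.Agent.MonsterU.AmalHom
open Cfsg.Agent.MonsterU.AmalGraph Cfsg.Agent.MonsterU.AmalIso

variable {G G' : Type*} [Group G] [Group G']
variable {Q E : Subgroup G} {z y τ x u q₀ e₁ a₁ : G} {Q' E' : Subgroup G'}
  {z' y' τ' x' u' q₀' e₁' a₁' : G'} {D : Subgroup (G × G')}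

/-- Step (D) in the form of `EmbOf`. -/
theorem amal (h : Side Q E z y τ x u q₀ e₁ a₁) (h' : Side Q' E' z' y' τ' x' u' q₀' e₁' a₁')
    (t : Two Q E z y x q₀ Q' E' z' y' x' q₀' D)
    (hodd : Odd ((PP z y).relIndex (Subgroup.centralizer {z}))) : EmbOf.Amal z y G' := by
  obtain ⟨α, β, kn, hinj, hrange, -, hD, -⟩ := exists_homs h h' t hodd
  refine ⟨α, β, hinj, kn, ?_⟩
  intro hz g hg
  have e : α ⟨z, hz⟩ = z' := hD (z, z') t.Dz hz
  rw [e] at hg
  have : g ∈ α.range := by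
    rw [hrange, Subgroup.mem_centralizer_singleton_iff]
    exact hg
  exact this

end Cfsg.Agent.MonsterU.AmalOf
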