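import Cfsg.Agent.MonsterU.ChartOf
import Cfsg.Agent.MonsterU.ModFinal

/-!
# The chart of a centraliser of type `2^(1+24).Co1`, without hypothesis

(A3) with (A1) plugged in.
-/

set_option autoImplicit false

universe u

namespace Cfsg.Agent.MonsterU.ChartFinal

open Cfsg Cfsg.Spor Cfsg.Agent.MonsterU Cfsg.Agent.MonsterU.Ch

/-- **The chart** from the hypotheses of the statements. -/
theorem exists_chart {G : Type u} [Group G] (z : G) (hz : orderOf z = 2)
    (Q : Subgroup (Subgroup.centralizer ({z} : Set G))) [Q.Normal] (hE : Cfsg.IsExtraspecial 2 Q)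
    (hcard : Nat.card Q = 2 ^ 25)
    (hcc : Subgroup.centralizer (Q : Set (Subgroup.centralizer ({z} : Set G))) ≤ Q)
    (hCo1 : Cfsg.Spor.IsoCo1 ((Subgroup.centralizer ({z} : Set G)) ⧸ Q)) :
    ∃ (eta : G → Lam2.L2) (π : Subgroup.centralizer ({z} : Set G) →* Co1),
      Chart (Q.map (Subgroup.centralizer ({z} : Set G)).subtype) z eta π :=
  Ch.exists_chart ModFinal.moduleThm z hz Q hE hcard hcc hCo1

end Cfsg.Agent.MonsterU.ChartFinal
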