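import Cfsg.Agent.MonsterU.AmalTwoOf
import Cfsg.Agent.MonsterU.AmalSideOf
import Cfsg.Agent.MonsterU.ChartFinal
import Cfsg.Agent.MonsterU.AmalOf

/-!
# Step (D): the amalgam of two charted groups

`amal_of_charts`: two groups with a chart on `C(z)` and a conjugate of `z` in `Q`.  `amal`: one charted group and
one finite simple group satisfying the literal hypotheses.
-/

set_option autoImplicit false

namespace Cfsg.Agent.MonsterU.AmalFin

open Cfsg Cfsg.Spor Cfsg.Agent.MonsterU Cfsg.Agent.MonsterU.Lam2 Cfsg.Agent.MonsterU.Ch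
open Cfsg.Agent.MonsterU.AmalSide Cfsg.Agent.MonsterU.CoFrameL2 Cfsg.Agent.MonsterU.AmalGen

/-- **Step (D)** for two charted groups. -/
theorem amal_of_charts.{u, v} {G : Type u} {G' : Type v} [Group G] [Group G']
    [Finite G] [Finite G'] {Q : Subgroup G} {Q' : Subgroup G'} {z : G} {z' : G'} {eta : G → L2} {eta' : G' → L2}
    {pi : Subgroup.centralizer ({z} : Set G) →* Co1} {pi' : Subgroup.centralizer ({z'} : Set G') →* Co1}
    (h : Chart Q z eta pi) (h' : Chart Q' z' eta' pi') {g : G} {g' : G'}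
    (hin : g * z * g⁻¹ ∈ Q) (hne : g * z * g⁻¹ ≠ z) (hin' : g' * z' * g'⁻¹ ∈ Q') (hne' : g' * z' * g'⁻¹ ≠ z') :
    EmbOf.Amal z (g * z * g⁻¹) G' := by
  obtain ⟨eta, pi, h, τ, x, u, q₀, e₁, a₁, s, hy, hx⟩ := AmalSideOf.exists_side h hin hne ⟨g, rfl⟩
  obtain ⟨eta', pi', h', τ', x', u', q₀', e₁', a₁', s', hy', hx'⟩ :=
    AmalSideOf.exists_side h' hin' hne' ⟨g', rfl⟩
  obtain ⟨psi, -, two⟩ := AmalTwoOf.exists_two h h' s s'
    (fun q hq => ⟨fun k => k.2, fun k => ⟨hq, k⟩⟩) (fun q hq => ⟨fun k => k.2, fun k => ⟨hq, k⟩⟩) hy hy' hx hx'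
  exact AmalOf.amal s s' two (AmalPerf.odd_relIndex h hin hy)

/-- **Step (D)**: the model and a finite simple group satisfying the literal hypotheses. -/
theorem amal.{u, v} {G : Type u} [Group G] [Finite G] {Q : Subgroup G} {z : G}
    {eta : G → L2} {pi : Subgroup.centralizer ({z} : Set G) →* Co1} (h : Chart Q z eta pi) {g : G}
    (hin : g * z * g⁻¹ ∈ Q) (hne : g * z * g⁻¹ ≠ z) {G' : Type v} [Group G'] [Finite G'] [IsSimpleGroup G']
    (hL : Assembly.Lit G') : EmbOf.Amal z (g * z * g⁻¹) G' := by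
  obtain ⟨y, hy, Q', hQ', hE, hcard, -, hcc, hCo⟩ := hL
  obtain ⟨eta', pi', h'⟩ := ChartFinal.exists_chart y hy Q' hE hcard hcc hCo
  obtain ⟨g', hin', hne', -⟩ := Fused.exists_type_four h'
  exact amal_of_charts h h' hin hne hin' hne'

end Cfsg.Agent.MonsterU.AmalFin
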