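import Mathlib

/-!
Linear algebra over `ZMod 2` for the uniqueness of the amalgam of the Monster: endomorphisms of a
cyclic module for an element of order 23.
-/

set_option autoImplicit false

namespace Cfsg.Agent.MonsterU.AmalMod

open Polynomial Module

section Lin

variable {V : Type*} [AddCommGroup V] [Module (ZMod 2) V]

theorem aeval_pow_two_pow (X : End (ZMod 2) V) (f : (ZMod 2)[X]) (k : ℕ) :
    (aeval X f) ^ (2 ^ k) = aeval (X ^ (2 ^ k)) f := by
  induction k with
  | zero => simp
  | succ k ih =>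
    rw [pow_succ, pow_mul, ih, ← map_pow, ← ZMod.expand_card, expand_aeval, ← pow_mul]

theorem eq_aeval (X σ : End (ZMod 2) V) (hc : σ * X = X * σ) (v₀ : V)
    (hcyc : ∀ v : V, ∃ f : (ZMod 2)[X], aeval X f v₀ = v) : ∃ f : (ZMod 2)[X], σ = aeval X f := by
  obtain ⟨f, hf⟩ := hcyc (σ v₀)
  refine ⟨f, ?_⟩
  have hcomm : ∀ g : (ZMod 2)[X], Commute σ (aeval X g) := by
    intro g
    induction g using Polynomial.induction_on' with
    | add p q hp hq => rw [map_add]; exact hp.add_right hq
    | monomial n a =>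
      rw [aeval_monomial]
      exact (Algebra.commute_algebraMap_right a σ).mul_right ((show Commute σ X from hc).pow_right n)
  ext v
  obtain ⟨g, rfl⟩ := hcyc v
  calc σ (aeval X g v₀) = (σ * aeval X g) v₀ := rfl
    _ = (aeval X g * σ) v₀ := by rw [(hcomm g).eq]
    _ = aeval X g (σ v₀) := rfl
    _ = aeval X g (aeval X f v₀) := by rw [hf]
    _ = (aeval X g * aeval X f) v₀ := rfl
    _ = (aeval X f * aeval X g) v₀ := by rw [← map_mul, ← map_mul, mul_comm]
    _ = aeval X f (aeval X g v₀) := rfl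

theorem eq_one_of_cube (X σ : End (ZMod 2) V) (hX : X ^ 23 = 1) (hc : σ * X = X * σ) (v₀ : V)
    (hcyc : ∀ v : V, ∃ f : (ZMod 2)[X], aeval X f v₀ = v) (h3 : σ ^ 3 = 1) : σ = 1 := by
  obtain ⟨f, hf⟩ := eq_aeval X σ hc v₀ hcyc
  have h1 : σ ^ 2048 = σ := by
    have := aeval_pow_two_pow X f 11
    rw [← hf] at this
    have e : X ^ 2 ^ 11 = X := by
      have e0 : (2 ^ 11 : ℕ) = 23 * 89 + 1 := by norm_num
      rw [e0, pow_succ, pow_mul, hX, one_pow, one_mul]
    rw [e, ← hf] at this
    exact this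
  have h2 : σ ^ 2 = σ := by
    calc σ ^ 2 = (σ ^ 3) ^ 682 * σ ^ 2 := by rw [h3, one_pow, one_mul]
      _ = σ ^ 2048 := by rw [← pow_mul, ← pow_add]
      _ = σ := h1
  calc σ = σ ^ 3 * σ := by rw [h3, one_mul]
    _ = σ ^ 2 * σ ^ 2 := by rw [← pow_succ, ← pow_add]
    _ = σ * σ ^ 2 := by rw [h2]
    _ = σ ^ 3 := by rw [← pow_succ']
    _ = 1 := h3

theorem eq_one_of_frob (X U δ : End (ZMod 2) V) (hc : δ * X = X * δ) (hU : U * X = X ^ 2 * U)
    (hδU : δ * U = U * δ) (hUs : Function.Surjective U) (hδ : Function.Injective δ) (v₀ : V)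
    (hcyc : ∀ v : V, ∃ f : (ZMod 2)[X], aeval X f v₀ = v) : δ = 1 := by
  obtain ⟨f, hf⟩ := eq_aeval X δ hc v₀ hcyc
  have hUf : ∀ g : (ZMod 2)[X], U * aeval X g = aeval (X ^ 2) g * U := by
    intro g
    induction g using Polynomial.induction_on' with
    | add p q hp hq => rw [map_add, map_add, mul_add, add_mul, hp, hq]
    | monomial n a =>
      rw [aeval_monomial, aeval_monomial]
      have h1 : ∀ n : ℕ, U * X ^ n = (X ^ 2) ^ n * U := by
        intro n
        induction n with
        | zero => simp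
        | succ n ih => rw [pow_succ, ← mul_assoc, ih, mul_assoc, hU, ← mul_assoc, ← pow_succ]
      rw [← mul_assoc, ← Algebra.commutes, mul_assoc, h1, mul_assoc]
  have h2 : δ ^ 2 = aeval (X ^ 2) f := by
    have := aeval_pow_two_pow X f 1
    rw [← hf] at this
    simpa using this
  have h3 : U * δ = δ ^ 2 * U := by
    rw [h2, ← hUf f, ← hf]
  ext v
  obtain ⟨w, rfl⟩ := hUs v
  have h4 : (δ * U) w = (δ ^ 2 * U) w := by rw [hδU, h3]
  have h5 : δ (U w) = δ (δ (U w)) := by
    rw [pow_two] at h4
    exact h4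
  have h6 : U w = δ (U w) := hδ h5
  rw [← h6]
  rfl

/-- Cyclicity from generation. -/
theorem cyc_of_span (X : End (ZMod 2) V) (v₀ : V)
    (h : Submodule.span (ZMod 2) (Set.range fun n : ℕ => (X ^ n) v₀) = ⊤) (v : V) :
    ∃ f : (ZMod 2)[X], aeval X f v₀ = v := by
  have hv : v ∈ Submodule.span (ZMod 2) (Set.range fun n : ℕ => (X ^ n) v₀) := by rw [h]; trivial
  induction hv using Submodule.span_induction with
  | mem x hx =>
    obtain ⟨n, rfl⟩ := hx
    exact ⟨Polynomial.X ^ n, by simp⟩
  | zero => exact ⟨0, by simp⟩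
  | add a b _ _ ha hb =>
    obtain ⟨f, rfl⟩ := ha
    obtain ⟨g, rfl⟩ := hb
    exact ⟨f + g, by simp⟩
  | smul c a _ ha =>
    obtain ⟨f, rfl⟩ := ha
    exact ⟨c • f, by simp⟩

end Lin

section Grp

variable {A : Type*} [CommGroup A]

/-- The `ZMod 2`-module attached to a group of exponent two. -/
@[reducible] def mod2 (hA : ∀ a : A, a * a = 1) : Module (ZMod 2) (Additive A) :=
  AddCommGroup.zmodModule (fun x => by
    rw [two_nsmul]
    exact hA x)

/-- The linear map attached to an endomorphism. -/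
def lin (hA : ∀ a : A, a * a = 1) (X : A →* A) :
    letI := mod2 hA; Module.End (ZMod 2) (Additive A) :=
  letI := mod2 hA; (MonoidHom.toAdditive X).toZModLinearMap 2

theorem lin_apply (hA : ∀ a : A, a * a = 1) (X : A →* A) (a : A) :
    lin hA X (Additive.ofMul a) = Additive.ofMul (X a) := rfl

theorem lin_pow_apply (hA : ∀ a : A, a * a = 1) (X : A →* A) (n : ℕ) (a : A) :
    letI := mod2 hA
    (lin hA X ^ n) (Additive.ofMul a) = Additive.ofMul (X^[n] a) := by
  let _ := mod2 hA
  induction n with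
  | zero => rfl
  | succ n ih =>
    rw [pow_succ', Module.End.mul_apply, ih, Function.iterate_succ', lin_apply]; rfl

theorem cyc_of_closure (hA : ∀ a : A, a * a = 1) (X : A →* A) (a₀ : A)
    (hgen : ∀ a : A, a ∈ Subgroup.closure (Set.range fun n : ℕ => X^[n] a₀)) (v : Additive A) :
    letI := mod2 hA
    ∃ f : (ZMod 2)[X], aeval (lin hA X) f (Additive.ofMul a₀) = v := by
  let _ := mod2 hA
  apply cyc_of_span
  rw [eq_top_iff]
  rintro w -
  have key : ∀ a : A, a ∈ Subgroup.closure (Set.range fun n : ℕ => X^[n] a₀) →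
      Additive.ofMul a ∈ Submodule.span (ZMod 2)
        (Set.range fun n : ℕ => (lin hA X ^ n) (Additive.ofMul a₀)) := by
    intro a ha
    induction ha using Subgroup.closure_induction with
    | mem x hx =>
      obtain ⟨n, rfl⟩ := hx
      refine Submodule.subset_span ⟨n, ?_⟩
      exact lin_pow_apply hA X n a₀
    | one => exact Submodule.zero_mem _
    | mul a b _ _ ha hb => exact Submodule.add_mem _ ha hb
    | inv a _ ha => exact Submodule.neg_mem _ ha
  exact key (Additive.toMul w) (hgen _)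

theorem grp_eq_of_cube (hA : ∀ a : A, a * a = 1) (X σ : A →* A) (hX : ∀ a, X^[23] a = a)
    (hc : ∀ a, σ (X a) = X (σ a)) (a₀ : A)
    (hgen : ∀ a : A, a ∈ Subgroup.closure (Set.range fun n : ℕ => X^[n] a₀))
    (h3 : ∀ a, σ (σ (σ a)) = a) (a : A) : σ a = a := by
  let _ := mod2 hA
  have h := eq_one_of_cube (lin hA X) (lin hA σ) (by
      apply LinearMap.ext
      intro v
      obtain ⟨a, rfl⟩ : ∃ a, Additive.ofMul a = v := ⟨_, rfl⟩
      rw [lin_pow_apply hA X 23 a, hX a, Module.End.one_apply]) (by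
      ext v
      exact congrArg Additive.ofMul (hc (Additive.toMul v))) (Additive.ofMul a₀)
    (cyc_of_closure hA X a₀ hgen) (by
      ext v
      exact (lin_pow_apply hA σ 3 (Additive.toMul v)).trans
        (congrArg Additive.ofMul (h3 (Additive.toMul v))))
  have h1 := congrArg (fun t => t (Additive.ofMul a)) h
  exact h1

theorem grp_eq_of_frob (hA : ∀ a : A, a * a = 1) (X U δ : A →* A)
    (hc : ∀ a, δ (X a) = X (δ a)) (hU : ∀ a, U (X a) = X (X (U a)))
    (hδU : ∀ a, δ (U a) = U (δ a)) (hUs : Function.Surjective U) (hδ : Function.Injective δ)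
    (a₀ : A) (hgen : ∀ a : A, a ∈ Subgroup.closure (Set.range fun n : ℕ => X^[n] a₀)) (a : A) :
    δ a = a := by
  let _ := mod2 hA
  have h := eq_one_of_frob (lin hA X) (lin hA U) (lin hA δ) (by
      ext v
      exact congrArg Additive.ofMul (hc (Additive.toMul v))) (by
      ext v
      rw [pow_two]
      exact congrArg Additive.ofMul (hU (Additive.toMul v))) (by
      ext v
      exact congrArg Additive.ofMul (hδU (Additive.toMul v))) (by
      intro v
      obtain ⟨b, hb⟩ := hUs (Additive.toMul v)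
      exact ⟨Additive.ofMul b, congrArg Additive.ofMul hb⟩) (by
      intro v w hvw
      exact congrArg Additive.ofMul (hδ (congrArg Additive.toMul hvw))) (Additive.ofMul a₀)
    (cyc_of_closure hA X a₀ hgen)
  have h1 := congrArg (fun t => t (Additive.ofMul a)) h
  exact h1

/-- The version modulo a subgroup. -/
theorem grp_mem_of_frob (hA : ∀ a : A, a * a = 1) (N : Subgroup A) (X U δ : A →* A)
    (hXN : ∀ a ∈ N, X a ∈ N) (hUN : ∀ a ∈ N, U a ∈ N) (hδN : ∀ a, δ a ∈ N ↔ a ∈ N)
    (hc : ∀ a, δ (X a) * (X (δ a))⁻¹ ∈ N) (hU : ∀ a, U (X a) * (X (X (U a)))⁻¹ ∈ N)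
    (hδU : ∀ a, δ (U a) * (U (δ a))⁻¹ ∈ N) (hUs : Function.Surjective U)
    (a₀ : A) (hgen : ∀ a : A, a ∈ Subgroup.closure (Set.range (fun n : ℕ => X^[n] a₀) ∪ N))
    (a : A) : δ a * a⁻¹ ∈ N := by
  have hle : ∀ f : A →* A, (∀ a ∈ N, f a ∈ N) → N ≤ N.comap f := fun f hf a ha => hf a ha
  let q : (f : A →* A) → (∀ a ∈ N, f a ∈ N) → (A ⧸ N →* A ⧸ N) := fun f hf =>
    QuotientGroup.map N N f (hle f hf)
  have hq : ∀ f hf (a : A), q f hf (a : A ⧸ N) = ((f a : A) : A ⧸ N) := fun f hf a => rfl
  have hmem : ∀ a b : A, a * b⁻¹ ∈ N → ((a : A) : A ⧸ N) = ((b : A) : A ⧸ N) := by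
    intro a b h
    rw [QuotientGroup.eq_iff_div_mem, div_eq_mul_inv]
    exact h
  have hqit : ∀ n : ℕ, (q X hXN)^[n] ((a₀ : A) : A ⧸ N) = ((X^[n] a₀ : A) : A ⧸ N) := by
    intro n
    induction n with
    | zero => rfl
    | succ n ih => rw [Function.iterate_succ', Function.iterate_succ', Function.comp, ih]; rfl
  have h := grp_eq_of_frob (A := A ⧸ N) (by
      intro a
      induction a using QuotientGroup.induction_on with
      | H a => rw [← QuotientGroup.mk_mul, hA, QuotientGroup.mk_one]) (q X hXN) (q U hUN)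
    (q δ fun a ha => (hδN a).2 ha) (by
      intro a
      induction a using QuotientGroup.induction_on with
      | H a => exact hmem _ _ (hc a)) (by
      intro a
      induction a using QuotientGroup.induction_on with
      | H a => exact hmem _ _ (hU a)) (by
      intro a
      induction a using QuotientGroup.induction_on with
      | H a => exact hmem _ _ (hδU a)) (by
      intro a
      induction a using QuotientGroup.induction_on with
      | H a =>
        obtain ⟨b, rfl⟩ := hUs a
        exact ⟨(b : A ⧸ N), rfl⟩) (by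
      rw [injective_iff_map_eq_one]
      intro a
      induction a using QuotientGroup.induction_on with
      | H a =>
        intro h
        rw [hq δ (fun a ha => (hδN a).2 ha), QuotientGroup.eq_one_iff, hδN] at h
        rwa [QuotientGroup.eq_one_iff]) ((a₀ : A) : A ⧸ N) (by
      intro a
      induction a using QuotientGroup.induction_on with
      | H a =>
        have h1 := hgen a
        induction h1 using Subgroup.closure_induction with
        | mem x hx =>
          rcases hx with ⟨n, rfl⟩ | hx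
          · exact Subgroup.subset_closure ⟨n, hqit n⟩
          · rw [(QuotientGroup.eq_one_iff x).2 hx]; exact Subgroup.one_mem _
        | one => exact Subgroup.one_mem _
        | mul a b _ _ ha hb => exact Subgroup.mul_mem _ ha hb
        | inv a _ ha => exact Subgroup.inv_mem _ ha) (a : A ⧸ N)
  rw [hq δ (fun a ha => (hδN a).2 ha), QuotientGroup.eq_iff_div_mem, div_eq_mul_inv] at h
  exact h

end Grp

end Cfsg.Agent.MonsterU.AmalMod
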