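import Cfsg.Agent.MonsterU.ChartIso
import Cfsg.Agent.Transfer.Extraspecial

/-!
# Charts from the hypotheses of the statements

`large_of_raw`: a self-centralising extraspecial normal subgroup of `C_G(z)` is `Large`.
`exists_chart`: with `Co1` on top and order `2 ^ 25` there is a chart, given the uniqueness of the module.
-/

set_option autoImplicit false

universe u

namespace Cfsg.Agent.MonsterU.Ch

open Cfsg Cfsg.Spor Cfsg.Agent.LeechMat.Core Cfsg.Agent.MonsterU.Lam2 Cfsg.Agent.Co2Type.Quad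

theorem large_of_raw_aux {G : Type*} [Group G] (z : G) (hz : orderOf z = 2) (C : Subgroup G)
    (hC : ∀ c, c ∈ C ↔ c * z = z * c) (Q : Subgroup C) [hn : Q.Normal] (hE : Cfsg.IsExtraspecial 2 Q)
    (hcc : Subgroup.centralizer (Q : Set C) ≤ Q) : Large (Q.map C.subtype) z := by
  classical
  have htt : z * z = 1 := by rw [← pow_two, ← hz]; exact pow_orderOf_eq_one z
  have ht1 : z ≠ 1 := by
    intro h; rw [h, orderOf_one] at hz; exact absurd hz (by norm_num)
  have htC : z ∈ C := (hC z).2 rfl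
  have hcomm : ∀ c : C, (c : G) * z = z * c := fun c => (hC c).1 c.2
  have htQ : (⟨z, htC⟩ : C) ∈ Q := by
    apply hcc
    rw [Subgroup.mem_centralizer_iff]
    intro c _
    exact Subtype.ext (hcomm c)
  have hZ : ∀ x : Q, x ∈ Subgroup.center Q → (x : C) = 1 ∨ (x : C) = ⟨z, htC⟩ := by
    intro x hx
    have hcard2 := hE.2
    have htz : (⟨⟨z, htC⟩, htQ⟩ : Q) ∈ Subgroup.center Q := by
      rw [Subgroup.mem_center_iff]
      intro y
      exact Subtype.ext (Subtype.ext (hcomm (y : C)))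
    obtain ⟨a, b, hab, huniv⟩ := Nat.card_eq_two_iff.1 hcard2
    have h1 : (⟨⟨⟨z, htC⟩, htQ⟩, htz⟩ : Subgroup.center Q) ≠ 1 := by
      intro h
      apply ht1
      exact congrArg (fun y : Subgroup.center Q => (((y : Q) : C) : G)) h
    have key : ∀ y : Subgroup.center Q, y = 1 ∨ y = ⟨⟨⟨z, htC⟩, htQ⟩, htz⟩ := by
      intro y
      have ha : ∀ w : Subgroup.center Q, w = a ∨ w = b := by
        intro w
        have : w ∈ ({a, b} : Set (Subgroup.center Q)) := by rw [huniv]; trivial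
        simpa using this
      rcases ha y with hy | hy <;> rcases ha 1 with h2 | h2 <;>
        rcases ha ⟨⟨⟨z, htC⟩, htQ⟩, htz⟩ with h3 | h3
      · exact absurd (h3.trans h2.symm) h1
      · left; exact hy.trans h2.symm
      · right; exact hy.trans h3.symm
      · exact absurd (h3.trans h2.symm) h1
      · exact absurd (h3.trans h2.symm) h1
      · right; exact hy.trans h3.symm
      · left; exact hy.trans h2.symm
      · exact absurd (h3.trans h2.symm) h1
    rcases key ⟨x, hx⟩ with h | h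
    · left; exact congrArg (fun y : Subgroup.center Q => ((y : Q) : C)) h
    · right; exact congrArg (fun y : Subgroup.center Q => ((y : Q) : C)) h
  refine ⟨⟨⟨z, htC⟩, htQ, rfl⟩, ht1, htt, ?_, ?_, ?_, ?_, ?_, ?_⟩
  · rintro _ ⟨x, _, rfl⟩
    exact hcomm x
  · rintro g hg _ ⟨x, hx, rfl⟩
    have hgC : g ∈ C := (hC g).2 hg
    exact ⟨⟨g, hgC⟩ * x * ⟨g, hgC⟩⁻¹, hn.conj_mem x hx _, rfl⟩
  · rintro _ ⟨x, hx, rfl⟩
    have h1 : (⟨x, hx⟩ : Q) ^ 2 ∈ Subgroup.center Q :=
      Cfsg.Agent.Transfer.Extraspecial.pow_mem_center hE ⟨x, hx⟩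
    rcases hZ _ h1 with h | h
    · left
      have := congrArg (fun y : C => (y : G)) h
      rw [← pow_two]
      exact this
    · right
      have := congrArg (fun y : C => (y : G)) h
      rw [← pow_two]
      exact this
  · rintro _ ⟨x, hx, rfl⟩ _ ⟨y, hy, rfl⟩
    have h1 := Cfsg.Agent.Transfer.Extraspecial.comm_mem_center hE (⟨y, hy⟩ : Q)⁻¹ (⟨x, hx⟩ : Q)⁻¹
    rcases hZ _ h1 with h | h
    · left
      have h2 := congrArg (fun y : C => (y : G)) h
      have h3 : (y : G)⁻¹ * (x : G)⁻¹ * ((y : G)⁻¹)⁻¹ * ((x : G)⁻¹)⁻¹ = 1 := h2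
      have h4 : (x : G) * y = (x * y : G) * ((y : G)⁻¹ * (x : G)⁻¹ * ((y : G)⁻¹)⁻¹ * ((x : G)⁻¹)⁻¹) := by
        rw [h3, mul_one]
      calc (x : G) * y = (x * y : G) * ((y : G)⁻¹ * (x : G)⁻¹ * ((y : G)⁻¹)⁻¹ * ((x : G)⁻¹)⁻¹) := h4
        _ = y * x := by group
    · right
      have h2 := congrArg (fun y : C => (y : G)) h
      have h3 : (y : G)⁻¹ * (x : G)⁻¹ * ((y : G)⁻¹)⁻¹ * ((x : G)⁻¹)⁻¹ = z := h2
      calc (x : G) * y
          = (x * y : G) * ((y : G)⁻¹ * (x : G)⁻¹ * ((y : G)⁻¹)⁻¹ * ((x : G)⁻¹)⁻¹) *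
            ((y : G)⁻¹ * (x : G)⁻¹ * ((y : G)⁻¹)⁻¹ * ((x : G)⁻¹)⁻¹)⁻¹ := by group
        _ = y * x * z⁻¹ := by rw [h3]; rw [← h3]; group
        _ = y * x * z := by rw [inv_eq_of_mul_eq_one_left htt]
  · rintro _ ⟨x, hx, rfl⟩ hc
    have h1 : (⟨x, hx⟩ : Q) ∈ Subgroup.center Q := by
      rw [Subgroup.mem_center_iff]
      intro y
      apply Subtype.ext
      apply Subtype.ext
      exact (hc _ ⟨(y : C), y.2, rfl⟩).symm
    rcases hZ _ h1 with h | h
    · left; exact congrArg (fun y : C => (y : G)) h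
    · right; exact congrArg (fun y : C => (y : G)) h
  · intro g hg hc
    have hgC : g ∈ C := (hC g).2 hg
    refine ⟨⟨g, hgC⟩, hcc ?_, rfl⟩
    refine Subgroup.mem_centralizer_iff.2 ?_
    intro y hy
    apply Subtype.ext
    exact (hc _ ⟨y, hy, rfl⟩).symm

/-- the hypotheses of S1647, S1648, S1673 give `Large` -/
theorem large_of_raw {G : Type*} [Group G] (z : G) (hz : orderOf z = 2)
    (Q : Subgroup (Subgroup.centralizer ({z} : Set G))) [Q.Normal] (hE : Cfsg.IsExtraspecial 2 Q)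
    (hcc : Subgroup.centralizer (Q : Set (Subgroup.centralizer ({z} : Set G))) ≤ Q) :
    Large (Q.map (Subgroup.centralizer ({z} : Set G)).subtype) z :=
  large_of_raw_aux z hz _ (fun _ => Subgroup.mem_centralizer_singleton_iff) Q hE hcc

/-- uniqueness of the module (piece (A1)) -/
def ModuleThm : Prop :=
  ∀ (V : Type u) [AddCommGroup V] [Module (ZMod 2) V], Nat.card V = 2 ^ 24 →
    ∀ ρ : Representation (ZMod 2) Co1 V, (∃ g v, ρ g v ≠ v) →
      ∃ f : V ≃ₗ[ZMod 2] L2, ∀ g v, f (ρ g v) = rep1 g (f v)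

/-- a chart for abstract `Q`, `C → Co1` -/
theorem exists_chart_of_large (hA : ModuleThm.{u}) {G : Type u} [Group G] {z : G} {Q : Subgroup G} (h : Large Q z)
    (hcard : Nat.card Q = 2 ^ 25) (π : Subgroup.centralizer ({z} : Set G) →* Co1) (hπ : Function.Surjective π)
    (hker : ∀ c, π c = 1 ↔ (c : G) ∈ Q) : ∃ eta : G → L2, Chart Q z eta π := by
  classical
  have hfin : Finite Q := Nat.finite_of_card_ne_zero (by rw [hcard]; norm_num)
  have hcV : Nat.card h.V = 2 ^ 24 := by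
    have := h.card_eq
    rw [hcard] at this
    have h2 : (2 : ℕ) ^ 25 = 2 * 2 ^ 24 := by norm_num
    rw [h2] at this
    exact (Nat.eq_of_mul_eq_mul_left (by norm_num) this).symm
  -- the action of `Co1`
  obtain ⟨s, hs⟩ := hπ.hasRightInverse
  have hact : ∀ c d, π c = π d → h.act c = h.act d := by
    intro c d hcd
    have h1 : π (c⁻¹ * d) = 1 := by rw [map_mul, map_inv, hcd, inv_mul_cancel]
    have h2 := h.act_mem (c⁻¹ * d) ((hker _).1 h1)
    rw [map_mul, map_inv, inv_mul_eq_one] at h2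
    exact h2
  let ρ : Representation (ZMod 2) Co1 h.V :=
    { toFun := fun g => (h.act (s g)).toLinearMap
      map_one' := by
        have h1 : h.act (s 1) = h.act 1 := hact _ _ (by rw [hs, map_one])
        rw [h1, map_one]; rfl
      map_mul' := fun a b => by
        have h1 : h.act (s (a * b)) = h.act (s a * s b) := hact _ _ (by rw [hs, map_mul, hs, hs])
        rw [h1, map_mul]; rfl }
  have hρ : ∀ c v, ρ (π c) v = h.act c v := by
    intro c v
    show h.act (s (π c)) v = h.act c v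
    rw [hact (s (π c)) c (hs _)]
  have hne : ∃ g v, ρ g v ≠ v := by
    by_contra hno
    push Not at hno
    have hall : ∀ c, π c = 1 := by
      intro c
      rw [hker]
      apply h.mem_of_act
      ext v
      rw [← hρ, hno]
      rfl
    have hs1 : IsSimpleGroup (Co0 ⧸ Subgroup.center Co0) := Cfsg.Agent.S0399.result.1
    obtain ⟨a, b, hab⟩ := hs1.exists_pair_ne
    apply hab
    obtain ⟨c, hc⟩ := hπ a
    obtain ⟨d, hd⟩ := hπ b
    rw [← hc, ← hd, hall, hall]
  obtain ⟨f, hf⟩ := hA h.V hcV ρ hne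
  refine ⟨fun x => if hx : x ∈ Q then f (h.pr ⟨x, hx⟩) else 0, ?_⟩
  have he : ∀ x (hx : x ∈ Q), (if hx : x ∈ Q then f (h.pr ⟨x, hx⟩) else 0) = f (h.pr ⟨x, hx⟩) :=
    fun x hx => dif_pos hx
  refine ⟨h, hfin, ?_, ?_, ?_, ?_, hπ⟩
  · intro x hx y hy
    rw [he x hx, he y hy, he _ (Q.mul_mem hx hy), ← map_add, ← h.pr_mul]
    rfl
  · intro x hx
    rw [he x hx, LinearEquiv.map_eq_zero_iff, h.pr_eq_zero]
  · intro v
    obtain ⟨x, hx⟩ := h.pr_surjective (f.symm v)
    exact ⟨x, x.2, by rw [he x x.2, Subtype.coe_eta, hx, f.apply_symm_apply]⟩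
  · intro c x hx
    have hc : (c : G) * z = z * c := Subgroup.mem_centralizer_singleton_iff.1 c.2
    rw [he x hx, he _ (h.conj_mem c hc x hx), ← rep1_apply, ← hf, hρ, h.act_pr]
    rfl

/-- **The chart** from the hypotheses of the statements. -/
theorem exists_chart (hA : ModuleThm.{u}) {G : Type u} [Group G] (z : G) (hz : orderOf z = 2)
    (Q : Subgroup (Subgroup.centralizer ({z} : Set G))) [Q.Normal] (hE : Cfsg.IsExtraspecial 2 Q)
    (hcard : Nat.card Q = 2 ^ 25)
    (hcc : Subgroup.centralizer (Q : Set (Subgroup.centralizer ({z} : Set G))) ≤ Q)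
    (hCo1 : Cfsg.Spor.IsoCo1 ((Subgroup.centralizer ({z} : Set G)) ⧸ Q)) :
    ∃ (eta : G → L2) (π : Subgroup.centralizer ({z} : Set G) →* Co1),
      Chart (Q.map (Subgroup.centralizer ({z} : Set G)).subtype) z eta π := by
  obtain ⟨e⟩ := hCo1
  have h := large_of_raw z hz Q hE hcc
  have hcard' : Nat.card (Q.map (Subgroup.centralizer ({z} : Set G)).subtype) = 2 ^ 25 := by
    rw [← hcard]
    exact Nat.card_congr (Q.equivMapOfInjective _ (Subgroup.subtype_injective _)).toEquiv.symm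
  obtain ⟨eta, hchart⟩ := exists_chart_of_large hA h hcard' (e.toMonoidHom.comp (QuotientGroup.mk' Q))
    (e.surjective.comp (QuotientGroup.mk'_surjective Q)) (by
      intro c
      show e (QuotientGroup.mk' Q c) = 1 ↔ _
      rw [map_eq_one_iff e e.injective]
      refine (QuotientGroup.eq_one_iff c).trans ⟨fun hc => ⟨c, hc, rfl⟩, ?_⟩
      rintro ⟨d, hd, hdc⟩
      have : d = c := Subtype.ext hdc
      rwa [← this])
  exact ⟨eta, _, hchart⟩

end Cfsg.Agent.MonsterU.Ch
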