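import Cfsg.Agent.MonsterU.InvTwo
import Cfsg.Agent.MonsterU.Lam2
import Cfsg.Agent.CoOneType.ClosingFacts
import Cfsg.Agent.MonsterX.KModel

/-!
# The group `K = 2^(1+24).Co1` modulo its centre, for the closing argument

`ψ : K →* X` is a homomorphism with kernel `⟨z⟩`.  `AA` is the image of the extraspecial group, `TT`
the image of the short elements, `NN` the image of the elements inducing `g` with `g * g = -1`, `qq`
the quadratic form on `AA`.  The theorems are the fields of `CloseMax.Hyp`.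
-/

set_option autoImplicit false

namespace Cfsg.Agent.MonsterU.CloseKS

open Cfsg Cfsg.Agent.LeechMat.Core Cfsg.Agent.MonsterX.KSide Cfsg.Agent.MonsterX.KLift
open Cfsg.Agent.MonsterU.InvTwo Cfsg.Agent.MonsterU.Lam2
open Cfsg.Agent.SporadicA.Co0Mono Cfsg.Agent.SporadicA.Co1Simple Cfsg.Agent.CoOneType.SignFacts
open Cfsg.Agent.CoOneType.ClosingFacts

variable {G V P W : Type*} [Group G] [AddCommGroup V] [Module ℚ V]
  [DistribMulAction G V] [SMulCommClass G ℚ V] [Group P] [AddCommGroup W] [Module ℚ W]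
  (M : KS G V P W)

/-- `ι` as a homomorphism to `K`. -/
def ιK : P →* M.K := M.ι.codRestrict M.K M.ι_mem

theorem ιK_coe (p : P) : (ιK M p : G) = M.ι p := rfl

/-! ### the form -/

open Classical in
/-- `p * p = zc ^ sq p` -/
noncomputable def sqv (p : P) : ZMod 2 := if p * p = M.zc then 1 else 0

open Classical in
/-- the commutator -/
noncomputable def cmv (p r : P) : ZMod 2 := if p * r = r * p then 0 else 1

theorem comm_cases (p r : P) : p * r = r * p ∨ p * r = M.zc * (r * p) := by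
  rcases M.comm_or p r with h | h
  · left
    exact mul_inv_eq_iff_eq_mul.1 h
  · right
    rw [mul_inv_eq_iff_eq_mul] at h
    rw [h, mul_assoc]

theorem zc_mul_ne (p : P) : M.zc * p ≠ p := M.zc_ne' p

theorem zc_left_comm (a b : P) : a * (M.zc * b) = M.zc * (a * b) := by
  rw [← mul_assoc, ← M.zc_comm, mul_assoc]

theorem zsq (a : P) : (M.zc * a) * (M.zc * a) = a * a := by
  rw [mul_assoc, zc_left_comm, M.zc_zc]

include M in
theorem cmv_mul_left (p p' r : P) : cmv (p * p') r = cmv p r + cmv p' r := by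
  unfold cmv
  have key : ∀ a b : P, a * b = M.zc * (b * a) → a * b ≠ b * a := fun a b h h' =>
    zc_mul_ne M (b * a) (h.symm.trans h')
  rcases comm_cases M p r with h1 | h1 <;> rcases comm_cases M p' r with h2 | h2
  · rw [if_pos h1, if_pos h2, if_pos]
    · rfl
    · rw [mul_assoc, h2, ← mul_assoc, h1, mul_assoc]
  · rw [if_pos h1, if_neg (key _ _ h2), if_neg]
    · rfl
    · apply key
      rw [mul_assoc, h2, zc_left_comm, ← mul_assoc p, h1, mul_assoc]
  · rw [if_neg (key _ _ h1), if_pos h2, if_neg]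
    · rfl
    · apply key
      rw [mul_assoc, h2, ← mul_assoc, h1, mul_assoc, mul_assoc]
  · rw [if_neg (key _ _ h1), if_neg (key _ _ h2), if_pos]
    · rfl
    · rw [mul_assoc, h2, zc_left_comm, ← mul_assoc p, h1, mul_assoc, mul_assoc, M.zc_zc]

theorem cmv_zc_left (p r : P) : cmv (M.zc * p) r = cmv p r := by
  have h : cmv (M.zc : P) r = 0 := if_pos (M.zc_comm r)
  rw [cmv_mul_left M, h, zero_add]

theorem cmv_comm (p r : P) : cmv p r = cmv r p := by
  unfold cmv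
  by_cases h : p * r = r * p
  · rw [if_pos h, if_pos h.symm]
  · rw [if_neg h, if_neg (fun h' => h h'.symm)]

variable {θ : leechLattice → P}

theorem sqv_mul (hsq : ∀ x : P, x * x = 1 ∨ x * x = M.zc) (p r : P) :
    sqv M (p * r) = sqv M p + sqv M r + cmv p r := by
  have hz1 : (M.zc : P) ≠ 1 := M.zc_ne
  have e : ∀ x : P, x * x = 1 → sqv M x = 0 := fun x hx => if_neg (by rw [hx]; exact hz1.symm)
  have e' : ∀ x : P, x * x = M.zc → sqv M x = 1 := fun x hx => if_pos hx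
  have key : ∀ a b : P, a * b = M.zc * (b * a) → a * b ≠ b * a := fun a b h h' =>
    zc_mul_ne M (b * a) (h.symm.trans h')
  rcases comm_cases M p r with h | h
  · have hc : cmv p r = 0 := if_pos h
    have h1 : (p * r) * (p * r) = (p * p) * (r * r) := by
      calc (p * r) * (p * r) = p * (r * p) * r := by group
        _ = p * (p * r) * r := by rw [h]
        _ = _ := by group
    rw [hc, add_zero]
    rcases hsq p with hp | hp <;> rcases hsq r with hr | hr
    · rw [e p hp, e r hr, e (p * r) (by rw [h1, hp, hr, one_mul]), add_zero]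
    · rw [e p hp, e' r hr, e' (p * r) (by rw [h1, hp, hr, one_mul]), zero_add]
    · rw [e' p hp, e r hr, e' (p * r) (by rw [h1, hp, hr, mul_one]), add_zero]
    · rw [e' p hp, e' r hr, e (p * r) (by rw [h1, hp, hr, M.zc_mul])]
      rfl
  · have hc : cmv p r = 1 := if_neg (key _ _ h)
    have h' : r * p = M.zc * (p * r) := by rw [h, M.zc_zc]
    have h1 : (p * r) * (p * r) = M.zc * ((p * p) * (r * r)) := by
      calc (p * r) * (p * r) = p * (r * p) * r := by group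
        _ = p * (M.zc * (p * r)) * r := by rw [h']
        _ = M.zc * (p * (p * r)) * r := by rw [zc_left_comm]
        _ = _ := by group
    rw [hc]
    rcases hsq p with hp | hp <;> rcases hsq r with hr | hr
    · rw [e p hp, e r hr, e' (p * r) (by rw [h1, hp, hr, one_mul, mul_one])]
      rfl
    · rw [e p hp, e' r hr, e (p * r) (by rw [h1, hp, hr, one_mul, M.zc_mul])]
      rfl
    · rw [e' p hp, e r hr, e (p * r) (by rw [h1, hp, hr, mul_one, M.zc_mul])]
      rfl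
    · rw [e' p hp, e' r hr, e' (p * r) (by rw [h1, hp, hr, M.zc_mul, mul_one])]
      rfl

theorem sqv_zc (p : P) : sqv M (M.zc * p) = sqv M p := by
  unfold sqv
  rw [zsq]

/-! ### the homomorphism -/

section

variable {X : Type*} [Group X] (ψ : M.K →* X)

/-- image of the extraspecial group -/
def AA : Subgroup X := (ψ.comp (ιK M)).range

/-- image of the short elements -/
def TT : Set X := {d | ∃ x ∈ M.Sh, ψ (ιK M x) = d}

/-- image of the elements over `g` with `g * g = -1` -/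
def NN : Set X := {c | ∃ (k : M.K) (A : Co0) (α : P ≃* P) (T : Module.End ℚ W),
  Acts M.Sh M.lam M.u M.X M.Θ M.ρ (k : G) A α T ∧ A * A = signCo0 allOne ∧ ψ k = c}

open Classical in
/-- the quadratic form -/
noncomputable def qq (x : X) : ZMod 2 := if ∃ p : P, ψ (ιK M p) = x ∧ p * p = M.zc then 1 else 0

/-- the kernel of `ψ` is `⟨z⟩` -/
def Ker : Prop := ∀ k : M.K, ψ k = 1 ↔ (k : G) = 1 ∨ (k : G) = M.z

variable {M} {ψ}

theorem mem_AA {x : X} : x ∈ AA M ψ ↔ ∃ p, ψ (ιK M p) = x := Iff.rfl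

section
variable (hψ : Ker M ψ)
include hψ

theorem ψ_eq {k k' : M.K} : ψ k = ψ k' ↔ (k : G) = k' ∨ (k : G) = M.z * k' := by
  have h1 : ψ k = ψ k' ↔ ψ (k * k'⁻¹) = 1 := by
    rw [map_mul, map_inv, mul_inv_eq_one]
  rw [h1, hψ]
  have h2 : ((k * k'⁻¹ : M.K) : G) = (k : G) * (k' : G)⁻¹ := rfl
  rw [h2, mul_inv_eq_one, mul_inv_eq_iff_eq_mul]

theorem ψι_eq (L : Lift M θ) {p r : P} : ψ (ιK M p) = ψ (ιK M r) ↔ Eqz M p r := by
  have hinj := ι_inj L
  rw [ψ_eq hψ, ιK_coe, ιK_coe]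
  constructor
  · rintro (h | h)
    · exact Or.inl (hinj h)
    · right
      apply hinj
      rw [h, map_mul]; rfl
  · rintro (h | h)
    · exact Or.inl (by rw [h])
    · right
      rw [h, map_mul]; rfl

/-- conjugation -/
theorem conj_ψ (L : Lift M θ) {k : M.K} {A : Co0} {α : P ≃* P} {T : Module.End ℚ W}
    (hA : Acts M.Sh M.lam M.u M.X M.Θ M.ρ (k : G) A α T) (p : P) :
    ψ k * ψ (ιK M p) = ψ (ιK M (α p)) * ψ k := by
  have _ := hψ
  rw [← map_mul, ← map_mul]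
  congr 1
  exact Subtype.ext (conj_ι hA p)

theorem AA_conj (L : Lift M θ) : ∀ h ∈ ψ.range, ∀ x ∈ AA M ψ, h * x * h⁻¹ ∈ AA M ψ := by
  rintro _ ⟨k, rfl⟩ _ ⟨p, rfl⟩
  obtain ⟨A, α, T, hA⟩ := M.acts k k.2
  refine ⟨α p, ?_⟩
  show ψ (ιK M (α p)) = ψ k * ψ (ιK M p) * (ψ k)⁻¹
  rw [conj_ψ hψ L hA, mul_inv_cancel_right]

theorem AA_comm (L : Lift M θ) : ∀ x ∈ AA M ψ, ∀ y ∈ AA M ψ, x * y = y * x := by
  rintro _ ⟨p, rfl⟩ _ ⟨r, rfl⟩
  show ψ (ιK M p) * ψ (ιK M r) = ψ (ιK M r) * ψ (ιK M p)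
  rw [← map_mul, ← map_mul, ← map_mul, ← map_mul, ψι_eq hψ L]
  exact comm_cases M p r

theorem AA_sq (L : Lift M θ) : ∀ x ∈ AA M ψ, x * x = 1 := by
  rintro _ ⟨p, rfl⟩
  show ψ (ιK M p) * ψ (ιK M p) = 1
  rw [← map_mul, ← map_mul]
  have h : ψ (ιK M (p * p)) = ψ (ιK M 1) := by
    rw [ψι_eq hψ L]
    rcases L.sq p with h | h
    · exact Or.inl h
    · right; rw [h, mul_one]
  rw [h, map_one, map_one]

theorem AA_card (L : Lift M θ) : Nat.card (AA M ψ) = 2 ^ 24 := by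
  have h1 : Nat.card (ψ.comp (ιK M)).ker = 2 := by
    rw [Nat.card_eq_two_iff]
    have hz : M.zc ∈ (ψ.comp (ιK M)).ker := by
      show ψ (ιK M M.zc) = 1
      rw [hψ]; right; rfl
    refine ⟨1, ⟨M.zc, hz⟩, fun h => M.zc_ne (congrArg Subtype.val h).symm, ?_⟩
    ext ⟨p, hp⟩
    simp only [Set.mem_insert_iff, Set.mem_singleton_iff, Set.mem_univ, iff_true]
    have hp' : ψ (ιK M p) = ψ (ιK M 1) := by
      rw [map_one, map_one]; exact hp
    rw [ψι_eq hψ L] at hp'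
    rcases hp' with h | h
    · left; exact Subtype.ext h
    · right; exact Subtype.ext (by show p = M.zc; rw [h, mul_one])
  have h2 := Subgroup.card_mul_index (ψ.comp (ιK M)).ker
  rw [Subgroup.index_ker, h1, L.card] at h2
  show Nat.card (ψ.comp (ιK M)).range = 2 ^ 24
  omega

/-- the elements acting trivially -/
theorem AA_cent (L : Lift M θ) : ∀ c ∈ ψ.range, (∀ x ∈ AA M ψ, c * x = x * c) → c ∈ AA M ψ := by
  rintro _ ⟨k, rfl⟩ h
  obtain ⟨A, α, T, hA⟩ := M.acts k k.2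
  have h1 : ∀ p, Eqz M (α p) p := by
    intro p
    rw [← ψι_eq hψ L]
    have h2 := h _ (⟨p, rfl⟩ : ψ (ιK M p) ∈ AA M ψ)
    rw [conj_ψ hψ L hA] at h2
    exact mul_right_cancel h2
  have h2 : ∀ x : L2, A • x = x := by
    intro x
    obtain ⟨v, rfl⟩ := cl_surjective x
    rw [smul_cl, cl_eq]
    exact congr_of_eqz L ((act_θ L hA v).trans (h1 _))
  have h3 := mem_center_of_trivial h2
  obtain ⟨q, hq⟩ := M.mem_ι_of_trivial k k.2 (by
    intro v
    rw [hA.act_u]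
    rcases Cfsg.Agent.SporadicA.Co0Basic.eq_one_or_neg_of_mem_center h3 with e | e
    · rw [e, one_smul]
    · rw [e]
      have : Cfsg.Agent.SporadicA.Co0Basic.negCo0 • v = -v :=
        Cfsg.Agent.SporadicA.Co0Basic.negCo0_apply v
      rw [this, M.u_neg])
  exact ⟨q, by
    show ψ (ιK M q) = ψ k
    congr 1
    exact Subtype.ext hq.symm⟩

theorem TT_sub : ∀ d ∈ TT M ψ, d ∈ AA M ψ := by
  have _ := hψ
  rintro _ ⟨x, _, rfl⟩
  exact ⟨x, rfl⟩

theorem TT_ne : (TT M ψ).Nonempty := by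
  have _ := hψ
  obtain ⟨v, hv⟩ := Set.nonempty_of_ncard_ne_zero (s := {v : leechLattice | nrm v = 32})
    (by rw [min_ncard]; norm_num)
  obtain ⟨x, hx, _⟩ := M.lam_surj v hv
  exact ⟨_, x, hx, rfl⟩

/-! ### the quadratic form -/

theorem qq_eq (L : Lift M θ) (p : P) : qq M ψ (ψ (ιK M p)) = sqv M p := by
  unfold qq sqv
  by_cases h : p * p = M.zc
  · rw [if_pos h, if_pos ⟨p, rfl, h⟩]
  · rw [if_neg h, if_neg]
    rintro ⟨r, hr, hr2⟩
    apply h
    rw [ψι_eq hψ L] at hr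
    rcases hr with e | e
    · rw [← e]; exact hr2
    · rw [e, zsq] at hr2
      exact hr2

theorem qq_conj (L : Lift M θ) : ∀ h ∈ ψ.range, ∀ x ∈ AA M ψ, qq M ψ (h * x * h⁻¹) = qq M ψ x := by
  rintro _ ⟨k, rfl⟩ _ ⟨p, rfl⟩
  obtain ⟨A, α, T, hA⟩ := M.acts k k.2
  show qq M ψ (ψ k * ψ (ιK M p) * (ψ k)⁻¹) = qq M ψ (ψ (ιK M p))
  rw [conj_ψ hψ L hA, mul_inv_cancel_right, qq_eq hψ L, qq_eq hψ L]
  unfold sqv
  have h1 : α p * α p = M.zc ↔ p * p = M.zc := by
    rw [← map_mul]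
    constructor
    · intro h
      apply α.injective
      rw [h, α_zc L]
    · intro h
      rw [h, α_zc L]
  by_cases h : p * p = M.zc
  · rw [if_pos h, if_pos (h1.2 h)]
  · rw [if_neg h, if_neg (fun h' => h (h1.1 h'))]

/-- the polar form -/
theorem bb_eq (L : Lift M θ) (p r : P) :
    qq M ψ (ψ (ιK M p) * ψ (ιK M r)) + qq M ψ (ψ (ιK M p)) + qq M ψ (ψ (ιK M r)) = cmv p r := by
  rw [← map_mul, ← map_mul, qq_eq hψ L, qq_eq hψ L, qq_eq hψ L, sqv_mul M L.sq]
  have h : ∀ a b c : ZMod 2, a + b + c + a + b = c := by decide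
  exact h _ _ _

theorem bb_mul (L : Lift M θ) : ∀ x ∈ AA M ψ, ∀ y ∈ AA M ψ, ∀ w ∈ AA M ψ,
    qq M ψ (x * y * w) + qq M ψ (x * y) + qq M ψ w =
      (qq M ψ (x * w) + qq M ψ x + qq M ψ w) + (qq M ψ (y * w) + qq M ψ y + qq M ψ w) := by
  rintro _ ⟨p, rfl⟩ _ ⟨r, rfl⟩ _ ⟨s, rfl⟩
  show qq M ψ (ψ (ιK M p) * ψ (ιK M r) * ψ (ιK M s)) + qq M ψ (ψ (ιK M p) * ψ (ιK M r)) +
    qq M ψ (ψ (ιK M s)) = (qq M ψ (ψ (ιK M p) * ψ (ιK M s)) + qq M ψ (ψ (ιK M p)) +
    qq M ψ (ψ (ιK M s))) + (qq M ψ (ψ (ιK M r) * ψ (ιK M s)) + qq M ψ (ψ (ιK M r)) +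
    qq M ψ (ψ (ιK M s)))
  rw [bb_eq hψ L, bb_eq hψ L, ← map_mul ψ, ← map_mul (ιK M), bb_eq hψ L]
  exact cmv_mul_left M p r s

theorem bb_nondeg (L : Lift M θ) : ∀ x ∈ AA M ψ, (∀ y ∈ AA M ψ,
    qq M ψ (x * y) + qq M ψ x + qq M ψ y = 0) → x = 1 := by
  rintro _ ⟨p, rfl⟩ h
  have h1 : ∀ r, p * r = r * p := by
    intro r
    have h2 := h _ (⟨r, rfl⟩ : ψ (ιK M r) ∈ AA M ψ)
    have h3 : qq M ψ (ψ (ιK M p) * ψ (ιK M r)) + qq M ψ (ψ (ιK M p)) + qq M ψ (ψ (ιK M r)) = 0 := h2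
    rw [bb_eq hψ L] at h3
    by_contra hne
    have h4 : cmv p r = 1 := if_neg hne
    rw [h4] at h3
    exact absurd h3 (by decide)
  show ψ (ιK M p) = 1
  have h2 : ψ (ιK M p) = ψ (ιK M 1) := by
    rw [ψι_eq hψ L]
    rcases L.center p h1 with h3 | h3
    · exact Or.inl h3
    · right; rw [h3, mul_one]
  rw [h2, map_one, map_one]

/-! ### products -/

/-- the data of a product -/
theorem acts_mul {k k' : G} {A A' : Co0} (h : ∀ v, k • M.u v = M.u (A • v))
    (h' : ∀ v, k' • M.u v = M.u (A' • v)) (v : leechLattice) :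
    (k * k') • M.u v = M.u ((A * A') • v) := by
  have _ := hψ
  rw [mul_smul, mul_smul, h', h]

/-- If two elements of `K` have the same image then their elements of `Co0` agree up to sign. -/
theorem sgn_of_eq {k k' : M.K} (he : ψ k = ψ k') {A A' : Co0}
    (h : ∀ v, (k : G) • M.u v = M.u (A • v)) (h' : ∀ v, (k' : G) • M.u v = M.u (A' • v)) :
    A = A' ∨ A = signCo0 allOne * A' := by
  have h1 : ∀ v, M.u ((A * A'⁻¹) • v) = M.u v := by
    intro v
    have h3 : (k : G) • M.u (A'⁻¹ • v) = (k' : G) • M.u (A'⁻¹ • v) := by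
      rcases (ψ_eq hψ).1 he with e | e
      · rw [e]
      · rw [e, mul_smul, h', M.z_u]
    rw [h, h', smul_inv_smul] at h3
    rw [mul_smul]
    exact h3
  have h2 := Cfsg.Agent.MonsterX.KModel.mem_center_of_pm _ (M.pm_of_u _ h1)
  rw [mem_center_iff] at h2
  rcases h2 with h2 | h2
  · left; exact mul_inv_eq_one.1 h2
  · right; exact mul_inv_eq_iff_eq_mul.1 h2

end

end

end Cfsg.Agent.MonsterU.CloseKS
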