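import Cfsg.Agent.MonsterU.InvTwo
import Cfsg.Agent.MonsterU.CloseSE

/-!
# Closing from the centraliser of a 2A-involution

`Γ` is the Monster (with the structure `KS`), `φ : Γ →* G'` an embedding into a finite group such that
the centraliser of `φ t`, `t` a 2A-involution, is contained in the range.  Then `φ` is onto.

The input `hsurj` is the closing of `C(z)/⟨z⟩` (`CloseMax`).
-/

set_option autoImplicit false

namespace Cfsg.Agent.MonsterU.CloseTop

open Cfsg Cfsg.Agent.LeechMat.Core Cfsg.Agent.MonsterX.KSide Cfsg.Agent.MonsterX.KLift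
open Cfsg.Agent.MonsterU.InvTwo

theorem mem_cent_iff {G : Type*} [Group G] {a g : G} :
    g ∈ Subgroup.centralizer ({a} : Set G) ↔ g * a = a * g := by
  rw [Subgroup.mem_centralizer_singleton_iff]

theorem card_cent_conj {G : Type*} [Group G] (a g : G) :
    Nat.card (Subgroup.centralizer ({g * a * g⁻¹} : Set G)) =
      Nat.card (Subgroup.centralizer ({a} : Set G)) := by
  refine Nat.card_congr ⟨fun k => ⟨g⁻¹ * k.1 * g, ?_⟩, fun k => ⟨g * k.1 * g⁻¹, ?_⟩, fun k => ?_,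
    fun k => ?_⟩
  · rw [mem_cent_iff]
    have h := mem_cent_iff.1 k.2
    calc g⁻¹ * k.1 * g * a = g⁻¹ * (k.1 * (g * a * g⁻¹)) * g := by group
      _ = g⁻¹ * ((g * a * g⁻¹) * k.1) * g := by rw [h]
      _ = a * (g⁻¹ * k.1 * g) := by group
  · rw [mem_cent_iff]
    have h := mem_cent_iff.1 k.2
    calc g * k.1 * g⁻¹ * (g * a * g⁻¹) = g * (k.1 * a) * g⁻¹ := by group
      _ = g * (a * k.1) * g⁻¹ := by rw [h]
      _ = g * a * g⁻¹ * (g * k.1 * g⁻¹) := by group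
  · apply Subtype.ext
    show g * (g⁻¹ * k.1 * g) * g⁻¹ = k.1
    group
  · apply Subtype.ext
    show g⁻¹ * (g * k.1 * g⁻¹) * g = k.1
    group

section

variable {Γ G' : Type*} [Group Γ] [Group G'] (φ : Γ →* G') (hφ : Function.Injective φ)
include hφ

theorem comm_iff (a b : Γ) : φ a * φ b = φ b * φ a ↔ a * b = b * a := by
  rw [← map_mul, ← map_mul]
  exact hφ.eq_iff

/-- The two classes are not fused. -/
theorem not_conj [Finite G'] {z t : Γ}
    (hcard : ¬ Nat.card (Subgroup.centralizer ({z} : Set Γ)) ∣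
      Nat.card (Subgroup.centralizer ({t} : Set Γ)))
    (hcent : ∀ g : G', g * φ t = φ t * g → g ∈ φ.range) (g : G') : g * φ z * g⁻¹ ≠ φ t := by
  intro e
  apply hcard
  have h1 := card_cent_conj (φ z) g
  rw [e] at h1
  have h2 : Nat.card (Subgroup.centralizer ({φ t} : Set G')) =
      Nat.card (Subgroup.centralizer ({t} : Set Γ)) := by
    symm
    refine Nat.card_congr (Equiv.ofBijective (fun k => ⟨φ k.1, ?_⟩) ⟨?_, ?_⟩)
    · rw [mem_cent_iff, comm_iff φ hφ]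
      exact mem_cent_iff.1 k.2
    · intro a b hab
      exact Subtype.ext (hφ (congrArg Subtype.val hab))
    · rintro ⟨k, hk⟩
      obtain ⟨m, rfl⟩ := hcent k (mem_cent_iff.1 hk)
      exact ⟨⟨m, mem_cent_iff.2 ((comm_iff φ hφ _ _).1 (mem_cent_iff.1 hk))⟩, rfl⟩
  have h3 : Nat.card (Subgroup.centralizer ({z} : Set Γ)) ∣
      Nat.card (Subgroup.centralizer ({φ z} : Set G')) := by
    have h4 : (Subgroup.centralizer ({z} : Set Γ)).map φ ≤
        Subgroup.centralizer ({φ z} : Set G') := by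
      rintro _ ⟨k, hk, rfl⟩
      rw [mem_cent_iff, comm_iff φ hφ]
      exact mem_cent_iff.1 hk
    have h5 := Subgroup.card_dvd_of_le h4
    rwa [Subgroup.card_map_of_injective hφ] at h5
  rw [← h1, h2] at h3
  exact h3

/-- `φ t` is moved into the range only by elements of the range. -/
theorem uniq_t {z t : Γ} (ht : t * t = 1) (ht1 : t ≠ 1)
    (classes : ∀ u : Γ, u * u = 1 → u ≠ 1 → (∃ g, g * u * g⁻¹ = z) ∨ ∃ g, g * u * g⁻¹ = t)
    (hnc : ∀ g : G', g * φ z * g⁻¹ ≠ φ t)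
    (hcent : ∀ g : G', g * φ t = φ t * g → g ∈ φ.range)
    (g : G') (hg : g * φ t * g⁻¹ ∈ φ.range) : g ∈ φ.range := by
  obtain ⟨u, hu⟩ := hg
  have hu2 : u * u = 1 := by
    apply hφ
    rw [map_mul, hu, map_one]
    calc g * φ t * g⁻¹ * (g * φ t * g⁻¹) = g * (φ t * φ t) * g⁻¹ := by group
      _ = 1 := by rw [← map_mul, ht, map_one]; group
  have hu1 : u ≠ 1 := by
    rintro rfl
    apply ht1
    apply hφ
    rw [map_one] at hu ⊢
    calc φ t = g⁻¹ * (g * φ t * g⁻¹) * g := by group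
      _ = 1 := by rw [← hu]; group
  rcases classes u hu2 hu1 with ⟨h, e⟩ | ⟨h, e⟩
  · exfalso
    apply hnc (φ h * g)⁻¹
    have : φ h * φ u * (φ h)⁻¹ = φ z := by rw [← map_inv, ← map_mul, ← map_mul, e]
    rw [← this, hu]
    group
  · have h1 : φ h * φ u * (φ h)⁻¹ = φ t := by rw [← map_inv, ← map_mul, ← map_mul, e]
    rw [hu] at h1
    have h2 : φ h * g ∈ φ.range := by
      apply hcent
      calc φ h * g * φ t = (φ h * (g * φ t * g⁻¹) * (φ h)⁻¹) * (φ h * g) := by group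
        _ = φ t * (φ h * g) := by rw [h1]
    have h3 : φ h ∈ φ.range := ⟨h, rfl⟩
    exact ((φ.range).mul_mem_cancel_left h3).1 h2

/-- **The last step**: both classes of involutions have their centralisers in the range. -/
theorem eq_top_of_cent [Finite G'] {z t : Γ} (hz : z * z = 1) (hz1 : z ≠ 1)
    (ht : t * t = 1) (ht1 : t ≠ 1)
    (classes : ∀ u : Γ, u * u = 1 → u ≠ 1 → (∃ g, g * u * g⁻¹ = z) ∨ ∃ g, g * u * g⁻¹ = t)
    (hnc : ∀ g : G', g * φ z * g⁻¹ ≠ φ t)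
    (hcent : ∀ g : G', g * φ t = φ t * g → g ∈ φ.range)
    (hcentz : ∀ g : G', g * φ z = φ z * g → g ∈ φ.range) : φ.range = ⊤ := by
  by_contra hM
  have hnc' : ∀ g : G', g * φ t * g⁻¹ ≠ φ z := by
    intro g e
    apply hnc g⁻¹
    rw [← e]; group
  have hφz : φ z * φ z = 1 := by rw [← map_mul, hz, map_one]
  have hφz1 : φ z ≠ 1 := fun h => hz1 (hφ (by rw [h, map_one]))
  have hφt : φ t * φ t = 1 := by rw [← map_mul, ht, map_one]
  have hφt1 : φ t ≠ 1 := fun h => ht1 (hφ (by rw [h, map_one]))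
  have hsymm : ∀ u : Γ, u * u = 1 → u ≠ 1 → (∃ g, g * u * g⁻¹ = t) ∨ ∃ g, g * u * g⁻¹ = z :=
    fun u h1 h2 => (classes u h1 h2).symm
  obtain ⟨h, hh⟩ := CloseSE.conj_of_cent φ.range (s := φ z) (t := φ t) (by
      rintro _ ⟨u, rfl⟩ hu hu1 g hg
      have hu2 : u * u = 1 := hφ (by rw [map_mul, hu, map_one])
      have hu1' : u ≠ 1 := fun h => hu1 (by rw [h, map_one])
      rcases classes u hu2 hu1' with ⟨k, e⟩ | ⟨k, e⟩
      · have e' : φ k * φ u * (φ k)⁻¹ = φ z := by rw [← map_inv, ← map_mul, ← map_mul, e]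
        have h1 := uniq_t φ hφ hz hz1 hsymm hnc' hcentz (g * (φ k)⁻¹) (by
          rw [← e']
          have : g * (φ k)⁻¹ * (φ k * φ u * (φ k)⁻¹) * (g * (φ k)⁻¹)⁻¹ = g * φ u * g⁻¹ := by group
          rw [this]; exact hg)
        exact ((φ.range).mul_mem_cancel_right ((φ.range).inv_mem ⟨k, rfl⟩)).1 h1
      · have e' : φ k * φ u * (φ k)⁻¹ = φ t := by rw [← map_inv, ← map_mul, ← map_mul, e]
        have h1 := uniq_t φ hφ ht ht1 classes hnc hcent (g * (φ k)⁻¹) (by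
          rw [← e']
          have : g * (φ k)⁻¹ * (φ k * φ u * (φ k)⁻¹) * (g * (φ k)⁻¹)⁻¹ = g * φ u * g⁻¹ := by group
          rw [this]; exact hg)
        exact ((φ.range).mul_mem_cancel_right ((φ.range).inv_mem ⟨k, rfl⟩)).1 h1)
    hM ⟨z, rfl⟩ hφz hφz1 ⟨t, rfl⟩ hφt hφt1
  exact hnc h hh

end

/-! ### The centraliser of `z` modulo `z` -/

section Quot

variable {G' : Type*} [Group G'] (w : G') (hw : w * w = 1)

/-- the centraliser -/
abbrev Cz : Subgroup G' := Subgroup.centralizer ({w} : Set G')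

theorem w_mem : w ∈ Cz w := mem_cent_iff.2 rfl

/-- `⟨w⟩` in its centraliser -/
def Zz : Subgroup (Cz w) := Subgroup.zpowers ⟨w, w_mem w⟩

instance : (Zz w).Normal := by
  refine ⟨fun n hn g => ?_⟩
  obtain ⟨k, rfl⟩ := Subgroup.mem_zpowers_iff.1 hn
  have h1 : g * (⟨w, w_mem w⟩ : Cz w) = (⟨w, w_mem w⟩ : Cz w) * g := Subtype.ext (mem_cent_iff.1 g.2)
  have h2 : g * (⟨w, w_mem w⟩ : Cz w) ^ k = (⟨w, w_mem w⟩ : Cz w) ^ k * g :=
    ((show Commute g (⟨w, w_mem w⟩ : Cz w) from h1).zpow_right k)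
  rw [h2, mul_inv_cancel_right]
  exact hn

include hw in
theorem mem_Zz {c : Cz w} : c ∈ Zz w ↔ (c : G') = 1 ∨ (c : G') = w := by
  constructor
  · intro hc
    obtain ⟨k, rfl⟩ := Subgroup.mem_zpowers_iff.1 hc
    have h2 : (⟨w, w_mem w⟩ : Cz w) * ⟨w, w_mem w⟩ = 1 := Subtype.ext hw
    rcases Int.even_or_odd' k with ⟨m, rfl | rfl⟩
    · left
      rw [zpow_mul, zpow_ofNat, pow_two, h2, one_zpow]
      rfl
    · right
      rw [zpow_add, zpow_mul, zpow_ofNat, pow_two, h2, one_zpow, one_mul, zpow_one]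
  · rintro (h | h)
    · have : c = 1 := Subtype.ext h
      rw [this]; exact Subgroup.one_mem _
    · have : c = ⟨w, w_mem w⟩ := Subtype.ext h
      rw [this]; exact Subgroup.mem_zpowers _

include hw in
theorem mk_eq {c d : Cz w} : (QuotientGroup.mk' (Zz w) c = QuotientGroup.mk' (Zz w) d) ↔
    (c : G') = d ∨ (c : G') = d * w := by
  have h1 : (QuotientGroup.mk' (Zz w) c = QuotientGroup.mk' (Zz w) d) ↔ d⁻¹ * c ∈ Zz w := by
    rw [eq_comm]
    exact QuotientGroup.eq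
  rw [h1, mem_Zz w hw]
  have h2 : ((d⁻¹ * c : Cz w) : G') = (d : G')⁻¹ * c := rfl
  rw [h2, inv_mul_eq_one, inv_mul_eq_iff_eq_mul, eq_comm (a := (d : G'))]

end Quot

section Main

universe u'

variable {G V P W : Type*} [Group G] [AddCommGroup V] [Module ℚ V]
  [DistribMulAction G V] [SMulCommClass G ℚ V] [Group P] [AddCommGroup W] [Module ℚ W]
  {M : KS G V P W} {θ : leechLattice → P}

/-- `ι` as a map to `K` -/
def jK (M : KS G V P W) (p : P) : M.K := ⟨M.ι p, M.ι_mem p⟩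

/-- **Closing from 2A.** -/
theorem range_eq_top (L : Lift M θ) {G' : Type u'} [Group G'] [Finite G'] (φ : G →* G')
    (hφ : Function.Injective φ)
    (hsurj : ∀ (X : Type u') [Group X] [Finite X] (ψ : M.K →* X),
      (∀ k, ψ k = 1 ↔ (k : G) = 1 ∨ (k : G) = M.z) →
      (∀ x ∈ M.Sh, ∀ c : X, c * ψ (jK M x) * c⁻¹ ∈ ψ.range → c ∈ ψ.range) → ψ.range = ⊤)
    (hK : ∀ g : G, g * M.z = M.z * g → g ∈ M.K)
    {x₀ : P} (hx₀ : x₀ ∈ M.Sh)
    (classes : ∀ u : G, u * u = 1 → u ≠ 1 →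
      (∃ g, g * u * g⁻¹ = M.z) ∨ ∃ g, g * u * g⁻¹ = M.ι x₀)
    (hcard : ¬ Nat.card (Subgroup.centralizer ({M.z} : Set G)) ∣
      Nat.card (Subgroup.centralizer ({M.ι x₀} : Set G)))
    (hcent : ∀ g : G', g * φ (M.ι x₀) = φ (M.ι x₀) * g → g ∈ φ.range) : φ.range = ⊤ := by
  have hz : M.z * M.z = 1 := M.z_mul
  have hz1 : M.z ≠ 1 := by
    intro h
    have h1 : M.zc = 1 := ι_inj L (by rw [map_one]; exact h)
    exact M.zc_ne h1
  have ht : M.ι x₀ * M.ι x₀ = 1 := by rw [← map_mul, L.sh_sq x₀ hx₀, map_one]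
  have ht1 : M.ι x₀ ≠ 1 := by
    intro h
    have h1 : x₀ = 1 := ι_inj L (by rw [map_one]; exact h)
    apply hcard
    rw [h]
    have h2 : Subgroup.centralizer ({1} : Set G) = ⊤ := by
      rw [Subgroup.eq_top_iff']
      intro g
      rw [mem_cent_iff, mul_one, one_mul]
    rw [h2, Subgroup.card_top]
    exact Subgroup.card_subgroup_dvd_card _
  have hnc := not_conj φ hφ hcard hcent
  have hut := uniq_t φ hφ ht ht1 classes hnc hcent
  -- all short elements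
  have hsh : ∀ x ∈ M.Sh, ∀ g : G', g * φ (M.ι x) * g⁻¹ ∈ φ.range → g ∈ φ.range := by
    intro x hx g hg
    obtain ⟨k, hk, A, α, T, hA, hα⟩ := trans_Sh L x₀ x hx₀ hx
    have h1 : k * M.ι x₀ * k⁻¹ = M.ι x := by
      rw [conj_ι hA x₀, hα, mul_inv_cancel_right]
    have h2 : φ k * φ (M.ι x₀) * (φ k)⁻¹ = φ (M.ι x) := by
      rw [← map_inv, ← map_mul, ← map_mul, h1]
    have h3 := hut (g * φ k) (by
      have : g * φ k * φ (M.ι x₀) * (g * φ k)⁻¹ = g * (φ k * φ (M.ι x₀) * (φ k)⁻¹) * g⁻¹ := by group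
      rw [this, h2]
      exact hg)
    exact ((φ.range).mul_mem_cancel_right ⟨k, rfl⟩).1 h3
  -- the quotient
  have hw : φ M.z * φ M.z = 1 := by rw [← map_mul, hz, map_one]
  have hKC : ∀ k : M.K, φ k ∈ Cz (φ M.z) := fun k =>
    mem_cent_iff.2 ((comm_iff φ hφ _ _).2 (M.z_comm_K k k.2))
  let κ : M.K →* Cz (φ M.z) := (φ.comp M.K.subtype).codRestrict (Cz (φ M.z)) hKC
  let ψ : M.K →* (Cz (φ M.z) ⧸ Zz (φ M.z)) := (QuotientGroup.mk' (Zz (φ M.z))).comp κ
  have hψ : ∀ k, ψ k = QuotientGroup.mk' (Zz (φ M.z)) (κ k) := fun _ => rfl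
  have hκ : ∀ k, (κ k : G') = φ k := fun _ => rfl
  have hker : ∀ k, ψ k = 1 ↔ (k : G) = 1 ∨ (k : G) = M.z := by
    intro k
    rw [hψ, ← map_one (QuotientGroup.mk' (Zz (φ M.z))), mk_eq _ hw, hκ]
    have h1 : ((1 : Cz (φ M.z)) : G') = 1 := rfl
    rw [h1, one_mul]
    constructor
    · rintro (h | h)
      · exact Or.inl (hφ (by rw [h, map_one]))
      · exact Or.inr (hφ h)
    · rintro (h | h)
      · left; rw [h, map_one]
      · right; rw [h]
  have htop := hsurj _ ψ hker (by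
    intro x hx c hc
    obtain ⟨g, rfl⟩ := QuotientGroup.mk'_surjective (Zz (φ M.z)) c
    obtain ⟨k, hk⟩ := hc
    have h1 : QuotientGroup.mk' (Zz (φ M.z)) (g * κ (jK M x) * g⁻¹) =
        QuotientGroup.mk' (Zz (φ M.z)) (κ k) := by
      rw [map_mul, map_mul, map_inv]
      exact hk.symm
    rw [mk_eq _ hw, hκ] at h1
    have h2 : (g : G') * φ (M.ι x) * (g : G')⁻¹ ∈ φ.range := by
      rcases h1 with h1 | h1
      · exact ⟨k, h1.symm⟩
      · refine ⟨k * M.z, ?_⟩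
        rw [map_mul]
        exact h1.symm
    obtain ⟨γ, hγ⟩ := hsh x hx g h2
    have h3 : γ ∈ M.K := by
      apply hK
      rw [← comm_iff φ hφ, hγ]
      exact mem_cent_iff.1 g.2
    refine ⟨⟨γ, h3⟩, ?_⟩
    rw [hψ]
    congr 1
    exact Subtype.ext hγ)
  have hcentz : ∀ g : G', g * φ M.z = φ M.z * g → g ∈ φ.range := by
    intro g hg
    have h1 : QuotientGroup.mk' (Zz (φ M.z)) ⟨g, mem_cent_iff.2 hg⟩ ∈ ψ.range := by
      rw [htop]; trivial
    obtain ⟨k, hk⟩ := h1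
    rw [hψ, mk_eq _ hw, hκ] at hk
    rcases hk with h | h
    · exact ⟨k, h⟩
    · refine ⟨k * M.z, ?_⟩
      rw [map_mul, h]
      show g * φ M.z * φ M.z = g
      rw [mul_assoc, hw, mul_one]
  exact eq_top_of_cent φ hφ hz hz1 ht ht1 classes hnc hcent hcentz

/-- The same with an arbitrary involution `t` of the Monster whose centraliser in `G'` is not
divisible by `|C(z)|`. -/
theorem range_eq_top' (L : Lift M θ) {G' : Type u'} [Group G'] [Finite G'] (φ : G →* G')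
    (hφ : Function.Injective φ)
    (hsurj : ∀ (X : Type u') [Group X] [Finite X] (ψ : M.K →* X),
      (∀ k, ψ k = 1 ↔ (k : G) = 1 ∨ (k : G) = M.z) →
      (∀ x ∈ M.Sh, ∀ c : X, c * ψ (jK M x) * c⁻¹ ∈ ψ.range → c ∈ ψ.range) → ψ.range = ⊤)
    (hK : ∀ g : G, g * M.z = M.z * g → g ∈ M.K)
    {x₀ : P} (hx₀ : x₀ ∈ M.Sh)
    (classes : ∀ u : G, u * u = 1 → u ≠ 1 →
      (∃ g, g * u * g⁻¹ = M.z) ∨ ∃ g, g * u * g⁻¹ = M.ι x₀)
    (hcard : ¬ Nat.card (Subgroup.centralizer ({M.z} : Set G)) ∣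
      Nat.card (Subgroup.centralizer ({M.ι x₀} : Set G)))
    {t : G} (ht : t * t = 1) (ht1 : t ≠ 1)
    (htc : ¬ Nat.card (Subgroup.centralizer ({M.z} : Set G)) ∣
      Nat.card (Subgroup.centralizer ({φ t} : Set G')))
    (hcent : ∀ g : G', g * φ t = φ t * g → g ∈ φ.range) : φ.range = ⊤ := by
  rcases classes t ht ht1 with ⟨g, e⟩ | ⟨g, e⟩
  · exfalso
    apply htc
    have h1 : φ g * φ t * (φ g)⁻¹ = φ M.z := by rw [← map_inv, ← map_mul, ← map_mul, e]
    have h2 := card_cent_conj (φ t) (φ g)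
    rw [h1] at h2
    rw [← h2]
    have h4 : (Subgroup.centralizer ({M.z} : Set G)).map φ ≤
        Subgroup.centralizer ({φ M.z} : Set G') := by
      rintro _ ⟨k, hk, rfl⟩
      rw [mem_cent_iff, comm_iff φ hφ]
      exact mem_cent_iff.1 hk
    have h5 := Subgroup.card_dvd_of_le h4
    rwa [Subgroup.card_map_of_injective hφ] at h5
  · refine range_eq_top L φ hφ hsurj hK hx₀ classes hcard fun x hx => ?_
    have h1 : φ g * φ t * (φ g)⁻¹ = φ (M.ι x₀) := by rw [← map_inv, ← map_mul, ← map_mul, e]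
    have h2 : (φ g)⁻¹ * x * φ g ∈ φ.range := by
      apply hcent
      rw [← h1] at hx
      calc (φ g)⁻¹ * x * φ g * φ t = (φ g)⁻¹ * (x * (φ g * φ t * (φ g)⁻¹)) * φ g := by group
        _ = (φ g)⁻¹ * ((φ g * φ t * (φ g)⁻¹) * x) * φ g := by rw [hx]
        _ = φ t * ((φ g)⁻¹ * x * φ g) := by group
    have h3 : φ g ∈ φ.range := ⟨g, rfl⟩
    have h4 : x = φ g * ((φ g)⁻¹ * x * φ g) * (φ g)⁻¹ := by group
    rw [h4]
    exact (φ.range).mul_mem ((φ.range).mul_mem h3 h2) ((φ.range).inv_mem h3)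

end Main

end Cfsg.Agent.MonsterU.CloseTop
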