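import Mathlib
import Cfsg.Agent.R15.Lite

/-!
# Closing: a simple group containing a Monster-like subgroup `H` with the centralizer of a
2B-involution in `H` is equal to `H`.

`z` is a 2B-involution, `x` a 2A-involution, `Q = O_2(C_G(z))`.  All hypotheses (`Facts`) are about `H`
except `cent` (`C_G(z) ≤ H`) and `not_conj`.  The proof uses Lemma LITE twice: inside `C_G(x)`, with
the involutions `d` of `z^G` for which `d x` is a conjugate of `x`, and in `G`.
-/

set_option autoImplicit false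

namespace Cfsg.Agent.MonsterU.Closing

open Cfsg.Agent.R15

section General

variable {G Ω : Type*} [Group G] [MulAction G Ω] {D : Set G} {p : G → Ω} (H : Lite.Hyp D p)

include H

/-- Lemma LITE without a hypothesis on the kernel. -/
theorem exists_mem_of_unique_fixed [Finite G]
    (hodd : ∀ a : Ω, Odd (Nat.card {d : G // d ∈ D ∧ p d = a}))
    {w : G} (hw : w * w = 1) (a : Ω) (hwa : ∀ b : Ω, w • b = b ↔ b = a) {c : Ω} (hca : c ≠ a) :
    ∃ x ∈ D, x * w = w * x ∧ ∀ e : Ω, (w * x) • e = e := by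
  have hwc : w • c ≠ c := fun h => hca ((hwa c).1 h)
  have hne : Nonempty {d : G // d ∈ D ∧ p d = c} :=
    (Nat.card_pos_iff.1 (hodd c).pos).1
  obtain ⟨⟨d, hd, hdc⟩⟩ := hne
  obtain ⟨x, hx, hxw, hxd, hxp⟩ := Lite.exists_commuting_swap H hd hw (by rw [hdc]; exact hwc)
  refine ⟨x, hx, hxw, ?_⟩
  by_contra hcon
  push Not at hcon
  obtain ⟨e, he⟩ := hcon
  have hvv : (w * x) * (w * x) = 1 := by
    calc (w * x) * (w * x) = w * (x * w) * x := by group
      _ = w * (w * x) * x := by rw [hxw]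
      _ = (w * w) * (x * x) := by group
      _ = 1 := by rw [hw, H.sq x hx, one_mul]
  have hvc : (w * x) • c = c := by
    rw [← hdc]; exact Lite.p_eq_of_comm H hd hxd
  have hpx : p x = a := by
    have h : w • p x = p x := Lite.p_eq_of_comm H hx hxw.symm
    exact (hwa _).1 h
  have hva : (w * x) • a = a := by
    have h : x • a = a := by rw [← hpx]; exact (H.fix x hx _).2 rfl
    rw [mul_smul, h, (hwa a).2 rfl]
  have hxv : x * (w * x) = (w * x) * x := by rw [← mul_assoc, hxw]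
  obtain ⟨f1, f2, hf, hf1, hf2⟩ := Lite.two_fixed_mul H hodd hvv hca hvc hva he hx hxv
  have h5 : (w * x) * x = w := by rw [mul_assoc, H.sq x hx, mul_one]
  rw [h5] at hf1 hf2
  exact hf (((hwa _).1 hf1).trans ((hwa _).1 hf2).symm)

/-- If `G` is transitive it is enough to count the elements of `D` with a given point. -/
theorem odd_all {a0 : Ω} (htrans : ∀ a : Ω, ∃ g : G, g • a0 = a)
    (h0 : Odd (Nat.card {d : G // d ∈ D ∧ p d = a0})) (a : Ω) :
    Odd (Nat.card {d : G // d ∈ D ∧ p d = a}) := by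
  obtain ⟨g, rfl⟩ := htrans a
  have e : {d : G // d ∈ D ∧ p d = a0} ≃ {d : G // d ∈ D ∧ p d = g • a0} :=
    { toFun := fun d => ⟨g * d.1 * g⁻¹, H.conj _ d.2.1 g, by
        rw [Lite.p_conj H d.2.1, d.2.2]⟩
      invFun := fun d => ⟨g⁻¹ * d.1 * g⁻¹⁻¹, H.conj _ d.2.1 g⁻¹, by
        rw [Lite.p_conj H d.2.1, d.2.2, inv_smul_smul]⟩
      left_inv := fun d => Subtype.ext (by
        show g⁻¹ * (g * d.1 * g⁻¹) * g⁻¹⁻¹ = d.1
        group)
      right_inv := fun d => Subtype.ext (by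
        show g * (g⁻¹ * d.1 * g⁻¹⁻¹) * g⁻¹ = d.1
        group) }
  rw [← Nat.card_congr e]
  exact h0

/-- Counting modulo `2` with a `2`-subgroup. -/
theorem odd_base [Finite G] {a0 : Ω} (P : Subgroup G) (hP : IsPGroup 2 P)
    (hPa : ∀ g ∈ P, g • a0 = a0) {d0 : G} (hd0 : d0 ∈ D) (hp0 : p d0 = a0)
    (hc : ∀ g ∈ P, g * d0 = d0 * g)
    (huniq : ∀ d ∈ D, p d = a0 → (∀ g ∈ P, g * d = d * g) → d = d0) :
    Odd (Nat.card {d : G // d ∈ D ∧ p d = a0}) := by
  let inst : MulAction P {d : G // d ∈ D ∧ p d = a0} :=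
    { smul := fun g d => ⟨(g : G) * d.1 * (g : G)⁻¹, H.conj _ d.2.1 g, by
        rw [Lite.p_conj H d.2.1, d.2.2, hPa g g.2]⟩
      one_smul := fun d => Subtype.ext (by
        show (1 : G) * d.1 * (1 : G)⁻¹ = d.1
        group)
      mul_smul := fun g h d => Subtype.ext (by
        show ((g : G) * (h : G)) * d.1 * ((g : G) * (h : G))⁻¹ =
          (g : G) * ((h : G) * d.1 * (h : G)⁻¹) * (g : G)⁻¹
        group) }
  have hfin : Finite {d : G // d ∈ D ∧ p d = a0} := inferInstance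
  have hmod := hP.card_modEq_card_fixedPoints {d : G // d ∈ D ∧ p d = a0}
  have hval : ∀ (g : P) (d : {d : G // d ∈ D ∧ p d = a0}), (g • d).1 = (g : G) * d.1 * (g : G)⁻¹ :=
    fun _ _ => rfl
  have hone : Nat.card (MulAction.fixedPoints P {d : G // d ∈ D ∧ p d = a0}) = 1 := by
    rw [Nat.card_eq_one_iff_unique]
    constructor
    · constructor
      rintro ⟨⟨d, hd, hpd⟩, h1⟩ ⟨⟨e, he, hpe⟩, h2⟩
      have key : ∀ (d : G) (hd : d ∈ D ∧ p d = a0),
          (⟨d, hd⟩ : {d : G // d ∈ D ∧ p d = a0}) ∈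
            MulAction.fixedPoints P {d : G // d ∈ D ∧ p d = a0} → d = d0 := by
        intro d hd hfix
        refine huniq d hd.1 hd.2 fun g hg => ?_
        have h := congrArg Subtype.val (hfix ⟨g, hg⟩)
        rw [hval] at h
        exact mul_inv_eq_iff_eq_mul.1 h
      apply Subtype.ext
      apply Subtype.ext
      exact (key d ⟨hd, hpd⟩ h1).trans (key e ⟨he, hpe⟩ h2).symm
    · refine ⟨⟨⟨d0, hd0, hp0⟩, ?_⟩⟩
      intro g
      apply Subtype.ext
      rw [hval]
      exact mul_inv_eq_iff_eq_mul.2 (hc g g.2)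
  rw [hone] at hmod
  rw [Nat.odd_iff]
  exact hmod

end General

/-- The facts. -/
structure Facts {G : Type*} [Group G] (H Q : Subgroup G) (z x : G) : Prop where
  z_sq : z * z = 1
  z_ne : z ≠ 1
  x_sq : x * x = 1
  x_ne : x ≠ 1
  zQ : z ∈ Q
  xQ : x ∈ Q
  two : IsPGroup 2 Q
  zc : ∀ q ∈ Q, q * z = z * q
  /-- `C_G(z) ≤ H` -/
  cent : ∀ g : G, g * z = z * g → g ∈ H
  /-- two classes of involutions in `H` -/
  classes : ∀ u ∈ H, u * u = 1 → u ≠ 1 → (∃ h ∈ H, h * z * h⁻¹ = u) ∨ ∃ h ∈ H, h * x * h⁻¹ = u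
  /-- `x` and `z` are not conjugate in `G` -/
  not_conj : ∀ g : G, g * z * g⁻¹ ≠ x
  fuse : ∀ q ∈ Q, q ≠ 1 → q ≠ z → ∃ r ∈ Q, r * q * r⁻¹ = z * q
  /-- conjugates of `x` commuting with `z` outside of `Q` -/
  out : ∀ h ∈ H, (h * x * h⁻¹) * z = z * (h * x * h⁻¹) → h * x * h⁻¹ ∈ Q ∨
    ∃ k ∈ H, k * z * k⁻¹ = z * (h * x * h⁻¹)
  /-- they exist -/
  ex : ∃ h ∈ H, (h * x * h⁻¹) * z = z * (h * x * h⁻¹) ∧ ∃ k ∈ H, k * z * k⁻¹ = z * (h * x * h⁻¹)
  /-- `C_G(C_Q(x)) = ⟨x, z⟩` -/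
  perp : ∀ g : G, g * z = z * g → (∀ q ∈ Q, q * x = x * q → g * q = q * g) →
    g = 1 ∨ g = z ∨ g = x ∨ g = z * x
  /-- `C_H(x)/⟨x⟩` is simple -/
  simp : ∀ K : Subgroup G, (∀ k ∈ K, k ∈ H ∧ k * x = x * k) →
    (∀ g ∈ H, g * x = x * g → ∀ k ∈ K, g * k * g⁻¹ ∈ K) →
    (∀ k ∈ K, k = 1 ∨ k = x) ∨ (∀ g ∈ H, g * x = x * g → g ∈ K ∨ g * x ∈ K)

section

variable {G : Type*} [Group G] {H Q : Subgroup G} {z x : G}

/-- the conjugates of `z` -/
def cl (z : G) : Set G := {d | ∃ g : G, g * z * g⁻¹ = d}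

theorem cl_conj {d : G} (hd : d ∈ cl z) (g : G) : g * d * g⁻¹ ∈ cl z := by
  obtain ⟨k, rfl⟩ := hd
  exact ⟨g * k, by group⟩

theorem cl_conj' {d : G} (hd : d ∈ cl z) (g : G) : g⁻¹ * d * g ∈ cl z := by
  have := cl_conj hd g⁻¹
  rwa [inv_inv] at this

theorem comm_conj {a b : G} (g : G) (h : a * b = b * a) :
    (g⁻¹ * a * g) * (g⁻¹ * b * g) = (g⁻¹ * b * g) * (g⁻¹ * a * g) := by
  calc (g⁻¹ * a * g) * (g⁻¹ * b * g) = g⁻¹ * (a * b) * g := by group
    _ = g⁻¹ * (b * a) * g := by rw [h]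
    _ = _ := by group

variable (F : Facts H Q z x)

include F

theorem QH {q : G} (hq : q ∈ Q) : q ∈ H := F.cent q (F.zc q hq)

theorem zH : z ∈ H := QH F F.zQ

theorem xH : x ∈ H := QH F F.xQ

theorem disj {u : G} (h1 : u ∈ cl z) (h2 : u ∈ cl x) : False := by
  obtain ⟨g, rfl⟩ := h1
  obtain ⟨k, hk⟩ := h2
  refine F.not_conj (k⁻¹ * g) ?_
  calc k⁻¹ * g * z * (k⁻¹ * g)⁻¹ = k⁻¹ * (g * z * g⁻¹) * k := by group
    _ = k⁻¹ * (k * x * k⁻¹) * k := by rw [hk]
    _ = x := by group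

theorem P {g : G} (h : g * z * g⁻¹ ∈ H) : g ∈ H := by
  have hsq : (g * z * g⁻¹) * (g * z * g⁻¹) = 1 := by
    calc (g * z * g⁻¹) * (g * z * g⁻¹) = g * (z * z) * g⁻¹ := by group
      _ = 1 := by rw [F.z_sq]; group
  have hne : g * z * g⁻¹ ≠ 1 := by
    intro h1
    apply F.z_ne
    have : z = g⁻¹ * (g * z * g⁻¹) * g := by group
    rw [this, h1]; group
  rcases F.classes _ h hsq hne with ⟨k, hk, e⟩ | ⟨k, hk, e⟩
  · have h1 : (k⁻¹ * g) * z = z * (k⁻¹ * g) := by
      calc (k⁻¹ * g) * z = k⁻¹ * (g * z * g⁻¹) * g := by group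
        _ = k⁻¹ * (k * z * k⁻¹) * g := by rw [e]
        _ = _ := by group
    have h2 := H.mul_mem hk (F.cent _ h1)
    rwa [mul_inv_cancel_left] at h2
  · exact (disj F (u := g * z * g⁻¹) ⟨g, rfl⟩ ⟨k, e⟩).elim

theorem z_in {u : G} (hu : u ∈ cl z) (huH : u ∈ H) : ∃ h ∈ H, h * z * h⁻¹ = u := by
  obtain ⟨g, rfl⟩ := hu
  exact ⟨g, P F huH, rfl⟩

theorem x_in {u : G} (hu : u ∈ cl x) (huH : u ∈ H) : ∃ h ∈ H, h * x * h⁻¹ = u := by
  have hsq : u * u = 1 := by
    obtain ⟨g, rfl⟩ := hu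
    calc (g * x * g⁻¹) * (g * x * g⁻¹) = g * (x * x) * g⁻¹ := by group
      _ = 1 := by rw [F.x_sq]; group
  have hne : u ≠ 1 := by
    obtain ⟨g, rfl⟩ := hu
    intro h1
    apply F.x_ne
    have : x = g⁻¹ * (g * x * g⁻¹) * g := by group
    rw [this, h1]; group
  rcases F.classes _ huH hsq hne with ⟨k, hk, e⟩ | h
  · exact (disj F ⟨k, e⟩ hu).elim
  · exact h

/-- centralizers of conjugates of `z` in `H` are in `H` -/
theorem cent_z {u : G} (hu : u ∈ cl z) (huH : u ∈ H) {g : G} (h : g * u = u * g) : g ∈ H := by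
  obtain ⟨k, hk, rfl⟩ := z_in F hu huH
  have h1 : (k⁻¹ * g * k) * z = z * (k⁻¹ * g * k) := by
    calc (k⁻¹ * g * k) * z = k⁻¹ * (g * (k * z * k⁻¹)) * k := by group
      _ = k⁻¹ * ((k * z * k⁻¹) * g) * k := by rw [h]
      _ = _ := by group
  have h2 := H.mul_mem (H.mul_mem hk (F.cent _ h1)) (H.inv_mem hk)
  have e : k * (k⁻¹ * g * k) * k⁻¹ = g := by group
  rwa [e] at h2

theorem key {s e : G} (hs : s ∈ cl x) (hsz : s * z = z * s) (hzs : z * s ∈ cl x)
    (he : e ∈ cl z) (hez : e * z = z * e) (hne : e ≠ z) (hes : e * s = s * e)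
    (hea : e * s ∈ cl x) : z * e ∈ cl z ∨ z * (e * s) ∈ cl z := by
  obtain ⟨h, hh, rfl⟩ := x_in F hs (F.cent s hsz)
  have hsQ : h * x * h⁻¹ ∈ Q := by
    rcases F.out h hh hsz with h1 | ⟨k, hk, e1⟩
    · exact h1
    · exact (disj F ⟨k, e1⟩ hzs).elim
  have hesz : (e * (h * x * h⁻¹)) * z = z * (e * (h * x * h⁻¹)) := by
    rw [mul_assoc, hsz, ← mul_assoc, hez, mul_assoc]
  obtain ⟨k, hk, ek⟩ := x_in F hea (F.cent _ hesz)
  rw [← ek] at hesz
  rcases F.out k hk hesz with h1 | ⟨l, hl, e1⟩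
  · left
    rw [ek] at h1
    have heQ : e ∈ Q := by
      have := Q.mul_mem h1 (Q.inv_mem hsQ)
      rwa [mul_inv_cancel_right] at this
    have he1 : e ≠ 1 := by
      obtain ⟨g, rfl⟩ := he
      intro h1
      apply F.z_ne
      have : z = g⁻¹ * (g * z * g⁻¹) * g := by group
      rw [this, h1]; group
    obtain ⟨r, hr, er⟩ := F.fuse e heQ he1 hne
    rw [← er]
    exact cl_conj he r
  · right
    rw [← ek]
    exact ⟨l, e1⟩

/-- an element of `H` centralizing `Q` is in `⟨z⟩` -/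
theorem centQ {g : G} (h : ∀ q ∈ Q, q * g = g * q) : g = 1 ∨ g = z := by
  have hx1 : ¬ ∀ q ∈ Q, q * x = x * q := by
    intro hc
    obtain ⟨r, hr, e⟩ := F.fuse x F.xQ F.x_ne (fun h => F.not_conj 1 (by rw [h]; group))
    rw [hc r hr, mul_inv_cancel_right] at e
    apply F.z_ne
    have : z * x = 1 * x := by rw [← e, one_mul]
    exact mul_right_cancel this
  rcases F.perp g (h z F.zQ).symm (fun q hq _ => (h q hq).symm) with h1 | h1 | h1 | h1
  · exact Or.inl h1
  · exact Or.inr h1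
  · exact (hx1 (by rw [← h1]; exact h)).elim
  · refine (hx1 fun q hq => ?_).elim
    have h2 := h q hq
    rw [h1] at h2
    have h3 : z * (q * x) = z * (x * q) := by
      rw [← mul_assoc, ← F.zc q hq, mul_assoc, h2, mul_assoc]
    exact mul_left_cancel h3

open Classical in
omit F in
/-- the point of a conjugate of `z` -/
noncomputable def pt (H : Subgroup G) (z : G) (d : G) : G ⧸ H :=
  if h : ∃ g : G, g * z * g⁻¹ = d then (QuotientGroup.mk h.choose) else QuotientGroup.mk 1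

theorem pt_eq (g : G) : pt H z (g * z * g⁻¹) = (QuotientGroup.mk g : G ⧸ H) := by
  have hex : ∃ k : G, k * z * k⁻¹ = g * z * g⁻¹ := ⟨g, rfl⟩
  unfold pt
  rw [dif_pos hex]
  have h := hex.choose_spec
  set c := hex.choose
  rw [QuotientGroup.eq]
  apply F.cent
  calc (c⁻¹ * g) * z = c⁻¹ * (g * z * g⁻¹) * g := by group
    _ = c⁻¹ * (c * z * c⁻¹) * g := by rw [h]
    _ = _ := by group

omit F in
theorem smul_mk_eq (d b : G) :
    d • (QuotientGroup.mk b : G ⧸ H) = QuotientGroup.mk b ↔ b⁻¹ * d * b ∈ H := by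
  rw [MulAction.Quotient.smul_mk, eq_comm, QuotientGroup.eq, smul_eq_mul, mul_assoc]

theorem fix {d : G} (hd : d ∈ cl z) (a : G ⧸ H) : d • a = a ↔ a = pt H z d := by
  obtain ⟨g, rfl⟩ := hd
  rw [pt_eq F]
  induction a using QuotientGroup.induction_on with
  | H b =>
    rw [smul_mk_eq, QuotientGroup.eq]
    have e : b⁻¹ * (g * z * g⁻¹) * b = (b⁻¹ * g) * z * (b⁻¹ * g)⁻¹ := by group
    rw [e]
    constructor
    · exact P F
    · intro h
      exact H.mul_mem (H.mul_mem h (zH F)) (H.inv_mem h)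

/-- `x` fixes the point of `d` if it commutes with `d` -/
theorem pt_comm {d : G} (hd : d ∈ cl z) {g : G} (h : g * d = d * g) :
    g • pt H z d = pt H z d := by
  rw [← fix F hd, ← mul_smul, ← h, mul_smul, (fix F hd _).2 rfl]

/-! ### The group `C_G(x)` -/

omit F in
/-- the fixed points of `x` -/
abbrev FixX (H : Subgroup G) (x : G) : Type _ := {a : G ⧸ H // x • a = a}

omit F in
/-- the centralizer of `x` -/
abbrev CX (x : G) : Subgroup G := Subgroup.centralizer ({x} : Set G)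

omit F in
theorem mem_CX {g : G} : g ∈ CX x ↔ g * x = x * g := by
  rw [Subgroup.mem_centralizer_iff]
  simp only [Set.mem_singleton_iff, forall_eq]
  exact eq_comm

omit F in
noncomputable instance actX : MulAction (CX x) (FixX H x) where
  smul g a := ⟨(g : G) • a.1, by
    have h : (g : G) * x = x * g := mem_CX.1 g.2
    rw [← mul_smul, ← h, mul_smul, a.2]⟩
  one_smul a := Subtype.ext (one_smul G a.1)
  mul_smul g h a := Subtype.ext (mul_smul (g : G) (h : G) a.1)

omit F in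
theorem val_smul (g : CX x) (a : FixX H x) : (g • a).1 = (g : G) • a.1 := rfl

theorem base_fix : x • (QuotientGroup.mk 1 : G ⧸ H) = QuotientGroup.mk 1 := by
  rw [smul_mk_eq]
  simpa using xH F

open Classical in
/-- the point of an element of `D ∩ C_G(x)` -/
noncomputable def ptX (d : CX x) : FixX H x :=
  if h : x • pt H z (d : G) = pt H z (d : G) then ⟨pt H z (d : G), h⟩
  else ⟨QuotientGroup.mk 1, base_fix F⟩

theorem ptX_eq {d : CX x} (hd : (d : G) ∈ cl z) : (ptX F d).1 = pt H z (d : G) := by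
  unfold ptX
  rw [dif_pos (pt_comm F hd (mem_CX.1 d.2).symm)]

omit F in
/-- the involutions `d ∈ z^G` commuting with `x` with `d x ∈ x^G` -/
def DX (z x : G) : Set (CX x) := {d | (d : G) ∈ cl z ∧ (d : G) * x ∈ cl x}

theorem hypX : Lite.Hyp (DX z x) (ptX F) where
  sq := by
    rintro d ⟨⟨g, hg⟩, _⟩
    apply Subtype.ext
    show (d : G) * d = 1
    rw [← hg]
    calc (g * z * g⁻¹) * (g * z * g⁻¹) = g * (z * z) * g⁻¹ := by group
      _ = 1 := by rw [F.z_sq]; group
  ne := by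
    rintro d ⟨⟨g, hg⟩, _⟩ h1
    have h2 : g * z * g⁻¹ = 1 := by rw [hg, h1]; rfl
    apply F.z_ne
    have : z = g⁻¹ * (g * z * g⁻¹) * g := by group
    rw [this, h2]; group
  conj := by
    rintro d ⟨h1, h2⟩ g
    refine ⟨cl_conj h1 (g : G), ?_⟩
    have h3 := cl_conj h2 (g : G)
    have h4 : (g : G)⁻¹ * x = x * (g : G)⁻¹ := mem_CX.1 (g⁻¹).2
    have e : (g : G) * ((d : G) * x) * (g : G)⁻¹ = ((g : G) * d * (g : G)⁻¹) * x := by
      calc (g : G) * ((d : G) * x) * (g : G)⁻¹ = (g : G) * (d : G) * (x * (g : G)⁻¹) := by group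
        _ = (g : G) * (d : G) * ((g : G)⁻¹ * x) := by rw [h4]
        _ = _ := by group
    rw [e] at h3
    exact h3
  fix := by
    rintro d ⟨h1, h2⟩ a
    rw [Subtype.ext_iff, Subtype.ext_iff, ptX_eq F h1, val_smul]
    exact fix F h1 a.1
  cent := by
    rintro d ⟨hd1, hd2⟩ e ⟨he1, he2⟩ hne hcomm g hg
    rw [Subtype.ext_iff, val_smul, ptX_eq F hd1]
    obtain ⟨a, ha⟩ := hd1
    rw [← ha, pt_eq F, smul_mk_eq]
    have hdx : (d : G) * x = x * d := mem_CX.1 d.2
    have hex : (e : G) * x = x * e := mem_CX.1 e.2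
    have hgx : (g : G) * x = x * g := mem_CX.1 g.2
    have hde : (d : G) * e = e * d := congrArg Subtype.val hcomm
    have hgd : (g : G) * ((d : G) * e) = ((d : G) * e) * g := congrArg Subtype.val hg
    have hz : a⁻¹ * (d : G) * a = z := by rw [← ha]; group
    -- conjugate everything by `a`
    have hs : a⁻¹ * x * a ∈ cl x := cl_conj' ⟨1, by group⟩ a
    have hsz : (a⁻¹ * x * a) * z = z * (a⁻¹ * x * a) := by
      rw [← hz]; exact comm_conj a hdx.symm
    have hzs : z * (a⁻¹ * x * a) ∈ cl x := by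
      have h := cl_conj' hd2 a
      have e1 : a⁻¹ * ((d : G) * x) * a = (a⁻¹ * (d : G) * a) * (a⁻¹ * x * a) := by group
      rwa [e1, hz] at h
    have hez : (a⁻¹ * (e : G) * a) * z = z * (a⁻¹ * (e : G) * a) := by
      rw [← hz]; exact comm_conj a hde.symm
    have hne' : a⁻¹ * (e : G) * a ≠ z := by
      intro h
      apply hne
      apply Subtype.ext
      rw [← hz] at h
      exact (mul_left_cancel (mul_right_cancel h)).symm
    have hea : (a⁻¹ * (e : G) * a) * (a⁻¹ * x * a) ∈ cl x := by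
      have h := cl_conj' he2 a
      have e1 : a⁻¹ * ((e : G) * x) * a = (a⁻¹ * (e : G) * a) * (a⁻¹ * x * a) := by group
      rwa [e1] at h
    have heH : a⁻¹ * (e : G) * a ∈ H := F.cent _ hez
    have hsH : a⁻¹ * x * a ∈ H := F.cent _ hsz
    have hg1 : (a⁻¹ * (g : G) * a) * (z * (a⁻¹ * (e : G) * a)) =
        (z * (a⁻¹ * (e : G) * a)) * (a⁻¹ * (g : G) * a) := by
      have h := comm_conj a hgd
      have e1 : a⁻¹ * ((d : G) * e) * a = (a⁻¹ * (d : G) * a) * (a⁻¹ * (e : G) * a) := by group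
      rwa [e1, hz] at h
    have hg2 : (a⁻¹ * (g : G) * a) * (a⁻¹ * x * a) = (a⁻¹ * x * a) * (a⁻¹ * (g : G) * a) :=
      comm_conj a hgx
    rcases key F hs hsz hzs (cl_conj' he1 a) hez hne' (comm_conj a hex) hea with h1 | h1
    · exact cent_z F h1 (H.mul_mem (zH F) heH) hg1
    · refine cent_z F h1 (H.mul_mem (zH F) (H.mul_mem heH hsH)) ?_
      rw [← mul_assoc z, ← mul_assoc, hg1, mul_assoc, hg2, ← mul_assoc]

omit F in
theorem transX (F : Facts H Q z x) (a : FixX H x) :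
    ∃ g : CX x, g • (⟨QuotientGroup.mk 1, base_fix F⟩ : FixX H x) = a := by
  obtain ⟨a, ha⟩ := a
  induction a using QuotientGroup.induction_on with
  | H b =>
    have h1 : b⁻¹ * x * b ∈ H := (smul_mk_eq x b).1 ha
    obtain ⟨h, hh, e⟩ := x_in F (cl_conj' ⟨1, by group⟩ b) h1
    have hmem : b * h ∈ CX x := by
      rw [mem_CX]
      calc (b * h) * x = b * (h * x * h⁻¹) * h := by group
        _ = b * (b⁻¹ * x * b) * h := by rw [e]
        _ = _ := by group
    refine ⟨⟨b * h, hmem⟩, ?_⟩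
    apply Subtype.ext
    show (b * h) • (QuotientGroup.mk 1 : G ⧸ H) = QuotientGroup.mk b
    rw [MulAction.Quotient.smul_mk, QuotientGroup.eq, smul_eq_mul]
    have : (b * h * 1)⁻¹ * b = h⁻¹ := by group
    rw [this]
    exact H.inv_mem hh

omit F in
theorem z_mem_DX (F : Facts H Q z x) : ∃ hz : z ∈ CX x, (⟨z, hz⟩ : CX x) ∈ DX z x ∧
    ptX F ⟨z, hz⟩ = ⟨QuotientGroup.mk 1, base_fix F⟩ := by
  have hzx : z ∈ CX x := by rw [mem_CX]; exact (F.zc x F.xQ).symm
  have hzc : z ∈ cl z := ⟨1, by group⟩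
  refine ⟨hzx, ⟨hzc, ?_⟩, ?_⟩
  · obtain ⟨r, hr, e⟩ := F.fuse x F.xQ F.x_ne (fun h => F.not_conj 1 (by rw [h]; group))
    exact ⟨r, e⟩
  · apply Subtype.ext
    rw [ptX_eq F hzc]
    show pt H z z = _
    have h := pt_eq F (1 : G)
    have e : (1 : G) * z * 1⁻¹ = z := by group
    rwa [e] at h

theorem oddX [Finite G] (a : FixX H x) :
    Odd (Nat.card {d : CX x // d ∈ DX z x ∧ ptX F d = a}) := by
  obtain ⟨hzx, hzD, hzp⟩ := z_mem_DX F
  refine odd_all (hypX F) (transX F) ?_ a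
  refine odd_base (hypX F) (Q.subgroupOf (CX x)) ?_ ?_ hzD hzp ?_ ?_
  · have := F.two
    exact IsPGroup.comap_subtype this
  · intro g hg
    apply Subtype.ext
    rw [val_smul]
    show (g : G) • (QuotientGroup.mk 1 : G ⧸ H) = QuotientGroup.mk 1
    rw [smul_mk_eq]
    have : (g : G) ∈ H := QH F (Subgroup.mem_subgroupOf.1 hg)
    simpa using this
  · intro g hg
    apply Subtype.ext
    exact F.zc g (Subgroup.mem_subgroupOf.1 hg)
  · rintro d ⟨hd1, hd2⟩ hpd hc
    apply Subtype.ext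
    show (d : G) = z
    have hdz : (d : G) * z = z * d := by
      have := congrArg Subtype.val (hc ⟨z, hzx⟩ (Subgroup.mem_subgroupOf.2 F.zQ))
      exact this.symm
    rcases F.perp d hdz (fun q hq hqx => by
      have := congrArg Subtype.val (hc ⟨q, mem_CX.2 hqx⟩ (Subgroup.mem_subgroupOf.2 hq))
      exact this.symm) with h | h | h | h
    · exact ((hypX F).ne d ⟨hd1, hd2⟩ (Subtype.ext h)).elim
    · exact h
    · exact (disj F hd1 ⟨1, by rw [h]; group⟩).elim
    · exfalso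
      obtain ⟨r, hr, e⟩ := F.fuse x F.xQ F.x_ne (fun h => F.not_conj 1 (by rw [h]; group))
      refine disj F hd1 ⟨r, ?_⟩
      rw [h, e]

/-- **Step X**: the centralizer of `x` is in `H`. -/
theorem stepX [Finite G] {g : G} (hg : g * x = x * g) : g ∈ H := by
  by_contra hgH
  obtain ⟨hzx, hzD, hzp⟩ := z_mem_DX F
  -- a point different from the base point
  have hca : (⟨g, mem_CX.2 hg⟩ : CX x) • (⟨QuotientGroup.mk 1, base_fix F⟩ : FixX H x) ≠
      ⟨QuotientGroup.mk 1, base_fix F⟩ := by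
    intro h
    apply hgH
    have h1 := congrArg Subtype.val h
    rw [val_smul] at h1
    have h2 := (smul_mk_eq g 1).1 h1
    simpa using h2
  -- the element `w` of `z^G` commuting with `x` with `w x ∈ z^G`
  obtain ⟨h, hh, hs, k, hk, ek⟩ := F.ex
  set w := h⁻¹ * z * h with hw
  have hwH : w ∈ H := H.mul_mem (H.mul_mem (H.inv_mem hh) (zH F)) hh
  have hwz : w ∈ cl z := cl_conj' ⟨1, by group⟩ h
  have hxe : h⁻¹ * (h * x * h⁻¹) * h = x := by group
  have hwx : w * x = x * w := by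
    have := comm_conj h hs
    rw [hxe] at this
    exact this.symm
  have hwxz : w * x ∈ cl z := by
    have h1 : z * (h * x * h⁻¹) ∈ cl z := ⟨k, ek⟩
    have h2 := cl_conj' h1 h
    have e : h⁻¹ * (z * (h * x * h⁻¹)) * h = (h⁻¹ * z * h) * x := by group
    rwa [e] at h2
  have hwsq : w * w = 1 := by
    rw [hw]
    calc h⁻¹ * z * h * (h⁻¹ * z * h) = h⁻¹ * (z * z) * h := by group
      _ = 1 := by rw [F.z_sq]; group
  have hpt : pt H z w = QuotientGroup.mk 1 := by
    symm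
    rw [← fix F hwz, smul_mk_eq]
    simpa using hwH
  have hW : ∀ b : FixX H x, (⟨w, mem_CX.2 hwx⟩ : CX x) • b = b ↔
      b = ⟨QuotientGroup.mk 1, base_fix F⟩ := by
    intro b
    rw [Subtype.ext_iff, Subtype.ext_iff, val_smul]
    show w • b.1 = b.1 ↔ b.1 = (QuotientGroup.mk 1 : G ⧸ H)
    rw [fix F hwz, hpt]
  obtain ⟨y, hyD, hyw, hyfix⟩ := exists_mem_of_unique_fixed (hypX F) (oddX F)
    (w := (⟨w, mem_CX.2 hwx⟩ : CX x)) (Subtype.ext hwsq) _ hW hca
  -- the kernel
  let K : Subgroup G :=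
    { carrier := {k | k * x = x * k ∧ ∀ a : G ⧸ H, x • a = a → k • a = a}
      one_mem' := ⟨by rw [one_mul, mul_one], fun a _ => one_smul G a⟩
      mul_mem' := by
        rintro a b ⟨h1, h2⟩ ⟨h3, h4⟩
        refine ⟨by rw [mul_assoc, h3, ← mul_assoc, h1, mul_assoc], fun c hc => ?_⟩
        rw [mul_smul, h4 c hc, h2 c hc]
      inv_mem' := by
        rintro a ⟨h1, h2⟩
        refine ⟨?_, fun c hc => ?_⟩
        · have h3 : a⁻¹ * (a * x) * a⁻¹ = a⁻¹ * (x * a) * a⁻¹ := by rw [h1]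
          calc a⁻¹ * x = a⁻¹ * (x * a) * a⁻¹ := by group
            _ = a⁻¹ * (a * x) * a⁻¹ := by rw [h1]
            _ = x * a⁻¹ := by group
        · rw [inv_smul_eq_iff]; exact (h2 c hc).symm }
  have hKmem : ∀ k, k ∈ K ↔ k * x = x * k ∧ ∀ a : G ⧸ H, x • a = a → k • a = a := fun _ => Iff.rfl
  have hK1 : ∀ k ∈ K, k ∈ H ∧ k * x = x * k := by
    intro k hk
    obtain ⟨h1, h2⟩ := (hKmem k).1 hk
    refine ⟨?_, h1⟩
    have h3 := (smul_mk_eq k 1).1 (h2 _ (base_fix F))
    simpa using h3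
  have hK2 : ∀ g ∈ H, g * x = x * g → ∀ k ∈ K, g * k * g⁻¹ ∈ K := by
    intro g _ hgx k hk
    obtain ⟨h1, h2⟩ := (hKmem k).1 hk
    have hgi : g⁻¹ * x = x * g⁻¹ := by
      calc g⁻¹ * x = g⁻¹ * (x * g) * g⁻¹ := by group
        _ = g⁻¹ * (g * x) * g⁻¹ := by rw [hgx]
        _ = _ := by group
    refine (hKmem _).2 ⟨?_, fun a ha => ?_⟩
    · calc g * k * g⁻¹ * x = g * k * (g⁻¹ * x) := by group
        _ = g * (k * x) * g⁻¹ := by rw [hgi]; group
        _ = (g * x) * k * g⁻¹ := by rw [h1]; group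
        _ = _ := by rw [hgx]; group
    · have h3 : x • (g⁻¹ • a) = g⁻¹ • a := by rw [← mul_smul, ← hgi, mul_smul, ha]
      rw [mul_smul, mul_smul, h2 _ h3, smul_inv_smul]
  have hvK : w * (y : G) ∈ K := by
    refine (hKmem _).2 ⟨?_, fun a ha => ?_⟩
    · exact mem_CX.1 ((⟨w, mem_CX.2 hwx⟩ : CX x) * y).2
    · have := congrArg Subtype.val (hyfix ⟨a, ha⟩)
      exact this
  have hxx : (x : G) * x = 1 := F.x_sq
  rcases F.simp K hK1 hK2 with h1 | h1
  · have hyi : (y : G)⁻¹ = y := by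
      have := congrArg Subtype.val ((hypX F).sq y hyD)
      exact inv_eq_of_mul_eq_one_left this
    rcases h1 _ hvK with h2 | h2
    · have h3 : w = y := by
        rw [mul_eq_one_iff_eq_inv] at h2
        rw [h2, hyi]
      have h4 := hyD.2
      rw [← h3] at h4
      exact disj F hwxz h4
    · have h3 : w * x = y := by
        have hyy : (y : G) * y = 1 := congrArg Subtype.val ((hypX F).sq y hyD)
        have h4 : w = x * y := by
          calc w = (w * y) * y := by rw [mul_assoc, hyy, mul_one]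
            _ = x * y := by rw [h2]
        have hyx : (y : G) * x = x * y := mem_CX.1 y.2
        rw [h4, mul_assoc, hyx, ← mul_assoc, hxx, one_mul]
      have h5 : w ∈ cl x := by
        have h4 := hyD.2
        rw [← h3, mul_assoc, hxx, mul_one] at h4
        exact h4
      exact disj F hwz h5
  · -- `z ∈ K` or `z x ∈ K`
    have hzfix : ∀ a : G ⧸ H, x • a = a → z • a = a := by
      intro a ha
      rcases h1 z (zH F) (F.zc x F.xQ).symm with h2 | h2
      · exact ((hKmem _).1 h2).2 a ha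
      · have h3 := ((hKmem _).1 h2).2 a ha
        rw [mul_smul, ha] at h3
        exact h3
    have h3 := ((hypX F).fix _ hzD ((⟨g, mem_CX.2 hg⟩ : CX x) •
      (⟨QuotientGroup.mk 1, base_fix F⟩ : FixX H x))).1 (Subtype.ext (hzfix _
        ((⟨g, mem_CX.2 hg⟩ : CX x) • (⟨QuotientGroup.mk 1, base_fix F⟩ : FixX H x)).2))
    rw [hzp] at h3
    exact hca h3

/-! ### The whole group -/

theorem cent_x [Finite G] {u : G} (hu : u ∈ cl x) (huH : u ∈ H) {g : G} (h : g * u = u * g) :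
    g ∈ H := by
  obtain ⟨k, hk, rfl⟩ := x_in F hu huH
  have h1 : (k⁻¹ * g * k) * x = x * (k⁻¹ * g * k) := by
    calc (k⁻¹ * g * k) * x = k⁻¹ * (g * (k * x * k⁻¹)) * k := by group
      _ = k⁻¹ * ((k * x * k⁻¹) * g) * k := by rw [h]
      _ = _ := by group
  have h2 := H.mul_mem (H.mul_mem hk (stepX F h1)) (H.inv_mem hk)
  have e : k * (k⁻¹ * g * k) * k⁻¹ = g := by group
  rwa [e] at h2

/-- the centralizer in `G` of an involution of `H` is in `H` -/
theorem cent_inv [Finite G] {u : G} (huH : u ∈ H) (h1 : u * u = 1) (h2 : u ≠ 1) {g : G}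
    (h : g * u = u * g) : g ∈ H := by
  rcases F.classes u huH h1 h2 with ⟨k, hk, e⟩ | ⟨k, hk, e⟩
  · exact cent_z F ⟨k, e⟩ huH h
  · exact cent_x F ⟨k, e⟩ huH h

theorem hypG [Finite G] : Lite.Hyp (cl z) (pt H z) where
  sq := by
    rintro d ⟨g, rfl⟩
    calc (g * z * g⁻¹) * (g * z * g⁻¹) = g * (z * z) * g⁻¹ := by group
      _ = 1 := by rw [F.z_sq]; group
  ne := by
    rintro d ⟨g, rfl⟩ h2
    apply F.z_ne
    have : z = g⁻¹ * (g * z * g⁻¹) * g := by group
    rw [this, h2]; group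
  conj := fun d hd g => cl_conj hd g
  fix := fun d hd a => fix F hd a
  cent := by
    rintro d ⟨a, rfl⟩ e he hne hcomm g hg
    rw [pt_eq F, smul_mk_eq]
    have hz : a⁻¹ * (a * z * a⁻¹) * a = z := by group
    have hez : (a⁻¹ * e * a) * z = z * (a⁻¹ * e * a) := by
      have := comm_conj a hcomm.symm
      rwa [hz] at this
    have heH : a⁻¹ * e * a ∈ H := F.cent _ hez
    have hesq : (a⁻¹ * e * a) * (a⁻¹ * e * a) = 1 := by
      obtain ⟨b, rfl⟩ := he
      calc (a⁻¹ * (b * z * b⁻¹) * a) * (a⁻¹ * (b * z * b⁻¹) * a) =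
            (a⁻¹ * b) * (z * z) * (a⁻¹ * b)⁻¹ := by group
        _ = 1 := by rw [F.z_sq]; group
    have hg1 : (a⁻¹ * g * a) * (z * (a⁻¹ * e * a)) = (z * (a⁻¹ * e * a)) * (a⁻¹ * g * a) := by
      have h := comm_conj a hg
      have e1 : a⁻¹ * ((a * z * a⁻¹) * e) * a = z * (a⁻¹ * e * a) := by group
      rwa [e1] at h
    refine cent_inv F (H.mul_mem (zH F) heH) ?_ ?_ hg1
    · calc z * (a⁻¹ * e * a) * (z * (a⁻¹ * e * a)) =
            z * ((a⁻¹ * e * a) * z) * (a⁻¹ * e * a) := by group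
        _ = (z * z) * ((a⁻¹ * e * a) * (a⁻¹ * e * a)) := by rw [hez]; group
        _ = 1 := by rw [F.z_sq, hesq, one_mul]
    · intro h1
      apply hne
      have h2 : z = a⁻¹ * e * a := by
        calc z = z * ((a⁻¹ * e * a) * (a⁻¹ * e * a)) := by rw [hesq, mul_one]
          _ = (z * (a⁻¹ * e * a)) * (a⁻¹ * e * a) := by group
          _ = a⁻¹ * e * a := by rw [h1, one_mul]
      rw [h2]; group

theorem oddG [Finite G] (a : G ⧸ H) : Odd (Nat.card {d : G // d ∈ cl z ∧ pt H z d = a}) := by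
  have hzp : pt H z z = (QuotientGroup.mk 1 : G ⧸ H) := by
    have h := pt_eq F (1 : G)
    have e : (1 : G) * z * 1⁻¹ = z := by group
    rwa [e] at h
  refine odd_all (hypG F) (a0 := (QuotientGroup.mk 1 : G ⧸ H)) ?_ ?_ a
  · intro b
    induction b using QuotientGroup.induction_on with
    | H b =>
      refine ⟨b, ?_⟩
      rw [MulAction.Quotient.smul_mk, smul_eq_mul, mul_one]
  · refine odd_base (hypG F) Q F.two ?_ ⟨1, by group⟩ hzp F.zc ?_
    · intro g hg
      rw [smul_mk_eq]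
      simpa using QH F hg
    · intro d hd _ hc
      rcases centQ F hc with h | h
      · exact ((hypG F).ne d hd h).elim
      · exact h

/-- **The closing theorem.** -/
theorem eq_top [Finite G] [IsSimpleGroup G] : H = ⊤ := by
  by_contra hH
  obtain ⟨c, hc⟩ : ∃ c : G, c ∉ H := by
    by_contra h
    push Not at h
    exact hH (Subgroup.ext fun g => ⟨fun _ => Subgroup.mem_top _, fun _ => h g⟩)
  have hcore : H.normalCore = ⊥ := by
    rcases (inferInstance : H.normalCore.Normal).eq_bot_or_eq_top with h | h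
    · exact h
    · exact (hH (top_le_iff.1 (h ▸ H.normalCore_le))).elim
  have hmem := Lite.mem_of_unique_fixed (hypG F) (oddG F) (by
      intro v _ hfix
      have : v ∈ H.normalCore := by
        intro g
        have h := (smul_mk_eq v g⁻¹).1 (hfix _)
        rwa [inv_inv] at h
      rw [hcore] at this
      exact Subgroup.mem_bot.1 this)
    (w := x) F.x_sq (QuotientGroup.mk 1 : G ⧸ H) (by
      intro b
      induction b using QuotientGroup.induction_on with
      | H b =>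
        rw [smul_mk_eq, QuotientGroup.eq]
        constructor
        · intro h1
          obtain ⟨h, hh, e⟩ := x_in F (cl_conj' ⟨1, by group⟩ b) h1
          have h2 : (b * h) * x = x * (b * h) := by
            calc (b * h) * x = b * (h * x * h⁻¹) * h := by group
              _ = b * (b⁻¹ * x * b) * h := by rw [e]
              _ = _ := by group
          have h3 := H.mul_mem (stepX F h2) (H.inv_mem hh)
          rw [mul_inv_cancel_right] at h3
          simpa using H.inv_mem h3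
        · intro h1
          have h2 : b ∈ H := by simpa using H.inv_mem h1
          exact H.mul_mem (H.mul_mem (H.inv_mem h2) (xH F)) h2)
    (c := QuotientGroup.mk c) (by
      intro h
      rw [QuotientGroup.eq, mul_one] at h
      exact hc (by simpa using H.inv_mem h))
  exact disj F hmem ⟨1, by group⟩

end

end Cfsg.Agent.MonsterU.Closing
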