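import Cfsg.Agent.MonsterU.Closing
import Cfsg.Agent.MonsterX.MainPack

/-!
# The closing argument for the Monster, from the model

`Inner Q z x` : the facts of `Closing.Facts` which are internal to the group.
`Inner.facts` : transport along an embedding `φ : Γ →* G` with `C_G(φ z) ≤ φ Γ`.
`inner` : the facts for the `196884`-dimensional model, from the two classes of involutions and
`z (d j₁) = d j₁`.
`range_eq_top` : an embedding of the model into a finite simple group `G` with `C_G(φ z) ≤ φ Γ` is onto.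
-/

set_option autoImplicit false

namespace Cfsg.Agent.MonsterU.ClosingModel

open Cfsg.Agent.MonsterU

/-- The internal facts. -/
structure Inner {Γ : Type*} [Group Γ] (Q : Subgroup Γ) (z x : Γ) : Prop where
  z_sq : z * z = 1
  z_ne : z ≠ 1
  x_sq : x * x = 1
  x_ne : x ≠ 1
  zQ : z ∈ Q
  xQ : x ∈ Q
  two : IsPGroup 2 Q
  zc : ∀ q ∈ Q, q * z = z * q
  classes : ∀ u : Γ, u * u = 1 → u ≠ 1 → (∃ h : Γ, h * z * h⁻¹ = u) ∨ ∃ h : Γ, h * x * h⁻¹ = u
  fuse : ∀ q ∈ Q, q ≠ 1 → q ≠ z → ∃ r ∈ Q, r * q * r⁻¹ = z * q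
  out : ∀ h : Γ, (h * x * h⁻¹) * z = z * (h * x * h⁻¹) → h * x * h⁻¹ ∈ Q ∨
    ∃ k : Γ, k * z * k⁻¹ = z * (h * x * h⁻¹)
  ex : ∃ h : Γ, (h * x * h⁻¹) * z = z * (h * x * h⁻¹) ∧ ∃ k : Γ, k * z * k⁻¹ = z * (h * x * h⁻¹)
  perp : ∀ g : Γ, g * z = z * g → (∀ q ∈ Q, q * x = x * q → g * q = q * g) →
    g = 1 ∨ g = z ∨ g = x ∨ g = z * x
  simp : ∀ K : Subgroup Γ, (∀ k ∈ K, k * x = x * k) →
    (∀ g : Γ, g * x = x * g → ∀ k ∈ K, g * k * g⁻¹ ∈ K) →
    (∀ k ∈ K, k = 1 ∨ k = x) ∨ (∀ g : Γ, g * x = x * g → g ∈ K ∨ g * x ∈ K)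
  /-- the order of the centralizer of `x` does not divide the order of the centralizer of `z` -/
  card : ¬ Nat.card (Subgroup.centralizer ({x} : Set Γ)) ∣ Nat.card (Subgroup.centralizer ({z} : Set Γ))

section

variable {Γ G : Type*} [Group Γ] [Group G] {Q : Subgroup Γ} {z x : Γ}

theorem mem_cent_iff {G : Type*} [Group G] {a g : G} :
    g ∈ Subgroup.centralizer ({a} : Set G) ↔ g * a = a * g := by
  rw [Subgroup.mem_centralizer_singleton_iff]

theorem card_cent_conj {G : Type*} [Group G] (a g : G) :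
    Nat.card (Subgroup.centralizer ({g * a * g⁻¹} : Set G)) =
      Nat.card (Subgroup.centralizer ({a} : Set G)) := by
  refine Nat.card_congr ⟨fun k => ⟨g⁻¹ * k.1 * g, ?_⟩, fun k => ⟨g * k.1 * g⁻¹, ?_⟩, fun k => ?_,
    fun k => ?_⟩
  · rw [mem_cent_iff]
    have h := mem_cent_iff.1 k.2
    calc g⁻¹ * k.1 * g * a = g⁻¹ * (k.1 * (g * a * g⁻¹)) * g := by group
      _ = g⁻¹ * ((g * a * g⁻¹) * k.1) * g := by rw [h]
      _ = a * (g⁻¹ * k.1 * g) := by group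
  · rw [mem_cent_iff]
    have h := mem_cent_iff.1 k.2
    calc g * k.1 * g⁻¹ * (g * a * g⁻¹) = g * (k.1 * a) * g⁻¹ := by group
      _ = g * (a * k.1) * g⁻¹ := by rw [h]
      _ = g * a * g⁻¹ * (g * k.1 * g⁻¹) := by group
  · apply Subtype.ext
    show g * (g⁻¹ * k.1 * g) * g⁻¹ = k.1
    group
  · apply Subtype.ext
    show g⁻¹ * (g * k.1 * g⁻¹) * g = k.1
    group

/-- Transport of the facts along an embedding. -/
theorem Inner.facts [Finite G] (I : Inner Q z x) (φ : Γ →* G) (hφ : Function.Injective φ)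
    (hcent : ∀ g : G, g * φ z = φ z * g → g ∈ φ.range) :
    Closing.Facts φ.range (Q.map φ) (φ z) (φ x) where
  z_sq := by rw [← map_mul, I.z_sq, map_one]
  z_ne := fun h => I.z_ne (hφ (by rw [h, map_one]))
  x_sq := by rw [← map_mul, I.x_sq, map_one]
  x_ne := fun h => I.x_ne (hφ (by rw [h, map_one]))
  zQ := ⟨z, I.zQ, rfl⟩
  xQ := ⟨x, I.xQ, rfl⟩
  two := I.two.map φ
  zc := by
    rintro _ ⟨q, hq, rfl⟩
    rw [← map_mul, I.zc q hq, map_mul]
  cent := hcent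
  classes := by
    rintro _ ⟨u, rfl⟩ hu hu1
    have h1 : u * u = 1 := hφ (by rw [map_mul, hu, map_one])
    have h2 : u ≠ 1 := fun h => hu1 (by rw [h, map_one])
    rcases I.classes u h1 h2 with ⟨h, e⟩ | ⟨h, e⟩
    · left
      exact ⟨φ h, ⟨h, rfl⟩, by rw [← e, map_mul, map_mul, map_inv]⟩
    · right
      exact ⟨φ h, ⟨h, rfl⟩, by rw [← e, map_mul, map_mul, map_inv]⟩
  not_conj := by
    intro g e
    apply I.card
    have h1 := card_cent_conj (φ z) g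
    rw [e] at h1
    have h2 : Nat.card (Subgroup.centralizer ({φ z} : Set G)) =
        Nat.card (Subgroup.centralizer ({z} : Set Γ)) := by
      symm
      refine Nat.card_congr (Equiv.ofBijective
        (fun k => ⟨φ k.1, ?_⟩) ⟨?_, ?_⟩)
      · rw [mem_cent_iff, ← map_mul, mem_cent_iff.1 k.2, map_mul]
      · intro a b hab
        exact Subtype.ext (hφ (congrArg Subtype.val hab))
      · rintro ⟨k, hk⟩
        obtain ⟨m, rfl⟩ := hcent k (mem_cent_iff.1 hk)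
        refine ⟨⟨m, ?_⟩, rfl⟩
        rw [mem_cent_iff]
        apply hφ
        rw [map_mul, map_mul]
        exact mem_cent_iff.1 hk
    have h3 : Nat.card (Subgroup.centralizer ({x} : Set Γ)) ∣
        Nat.card (Subgroup.centralizer ({φ x} : Set G)) := by
      have h4 : (Subgroup.centralizer ({x} : Set Γ)).map φ ≤
          Subgroup.centralizer ({φ x} : Set G) := by
        rintro _ ⟨k, hk, rfl⟩
        rw [mem_cent_iff, ← map_mul, mem_cent_iff.1 hk, map_mul]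
      have h5 := Subgroup.card_dvd_of_le h4
      rwa [Subgroup.card_map_of_injective hφ] at h5
    rw [h1, h2] at h3
    exact h3
  fuse := by
    rintro _ ⟨q, hq, rfl⟩ h1 h2
    obtain ⟨r, hr, e⟩ := I.fuse q hq (fun h => h1 (by rw [h, map_one])) (fun h => h2 (by rw [h]))
    exact ⟨φ r, ⟨r, hr, rfl⟩, by rw [← map_mul, ← map_inv, ← map_mul, e, map_mul]⟩
  out := by
    rintro _ ⟨h, rfl⟩ h1
    have h2 : (h * x * h⁻¹) * z = z * (h * x * h⁻¹) := by
      apply hφ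
      simpa only [map_mul, map_inv] using h1
    rcases I.out h h2 with h3 | ⟨k, e⟩
    · left
      exact ⟨_, h3, by rw [map_mul, map_mul, map_inv]⟩
    · right
      refine ⟨φ k, ⟨k, rfl⟩, ?_⟩
      have := congrArg φ e
      simpa only [map_mul, map_inv] using this
  ex := by
    obtain ⟨h, h1, k, e⟩ := I.ex
    refine ⟨φ h, ⟨h, rfl⟩, ?_, φ k, ⟨k, rfl⟩, ?_⟩
    · have := congrArg φ h1
      simpa only [map_mul, map_inv] using this
    · have := congrArg φ e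
      simpa only [map_mul, map_inv] using this
  perp := by
    intro g hg h
    obtain ⟨m, rfl⟩ := hcent g hg
    have h1 : m * z = z * m := by
      apply hφ
      rw [map_mul, map_mul, hg]
    have h2 : ∀ q ∈ Q, q * x = x * q → m * q = q * m := by
      intro q hq hqx
      apply hφ
      rw [map_mul, map_mul]
      exact h (φ q) ⟨q, hq, rfl⟩ (by rw [← map_mul, hqx, map_mul])
    rcases I.perp m h1 h2 with h3 | h3 | h3 | h3
    · left; rw [h3, map_one]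
    · right; left; rw [h3]
    · right; right; left; rw [h3]
    · right; right; right; rw [h3, map_mul]
  simp := by
    intro K hK hn
    have hcomm : ∀ m : Γ, φ m * φ x = φ x * φ m ↔ m * x = x * m := by
      intro m
      rw [← map_mul, ← map_mul]
      exact ⟨fun h => hφ h, fun h => by rw [h]⟩
    rcases I.simp (K.comap φ) (fun k hk => (hcomm k).1 (hK _ hk).2) (by
      intro g hg k hk
      show φ (g * k * g⁻¹) ∈ K
      rw [map_mul, map_mul, map_inv]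
      exact hn (φ g) ⟨g, rfl⟩ ((hcomm g).2 hg) (φ k) hk) with h | h
    · left
      intro k hk
      obtain ⟨m, rfl⟩ := (hK k hk).1
      rcases h m hk with h1 | h1
      · left; rw [h1, map_one]
      · right; rw [h1]
    · right
      rintro _ ⟨g, rfl⟩ hg
      rcases h g ((hcomm g).1 hg) with h1 | h1
      · left; exact h1
      · right
        have : φ (g * x) ∈ K := h1
        rwa [map_mul] at this

/-- An embedding of the model into a finite simple group `G` whose image contains `C_G(z)` is onto. -/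
theorem Inner.range_eq_top [Finite G] [IsSimpleGroup G] (I : Inner Q z x) (φ : Γ →* G)
    (hφ : Function.Injective φ) (hcent : ∀ g : G, g * φ z = φ z * g → g ∈ φ.range) :
    φ.range = ⊤ := Closing.eq_top (I.facts φ hφ hcent)

end

section Model

open Cfsg.Agent.MonsterX.Model Cfsg.Agent.MonsterX.MainBasic Cfsg.Agent.MonsterX.MainTrans
  Cfsg.Agent.MonsterX.MainSimple Cfsg.Agent.MonsterX.MainPack

variable {W : Type} [AddCommGroup W] [Module ℚ W] {M : MData W} {K₀ : Type} [Group K₀]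

theorem perp_aux (hG : MGroup M K₀) (hR : MRep M) (hL : MLat M) (hO : MOrbit M) (hT : MTrans M)
    {g : W ≃ₗ[ℚ] W} (hg : g ∈ M.C) (h : ∀ q ∈ M.Q, q * M.t₀ = M.t₀ * q → g * q = q * g) :
    g = 1 ∨ g = M.z ∨ g = M.t₀ ∨ g = M.z * M.t₀ := by
  refine hR.fix_perp g hg ?_
  rintro _ ⟨k, hk, rfl⟩ hF
  have h1 : M.t₀ (k M.a₀) = k M.a₀ := t₀_perp hR hT ⟨M.j₀, k, hk, by rw [hO.d_j₀]; rfl⟩ hF
  have h2 : (k⁻¹ * M.t₀ * k) * M.t₀ = M.t₀ * (k⁻¹ * M.t₀ * k) := by
    refine comm_t₀ hG hR hL hO hT ?_ ?_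
    · exact M.G.mul_mem (M.G.mul_mem (M.G.inv_mem (C_le hk)) (C_le (hG.Q_le hR.t₀_mem))) (C_le hk)
    · rw [LinearEquiv.mul_apply, LinearEquiv.mul_apply, h1, inv_apply']
  have h3 : (k * M.t₀ * k⁻¹) * M.t₀ = M.t₀ * (k * M.t₀ * k⁻¹) := by
    calc (k * M.t₀ * k⁻¹) * M.t₀ = k * (M.t₀ * (k⁻¹ * M.t₀ * k)) * k⁻¹ := by group
      _ = k * ((k⁻¹ * M.t₀ * k) * M.t₀) * k⁻¹ := by rw [h2]
      _ = _ := by group
  have h4 := h _ (Q_normal hG k hk _ hR.t₀_mem) h3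
  have h5 : (k⁻¹ * g * k) * M.t₀ = M.t₀ * (k⁻¹ * g * k) := by
    calc (k⁻¹ * g * k) * M.t₀ = k⁻¹ * (g * (k * M.t₀ * k⁻¹)) * k := by group
      _ = k⁻¹ * ((k * M.t₀ * k⁻¹) * g) * k := by rw [h4]
      _ = _ := by group
  have h6 := hR.a₀_fix _ (M.C.mul_mem (M.C.mul_mem (M.C.inv_mem hk) hg) hk) h5
  rw [LinearEquiv.mul_apply, LinearEquiv.mul_apply] at h6
  have h7 := congrArg (fun v => k v) h6
  rwa [apply_inv'] at h7

theorem j₁_ne (hG : MGroup M K₀) (hR : MRep M) (hL : MLat M) (hO : MOrbit M) (hT : MTrans M) :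
    M.j₁ ≠ M.j₀ := by
  intro e
  obtain ⟨g, hg, h1, h2⟩ := hT.not_conj
  rw [e, hO.d_j₀] at h1
  obtain ⟨y, hy, _, hy1⟩ := exists_y hG hR
  apply h2 y (hG.Q_le hy)
  have h3 : g * M.t₀ * g⁻¹ = M.t₀ := by
    have := comm_t₀ hG hR hL hO hT hg h1
    rw [this, mul_inv_cancel_right]
  rw [h3, hy1]

/-- `z` commutes with the involution of an axis iff it fixes the axis. -/
theorem comm_z (hG : MGroup M K₀) (hR : MRep M) (hL : MLat M) (hO : MOrbit M) (hT : MTrans M)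
    {k : W ≃ₗ[ℚ] W} (hk : k ∈ M.G) :
    (k * M.t₀ * k⁻¹) * M.z = M.z * (k * M.t₀ * k⁻¹) ↔ M.z (k M.a₀) = k M.a₀ := by
  have hzG : M.z ∈ M.G := C_le (z_mem_C hG)
  have h1 : (k⁻¹ * M.z * k) * M.t₀ = M.t₀ * (k⁻¹ * M.z * k) ↔ (k⁻¹ * M.z * k) M.a₀ = M.a₀ :=
    comm_iff hG hR hL hO hT (M.G.mul_mem (M.G.mul_mem (M.G.inv_mem hk) hzG) hk)
  constructor
  · intro h
    have h2 : (k⁻¹ * M.z * k) * M.t₀ = M.t₀ * (k⁻¹ * M.z * k) := by
      calc (k⁻¹ * M.z * k) * M.t₀ = k⁻¹ * (M.z * (k * M.t₀ * k⁻¹)) * k := by group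
        _ = k⁻¹ * ((k * M.t₀ * k⁻¹) * M.z) * k := by rw [h]
        _ = _ := by group
    have h3 := h1.1 h2
    rw [LinearEquiv.mul_apply, LinearEquiv.mul_apply] at h3
    have h4 := congrArg (fun v => k v) h3
    rwa [apply_inv'] at h4
  · intro h
    have h2 : (k⁻¹ * M.z * k) M.a₀ = M.a₀ := by
      rw [LinearEquiv.mul_apply, LinearEquiv.mul_apply, h, inv_apply']
    have h3 := h1.2 h2
    calc (k * M.t₀ * k⁻¹) * M.z = k * (M.t₀ * (k⁻¹ * M.z * k)) * k⁻¹ := by group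
      _ = k * ((k⁻¹ * M.z * k) * M.t₀) * k⁻¹ := by rw [h3]
      _ = _ := by group

/-- an involution `t_b` outside `Q` commuting with `z` : `b` is in the orbit `j₁` -/
theorem out_aux (hG : MGroup M K₀) (hR : MRep M) (hL : MLat M) (hO : MOrbit M) (hT : MTrans M)
    {k : W ≃ₗ[ℚ] W} (hk : k ∈ M.G) (h : (k * M.t₀ * k⁻¹) * M.z = M.z * (k * M.t₀ * k⁻¹)) :
    k * M.t₀ * k⁻¹ ∈ M.Q ∨ ∃ c ∈ M.C, k M.a₀ = c (M.d M.j₁) := by
  rw [comm_z hG hR hL hO hT hk] at h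
  obtain ⟨j, c, hc, e⟩ := G_X hO hk (S_sub_X hO a₀_mem_S)
  rw [e] at h
  have hz : M.z (M.d j) = M.d j := by
    have h1 := congrArg (fun f : W ≃ₗ[ℚ] W => f (M.d j)) (hG.z_comm c hc)
    simp only [LinearEquiv.mul_apply] at h1
    rw [← h1] at h
    exact c.injective h
  rcases hT.z_d j hz with h1 | h1
  · left
    rw [h1, hO.d_j₀] at e
    rw [conj_eq hG hR hL hO hT hk (C_le hc) e]
    exact Q_normal hG c hc _ hR.t₀_mem
  · right
    exact ⟨c, hc, by rw [e, h1]⟩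

/-- the two classes of involutions and `z (d j₁) = d j₁` give `out` -/
theorem out_model (hG : MGroup M K₀) (hR : MRep M) (hL : MLat M) (hO : MOrbit M) (hT : MTrans M)
    (classes : ∀ u : M.G, u * u = 1 → u ≠ 1 → (∃ h : M.G, h * zG hG * h⁻¹ = u) ∨
      ∃ h : M.G, h * tG hG hR * h⁻¹ = u)
    (h : M.G) (hc : (h * tG hG hR * h⁻¹) * zG hG = zG hG * (h * tG hG hR * h⁻¹)) :
    h * tG hG hR * h⁻¹ ∈ M.Q.subgroupOf M.G ∨
      ∃ k : M.G, k * zG hG * k⁻¹ = zG hG * (h * tG hG hR * h⁻¹) := by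
  have hcW : ((h : W ≃ₗ[ℚ] W) * M.t₀ * (h : W ≃ₗ[ℚ] W)⁻¹) * M.z =
      M.z * ((h : W ≃ₗ[ℚ] W) * M.t₀ * (h : W ≃ₗ[ℚ] W)⁻¹) := congrArg Subtype.val hc
  rcases out_aux hG hR hL hO hT h.2 hcW with h1 | ⟨c, hcC, e1⟩
  · exact Or.inl h1
  have hzz : zG hG * zG hG = 1 := Subtype.ext hG.z_sq
  have htt : tG hG hR * tG hG hR = 1 := Subtype.ext hR.t₀_sq
  set a := h * tG hG hR * h⁻¹ with ha
  have haa : a * a = 1 := by
    rw [ha]
    calc h * tG hG hR * h⁻¹ * (h * tG hG hR * h⁻¹) = h * (tG hG hR * tG hG hR) * h⁻¹ := by group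
      _ = 1 := by rw [htt]; group
  have huu : (zG hG * a) * (zG hG * a) = 1 := by
    calc (zG hG * a) * (zG hG * a) = zG hG * (a * zG hG) * a := by group
      _ = (zG hG * zG hG) * (a * a) := by rw [hc]; group
      _ = 1 := by rw [hzz, haa, one_mul]
  have hu1 : zG hG * a ≠ 1 := by
    intro e
    have e2 : a = zG hG := by
      calc a = zG hG * zG hG * a := by rw [hzz, one_mul]
        _ = zG hG * (zG hG * a) := by group
        _ = zG hG := by rw [e, mul_one]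
    exact z_ne_conj hG hR hL hO hT h.2 (congrArg Subtype.val e2)
  rcases classes _ huu hu1 with h2 | ⟨k, h2⟩
  · exact Or.inr h2
  exfalso
  -- `t_{k a₀} = z t_{h a₀}`
  have h2W : (k : W ≃ₗ[ℚ] W) * M.t₀ * (k : W ≃ₗ[ℚ] W)⁻¹ =
      M.z * ((h : W ≃ₗ[ℚ] W) * M.t₀ * (h : W ≃ₗ[ℚ] W)⁻¹) := congrArg Subtype.val h2
  have hkc : ((k : W ≃ₗ[ℚ] W) * M.t₀ * (k : W ≃ₗ[ℚ] W)⁻¹) * M.z =
      M.z * ((k : W ≃ₗ[ℚ] W) * M.t₀ * (k : W ≃ₗ[ℚ] W)⁻¹) := by
    rw [h2W, mul_assoc, hcW]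
  obtain ⟨g, hg, hg1, hg2⟩ := hT.not_conj
  have hgC : ∀ {c : W ≃ₗ[ℚ] W} (_ : c ∈ M.C) {f : W ≃ₗ[ℚ] W} (_ : f ∈ M.G),
      f M.a₀ = c (M.d M.j₁) → f * M.t₀ * f⁻¹ = c * (g * M.t₀ * g⁻¹) * c⁻¹ := by
    intro c hc f hf e
    rw [conj_eq hG hR hL hO hT hf (M.G.mul_mem (C_le hc) hg) (by
      rw [LinearEquiv.mul_apply, hg1, e])]
    group
  have eh := hgC hcC h.2 e1
  rcases out_aux hG hR hL hO hT k.2 hkc with h3 | ⟨c', hc', e3⟩
  · -- then `t_{h a₀} ∈ Q`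
    have h4 : (h : W ≃ₗ[ℚ] W) * M.t₀ * (h : W ≃ₗ[ℚ] W)⁻¹ ∈ M.Q := by
      have h5 : (h : W ≃ₗ[ℚ] W) * M.t₀ * (h : W ≃ₗ[ℚ] W)⁻¹ =
          M.z * ((k : W ≃ₗ[ℚ] W) * M.t₀ * (k : W ≃ₗ[ℚ] W)⁻¹) := by
        rw [h2W, ← mul_assoc, hG.z_sq, one_mul]
      rw [h5]
      exact M.Q.mul_mem hG.z_mem h3
    apply not_mem_Q hG hR hL hO hT hg (j₁_ne hG hR hL hO hT) hg1
    have h6 : g * M.t₀ * g⁻¹ =
        c⁻¹ * ((h : W ≃ₗ[ℚ] W) * M.t₀ * (h : W ≃ₗ[ℚ] W)⁻¹) * c⁻¹⁻¹ := by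
      rw [eh]
      group
    rw [h6]
    exact Q_normal hG _ (M.C.inv_mem hcC) _ h4
  · have ek := hgC hc' k.2 e3
    rw [ek, eh] at h2W
    apply hg2 (c⁻¹ * c') (M.C.mul_mem (M.C.inv_mem hcC) hc')
    have hzc : c⁻¹ * M.z = M.z * c⁻¹ := hG.z_comm _ (M.C.inv_mem hcC)
    calc (c⁻¹ * c') * (g * M.t₀ * g⁻¹) * (c⁻¹ * c')⁻¹
        = c⁻¹ * (c' * (g * M.t₀ * g⁻¹) * c'⁻¹) * c := by group
      _ = (c⁻¹ * M.z) * (c * (g * M.t₀ * g⁻¹) * c⁻¹) * c := by rw [h2W]; group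
      _ = M.z * c⁻¹ * (c * (g * M.t₀ * g⁻¹) * c⁻¹) * c := by rw [hzc]
      _ = M.z * (g * M.t₀ * g⁻¹) := by group

/-- **The internal facts for the model.** -/
theorem inner (hG : MGroup M K₀) (hR : MRep M) (hL : MLat M) (hO : MOrbit M) (hT : MTrans M)
    (hB : MBaby M) (hz₁ : M.z (M.d M.j₁) = M.d M.j₁)
    (classes : ∀ u : M.G, u * u = 1 → u ≠ 1 → (∃ h : M.G, h * zG hG * h⁻¹ = u) ∨
      ∃ h : M.G, h * tG hG hR * h⁻¹ = u) :
    Inner (M.Q.subgroupOf M.G) (zG hG) (tG hG hR) where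
  z_sq := Subtype.ext hG.z_sq
  z_ne := fun h => hG.z_ne (congrArg Subtype.val h)
  x_sq := Subtype.ext hR.t₀_sq
  x_ne := fun h => hR.t₀_ne (congrArg Subtype.val h)
  zQ := hG.z_mem
  xQ := hR.t₀_mem
  two := (Cfsg.Agent.MonsterX.MainSimple.hyp hG hR hL hO hT).two
  zc := fun q hq => Subtype.ext (hG.z_comm q (hG.Q_le hq))
  classes := classes
  fuse := by
    intro q hq h1 h2
    by_contra hcon
    have hq' : (q : W ≃ₗ[ℚ] W) ∈ M.Q := hq
    rcases hG.Q_center q hq' (by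
      intro y hy
      rcases hG.Q_comm q hq' y hy with h | h
      · exact h
      · exfalso
        apply hcon
        refine ⟨⟨y⁻¹, M.G.inv_mem (C_le (hG.Q_le hy))⟩, M.Q.inv_mem hy, ?_⟩
        apply Subtype.ext
        show y⁻¹ * (q : W ≃ₗ[ℚ] W) * y⁻¹⁻¹ = M.z * q
        rw [inv_inv, mul_assoc, h, ← hG.z_comm _ (hG.Q_le hq')]
        group) with h | h
    · exact h1 (Subtype.ext h)
    · exact h2 (Subtype.ext h)
  out := fun h hc => out_model hG hR hL hO hT classes h hc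
  ex := by
    obtain ⟨g, hg, hg1, hg2⟩ := hT.not_conj
    have h1 : (g * M.t₀ * g⁻¹) * M.z = M.z * (g * M.t₀ * g⁻¹) := by
      rw [comm_z hG hR hL hO hT hg, hg1, hz₁]
    have h2 : ((⟨g, hg⟩ : M.G) * tG hG hR * (⟨g, hg⟩ : M.G)⁻¹) * zG hG =
        zG hG * ((⟨g, hg⟩ : M.G) * tG hG hR * (⟨g, hg⟩ : M.G)⁻¹) := Subtype.ext h1
    refine ⟨⟨g, hg⟩, h2, ?_⟩
    rcases out_model hG hR hL hO hT classes ⟨g, hg⟩ h2 with h3 | h3
    · exact (not_mem_Q hG hR hL hO hT hg (j₁_ne hG hR hL hO hT) hg1 h3).elim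
    · exact h3
  perp := by
    intro g hgz h
    have hgC : (g : W ≃ₗ[ℚ] W) ∈ M.C :=
      (Cfsg.Agent.MonsterX.MainSimple.mem_cent_iff hG hR hL hO hT g).1 (mem_cent_iff.2 hgz)
    rcases perp_aux hG hR hL hO hT hgC (by
      intro q hq hqt
      have := h ⟨q, C_le (hG.Q_le hq)⟩ hq (Subtype.ext hqt)
      exact congrArg Subtype.val this) with h1 | h1 | h1 | h1
    · exact Or.inl (Subtype.ext h1)
    · exact Or.inr (Or.inl (Subtype.ext h1))
    · exact Or.inr (Or.inr (Or.inl (Subtype.ext h1)))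
    · exact Or.inr (Or.inr (Or.inr (Subtype.ext h1)))
  simp := by
    have := G_finite hO
    have hb := babyHyp hG hR hL hO hT hB
    have hs := hb.isSimpleGroup_quot
    intro K hK hn
    have hct : ∀ {g : M.G}, g ∈ Subgroup.centralizer ({tG hG hR} : Set M.G) ↔
        g * tG hG hR = tG hG hR * g := mem_cent_iff
    have hnorm : (K.subgroupOf (Subgroup.centralizer ({tG hG hR} : Set M.G))).Normal := by
      refine ⟨fun k hk g => ?_⟩
      exact hn g (hct.1 g.2) k hk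
    have hmn : ((K.subgroupOf (Subgroup.centralizer ({tG hG hR} : Set M.G))).map hb.pr).Normal :=
      hnorm.map hb.pr hb.pr_surj
    rcases hmn.eq_bot_or_eq_top with h | h
    · left
      intro k hk
      have h1 : hb.pr ⟨k, hct.2 (hK k hk)⟩ = 1 := by
        rw [← Subgroup.mem_bot, ← h]
        exact ⟨⟨k, hct.2 (hK k hk)⟩, hk, rfl⟩
      exact hb.pr_eq_one.1 h1
    · right
      intro g hg
      have h1 : hb.pr ⟨g, hct.2 hg⟩ ∈
          (K.subgroupOf (Subgroup.centralizer ({tG hG hR} : Set M.G))).map hb.pr := by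
        rw [h]
        trivial
      obtain ⟨k, hk, e⟩ := h1
      have hk' : (k : M.G) ∈ K := hk
      rcases hb.pr_eq.1 e.symm with h2 | h2
      · left
        have h3 : (k : M.G) = g := h2
        rwa [← h3]
      · right
        have h3 : (k : M.G) = g * tG hG hR := h2
        rwa [← h3]
  card := by
    have h1 : Nat.card (Subgroup.centralizer ({zG hG} : Set M.G)) =
        2 ^ 25 * 4157776806543360000 := by
      rw [← card_C hG]
      refine Nat.card_congr (Equiv.ofBijective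
        (fun x => (⟨(x : M.G), (Cfsg.Agent.MonsterX.MainSimple.mem_cent_iff hG hR hL hO hT _).1 x.2⟩ : M.C)) ⟨?_, ?_⟩)
      · intro a b hab
        apply Subtype.ext
        apply Subtype.ext
        exact congrArg (fun y : M.C => (y : W ≃ₗ[ℚ] W)) hab
      · intro c
        exact ⟨⟨⟨c, C_le c.2⟩, (Cfsg.Agent.MonsterX.MainSimple.mem_cent_iff hG hR hL hO hT _).2 c.2⟩, rfl⟩
    rw [card_cent_t hG hR hL hO hT, h1]
    norm_num

/-- **The closing argument.**  An embedding of the model into a finite simple group whose image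
contains the centralizer of `z` is onto. -/
theorem range_eq_top (hG : MGroup M K₀) (hR : MRep M) (hL : MLat M) (hO : MOrbit M)
    (hT : MTrans M) (hB : MBaby M) (hz₁ : M.z (M.d M.j₁) = M.d M.j₁)
    (classes : ∀ u : M.G, u * u = 1 → u ≠ 1 → (∃ h : M.G, h * zG hG * h⁻¹ = u) ∨
      ∃ h : M.G, h * tG hG hR * h⁻¹ = u)
    {G' : Type*} [Group G'] [Finite G'] [IsSimpleGroup G'] (φ : M.G →* G')
    (hφ : Function.Injective φ)
    (hcent : ∀ g : G', g * φ (zG hG) = φ (zG hG) * g → g ∈ φ.range) : φ.range = ⊤ :=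
  (inner hG hR hL hO hT hB hz₁ classes).range_eq_top φ hφ hcent

end Model

end Cfsg.Agent.MonsterU.ClosingModel
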