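import Cfsg.Agent.CoOneType.SignFacts
import Cfsg.Agent.SporadicStructure.GolayInterp
import Cfsg.Agent.Leech.FrameAux

/-!
# The frame flag of the lattice modulo twice the lattice (uniqueness of the Monster)

`Cong u v` : congruence modulo twice the lattice.  `V1 < V12 < V23` : the subgroups of
`leechLattice` containing twice the lattice which are invariant under the stabiliser `N` of the
standard frame; `V12/V1` is the even cocode and `V23/V12` the code modulo the all-one word.

`pair v c` : the pairing of `V12` with the code; `hw v` : the word of `v ∈ V23`.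
-/

set_option autoImplicit false
open Cfsg

namespace Cfsg.Agent.MonsterU.CoFrame

open Cfsg.Agent.SporadicA.Co0Mono
open Cfsg.Agent.SporadicA.Co1Simple
open Cfsg.Agent.SporadicStructure.Co0Base (e8 e8_coe two_mul_mem four_mul_mem four_dvd_sum_of_mem
  minus3_mem)
open Cfsg.Agent.SporadicStructure.LeechBase (zmod2_cases mem_support₂ red red_apply red_add
  red_sub mem_leech_iff mem_support₂_iff_one)
open Cfsg.Agent.Leech.FrameAux (even_form odd_of_odd)
open Cfsg.Agent.CoOneType.SignFacts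

/-! ### Congruence modulo twice the lattice -/

/-- Congruence modulo twice the lattice. -/
def Cong (u v : leechLattice) : Prop := ∃ w : leechLattice, u = v + (2 : ℕ) • w

theorem Cong.refl (u : leechLattice) : Cong u u := ⟨0, by simp⟩

theorem Cong.symm {u v : leechLattice} (h : Cong u v) : Cong v u := by
  obtain ⟨w, hw⟩ := h
  exact ⟨-w, by rw [hw]; simp⟩

theorem Cong.trans {u v w : leechLattice} (h : Cong u v) (h' : Cong v w) : Cong u w := by
  obtain ⟨a, ha⟩ := h
  obtain ⟨b, hb⟩ := h'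
  exact ⟨b + a, by rw [ha, hb, nsmul_add, add_assoc]⟩

theorem Cong.add {u v u' v' : leechLattice} (h : Cong u v) (h' : Cong u' v') :
    Cong (u + u') (v + v') := by
  obtain ⟨a, rfl⟩ := h
  obtain ⟨b, rfl⟩ := h'
  exact ⟨a + b, by rw [nsmul_add]; abel⟩

theorem Cong.neg_self (u : leechLattice) : Cong (-u) u := ⟨-u, by simp [two_nsmul]⟩

theorem Cong.neg {u v : leechLattice} (h : Cong u v) : Cong (-u) (-v) := by
  obtain ⟨a, rfl⟩ := h
  exact ⟨-a, by simp [two_nsmul]; abel⟩

theorem Cong.sub {u v u' v' : leechLattice} (h : Cong u v) (h' : Cong u' v') :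
    Cong (u - u') (v - v') := by
  rw [sub_eq_add_neg, sub_eq_add_neg]
  exact h.add h'.neg

theorem Cong.smul (g : Co0) {u v : leechLattice} (h : Cong u v) : Cong (g • u) (g • v) := by
  obtain ⟨a, rfl⟩ := h
  exact ⟨g • a, by rw [smul_add, smul_nsmul]⟩

theorem cong_two (w : leechLattice) : Cong ((2 : ℕ) • w) 0 := ⟨w, by simp⟩

theorem Cong.sub_zero {u v : leechLattice} (h : Cong u v) : Cong (u - v) 0 := by
  have := h.sub (Cong.refl v)
  rwa [sub_self] at this

theorem cong_of_sub {u v : leechLattice} (h : Cong (u - v) 0) : Cong u v := by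
  have := h.add (Cong.refl v)
  rwa [sub_add_cancel, zero_add] at this

theorem cong_add_self (u : leechLattice) : Cong (u + u) 0 := ⟨u, by simp [two_nsmul]⟩

theorem cong_iff_coe (u v : leechLattice) :
    Cong u v ↔ ∃ y ∈ leechLattice, ∀ i, (u : GolayPt → ℤ) i = (v : GolayPt → ℤ) i + 2 * y i := by
  constructor
  · rintro ⟨w, hw⟩
    refine ⟨w, w.2, fun i => ?_⟩
    rw [hw]
    show (v : GolayPt → ℤ) i + (2 : ℕ) • (w : GolayPt → ℤ) i = _
    rw [nsmul_eq_mul]; rfl
  · rintro ⟨y, hy, h⟩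
    refine ⟨⟨y, hy⟩, Subtype.ext (funext fun i => ?_)⟩
    rw [h i]
    show _ = (v : GolayPt → ℤ) i + (2 : ℕ) • y i
    rw [nsmul_eq_mul]; rfl

/-! ### The flag -/

/-- Twice the lattice and the class of `8 e_∞`. -/
def V1 : AddSubgroup leechLattice where
  carrier := {v | Cong v 0 ∨ Cong v (e8 none)}
  zero_mem' := Or.inl (Cong.refl 0)
  add_mem' := by
    rintro a b (ha | ha) (hb | hb)
    · left; simpa using ha.add hb
    · right; simpa using ha.add hb
    · right; simpa using ha.add hb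
    · left; exact (ha.add hb).trans (cong_add_self _)
  neg_mem' := by
    rintro a (ha | ha)
    · left; simpa using ha.neg
    · right; exact ha.neg.trans (Cong.neg_self _)

theorem mem_V1 (v : leechLattice) : v ∈ V1 ↔ Cong v 0 ∨ Cong v (e8 none) := Iff.rfl

/-- The vectors with even coordinates, all congruent modulo `4`. -/
def V12 : AddSubgroup leechLattice where
  carrier := {v | (∀ i, (2 : ℤ) ∣ (v : GolayPt → ℤ) i) ∧
    ∀ i j, (4 : ℤ) ∣ (v : GolayPt → ℤ) i - (v : GolayPt → ℤ) j}
  zero_mem' := ⟨fun i => dvd_zero _, fun i j => by simp⟩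
  add_mem' := by
    rintro a b ⟨ha, ha'⟩ ⟨hb, hb'⟩
    refine ⟨fun i => dvd_add (ha i) (hb i), fun i j => ?_⟩
    have h := dvd_add (ha' i j) (hb' i j)
    have e : ((a + b : leechLattice) : GolayPt → ℤ) i - ((a + b : leechLattice) : GolayPt → ℤ) j =
      (a : GolayPt → ℤ) i - (a : GolayPt → ℤ) j + ((b : GolayPt → ℤ) i - (b : GolayPt → ℤ) j) := by
      show (a : GolayPt → ℤ) i + (b : GolayPt → ℤ) i -
        ((a : GolayPt → ℤ) j + (b : GolayPt → ℤ) j) = _
      ring
    rw [e]; exact h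
  neg_mem' := by
    rintro a ⟨ha, ha'⟩
    refine ⟨fun i => (dvd_neg).2 (ha i), fun i j => ?_⟩
    have h := ha' j i
    have e : ((-a : leechLattice) : GolayPt → ℤ) i - ((-a : leechLattice) : GolayPt → ℤ) j =
      (a : GolayPt → ℤ) j - (a : GolayPt → ℤ) i := by
      show -(a : GolayPt → ℤ) i - -(a : GolayPt → ℤ) j = _
      ring
    rw [e]; exact h

/-- The vectors with even coordinates. -/
def V23 : AddSubgroup leechLattice where
  carrier := {v | ∀ i, (2 : ℤ) ∣ (v : GolayPt → ℤ) i}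
  zero_mem' := fun i => dvd_zero _
  add_mem' := by
    rintro a b ha hb i
    exact dvd_add (ha i) (hb i)
  neg_mem' := by
    rintro a ha i
    exact (dvd_neg).2 (ha i)

theorem mem_V12 (v : leechLattice) : v ∈ V12 ↔ (∀ i, (2 : ℤ) ∣ (v : GolayPt → ℤ) i) ∧
    ∀ i j, (4 : ℤ) ∣ (v : GolayPt → ℤ) i - (v : GolayPt → ℤ) j := Iff.rfl

theorem mem_V23 (v : leechLattice) : v ∈ V23 ↔ ∀ i, (2 : ℤ) ∣ (v : GolayPt → ℤ) i := Iff.rfl

theorem mem_V23_of_one {v : leechLattice} {i : GolayPt} (h : (2 : ℤ) ∣ (v : GolayPt → ℤ) i) :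
    v ∈ V23 := by
  rw [mem_V23]
  obtain ⟨z, -, -, hz⟩ := even_form v.2 h
  intro j
  rw [hz j]
  exact dvd_mul_right _ _

theorem coe_e8 (i j : GolayPt) : ((e8 i : leechLattice) : GolayPt → ℤ) j = if j = i then 8 else 0 := by
  rw [e8_coe, Pi.single_apply]

theorem parity (v : leechLattice) (i j : GolayPt) :
    (2 : ℤ) ∣ (v : GolayPt → ℤ) i - (v : GolayPt → ℤ) j := by
  have h := v.2
  rw [mem_leech_iff] at h
  obtain ⟨m, z, -, -, h⟩ := h
  rw [h i, h j]
  omega

theorem two_smul_mem_V12 (w : leechLattice) : (2 : ℕ) • w ∈ V12 := by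
  have e : ∀ i, (((2 : ℕ) • w : leechLattice) : GolayPt → ℤ) i = 2 * (w : GolayPt → ℤ) i := by
    intro i
    show (2 : ℕ) • (w : GolayPt → ℤ) i = _
    rw [nsmul_eq_mul]; rfl
  refine (mem_V12 _).2 ⟨fun i => ?_, fun i j => ?_⟩
  · rw [e]; exact dvd_mul_right _ _
  · rw [e, e]
    have := parity w i j
    omega

theorem e8_mem_V12 (i : GolayPt) : e8 i ∈ V12 := by
  refine (mem_V12 _).2 ⟨fun j => ?_, fun j k => ?_⟩
  · rw [coe_e8]; split_ifs <;> norm_num
  · rw [coe_e8, coe_e8]; split_ifs <;> norm_num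

theorem V1_le_V12 : V1 ≤ V12 := by
  rintro v (⟨w, rfl⟩ | ⟨w, rfl⟩)
  · rw [zero_add]; exact two_smul_mem_V12 w
  · exact V12.add_mem (e8_mem_V12 _) (two_smul_mem_V12 w)

theorem V12_le_V23 : V12 ≤ V23 := fun _ h => h.1

theorem two_smul_mem_V1 (w : leechLattice) : (2 : ℕ) • w ∈ V1 := Or.inl (cong_two w)

theorem e8_mem_V1 : e8 none ∈ V1 := Or.inr (Cong.refl _)

theorem mem_V1_of_cong {u v : leechLattice} (h : Cong u v) (hv : v ∈ V1) : u ∈ V1 := by
  obtain ⟨w, rfl⟩ := h
  exact V1.add_mem hv (two_smul_mem_V1 w)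

theorem mem_V12_of_cong {u v : leechLattice} (h : Cong u v) (hv : v ∈ V12) : u ∈ V12 := by
  obtain ⟨w, rfl⟩ := h
  exact V12.add_mem hv (two_smul_mem_V12 w)

theorem mem_V23_of_cong {u v : leechLattice} (h : Cong u v) (hv : v ∈ V23) : u ∈ V23 := by
  obtain ⟨w, rfl⟩ := h
  exact V23.add_mem hv (V12_le_V23 (two_smul_mem_V12 w))

/-! ### The word of a vector with even coordinates -/

/-- Half of the coordinates, modulo `2`. -/
def hw (v : leechLattice) : GolayPt → ZMod 2 := fun i => (((v : GolayPt → ℤ) i / 2 : ℤ) : ZMod 2)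

theorem hw_apply (v : leechLattice) (i : GolayPt) :
    hw v i = (((v : GolayPt → ℤ) i / 2 : ℤ) : ZMod 2) := rfl

theorem hw_mem {v : leechLattice} (hv : v ∈ V23) : hw v ∈ golayCode := by
  obtain ⟨z, hz, -, h⟩ := even_form v.2 (hv none)
  have : hw v = red z := by
    funext i
    rw [hw_apply, red_apply, h i, Int.mul_ediv_cancel_left _ (by norm_num)]
  rw [this]; exact hz

theorem hw_add {u v : leechLattice} (hu : u ∈ V23) : hw (u + v) = hw u + hw v := by
  funext i
  rw [Pi.add_apply, hw_apply, hw_apply, hw_apply, ← Int.cast_add]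
  congr 1
  show ((u : GolayPt → ℤ) i + (v : GolayPt → ℤ) i) / 2 = _
  rw [Int.add_ediv_of_dvd_left (hu i)]

theorem hw_eq_zero_iff {v : leechLattice} (hv : v ∈ V23) :
    hw v = 0 ↔ ∀ i, (4 : ℤ) ∣ (v : GolayPt → ℤ) i := by
  constructor
  · intro h i
    have h1 := congrFun h i
    rw [hw_apply, Pi.zero_apply, ZMod.intCast_zmod_eq_zero_iff_dvd] at h1
    have h2 := hv i
    push_cast at h1
    omega
  · intro h
    funext i
    rw [hw_apply, Pi.zero_apply, ZMod.intCast_zmod_eq_zero_iff_dvd]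
    have h1 := h i
    push_cast
    omega

theorem mem_V12_iff_hw {v : leechLattice} (hv : v ∈ V23) : v ∈ V12 ↔ hw v = 0 ∨ hw v = 1 := by
  constructor
  · rintro ⟨h, h'⟩
    have hc : ∀ i, hw v i = hw v none := by
      intro i
      rw [hw_apply, hw_apply, ZMod.intCast_eq_intCast_iff_dvd_sub]
      have h1 := h' none i
      have h2 := h none
      have h3 := h i
      push_cast
      omega
    rcases zmod2_cases (hw v none) with h0 | h0
    · left; funext i; rw [hc i, h0]; rfl
    · right; funext i; rw [hc i, h0]; rfl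
  · intro h
    refine (mem_V12 v).2 ⟨hv, fun i j => ?_⟩
    have h1 : hw v i = hw v j := by rcases h with h | h <;> rw [h] <;> rfl
    rw [hw_apply, hw_apply, ZMod.intCast_eq_intCast_iff_dvd_sub] at h1
    have h2 := hv i
    have h3 := hv j
    push_cast at h1
    omega

open Classical in
/-- The vector with coordinate `2` on the word. -/
theorem exists_hw (c : golayCode) : ∃ v ∈ V23, hw v = c := by
  obtain ⟨z, hz, hzc, hs⟩ : ∃ z : GolayPt → ℤ, red z = c ∧ (∀ i, z i = 0 ∨ z i = 1) ∧
      (4 : ℤ) ∣ ∑ i, z i := by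
    refine ⟨fun i => if i ∈ sup c then 1 else 0, ?_, ?_, ?_⟩
    · funext i
      rw [red_apply]
      by_cases h : i ∈ sup c
      · rw [if_pos h, (mem_sup c i).1 h]; rfl
      · rw [if_neg h, (notMem_sup c i).1 h]; rfl
    · intro i
      show (if i ∈ sup c then (1 : ℤ) else 0) = 0 ∨ (if i ∈ sup c then (1 : ℤ) else 0) = 1
      split_ifs <;> simp
    · have h1 : ∑ i, (if i ∈ sup c then (1 : ℤ) else 0) = (sup c).card := by
        rw [Finset.sum_ite_mem, Finset.univ_inter, Finset.sum_const, nsmul_eq_mul, mul_one]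
      rw [h1]
      exact_mod_cast Cfsg.Agent.SporadicStructure.GolayEven.four_dvd_card c.2
  refine ⟨⟨fun i => 2 * z i, two_mul_mem z (by rw [hz]; exact c.2) hs⟩, fun i => ?_, ?_⟩
  · exact dvd_mul_right _ _
  · funext i
    rw [hw_apply]
    show (((2 * z i) / 2 : ℤ) : ZMod 2) = _
    rw [Int.mul_ediv_cancel_left _ (by norm_num)]
    exact congrFun hz i

/-! ### The pairing of `V12` with the code -/

/-- A quarter of the sum of the coordinates on a word, modulo `2`. -/
def pair (v : leechLattice) (c : golayCode) : ZMod 2 :=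
  (((∑ i ∈ sup c, (v : GolayPt → ℤ) i) / 4 : ℤ) : ZMod 2)

theorem four_dvd_sum (v : leechLattice) (c : golayCode) :
    (4 : ℤ) ∣ ∑ i ∈ sup c, (v : GolayPt → ℤ) i := four_dvd_sum_of_mem v.2 (sup_mem c)

theorem pair_eq_zero_iff (v : leechLattice) (c : golayCode) :
    pair v c = 0 ↔ (8 : ℤ) ∣ ∑ i ∈ sup c, (v : GolayPt → ℤ) i := by
  rw [pair, ZMod.intCast_zmod_eq_zero_iff_dvd]
  have := four_dvd_sum v c
  push_cast
  omega

theorem pair_add (u v : leechLattice) (c : golayCode) : pair (u + v) c = pair u c + pair v c := by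
  unfold pair
  rw [← Int.cast_add]
  congr 1
  have h1 : ∑ i ∈ sup c, ((u + v : leechLattice) : GolayPt → ℤ) i =
      ∑ i ∈ sup c, (u : GolayPt → ℤ) i + ∑ i ∈ sup c, (v : GolayPt → ℤ) i := by
    rw [← Finset.sum_add_distrib]; rfl
  rw [h1, Int.add_ediv_of_dvd_left (four_dvd_sum u c)]

theorem pair_zero_left (c : golayCode) : pair 0 c = 0 := by
  rw [pair_eq_zero_iff]
  show (8 : ℤ) ∣ ∑ i ∈ sup c, (0 : ℤ)
  simp

theorem pair_neg (v : leechLattice) (c : golayCode) : pair (-v) c = pair v c := by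
  have h := pair_add (-v) v c
  rw [neg_add_cancel, pair_zero_left] at h
  have key : ∀ a b : ZMod 2, 0 = a + b → a = b := by decide
  exact key _ _ h

theorem pair_sub (u v : leechLattice) (c : golayCode) : pair (u - v) c = pair u c + pair v c := by
  rw [sub_eq_add_neg, pair_add, pair_neg]

theorem pair_two (w : leechLattice) (c : golayCode) : pair ((2 : ℕ) • w) c = 0 := by
  rw [two_nsmul, pair_add]
  have key : ∀ a : ZMod 2, a + a = 0 := by decide
  exact key _

theorem pair_cong {u v : leechLattice} (h : Cong u v) (c : golayCode) : pair u c = pair v c := by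
  obtain ⟨w, rfl⟩ := h
  rw [pair_add, pair_two, add_zero]

theorem pair_e8 (i : GolayPt) (c : golayCode) : pair (e8 i) c = 0 := by
  rw [pair_eq_zero_iff]
  apply Finset.dvd_sum
  intro j _
  rw [coe_e8]; split_ifs <;> norm_num

theorem pair_V1 {v : leechLattice} (hv : v ∈ V1) (c : golayCode) : pair v c = 0 := by
  rcases hv with h | h
  · rw [pair_cong h, pair_zero_left]
  · rw [pair_cong h, pair_e8]

/-- The vector `(-3, 1^23)`. -/
def u0 : leechLattice := ⟨_, minus3_mem none⟩

end Cfsg.Agent.MonsterU.CoFrame
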