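import Cfsg.Agent.MonsterU.CoFrameAct
import Cfsg.Agent.SporadicA.GolayWeight
import Cfsg.Agent.S0358
import Cfsg.Agent.S0363
import Cfsg.Agent.S0366

/-!
# The stabiliser of the frame on the flag: faithfulness and fixed points

* `mem_V12_of_sign` : a vector of `V23` with all sign commutators in `V1` is in `V12`;
* `eq_of_sign_V23` : a sign change acting trivially on `V23/V1` is `±1`;
* `exists_sign_of_trivial` : an element of `N` acting trivially on `V12/V1` is a sign change.
-/

set_option autoImplicit false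
open Cfsg

namespace Cfsg.Agent.MonsterU.CoFrameSep

open Cfsg.Agent.MonsterU.CoFrame
open Cfsg.Agent.MonsterU.CoFrameAct

open Cfsg.Agent.SporadicA
open Cfsg.Agent.SporadicA.Co0Mono
open Cfsg.Agent.SporadicA.Co1Simple
open Cfsg.Agent.SporadicStructure.Co0Base (e8 e8_coe)
open Cfsg.Agent.SporadicStructure.LeechBase (zmod2_cases mem_support₂ red red_apply red_add
  red_sub mem_leech_iff mem_support₂_iff_one support₂_inj)
open Cfsg.Agent.CoOneType.SignFacts

/-- The code contains its dual. -/
theorem mem_code_of_orth (w : GolayPt → ZMod 2)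
    (h : ∀ c : golayCode, ∑ i, w i * (c : GolayPt → ZMod 2) i = 0) : w ∈ golayCode :=
  Cfsg.Agent.SporadicStructure.GolayInterp.mem_golayCode_of_orthogonal w fun c hc => h ⟨c, hc⟩

/-- There is an octad through two given points. -/
theorem exists_octad (p q : GolayPt) : ∃ c : golayCode, wt c = 8 ∧ (c : GolayPt → ZMod 2) p = 1 ∧
    (c : GolayPt → ZMod 2) q = 1 := by
  classical
  obtain ⟨s, hs, hs5⟩ := Finset.exists_superset_card_eq (s := ({p, q} : Finset GolayPt)) (n := 5)
    (by have := Finset.card_le_two (a := p) (b := q); omega)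
    (by decide)
  obtain ⟨b, ⟨hb, hsb⟩, -⟩ := Cfsg.Agent.S0363.result.2 s hs5
  obtain ⟨w, hw, hwb⟩ := hb.1
  have hsup : sup ⟨w, hw⟩ = b := hwb
  refine ⟨⟨w, hw⟩, ?_, ?_, ?_⟩
  · unfold wt; rw [hsup]; exact hb.2
  · rw [← mem_sup, hsup]; exact hsb (hs (by simp))
  · rw [← mem_sup, hsup]; exact hsb (hs (by simp))

/-- A code word of weight less than `8` is zero. -/
theorem eq_zero_of_lt {w : GolayPt → ZMod 2} (hw : w ∈ golayCode) (s : Finset GolayPt)
    (hs : ∀ i, w i ≠ 0 → i ∈ s) (h8 : s.card < 8) : w = 0 := by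
  by_contra h0
  have h1 := GolayWeight.eight_le_weight hw h0
  have h2 : (support₂ w).card ≤ s.card := Finset.card_le_card fun i hi => hs i ((mem_support₂ w i).1 hi)
  omega

/-- The trilinear form of the code. -/
theorem eq_of_triple {b : GolayPt → ZMod 2}
    (h : ∀ c d : golayCode, ∑ i, b i * (c : GolayPt → ZMod 2) i * (d : GolayPt → ZMod 2) i = 0) :
    b = 0 ∨ b = 1 := by
  classical
  by_contra hcon
  push Not at hcon
  obtain ⟨p, hp⟩ : ∃ p, b p = 1 := by
    by_contra hn
    push Not at hn
    apply hcon.1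
    funext i
    exact (zmod2_cases (b i)).resolve_right (hn i)
  obtain ⟨q, hq⟩ : ∃ q, b q = 0 := by
    by_contra hn
    push Not at hn
    apply hcon.2
    funext i
    exact (zmod2_cases (b i)).resolve_left (hn i)
  obtain ⟨c, hc8, hcp, hcq⟩ := exists_octad p q
  have h1 : (fun i => b i * (c : GolayPt → ZMod 2) i) ∈ golayCode := mem_code_of_orth _ (h c)
  have h2 := eq_zero_of_lt h1 ((sup c).erase q) (by
    intro i hi
    rw [Finset.mem_erase]
    refine ⟨?_, ?_⟩
    · rintro rfl
      apply hi
      show b i * _ = 0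
      rw [hq, zero_mul]
    · rw [mem_sup]
      refine (zmod2_cases _).resolve_left fun h0 => hi ?_
      show b i * _ = 0
      rw [h0, mul_zero]) (by
    rw [Finset.card_erase_of_mem ((mem_sup c q).2 hcq)]
    unfold wt at hc8
    omega)
  have h3 := congrFun h2 p
  simp only [hp, hcp, Pi.zero_apply, mul_one] at h3
  exact absurd h3 (by decide)

theorem mem_V12_of_sign {v : leechLattice} (hv : v ∈ V23)
    (h : ∀ c : golayCode, signCo0 c • v - v ∈ V1) : v ∈ V12 := by
  rw [mem_V12_iff_hw hv]
  refine eq_of_triple fun c d => ?_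
  rw [← pair_sign_sub hv]
  exact pair_V1 (h c) d

theorem eq_of_sign_V23 {c : golayCode} (h : ∀ v ∈ V23, signCo0 c • v - v ∈ V1) :
    c = 0 ∨ c = allOne := by
  have h1 := eq_of_triple (b := (c : GolayPt → ZMod 2)) fun b d => by
    obtain ⟨v, hv, hvb⟩ := exists_hw b
    have h2 := pair_sign_sub hv c d
    rw [hvb, pair_V1 (h v hv) d] at h2
    rw [h2]
    exact Finset.sum_congr rfl fun i _ => by ring
  rcases h1 with h1 | h1
  · exact Or.inl (Subtype.ext h1)
  · exact Or.inr (Subtype.ext h1)

/-- A sign change acting trivially on `V12` modulo twice the lattice is `±1`. -/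
theorem eq_of_sign_V12 {c : golayCode} (h : ∀ v ∈ V12, Cong (signCo0 c • v) v) :
    c = 0 ∨ c = allOne :=
  word_of_pair fun v hv => (sign_cong_iff hv c).1 (h v hv)

/-- The elements of `M24` acting trivially on `V12/V1`. -/
theorem perm_eq_one {σ : M24} (h : ∀ v ∈ V12, permCo0 σ • v - v ∈ V1) : σ = 1 := by
  classical
  have key : ∀ i j : GolayPt, i ≠ j → (σ : Equiv.Perm GolayPt) j ≠ i →
      (σ : Equiv.Perm GolayPt) i = i := by
    intro i j hij hji
    by_contra hne
    set w : GolayPt → ZMod 2 := fun k => (if k = (σ : Equiv.Perm GolayPt) i then 1 else 0) +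
      (if k = (σ : Equiv.Perm GolayPt) j then 1 else 0) + (if k = i then 1 else 0) +
      (if k = j then 1 else 0) with hwdef
    have hwc : w ∈ golayCode := by
      apply mem_code_of_orth
      intro c
      have h1 := pair_V1 (h _ (duad_mem i j)) c
      have h2 := pair_perm σ (duad i j) (wordPerm σ⁻¹ c)
      have h3 : wordPerm σ (wordPerm σ⁻¹ c) = c := by
        apply Subtype.ext
        funext k
        rw [wordPerm_apply, wordPerm_apply]
        show (c : GolayPt → ZMod 2) ((σ : Equiv.Perm GolayPt) ((σ : Equiv.Perm GolayPt).symm k)) = _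
        rw [Equiv.apply_symm_apply]
      rw [h3, pair_duad, wordPerm_apply, wordPerm_apply] at h2
      have h4 : ∀ k, ((σ⁻¹ : M24) : Equiv.Perm GolayPt).symm k = (σ : Equiv.Perm GolayPt) k :=
        fun k => rfl
      rw [h4, h4] at h2
      rw [pair_sub, h2, pair_duad] at h1
      have h5 : ∑ k, w k * (c : GolayPt → ZMod 2) k =
          (c : GolayPt → ZMod 2) ((σ : Equiv.Perm GolayPt) i) +
          (c : GolayPt → ZMod 2) ((σ : Equiv.Perm GolayPt) j) +
          ((c : GolayPt → ZMod 2) i + (c : GolayPt → ZMod 2) j) := by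
        simp only [hwdef, add_mul, ite_mul, one_mul, zero_mul, Finset.sum_add_distrib,
          Finset.sum_ite_eq', Finset.mem_univ, if_true]
        ring
      rw [h5]; exact h1
    have h0 := eq_zero_of_lt hwc {(σ : Equiv.Perm GolayPt) i, (σ : Equiv.Perm GolayPt) j, i, j} (by
      intro k hk
      by_contra hkn
      simp only [Finset.mem_insert, Finset.mem_singleton, not_or] at hkn
      apply hk
      simp only [hwdef, if_neg hkn.1, if_neg hkn.2.1, if_neg hkn.2.2.1, if_neg hkn.2.2.2, add_zero])
      (by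
        have := Finset.card_le_four (a := (σ : Equiv.Perm GolayPt) i)
          (b := (σ : Equiv.Perm GolayPt) j) (c := i) (d := j)
        omega)
    have h1 := congrFun h0 i
    simp only [hwdef, if_neg (Ne.symm hne), if_neg (Ne.symm hji), if_neg hij, Pi.zero_apply,
      zero_add, add_zero] at h1
    exact absurd h1 (by decide)
  apply Subtype.ext
  apply Equiv.ext
  intro i
  show (σ : Equiv.Perm GolayPt) i = i
  obtain ⟨j, hj⟩ : ∃ j, j ∉ ({i, (σ : Equiv.Perm GolayPt).symm i} : Finset GolayPt) := by
    by_contra hn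
    push Not at hn
    have h1 : (Finset.univ : Finset GolayPt).card ≤ 2 :=
      (Finset.card_le_card fun x _ => hn x).trans Finset.card_le_two
    rw [Finset.card_univ] at h1
    revert h1; decide
  simp only [Finset.mem_insert, Finset.mem_singleton, not_or] at hj
  refine key i j (Ne.symm hj.1) fun h1 => hj.2 ?_
  rw [← h1, Equiv.symm_apply_apply]

/-- An element of `N` acting trivially on `V12/V1` is a sign change. -/
theorem exists_sign_of_trivial {g : Co0} (hg : g ∈ N) (h : ∀ v ∈ V12, g • v - v ∈ V1) :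
    ∃ c : golayCode, g = signCo0 c := by
  obtain ⟨c, σ, rfl⟩ := exists_sign_perm hg
  refine ⟨c, ?_⟩
  have h1 : σ = 1 := perm_eq_one fun v hv => by
    have h2 := h v hv
    have h3 := sign_sub_mem_V1 (perm_mem_V12 σ hv) c
    rw [mul_smul] at h2
    have h4 := V1.sub_mem h2 h3
    have e : signCo0 c • permCo0 σ • v - v - (signCo0 c • permCo0 σ • v - permCo0 σ • v) =
        permCo0 σ • v - v := by abel
    rwa [e] at h4
  rw [h1, map_one, mul_one]

end Cfsg.Agent.MonsterU.CoFrameSep
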