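import Cfsg.Agent.MonsterX.CertSPl
import Cfsg.Agent.MonsterX.FrameAct

/-!
# The lanes of the allowed frames

`form a b` : the symplectic form of two 24-bit codes, kernel-fast.  `form_codeL`: it is the form `(v, w)/8` modulo 2.

`U1 s`: the lanes of the 98280 short classes orthogonal (modulo 2) to `s`; `U2 s s'` the same for two classes.
`xorP s P`: the planes of the codes `w + s`.
-/

set_option autoImplicit false
set_option maxRecDepth 100000

namespace Cfsg.Agent.MonsterU.CovBase

open Cfsg Cfsg.Agent.Monster.PauliBasic Cfsg.Agent.Monster.PauliClif Cfsg.Agent.Monster.PauliGates Cfsg.Agent.Monster.PauliBits Cfsg.Agent.MonsterX.Lin24 Cfsg.Agent.MonsterX.FrameCover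
  Cfsg.Agent.MonsterX.CertLin Cfsg.Agent.MonsterX.CertSPl Cfsg.Agent.MonsterX.Psi Cfsg.Agent.MonsterX.FrameAct

/-! ### The form on codes -/

/-- Parity of the bits of `x &&& t` below `n`. -/
noncomputable def dotN (x t n : ℕ) : Bool :=
  Nat.rec (motive := fun _ => Bool) false (fun k r => xor r (and (x.testBit k) (t.testBit k))) n

theorem dotN_zero (x t : ℕ) : dotN x t 0 = false := rfl

theorem dotN_succ (x t n : ℕ) : dotN x t (n + 1) = (dotN x t n ^^ (x.testBit n && t.testBit n)) := rfl

/-- The halves interchanged. -/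
def swp (s : ℕ) : ℕ := Nat.lor (Nat.shiftRight s 12) (Nat.shiftLeft (Nat.mod s 4096) 12)

/-- The symplectic form. -/
noncomputable def form (a b : ℕ) : Bool := dotN a (swp b) 24

theorem bxor_mid (a b c d : Bool) : ((a ^^ b) ^^ (c ^^ d)) = ((a ^^ c) ^^ (b ^^ d)) := by
  cases a <;> cases b <;> cases c <;> cases d <;> rfl

theorem dotN_xor_left (x y t n : ℕ) : dotN (x ^^^ y) t n = (dotN x t n ^^ dotN y t n) := by
  induction n with
  | zero => rfl
  | succ n ih =>
    rw [dotN_succ, dotN_succ, dotN_succ, ih, bxor_mid, Nat.testBit_xor]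
    congr 1
    cases x.testBit n <;> cases y.testBit n <;> cases t.testBit n <;> rfl

theorem dotN_xor_right (x t u n : ℕ) : dotN x (t ^^^ u) n = (dotN x t n ^^ dotN x u n) := by
  induction n with
  | zero => rfl
  | succ n ih =>
    rw [dotN_succ, dotN_succ, dotN_succ, ih, bxor_mid, Nat.testBit_xor]
    congr 1
    cases x.testBit n <;> cases u.testBit n <;> cases t.testBit n <;> rfl

theorem swp_eq (s : ℕ) : swp s = (s >>> 12) ||| ((s % 4096) <<< 12) := rfl

theorem testBit_swp {s : ℕ} (hs : s < 2 ^ 24) (k : ℕ) :
    (swp s).testBit k = if k < 12 then s.testBit (k + 12) else if k < 24 then s.testBit (k - 12) else false := by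
  rw [swp_eq, Nat.testBit_or, Nat.testBit_shiftRight, Nat.testBit_shiftLeft,
    show (4096 : ℕ) = 2 ^ 12 by norm_num, Nat.testBit_mod_two_pow]
  have hb : ∀ m, 24 ≤ m → s.testBit m = false := fun m hm =>
    Nat.testBit_lt_two_pow (lt_of_lt_of_le hs (Nat.pow_le_pow_right (by norm_num) hm))
  by_cases h1 : k < 12
  · have : ¬ 12 ≤ k := by omega
    simp [h1, this, Nat.add_comm]
  · by_cases h2 : k < 24
    · have h3 : k - 12 < 12 := by omega
      have h4 : 12 ≤ k := by omega
      simp [h1, h2, h3, h4, hb (12 + k) (by omega)]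
    · have h3 : ¬ k - 12 < 12 := by omega
      simp [h1, h2, h3, hb (12 + k) (by omega)]

theorem swp_xor {a b : ℕ} (ha : a < 2 ^ 24) (hb : b < 2 ^ 24) : swp (a ^^^ b) = swp a ^^^ swp b := by
  apply Nat.eq_of_testBit_eq
  intro k
  rw [Nat.testBit_xor, testBit_swp ha, testBit_swp hb, testBit_swp (Nat.xor_lt_two_pow ha hb)]
  split_ifs <;> simp [Nat.testBit_xor]

theorem form_xor_left (a b c : ℕ) : form (a ^^^ b) c = (form a c ^^ form b c) := dotN_xor_left _ _ _ _

theorem form_xor_right {b c : ℕ} (a : ℕ) (hb : b < 2 ^ 24) (hc : c < 2 ^ 24) :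
    form a (b ^^^ c) = (form a b ^^ form a c) := by
  unfold form
  rw [swp_xor hb hc, dotN_xor_right]

/-! ### Planes -/

/-- Exclusive or of the planes selected by the bits `k, k+1, …` of `t`. -/
noncomputable def selP (t : ℕ) (P : List ℕ) : ℕ → ℕ :=
  List.rec (motive := fun _ => ℕ → ℕ) (fun _ => 0)
    (fun p _ ih k => Nat.xor (cond (t.testBit k) p 0) (ih (Nat.succ k))) P

theorem selP_cons (t p : ℕ) (P : List ℕ) (k : ℕ) :
    selP t (p :: P) k = (cond (t.testBit k) p 0) ^^^ selP t P (k + 1) := rfl

theorem dotN_bottom (x t n : ℕ) :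
    dotN x t (n + 1) = ((x.testBit 0 && t.testBit 0) ^^ dotN (x >>> 1) (t >>> 1) n) := by
  induction n with
  | zero =>
    rw [dotN_succ, dotN_zero, dotN_zero]
    cases x.testBit 0 && t.testBit 0 <;> rfl
  | succ n ih =>
    rw [dotN_succ, ih, dotN_succ, Nat.testBit_shiftRight, Nat.testBit_shiftRight, Nat.add_comm 1 n,
      Bool.xor_assoc]

theorem num_cons (p : ℕ) (P : List ℕ) (i : ℕ) : num (p :: P) i = (p.testBit i).toNat + 2 * num P i := rfl

theorem num_shift (p : ℕ) (P : List ℕ) (i : ℕ) : num (p :: P) i >>> 1 = num P i := by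
  rw [num_cons, Nat.shiftRight_eq_div_pow]
  have : (p.testBit i).toNat ≤ 1 := Bool.toNat_le _
  omega

/-- Bit `i` of the selected plane. -/
theorem testBit_selP (t : ℕ) (P : List ℕ) (k i : ℕ) :
    (selP t P k).testBit i = dotN (num P i) (t >>> k) P.length := by
  induction P generalizing k with
  | nil => exact Nat.zero_testBit i
  | cons p P ih =>
    rw [selP_cons, Nat.testBit_xor, ih (k + 1), List.length_cons, dotN_bottom, num_shift,
      testBit_num_zero, Nat.testBit_shiftRight, Nat.add_zero, ← Nat.shiftRight_add]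
    congr 1
    cases t.testBit k <;> simp

/-- The planes xor `s`, on the lanes of `U`. -/
noncomputable def xorN (U s : ℕ) (P : List ℕ) : ℕ → List ℕ :=
  List.rec (motive := fun _ => ℕ → List ℕ) (fun _ => [])
    (fun p _ ih k => Nat.xor p (cond (s.testBit k) U 0) :: ih (Nat.succ k)) P

theorem xorN_cons (U s p : ℕ) (P : List ℕ) (k : ℕ) :
    xorN U s (p :: P) k = (p ^^^ (cond (s.testBit k) U 0)) :: xorN U s P (k + 1) := rfl

theorem length_xorN (U s : ℕ) (P : List ℕ) (k : ℕ) : (xorN U s P k).length = P.length := by
  induction P generalizing k with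
  | nil => rfl
  | cons p P ih => rw [xorN_cons, List.length_cons, List.length_cons, ih]

theorem testBit_num (P : List ℕ) (i j : ℕ) :
    (num P i).testBit j = (if h : j < P.length then (P[j]).testBit i else false) := by
  induction P generalizing j with
  | nil => simp [show num [] i = 0 from rfl]
  | cons p P ih =>
    cases j with
    | zero => rw [testBit_num_zero]; simp
    | succ j => rw [testBit_num_succ, ih]; simp

theorem num_xorN {U : ℕ} (s : ℕ) (P : List ℕ) (k : ℕ) {i : ℕ} (hi : U.testBit i = true) (j : ℕ) :
    (num (xorN U s P k) i).testBit j = ((num P i).testBit j ^^ (decide (j < P.length) && s.testBit (k + j))) := by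
  induction P generalizing k j with
  | nil => simp [show num (xorN U s [] k) i = 0 from rfl, show num [] i = 0 from rfl]
  | cons p P ih =>
    rw [xorN_cons]
    cases j with
    | zero =>
      rw [testBit_num_zero, testBit_num_zero, Nat.testBit_xor]
      congr 1
      cases h : s.testBit k <;> simp [h, hi]
    | succ j =>
      rw [testBit_num_succ, testBit_num_succ, ih]
      congr 1
      rw [show k + 1 + j = k + (j + 1) by omega]
      simp

/-- The planes of the codes `w + s`, `w` a short class. -/
noncomputable def PX (s : ℕ) : List ℕ := xorN UX s P 0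

theorem length_PX (s : ℕ) : (PX s).length = 24 := by
  unfold PX
  rw [length_xorN, length_P]

theorem num_PX {s : ℕ} (hs : s < 2 ^ 24) {i : ℕ} (hi : UX.testBit i = true) : num (PX s) i = num P i ^^^ s := by
  apply Nat.eq_of_testBit_eq
  intro j
  unfold PX
  rw [num_xorN s P 0 hi j, Nat.testBit_xor, Nat.zero_add, length_P]
  congr 1
  by_cases hj : j < 24
  · simp [hj]
  · rw [Nat.testBit_lt_two_pow (lt_of_lt_of_le hs (Nat.pow_le_pow_right (by norm_num) (by omega)))]
    simp

/-- The lanes of the short classes orthogonal to `s`. -/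
noncomputable def U1 (s : ℕ) : ℕ := Nat.xor UX (Nat.land UX (selP (swp s) P 0))

/-- The lanes of the short classes orthogonal to `s` and `s'`. -/
noncomputable def U2 (s s' : ℕ) : ℕ := Nat.xor (U1 s) (Nat.land (U1 s) (selP (swp s') P 0))

theorem testBit_sel0 (s i : ℕ) : (selP (swp s) P 0).testBit i = form (num P i) s := by
  rw [testBit_selP, length_P, Nat.shiftRight_zero]
  rfl

theorem testBit_U1 (s i : ℕ) : (U1 s).testBit i = (UX.testBit i && !form (num P i) s) := by
  show (UX ^^^ (UX &&& selP (swp s) P 0)).testBit i = _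
  rw [Nat.testBit_xor, Nat.testBit_and, testBit_sel0]
  cases UX.testBit i <;> cases form (num P i) s <;> rfl

theorem testBit_U2 (s s' i : ℕ) :
    (U2 s s').testBit i = (UX.testBit i && !form (num P i) s && !form (num P i) s') := by
  show (U1 s ^^^ (U1 s &&& selP (swp s') P 0)).testBit i = _
  rw [Nat.testBit_xor, Nat.testBit_and, testBit_sel0, testBit_U1]
  cases UX.testBit i <;> cases form (num P i) s <;> cases form (num P i) s' <;> rfl

/-! ### Routing -/

section

variable {K Y : Type*} [Group K] [MulAction K Y] {S : Coded K Y} {L : Subgroup K}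

theorem route1 {st : Steps} (hs : st.All (InL S L)) {r : Reps} (hr : ∀ c ∈ r.codes, c < 2 ^ 24) {s : ℕ}
    (hs' : s < 2 ^ 24) (h : check st r (U1 s) (PX s) = true) {i : ℕ} (hi : UX.testBit i = true)
    (hf : form (num P i) s = false) {p : Y} (hp : S.code p = num P i ^^^ s) :
    ∃ c ∈ r.codes, ∃ l ∈ L, S.code (l • p) = c :=
  route hs hr (length_PX s) h (by rw [testBit_U1, hi, hf]; rfl) (by rw [hp, num_PX hs' hi])

theorem route2 {st : Steps} (hs : st.All (InL S L)) {r : Reps} (hr : ∀ c ∈ r.codes, c < 2 ^ 24) {s s' : ℕ}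
    (hs' : s < 2 ^ 24) (h : check st r (U2 s s') (PX s) = true) {i : ℕ} (hi : UX.testBit i = true)
    (hf : form (num P i) s = false) (hf' : form (num P i) s' = false) {p : Y} (hp : S.code p = num P i ^^^ s) :
    ∃ c ∈ r.codes, ∃ l ∈ L, S.code (l • p) = c :=
  route hs hr (length_PX s) h (by rw [testBit_U2, hi, hf, hf']; rfl) (by rw [hp, num_PX hs' hi])

end

/-! ### Membership in the list of short classes -/

/-- The lanes with code `c`. -/
noncomputable def eqP (c : ℕ) (P : List ℕ) : ℕ → ℕ → ℕ :=
  List.rec (motive := fun _ => ℕ → ℕ → ℕ) (fun _ m => m)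
    (fun p _ ih k m => ih (Nat.succ k) (cond (c.testBit k) (Nat.land m p) (Nat.xor m (Nat.land m p)))) P

theorem testBit_eqP (c : ℕ) (P : List ℕ) (k m i : ℕ) (hm : m.testBit i = true)
    (h : ∀ j < P.length, (num P i).testBit j = c.testBit (k + j)) : (eqP c P k m).testBit i = true := by
  induction P generalizing k m with
  | nil => exact hm
  | cons p P ih =>
    show (eqP c P (k + 1) (cond (c.testBit k) (Nat.land m p) (Nat.xor m (Nat.land m p)))).testBit i = true
    have h0 := h 0 (by simp)
    rw [testBit_num_zero, Nat.add_zero] at h0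
    refine ih (k + 1) _ ?_ ?_
    · cases hc : c.testBit k with
      | false =>
        rw [hc] at h0
        show (m ^^^ (m &&& p)).testBit i = true
        rw [Nat.testBit_xor, Nat.testBit_and, hm, h0]; rfl
      | true =>
        rw [hc] at h0
        show (m &&& p).testBit i = true
        rw [Nat.testBit_and, hm, h0]; rfl
    · intro j hj
      have h1 := h (j + 1) (by simpa using hj)
      rw [testBit_num_succ] at h1
      rw [h1, show k + 1 + j = k + (j + 1) by omega]

/-- Kernel check: `c` is not the code of a short class. -/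
noncomputable def notShort (c : ℕ) : Bool := Nat.beq (eqP c P 0 UX) 0

theorem notShort_sound {c : ℕ} (h : notShort c = true) {i : ℕ} (hi : UX.testBit i = true) : num P i ≠ c := by
  intro e
  have h1 := testBit_eqP c P 0 UX i hi (fun j _ => by rw [e, Nat.zero_add])
  have h2 : eqP c P 0 UX = 0 := Nat.eq_of_beq_eq_true h
  rw [h2, Nat.zero_testBit] at h1
  exact absurd h1 (by simp)

/-- Kernel check: the pairs of the list are `(lane, code)` of short classes, or the code is zero. -/
noncomputable def lanesOK (l : List (ℕ × ℕ)) : Bool :=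
  List.rec (motive := fun _ => Bool) true
    (fun a _ ih => and (or (Nat.beq a.2 0) (and (UX.testBit a.1) (Nat.beq (num P a.1) a.2))) ih) l

theorem lanesOK_sound {l : List (ℕ × ℕ)} (h : lanesOK l = true) {c : ℕ} (hc : c ∈ l.map Prod.snd) :
    c = 0 ∨ ∃ i, UX.testBit i = true ∧ num P i = c := by
  induction l with
  | nil => simp at hc
  | cons a l ih =>
    have h' : and (or (Nat.beq a.2 0) (and (UX.testBit a.1) (Nat.beq (num P a.1) a.2))) (lanesOK l) = true := h
    rw [Bool.and_eq_true, Bool.or_eq_true, Bool.and_eq_true] at h'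
    rw [List.map_cons, List.mem_cons] at hc
    rcases hc with hc | hc
    · rcases h'.1 with h1 | h1
      · exact Or.inl (hc.trans (Nat.eq_of_beq_eq_true h1))
      · exact Or.inr ⟨a.1, h1.1, by rw [hc]; exact Nat.eq_of_beq_eq_true h1.2⟩
    · exact ih h'.2 hc

/-- Kernel check: no element of the list, xor `s`, is the code of a short class. -/
noncomputable def longOK (s : ℕ) (l : List ℕ) : Bool :=
  List.rec (motive := fun _ => Bool) true (fun a _ ih => and (notShort (Nat.xor a s)) ih) l

theorem longOK_sound {s : ℕ} {l : List ℕ} (h : longOK s l = true) {c : ℕ} (hc : c ∈ l) {i : ℕ}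
    (hi : UX.testBit i = true) : num P i ≠ c ^^^ s := by
  induction l with
  | nil => simp at hc
  | cons a l ih =>
    have h' : and (notShort (Nat.xor a s)) (longOK s l) = true := h
    rw [Bool.and_eq_true] at h'
    rcases List.mem_cons.1 hc with rfl | hc
    · exact notShort_sound h'.1 hi
    · exact ih h'.2 hc

/-! ### The form of lattice vectors -/

theorem pn_of {p : B 12 × B 12} {n : ℕ} (h : ∀ k, (pn p).testBit k = n.testBit k) : pn p = n :=
  Nat.eq_of_testBit_eq h

theorem dl_val (i k : Fin 12) : (dl i : B 12) k = if k.val = i.val then 1 else 0 := dl_apply i k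

theorem codeL_bv (j : Fin 24) : codeL (bv j) = lin Mc (2 ^ j.val) := by
  unfold codeL bv
  congr 1
  by_cases h : j.val < 12
  · rw [dif_pos h, psi_vZ]
    apply pn_of
    intro k
    rw [pn_testBit, Nat.testBit_two_pow]
    by_cases h1 : k < 12
    · rw [dif_pos h1]
      show decide ((dl ⟨j.val, h⟩ : B 12) ⟨k, h1⟩ = 1) = _
      rw [dl_val]
      by_cases e : k = j.val
      · simp [e]
      · simp [e, Ne.symm e]
    · rw [dif_neg h1]
      have e : ¬ j.val = k := by omega
      by_cases h2 : k - 12 < 12
      · rw [dif_pos h2]; simp [e]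
      · rw [dif_neg h2]; simp [e]
  · rw [dif_neg h, psi_vX]
    apply pn_of
    intro k
    rw [pn_testBit, Nat.testBit_two_pow]
    by_cases h1 : k < 12
    · rw [dif_pos h1]
      have e : ¬ j.val = k := by omega
      simp [e]
    · rw [dif_neg h1]
      by_cases h2 : k - 12 < 12
      · rw [dif_pos h2]
        show decide ((dl ⟨j.val - 12, _⟩ : B 12) ⟨k - 12, h2⟩ = 1) = _
        rw [dl_val]
        by_cases e : k = j.val
        · simp [e]
        · have e2 : ¬ k - 12 = j.val - 12 := by omega
          simp [e2, Ne.symm e]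
      · rw [dif_neg h2]
        have e : ¬ j.val = k := by
          have := j.2
          omega
        simp [e]

theorem bl_bv (j k : Fin 24) : bl (bv j) (bv k) = if j.val + 12 = k.val ∨ k.val + 12 = j.val then 1 else 0 := by
  unfold bv
  by_cases h : j.val < 12 <;> by_cases h' : k.val < 12
  · rw [dif_pos h, dif_pos h', bl_ZZ, if_neg (by omega)]
  · rw [dif_pos h, dif_neg h', bl_comm, bl_XZ]
    have : ((⟨k.val - 12, by omega⟩ : Fin 12) = ⟨j.val, h⟩) ↔ (j.val + 12 = k.val ∨ k.val + 12 = j.val) := by
      rw [Fin.ext_iff]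
      show k.val - 12 = j.val ↔ _
      omega
    simp only [this]
  · rw [dif_neg h, dif_pos h', bl_XZ]
    have : ((⟨j.val - 12, by omega⟩ : Fin 12) = ⟨k.val, h'⟩) ↔ (j.val + 12 = k.val ∨ k.val + 12 = j.val) := by
      rw [Fin.ext_iff]
      show j.val - 12 = k.val ↔ _
      omega
    simp only [this]
  · rw [dif_neg h, dif_neg h', bl_XX, if_neg (by omega)]

theorem form_bv : allB 24 (fun j => allB 24 fun k =>
    Bool.rec (Bool.rec true false (form (lin Mc (Nat.pow 2 j)) (lin Mc (Nat.pow 2 k))))
      (form (lin Mc (Nat.pow 2 j)) (lin Mc (Nat.pow 2 k)))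
      (or (Nat.beq (Nat.add j 12) k) (Nat.beq (Nat.add k 12) j))) = true := by decide +kernel

theorem dec_add (a b : ZMod 2) : decide (a + b = 1) = (decide (a = 1) ^^ decide (b = 1)) := by
  revert a b; decide

theorem neg_z2 (a : ZMod 2) : -a = a := by revert a; decide

theorem bl_neg_left (v w : leechLattice) : bl (-v) w = bl v w := by
  have h := bl_add_left v (-v) w
  rw [add_neg_cancel, bl_zero_left] at h
  have h2 : bl (-v) w = - bl v w := by
    rw [eq_neg_iff_add_eq_zero, add_comm]; exact h.symm
  rw [h2, neg_z2]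

theorem form_zero_left (a : ℕ) : form 0 a = false := by
  have h := form_xor_left 0 0 a
  rw [Nat.xor_self] at h
  cases hf : form 0 a with
  | false => rfl
  | true => rw [hf] at h; exact absurd h (by decide)

theorem form_zero_right (a : ℕ) : form a 0 = false := by
  have h := form_xor_right a (b := 0) (c := 0) (by norm_num) (by norm_num)
  rw [Nat.xor_self] at h
  cases hf : form a 0 with
  | false => rfl
  | true => rw [hf] at h; exact absurd h (by decide)

/-- The form of two codes is the form of the lattice vectors. -/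
theorem form_codeL (v w : leechLattice) : form (codeL v) (codeL w) = decide (bl v w = 1) := by
  revert w
  refine induction_bv (p := fun v => ∀ w, form (codeL v) (codeL w) = decide (bl v w = 1)) ?_ ?_ ?_ ?_ ?_ v
  · intro w
    rw [codeL_zero, form_zero_left, bl_zero_left]; decide
  · intro v v' h h' w
    rw [codeL_add, form_xor_left, h, h', bl_add_left, dec_add]
  · intro v h w
    rw [codeL_neg, h, bl_neg_left]
  · intro v w
    rw [codeL_two, form_zero_left, bl_two_left]; decide
  · intro j w
    refine induction_bv (p := fun w => form (codeL (bv j)) (codeL w) = decide (bl (bv j) w = 1)) ?_ ?_ ?_ ?_ ?_ w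
    · rw [codeL_zero, form_zero_right, bl_comm, bl_zero_left]; decide
    · intro w w' h h'
      rw [codeL_add, form_xor_right _ (codeL_lt _) (codeL_lt _), h, h', bl_add_right, dec_add]
    · intro w h
      rw [codeL_neg, h, bl_comm _ (-w), bl_neg_left, bl_comm]
    · intro w
      rw [codeL_two, form_zero_right, bl_comm, bl_two_left]; decide
    · intro k
      have h1 := allB_sound (allB_sound form_bv j.val j.2) k.val k.2
      rw [codeL_bv, codeL_bv, bl_bv]
      by_cases h : j.val + 12 = k.val ∨ k.val + 12 = j.val
      · rw [if_pos h]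
        have h2 : or (Nat.beq (Nat.add j.val 12) k.val) (Nat.beq (Nat.add k.val 12) j.val) = true := by
          rcases h with h | h
          · have : Nat.beq (Nat.add j.val 12) k.val = true := by rw [Nat.beq_eq]; exact h
            rw [this]; rfl
          · have : Nat.beq (Nat.add k.val 12) j.val = true := by rw [Nat.beq_eq]; exact h
            rw [this]; cases Nat.beq (Nat.add j.val 12) k.val <;> rfl
        rw [h2] at h1
        exact h1
      · rw [if_neg h]
        have h2 : or (Nat.beq (Nat.add j.val 12) k.val) (Nat.beq (Nat.add k.val 12) j.val) = false := by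
          rw [not_or] at h
          have e1 : Nat.beq (Nat.add j.val 12) k.val = false := by
            cases e : Nat.beq (Nat.add j.val 12) k.val with
            | false => rfl
            | true => exact absurd (Nat.eq_of_beq_eq_true e) h.1
          have e2 : Nat.beq (Nat.add k.val 12) j.val = false := by
            cases e : Nat.beq (Nat.add k.val 12) j.val with
            | false => rfl
            | true => exact absurd (Nat.eq_of_beq_eq_true e) h.2
          rw [e1, e2]; rfl
        rw [h2] at h1
        have h3 : (Bool.rec true false (form (lin Mc (Nat.pow 2 j.val)) (lin Mc (Nat.pow 2 k.val))) : Bool) = true := h1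
        cases hf : form (lin Mc (2 ^ j.val)) (lin Mc (2 ^ k.val)) with
        | false => decide
        | true =>
          exfalso
          have h4 : form (lin Mc (Nat.pow 2 j.val)) (lin Mc (Nat.pow 2 k.val)) = true := hf
          rw [h4] at h3
          exact Bool.noConfusion h3

end Cfsg.Agent.MonsterU.CovBase
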