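import Cfsg.Agent.MonsterX.CertCovB

/-!
# From code equalities to double cosets `D c L`

`Dbl D L c k`: `k ∈ D c L`.  In the concrete model (`K = Conc.C`, `D = Conc.N`, frames = `coded U.ind`) the code of
the frame `(W w)⁻¹ y0` is `icode w`, the code of `W w • y` is `linW w (code y)`; a row `(c, k, h)` with
`linW h (icode c) = icode k`, `W h ∈ L`, gives `W k ∈ N (W c) L` (`dbl_of_row`), and an equality
`code (l • k⁻¹ • y0) = icode w`, `l ∈ L`, gives `k ∈ N (W w) L` (`dbl_of_code`).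
-/

set_option autoImplicit false

namespace Cfsg.Agent.MonsterU.RowGlue

open Cfsg Cfsg.Agent.MonsterX.Space Cfsg.Agent.MonsterX.Conc
open Cfsg.Agent.MonsterX.FrameAct Cfsg.Agent.MonsterX.FrameInst Cfsg.Agent.MonsterX.FrameCover
open Cfsg.Agent.MonsterX.FrameGam Cfsg.Agent.MonsterX.FrameConc Cfsg.Agent.MonsterX.Lin24
open Cfsg.Agent.MonsterX.CertCovB

/-! ### Double cosets -/

section Abstract

variable {Γ : Type*} [Group Γ]

/-- `k ∈ D c L`. -/
def Dbl (D L : Subgroup Γ) (c k : Γ) : Prop := ∃ d ∈ D, ∃ l ∈ L, k = d * c * l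

variable {D L : Subgroup Γ} {c k : Γ}

theorem Dbl.refl (D L : Subgroup Γ) (c : Γ) : Dbl D L c c :=
  ⟨1, D.one_mem, 1, L.one_mem, by rw [one_mul, mul_one]⟩

theorem Dbl.symm (h : Dbl D L c k) : Dbl D L k c := by
  obtain ⟨d, hd, l, hl, rfl⟩ := h
  exact ⟨d⁻¹, D.inv_mem hd, l⁻¹, L.inv_mem hl, by group⟩

theorem Dbl.trans {k' : Γ} (h : Dbl D L c k) (h' : Dbl D L k k') : Dbl D L c k' := by
  obtain ⟨d, hd, l, hl, rfl⟩ := h
  obtain ⟨d', hd', l', hl', rfl⟩ := h'
  exact ⟨d' * d, D.mul_mem hd' hd, l * l', L.mul_mem hl hl', by group⟩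

theorem Dbl.mul_left (h : Dbl D L c k) {d : Γ} (hd : d ∈ D) : Dbl D L c (d * k) :=
  h.trans ⟨d, hd, 1, L.one_mem, by rw [mul_one]⟩

theorem Dbl.mul_right (h : Dbl D L c k) {l : Γ} (hl : l ∈ L) : Dbl D L c (k * l) :=
  h.trans ⟨1, D.one_mem, l, hl, by rw [one_mul]⟩

theorem Dbl.mono {D' L' : Subgroup Γ} (h : Dbl D L c k) (hD : D ≤ D') (hL : L ≤ L') : Dbl D' L' c k := by
  obtain ⟨d, hd, l, hl, e⟩ := h
  exact ⟨d, hD hd, l, hL hl, e⟩

/-- Values on `D`-orbits of vectors: if `L` fixes `b`, then `k b ∈ D (c b)`. -/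
theorem Dbl.smul {W : Type*} [MulAction Γ W] {b : W} (h : Dbl D L c k) (hb : ∀ l ∈ L, l • b = b) :
    ∃ d ∈ D, k • b = d • c • b := by
  obtain ⟨d, hd, l, hl, rfl⟩ := h
  exact ⟨d, hd, by rw [mul_smul, mul_smul, hb l hl]⟩

/-- Transport to a subgroup. -/
theorem Dbl.subgroupOf {G : Subgroup Γ} (hD : D ≤ G) (hL : L ≤ G) {c k : G} (h : Dbl D L (c : Γ) k) :
    Dbl (D.subgroupOf G) (L.subgroupOf G) c k := by
  obtain ⟨d, hd, l, hl, e⟩ := h
  exact ⟨⟨d, hD hd⟩, Subgroup.mem_subgroupOf.2 hd, ⟨l, hL hl⟩, Subgroup.mem_subgroupOf.2 hl, Subtype.ext e⟩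

/-- An equality of frames gives an equality of double cosets. -/
theorem Dbl.of_frame {K : Subgroup Γ} {Y : Type*} [MulAction K Y] {y₀ : Y}
    (hst : ∀ k : K, k • y₀ = y₀ → (k : Γ) ∈ D) {c k l : K} (hl : (l : Γ) ∈ L)
    (h : l • k⁻¹ • y₀ = c⁻¹ • y₀) : Dbl D L (c : Γ) k := by
  have h1 : (c * l * k⁻¹) • y₀ = y₀ := by rw [mul_smul, mul_smul, h, smul_inv_smul]
  refine ⟨((c * l * k⁻¹)⁻¹ : K), D.inv_mem (hst _ h1), l, hl, ?_⟩
  have e : k = (c * l * k⁻¹)⁻¹ * c * l := by group
  exact congrArg (fun x : K => (x : Γ)) e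

end Abstract

/-! ### Words -/

/-- The code of the frame `(W w)⁻¹ y0`. -/
noncomputable def icode (w : List ℕ) : ℕ :=
  List.rec (motive := fun _ => ℕ) 4096 (fun a _ ih => lin (ltci a) ih) w

theorem linW_append (w w' : List ℕ) (v : ℕ) : linW (w ++ w') v = linW w' (linW w v) := by
  induction w generalizing v with
  | nil => rfl
  | cons a w ih =>
    show linW (w ++ w') (lin (ltc a) v) = linW w' (linW w (lin (ltc a) v))
    rw [ih]

/-- All letters are in `C`, kernel-fast. -/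
noncomputable def okW (w : List ℕ) : Bool :=
  List.rec (motive := fun _ => Bool) true (fun a _ ih => and (okC a) ih) w

theorem okW_iff (w : List ℕ) : okW w = true ↔ w.all okC = true := by
  induction w with
  | nil => exact Iff.rfl
  | cons a w ih =>
    show (okC a && okW w) = true ↔ _
    rw [List.all_cons, Bool.and_eq_true, Bool.and_eq_true, ih]

theorem okC_iff {a : ℕ} (h : okC a = true) : a < 44 ∧ (isD a = true ∨ a = 39) := by
  rcases okC_cases h with h | rfl | rfl
  · refine ⟨by omega, ?_⟩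
    by_cases h2 : a = 39
    · exact Or.inr h2
    · exact Or.inl (isD_of_lt (by omega))
  · exact ⟨by norm_num, Or.inl rfl⟩
  · exact ⟨by norm_num, Or.inl rfl⟩

variable {u : leechLattice → V} (U : ULink u)

include U in
theorem W_mem_C {w : List ℕ} (h : w.all okC = true) : W w ∈ C := by
  rw [← prodF_coe U h]
  exact (prodF EC w).2

theorem code_inv {w : List ℕ} (h : w.all okC = true) :
    (coded U.ind).code ((prodF EC w)⁻¹ • (coded U.ind).y0) = icode w := by
  induction w with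
  | nil =>
    show (coded U.ind).code ((1 : C)⁻¹ • (coded U.ind).y0) = 4096
    rw [inv_one, one_smul]
    exact code_y0 U.ind
  | cons a w ih =>
    rw [List.all_cons, Bool.and_eq_true] at h
    show (coded U.ind).code ((prodF EC w * EC a)⁻¹ • (coded U.ind).y0) = lin (ltci a) (icode w)
    rw [mul_inv_rev, mul_smul, U.letters.rep_inv a (okC_iff h.1).1 (okC_iff h.1).2, ih h.2]

/-- The stabiliser of the base frame. -/
theorem stab_N (k : C) (hk : k • (coded U.ind).y0 = (coded U.ind).y0) :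
    (k : V ≃ₗ[ℚ] V) ∈ N := (U.frames.stab k).1 hk

/-- `k ∈ N (W w) L` from the code of a moved frame. -/
theorem dbl_of_code {L : Subgroup (V ≃ₗ[ℚ] V)} {w : List ℕ} (hw : w.all okC = true) {k l : C}
    (hl : (l : V ≃ₗ[ℚ] V) ∈ L) (h : (coded U.ind).code (l • k⁻¹ • (coded U.ind).y0) = icode w) :
    Dbl N L (W w) k := by
  rw [← code_inv U hw] at h
  have h2 := Dbl.of_frame (stab_N U) hl ((coded U.ind).inj _ _ h)
  rwa [prodF_coe U hw] at h2

/-- The check of a row. -/
noncomputable def rowB (c k h : List ℕ) : Bool :=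
  and (and (okW c) (and (okW k) (okW h))) (Nat.beq (linW h (icode c)) (icode k))

include U in
/-- **A row**: `W k ∈ N (W c) L`. -/
theorem dbl_of_row {L : Subgroup (V ≃ₗ[ℚ] V)} {c k h : List ℕ} (hr : rowB c k h = true)
    (hL : W h ∈ L) : Dbl N L (W c) (W k) := by
  unfold rowB at hr
  rw [Bool.and_eq_true, Bool.and_eq_true, Bool.and_eq_true, okW_iff, okW_iff, okW_iff] at hr
  obtain ⟨⟨h1, h2, h3⟩, h4⟩ := hr
  have h5 : (coded U.ind).code (prodF EC h • (prodF EC c)⁻¹ • (coded U.ind).y0) = icode k := by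
    rw [code_word U h3, code_inv U h1]
    exact Nat.eq_of_beq_eq_true h4
  have h6 := dbl_of_code U (L := L) h2 (by rw [prodF_coe U h3]; exact hL) h5
  rw [prodF_coe U h1] at h6
  exact h6.symm

/-! ### Words in the generators of `L` -/

/-- Entry number `i` of a list of words. -/
noncomputable def nthW (gs : List (List ℕ)) : ℕ → List ℕ :=
  List.rec (motive := fun _ => ℕ → List ℕ) (fun _ => [])
    (fun g _ ih i => Nat.rec (motive := fun _ => List ℕ) g (fun j _ => ih j) i) gs

/-- The concatenation of the words with the numbers `H`. -/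
noncomputable def cat (gs : List (List ℕ)) (H : List ℕ) : List ℕ :=
  List.rec (motive := fun _ => List ℕ) [] (fun i _ ih => (nthW gs i) ++ ih) H

/-- The group generated by the words `gs`. -/
def Lw (gs : List (List ℕ)) : Subgroup (V ≃ₗ[ℚ] V) := Subgroup.closure {g | ∃ w ∈ gs, g = W w}

theorem W_mem_Lw {gs : List (List ℕ)} {w : List ℕ} (h : w ∈ gs) : W w ∈ Lw gs :=
  Subgroup.subset_closure ⟨w, h, rfl⟩

theorem nthW_mem (gs : List (List ℕ)) (i : ℕ) : nthW gs i ∈ gs ∨ nthW gs i = [] := by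
  induction gs generalizing i with
  | nil => exact Or.inr rfl
  | cons g gs ih =>
    cases i with
    | zero => exact Or.inl (List.mem_cons_self)
    | succ j =>
      rcases ih j with h | h
      · exact Or.inl (List.mem_cons_of_mem _ h)
      · exact Or.inr h

theorem W_cat_mem (gs : List (List ℕ)) (H : List ℕ) : W (cat gs H) ∈ Lw gs := by
  induction H with
  | nil =>
    show W [] ∈ _
    rw [W_nil]
    exact (Lw gs).one_mem
  | cons i H ih =>
    show W (nthW gs i ++ cat gs H) ∈ _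
    rw [W_append]
    refine (Lw gs).mul_mem ih ?_
    rcases nthW_mem gs i with h | h
    · exact W_mem_Lw h
    · rw [h, W_nil]
      exact (Lw gs).one_mem

/-- Elements fixed by the generators are fixed by the group. -/
theorem Lw_fix {gs : List (List ℕ)} {b : V} (h : ∀ w ∈ gs, W w b = b) : ∀ l ∈ Lw gs, l • b = b := by
  intro l hl
  have h2 : Lw gs ≤ MulAction.stabilizer (V ≃ₗ[ℚ] V) b := by
    unfold Lw
    rw [Subgroup.closure_le]
    rintro _ ⟨w, hw, rfl⟩
    exact h w hw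
  exact h2 hl

include U in
theorem Lw_le {gs : List (List ℕ)} (h : ∀ w ∈ gs, w.all okC = true) : Lw gs ≤ C := by
  unfold Lw
  rw [Subgroup.closure_le]
  rintro _ ⟨w, hw, rfl⟩
  exact W_mem_C U (h w hw)

include U in
/-- **A row** with a product of generators. -/
theorem dbl_of_rowH (gs : List (List ℕ)) {c k H : List ℕ} (hr : rowB c k (cat gs H) = true) :
    Dbl N (Lw gs) (W c) (W k) := dbl_of_row U hr (W_cat_mem gs H)

end Cfsg.Agent.MonsterU.RowGlue
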