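import Cfsg.Agent.MonsterU.CovBase
import Cfsg.Agent.MonsterU.RowGlue

/-!
# From a coverage module to double cosets

`code_smul_xor`, `form_smul`: the elements of `C` act linearly on the codes and preserve the form; frames are not lanes
(`not_onLane_frame`), their code is not zero.  `factor_of`: the conclusion of a coverage module for `x⁻¹ y0` gives
`x ∈ N (W k) L` for one of the words `k`.
-/

set_option autoImplicit false
set_option maxRecDepth 100000

namespace Cfsg.Agent.MonsterU.CovFactor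

open Cfsg Cfsg.Agent.MonsterX.Space Cfsg.Agent.MonsterX.Conc Cfsg.Agent.MonsterX.Psi
open Cfsg.Agent.MonsterX.FrameAct Cfsg.Agent.MonsterX.FrameInst Cfsg.Agent.MonsterX.FrameCover
open Cfsg.Agent.MonsterX.FrameGam Cfsg.Agent.MonsterX.FrameConc Cfsg.Agent.MonsterX.Lin24
open Cfsg.Agent.MonsterX.CertLin Cfsg.Agent.MonsterX.CertSPl Cfsg.Agent.MonsterX.CertCov
open Cfsg.Agent.MonsterX.CertCovB Cfsg.Agent.MonsterU.CovBase Cfsg.Agent.MonsterU.RowGlue

variable {u : leechLattice → V} (U : ULink u)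

/-! ### Linearity -/

theorem exists_A (k : C) : ∃ A : Co0, ∀ v, k • cl U.ind v = cl U.ind (A • v) := by
  obtain ⟨A, hA⟩ := U.ind.ex k
  exact ⟨A, fun v => smul_cl U.ind hA v⟩

theorem code_cl (v : leechLattice) : (coded U.ind).code (cl U.ind v) = codeL v := rfl

/-- The elements of `C` act linearly on the codes. -/
theorem code_smul_xor (k : C) {p q r : Fr U.ind}
    (h : (coded U.ind).code r = (coded U.ind).code p ^^^ (coded U.ind).code q) :
    (coded U.ind).code (k • r) = (coded U.ind).code (k • p) ^^^ (coded U.ind).code (k • q) := by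
  obtain ⟨A, hA⟩ := exists_A U k
  obtain ⟨v, rfl⟩ := cl_surj U.ind p
  obtain ⟨w, rfl⟩ := cl_surj U.ind q
  have hr : r = cl U.ind (v + w) := by
    apply (coded U.ind).inj
    rw [h, code_cl U, code_cl U, code_cl U, codeL_add]
  rw [hr, hA, hA, hA, code_cl U, code_cl U, code_cl U, Cfsg.Agent.LeechMat.Core.co0_smul_add, codeL_add]

/-- The elements of `C` preserve the form of the codes. -/
theorem form_smul (k : C) (p q : Fr U.ind) :
    form ((coded U.ind).code (k • p)) ((coded U.ind).code (k • q)) =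
      form ((coded U.ind).code p) ((coded U.ind).code q) := by
  obtain ⟨A, hA⟩ := exists_A U k
  obtain ⟨v, rfl⟩ := cl_surj U.ind p
  obtain ⟨w, rfl⟩ := cl_surj U.ind q
  rw [hA, hA, code_cl U, code_cl U, code_cl U, code_cl U, form_codeL, form_codeL, bl_smul]

theorem code_smul_eq_zero (k : C) {p : Fr U.ind} (h : (coded U.ind).code (k • p) = 0) :
    (coded U.ind).code p = 0 := by
  have h1 : (coded U.ind).code (k • pt U 0 (by norm_num)) = 0 := by
    have := code_smul_xor U k (p := pt U 0 (by norm_num)) (q := pt U 0 (by norm_num))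
      (r := pt U 0 (by norm_num)) (by rw [code_pt, Nat.xor_self])
    rwa [Nat.xor_self] at this
  have h2 : k • p = k • pt U 0 (by norm_num) := (coded U.ind).inj _ _ (h.trans h1.symm)
  rw [smul_left_cancel_iff] at h2
  rw [h2, code_pt]

/-! ### Frames are not lanes -/

theorem notShort_4096 : notShort 4096 = true := by decide +kernel

theorem not_onLane_y0 : ¬ OnLane U (coded U.ind).y0 := by
  rintro ⟨i, hi, h⟩
  exact notShort_sound notShort_4096 hi h.symm

theorem not_onLane_frame (k : C) : ¬ OnLane U (k • (coded U.ind).y0) := by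
  intro h
  have := onLane_smul U k⁻¹ h
  rw [inv_smul_smul] at this
  exact not_onLane_y0 U this

theorem code_frame_ne_zero (k : C) : (coded U.ind).code (k • (coded U.ind).y0) ≠ 0 := by
  intro h
  have h1 := code_smul_eq_zero U k h
  rw [code_y0 U.ind] at h1
  norm_num at h1

/-! ### The generators -/

/-- A word of the list acts by its columns. -/
theorem inL_gs {gs : List (List ℕ)} {w : List ℕ} {e : ℕ} (hw : w ∈ gs) (hok : okW w = true)
    (he : Nat.beq (evalF ltc w) e = true) : InL (coded U.ind) ((Lw gs).subgroupOf C) e := by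
  have hok' := (okW_iff w).1 hok
  refine ⟨prodF EC w, ?_, ?_⟩
  · rw [Subgroup.mem_subgroupOf, prodF_coe U hok']
    exact W_mem_Lw hw
  · rw [← Nat.eq_of_beq_eq_true he]
    exact rep_word U hok'

/-- A class fixed by the generators is fixed by the group. -/
theorem fix_code {gs : List (List ℕ)} {c : ℕ} (hc : c < 2 ^ 24)
    (h : ∀ w ∈ gs, okW w = true ∧ linW w c = c) :
    ∀ l : C, (l : V ≃ₗ[ℚ] V) ∈ Lw gs → l • pt U c hc = pt U c hc := by
  have key : Lw gs ≤ (MulAction.stabilizer C (pt U c hc)).map C.subtype := by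
    unfold Lw
    rw [Subgroup.closure_le]
    rintro _ ⟨w, hw, rfl⟩
    obtain ⟨h1, h2⟩ := h w hw
    have h1' := (okW_iff w).1 h1
    refine ⟨prodF EC w, ?_, prodF_coe U h1'⟩
    show prodF EC w • pt U c hc = pt U c hc
    apply (coded U.ind).inj
    rw [code_word U h1', code_pt, h2]
  intro l hl
  obtain ⟨l', h1, h2⟩ := key hl
  have : l' = l := Subtype.ext h2
  rw [this] at h1
  exact h1

/-! ### The factorisation -/

/-- **Level 2.** -/
theorem factor_of {L : Subgroup (V ≃ₗ[ℚ] V)} {x : C} {codes : List ℕ} {short : List (ℕ × ℕ)}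
    (hs : lanesOK short = true)
    (h : ∃ c ∈ codes ++ short.map Prod.snd, ∃ l ∈ L.subgroupOf C,
      (coded U.ind).code (l • x⁻¹ • (coded U.ind).y0) = c)
    {P : ℕ → Prop} {k : ℕ → List ℕ} (hk : ∀ c ∈ codes, ∃ i, P i ∧ okW (k i) = true ∧ icode (k i) = c) :
    ∃ i, P i ∧ Dbl N L (W (k i)) x := by
  obtain ⟨c, hc, l, hl, e⟩ := h
  rw [Subgroup.mem_subgroupOf] at hl
  rcases List.mem_append.1 hc with hc | hc
  · obtain ⟨i, h1, h2, h3⟩ := hk c hc
    exact ⟨i, h1, dbl_of_code U ((okW_iff _).1 h2) hl (e.trans h3.symm)⟩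
  · exfalso
    rw [← mul_smul] at e
    rcases lanesOK_sound hs hc with h0 | ⟨i, hi, h1⟩
    · exact code_frame_ne_zero U _ (e.trans h0)
    · exact not_onLane_frame U _ ⟨i, hi, e.trans h1.symm⟩

/-- **Level 3.** -/
theorem factor_of' {L : Subgroup (V ≃ₗ[ℚ] V)} {x : C} {codes : List ℕ} {short : List (ℕ × ℕ)} {long : List ℕ}
    {s' : ℕ} (hs' : s' < 2 ^ 24) (hs : lanesOK short = true) (hl : longOK s' long = true)
    (hfix : ∀ l : C, (l : V ≃ₗ[ℚ] V) ∈ L → l • pt U s' hs' = pt U s' hs')
    {i' : ℕ} (hi' : UX.testBit i' = true) (hx' : (coded U.ind).code (x⁻¹ • (coded U.ind).y0) = num P i' ^^^ s')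
    (h : ∃ c ∈ codes ++ (short.map Prod.snd ++ long), ∃ l ∈ L.subgroupOf C,
      (coded U.ind).code (l • x⁻¹ • (coded U.ind).y0) = c)
    {Q : ℕ → Prop} {k : ℕ → List ℕ} (hk : ∀ c ∈ codes, ∃ i, Q i ∧ okW (k i) = true ∧ icode (k i) = c) :
    ∃ i, Q i ∧ Dbl N L (W (k i)) x := by
  obtain ⟨c, hc, l, hl', e⟩ := h
  rw [← List.append_assoc] at hc
  rcases List.mem_append.1 hc with hc | hc
  · exact factor_of U hs ⟨c, hc, l, hl', e⟩ hk
  · exfalso
    rw [Subgroup.mem_subgroupOf] at hl'
    -- the point with code `code (x⁻¹ y0) + s'` is a lane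
    set p := x⁻¹ • (coded U.ind).y0 with hp
    have hlt : num P i' < 2 ^ 24 := num_P_lt i'
    have h1 : (coded U.ind).code (pt U (num P i') hlt) =
        (coded U.ind).code p ^^^ (coded U.ind).code (pt U s' hs') := by
      rw [code_pt, code_pt, hx', Nat.xor_assoc, Nat.xor_self, Nat.xor_zero]
    have h2 := code_smul_xor U l h1
    rw [hfix l hl', code_pt, e] at h2
    obtain ⟨j, hj, h3⟩ := onLane_smul U l (y := pt U (num P i') hlt) ⟨i', hi', rfl⟩
    exact longOK_sound hl hc hj (h3.symm.trans h2)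

end Cfsg.Agent.MonsterU.CovFactor
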