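import Cfsg.Agent.MonsterU.FactorTwo
import Cfsg.Agent.MonsterU.CovS2A
import Cfsg.Agent.MonsterU.VecLink
import Cfsg.Agent.MonsterU.VecLinkA

/-!
# Coverage of the triples of level 3 of (F)

From the coverage `cov₂` of the pairs `(s', x)`, `F s' x = 1`: the triples `(s, s', x)` with `F s s' = 1`, `F s x = 0`,
`F s' x = 1`, `x ≠ σ s` are in the `C`-orbits of `(a₀, a', VecThree.ct t)` (`hcov`).

* `TwoA`: the elements of `S` with `F s a₀ = 1` are one orbit of the stabiliser of `a₀` (`CovZero.twoA`);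
* `lane`: the code of the class of such an `s` is `w + 6` with a lane `w` orthogonal to `6`;
* `reach`: the coverage modules `CovS*` give a short representative, the inner products give the sign;
* `classB`, `classA`: the representatives with inner product `0`.
-/

set_option autoImplicit false
set_option Elab.async false
set_option maxRecDepth 100000

namespace Cfsg.Agent.MonsterU.CovThree

open Cfsg Cfsg.Agent.MonsterX Cfsg.Agent.MonsterX.Space Cfsg.Agent.MonsterX.Conc Cfsg.Agent.MonsterX.InstData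
open Cfsg.Agent.MonsterX.FrameAct Cfsg.Agent.MonsterX.FrameInst Cfsg.Agent.MonsterX.FrameCover
open Cfsg.Agent.MonsterX.FrameGam Cfsg.Agent.MonsterX.FrameConc Cfsg.Agent.MonsterX.Lin24
open Cfsg.Agent.MonsterX.CertLin Cfsg.Agent.MonsterX.CertSPl Cfsg.Agent.MonsterX.CertCov
open Cfsg.Agent.MonsterX.CertCovB Cfsg.Agent.MonsterX.CertV Cfsg.Agent.MonsterX.InstEval
open Cfsg.Agent.MonsterU.CovBase Cfsg.Agent.MonsterU.RowGlue Cfsg.Agent.MonsterU.CovFactor
open Cfsg.Agent.MonsterU.VecThree (ax2 ct)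
open Cfsg.Agent.MonsterU.VecLink (ax_eq)

/-! ### Hypotheses -/

section

variable {u : leechLattice → V} (U : ULink u)

/-- The elements of `C` fixing the base axis fix its class (`LaneOf.FixLine`). -/
def FixLine : Prop := ∀ h : C, (h : V ≃ₗ[ℚ] V) ax = ax → h • y₁ U = y₁ U

/-- The elements of `C` fixing the class of the base axis (`CertCovD.LineStab`). -/
def LineStab : Prop := ∀ h : C, h • y₁ U = y₁ U →
  (h : V ≃ₗ[ℚ] V) (vecV a0B) = vecV a0B ∨ (h : V ≃ₗ[ℚ] V) (vecV a0B) = vecV a1B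

end

/-- The words of the pairs with inner product `1`. -/
def wA (b : Bool) : List ℕ := [37] ++ (if b then [1] else [])

/-- The axes `s ∈ S` with `F s a₀ = 1` are one orbit of the stabiliser of `a₀` and `σ`. -/
def TwoA : Prop := ∀ g : C, F ((g : V ≃ₗ[ℚ] V) ax) ax = 1 →
  ∃ (b : Bool) (l : C), (l : V ≃ₗ[ℚ] V) ax = ax ∧ (g : V ≃ₗ[ℚ] V) ax = (l : V ≃ₗ[ℚ] V) ((W (wA b))⁻¹ ax)

theorem inv_of {g : V ≃ₗ[ℚ] V} {x y : V} (h : g x = y) : g⁻¹ y = x := by
  rw [← h]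
  exact g.symm_apply_apply x

theorem x1_a1 : W [1] (vecV a1B) = vecV a0B := by
  have h : W [1] (vecV a1B) = W [] (vecV a0B) := W_eq_of_up (n := 0) (by decide +kernel)
  rw [h, W_nil]
  rfl

theorem wA_ok (b : Bool) : (wA b).all okC = true := by cases b <;> rfl

theorem wA_lin (b : Bool) : linW (wA b) 0x82 = 6 := by
  have h : (Nat.beq (linW (wA false) 0x82) 6 && Nat.beq (linW (wA true) 0x82) 6) = true := by decide +kernel
  rw [Bool.and_eq_true] at h
  cases b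
  · exact Nat.eq_of_beq_eq_true h.1
  · exact Nat.eq_of_beq_eq_true h.2

theorem lane_ok : UX.testBit 62508 = true ∧ num P 62508 = 0x84 := by
  have h : (Nat.beq (Nat.land (Nat.shiftRight UX 62508) 1) 1 && Nat.beq (num P 62508) 0x84) = true := by
    decide +kernel
  rw [Bool.and_eq_true] at h
  refine ⟨?_, Nat.eq_of_beq_eq_true h.2⟩
  rw [← tb_eq]
  exact h.1

/-- Kernel check: no element of the list is the code of a short class. -/
noncomputable def notAll (l : List ℕ) : Bool :=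
  List.rec (motive := fun _ => Bool) true (fun a _ ih => and (notShort a) ih) l

theorem notAll_sound {l : List ℕ} (h : notAll l = true) {c : ℕ} (hc : c ∈ l) {i : ℕ} (hi : UX.testBit i = true) :
    num P i ≠ c := by
  induction l with
  | nil => simp at hc
  | cons a l ih =>
    have h' : and (notShort a) (notAll l) = true := h
    rw [Bool.and_eq_true] at h'
    rcases List.mem_cons.1 hc with rfl | hc
    · exact notShort_sound h'.1 hi
    · exact ih h'.2 hc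

/-! ### The lane of an axis -/

section

variable {u : leechLattice → V} (U : ULink u)

/-- The code of the class of `s`, `F s a₀ = 1`. -/
theorem lane (hF : FixLine U) (hA : TwoA) {g : C} (h : F ((g : V ≃ₗ[ℚ] V) ax) ax = 1) :
    ∃ i, UX.testBit i = true ∧ form (num P i) 6 = false ∧ (coded U.ind).code (g • y₁ U) = num P i ^^^ 6 := by
  obtain ⟨b, l, hl, e⟩ := hA g h
  have hw : ((prodF EC (wA b) : C) : V ≃ₗ[ℚ] V) = W (wA b) := prodF_coe U (wA_ok b)
  have e1 : prodF EC (wA b) • pt U 0x82 (by norm_num) = y₁ U := by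
    apply (coded U.ind).inj
    rw [code_word U (wA_ok b), code_pt, wA_lin, code_y₁]
  have e2 : ((prodF EC (wA b) * l⁻¹ * g : C) : V ≃ₗ[ℚ] V) ax = ax := by
    show ((prodF EC (wA b) : C) : V ≃ₗ[ℚ] V) ((l : V ≃ₗ[ℚ] V)⁻¹ ((g : V ≃ₗ[ℚ] V) ax)) = ax
    rw [inv_of e.symm, hw]
    exact (W (wA b)).apply_symm_apply ax
  have e3 := hF _ e2
  rw [mul_smul, mul_smul] at e3
  have e4 : g • y₁ U = l • pt U 0x82 (by norm_num) := by
    have e5 := e3.trans e1.symm
    rw [smul_left_cancel_iff] at e5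
    rw [← e5, smul_inv_smul]
  have h5 : (coded U.ind).code (pt U 0x82 (by norm_num)) =
      (coded U.ind).code (pt U 0x84 (by norm_num)) ^^^ (coded U.ind).code (y₁ U) := by
    rw [code_pt, code_pt, code_y₁]
    rfl
  have h6 := code_smul_xor U l h5
  rw [hF l hl, code_y₁] at h6
  obtain ⟨i, hi, h7⟩ := onLane_smul U l (y := pt U 0x84 (by norm_num)) ⟨62508, lane_ok.1, lane_ok.2.symm⟩
  refine ⟨i, hi, ?_, by rw [e4, h6, h7]⟩
  have h8 := form_smul U l (pt U 0x84 (by norm_num)) (y₁ U)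
  rw [hF l hl, h7, code_y₁, code_pt] at h8
  rw [h8]
  decide +kernel

/-- A short representative for the class of `s`. -/
theorem reach (hF : FixLine U) (hS : LineStab U) (hA : TwoA) {L : Subgroup (V ≃ₗ[ℚ] V)} {b : V}
    (hL : ∀ l ∈ L, l • b = b) {codes : List ℕ} {short : List (ℕ × ℕ)} (hn : notAll codes = true)
    (hcov : ∀ i, UX.testBit i = true → form (num P i) 6 = false → ∀ p : Fr U.ind,
      (coded U.ind).code p = num P i ^^^ 6 →
      ∃ c ∈ codes ++ short.map Prod.snd, ∃ l ∈ L.subgroupOf C, (coded U.ind).code (l • p) = c)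
    {Q : ℕ → Prop} {sw : ℕ → List ℕ} {v v' : ℕ → ℤ}
    (hs : ∀ c ∈ short.map Prod.snd, c = 0 ∨ ∃ m, Q m ∧ okW (sw m) = true ∧ linW (sw m) c = 6)
    (hv : ∀ m, Q m → F (vecV a0B) (W (sw m) b) = (v m : ℚ) / 2 ^ 8 ∧
      F (vecV a1B) (W (sw m) b) = (v' m : ℚ) / 2 ^ 8)
    {g : C} (h1 : F ((g : V ≃ₗ[ℚ] V) ax) ax = 1) (h0 : F ((g : V ≃ₗ[ℚ] V) ax) b = 0) :
    ∃ m, Q m ∧ ∃ l : C, (l : V ≃ₗ[ℚ] V) ∈ L ∧ ∃ β : Bool, (bif β then v' m else v m) = 0 ∧
      W (sw m ++ (if β then [1] else [])) ((l : V ≃ₗ[ℚ] V) ((g : V ≃ₗ[ℚ] V) ax)) = ax := by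
  obtain ⟨i, hi, hf, hp⟩ := lane U hF hA h1
  obtain ⟨c, hc, l, hl, e⟩ := hcov i hi hf _ hp
  rw [Subgroup.mem_subgroupOf] at hl
  rcases List.mem_append.1 hc with hc | hc
  · exfalso
    obtain ⟨j, hj, h2⟩ := onLane_smul U l (onLane_smul U g (onLane_y₁ U))
    exact notAll_sound hn hc hj (h2.symm.trans e)
  rcases hs c hc with rfl | ⟨m, hm, hok, hlin⟩
  · exfalso
    have h2 : (coded U.ind).code (y₁ U) = 0 := code_smul_eq_zero U (l * g) (by rw [mul_smul]; exact e)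
    rw [code_y₁] at h2
    norm_num at h2
  · have hok' := (okW_iff _).1 hok
    have h3 : (prodF EC (sw m) * l * g) • y₁ U = y₁ U := by
      apply (coded U.ind).inj
      rw [mul_smul, mul_smul, code_word U hok', e, hlin, code_y₁]
    have h4 := hS _ h3
    have h5 : ((prodF EC (sw m) * l * g : C) : V ≃ₗ[ℚ] V) (vecV a0B) =
        W (sw m) ((l : V ≃ₗ[ℚ] V) ((g : V ≃ₗ[ℚ] V) ax)) := by
      rw [← prodF_coe U hok', ax_eq]
      rfl
    rw [h5] at h4
    have h6 : F (W (sw m) ((l : V ≃ₗ[ℚ] V) ((g : V ≃ₗ[ℚ] V) ax))) (W (sw m) b) = 0 := by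
      have hb : (l : V ≃ₗ[ℚ] V) b = b := hL _ hl
      rw [F_W]
      conv_lhs => rw [← hb]
      rw [C_isom _ l.2]
      exact h0
    obtain ⟨hv1, hv2⟩ := hv m hm
    rcases h4 with h4 | h4
    · refine ⟨m, hm, l, hl, false, ?_, ?_⟩
      · rw [h4, hv1, div_eq_zero_iff] at h6
        rcases h6 with h6 | h6
        · exact_mod_cast h6
        · norm_num at h6
      · rw [ax_eq]
        simpa [ax_eq] using h4
    · refine ⟨m, hm, l, hl, true, ?_, ?_⟩
      · rw [h4, hv2, div_eq_zero_iff] at h6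
        rcases h6 with h6 | h6
        · exact_mod_cast h6
        · norm_num at h6
      · rw [if_pos rfl, W_append, LinearEquiv.mul_apply, h4, x1_a1, ax_eq]

end

/-! ### The representatives with inner product `0` -/

theorem sB_ok : ∀ m, m < 16 → okW (VecLink.sr m).2.2.1 = true := by decide +kernel

theorem sB_lin : ∀ m, m < 16 → linW (VecLink.sr m).2.2.1 (VecLink.sr m).2.1 = 6 := by decide +kernel

theorem sB_zero : ∀ m, m < 16 → ∀ β : Bool, (bif β then (VecLink.sr m).2.2.2.2 else (VecLink.sr m).2.2.2.1) = 0 →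
    ∃ i, i < 3 ∧ (VecLink.tri i).1 = (VecLink.sr m).1 ∧
      (VecLink.tri i).2.1 = (VecLink.sr m).2.2.1 ++ (if β then [1] else []) := by decide +kernel

/-- The code is a code of a representative of the class `t`. -/
def SrB (t c : ℕ) : Prop := c = 0 ∨ ∃ m, m < 16 ∧ (VecLink.sr m).1 = t ∧ (VecLink.sr m).2.1 = c

noncomputable instance (t c : ℕ) : Decidable (SrB t c) := by unfold SrB; infer_instance

theorem s0 : ∀ c ∈ CovS2B.short.map Prod.snd, SrB 0 c := by decide +kernel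

theorem s1 : ∀ c ∈ CovS4A.short.map Prod.snd, SrB 1 c := by decide +kernel

theorem s2 : ∀ c ∈ CovS4B.short.map Prod.snd, SrB 2 c := by decide +kernel

theorem s3 : ∀ c ∈ CovS6A.short.map Prod.snd, SrB 3 c := by decide +kernel

theorem n0 : notAll CovS2B.codes = true := by decide +kernel

theorem n1 : notAll CovS4A.codes = true := by decide +kernel

theorem n2 : notAll CovS4B.codes = true := by decide +kernel

theorem n3 : notAll CovS6A.codes = true := by decide +kernel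

theorem srB {t c : ℕ} (h : SrB t c) :
    c = 0 ∨ ∃ m, (m < 16 ∧ (VecLink.sr m).1 = t) ∧ okW (VecLink.sr m).2.2.1 = true ∧
      linW (VecLink.sr m).2.2.1 c = 6 := by
  rcases h with h | ⟨m, hm, h1, h2⟩
  · exact Or.inl h
  · refine Or.inr ⟨m, ⟨hm, h1⟩, sB_ok m hm, ?_⟩
    have := sB_lin m hm
    rwa [h2] at this

section

variable {u : leechLattice → V} (U : ULink u)

/-- The conclusion of the coverage modules. -/
theorem reachB (hF : FixLine U) (hS : LineStab U) (hA : TwoA) {t : ℕ} (ht : t < 4)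
    {g : C} (h1 : F ((g : V ≃ₗ[ℚ] V) ax) ax = 1) (h0 : F ((g : V ≃ₗ[ℚ] V) ax) (VecTwo.bt t) = 0) :
    ∃ m, (m < 16 ∧ (VecLink.sr m).1 = t) ∧ ∃ l : C, (l : V ≃ₗ[ℚ] V) ∈ Lw (FactorTwo.gs t) ∧
      ∃ β : Bool, (bif β then (VecLink.sr m).2.2.2.2 else (VecLink.sr m).2.2.2.1) = 0 ∧
      W ((VecLink.sr m).2.2.1 ++ (if β then [1] else [])) ((l : V ≃ₗ[ℚ] V) ((g : V ≃ₗ[ℚ] V) ax)) = ax := by
  have hL : ∀ l ∈ Lw (FactorTwo.gs t), l • VecTwo.bt t = VecTwo.bt t := fun l hl => (FactorTwo.fix l hl).1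
  have hv : ∀ m, (m < 16 ∧ (VecLink.sr m).1 = t) →
      F (vecV a0B) (W (VecLink.sr m).2.2.1 (VecTwo.bt t)) = ((VecLink.sr m).2.2.2.1 : ℚ) / 2 ^ 8 ∧
      F (vecV a1B) (W (VecLink.sr m).2.2.1 (VecTwo.bt t)) = ((VecLink.sr m).2.2.2.2 : ℚ) / 2 ^ 8 := by
    rintro m ⟨hm, rfl⟩
    exact VecLink.sr_val hm
  interval_cases t
  · exact reach U hF hS hA hL (codes := CovS2B.codes) (short := CovS2B.short) n0
      (fun _ hi hf _ hp => CovS2B.cover (S := coded U.ind)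
        (inL_gs U (FactorTwo.gg_mem_gs 0 (by norm_num)) (FactorTwo.gg_ok 0 (by norm_num)) FactorTwo.c0_0)
        (inL_gs U (FactorTwo.gg_mem_gs 1 (by norm_num)) (FactorTwo.gg_ok 1 (by norm_num)) FactorTwo.c0_1) hi hf hp)
      (sw := fun m => (VecLink.sr m).2.2.1) (fun c hc => srB (s0 c hc)) hv h1 h0
  · exact reach U hF hS hA hL (codes := CovS4A.codes) (short := CovS4A.short) n1
      (fun _ hi hf _ hp => CovS4A.cover (S := coded U.ind)
        (inL_gs U (FactorTwo.gg_mem_gs 2 (by norm_num)) (FactorTwo.gg_ok 2 (by norm_num)) FactorTwo.c1_0)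
        (inL_gs U (FactorTwo.gg_mem_gs 3 (by norm_num)) (FactorTwo.gg_ok 3 (by norm_num)) FactorTwo.c1_1) hi hf hp)
      (sw := fun m => (VecLink.sr m).2.2.1) (fun c hc => srB (s1 c hc)) hv h1 h0
  · exact reach U hF hS hA hL (codes := CovS4B.codes) (short := CovS4B.short) n2
      (fun _ hi hf _ hp => CovS4B.cover (S := coded U.ind)
        (inL_gs U (FactorTwo.gg_mem_gs 4 (by norm_num)) (FactorTwo.gg_ok 4 (by norm_num)) FactorTwo.c2_0)
        (inL_gs U (FactorTwo.gg_mem_gs 5 (by norm_num)) (FactorTwo.gg_ok 5 (by norm_num)) FactorTwo.c2_1)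
        (inL_gs U (FactorTwo.gg_mem_gs 6 (by norm_num)) (FactorTwo.gg_ok 6 (by norm_num)) FactorTwo.c2_2) hi hf hp)
      (sw := fun m => (VecLink.sr m).2.2.1) (fun c hc => srB (s2 c hc)) hv h1 h0
  · exact reach U hF hS hA hL (codes := CovS6A.codes) (short := CovS6A.short) n3
      (fun _ hi hf _ hp => CovS6A.cover (S := coded U.ind)
        (inL_gs U (FactorTwo.gg_mem_gs 7 (by norm_num)) (FactorTwo.gg_ok 7 (by norm_num)) FactorTwo.c3_0)
        (inL_gs U (FactorTwo.gg_mem_gs 8 (by norm_num)) (FactorTwo.gg_ok 8 (by norm_num)) FactorTwo.c3_1) hi hf hp)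
      (sw := fun m => (VecLink.sr m).2.2.1) (fun c hc => srB (s3 c hc)) hv h1 h0

theorem classB (hF : FixLine U) (hS : LineStab U) (hA : TwoA) {t : ℕ} (ht : t < 4)
    {g : C} (h1 : F ((g : V ≃ₗ[ℚ] V) ax) ax = 1) (h0 : F ((g : V ≃ₗ[ℚ] V) ax) (VecTwo.bt t) = 0) :
    ∃ i, i < 3 ∧ (VecLink.tri i).1 = t ∧ ∃ l : C, (l : V ≃ₗ[ℚ] V) ax = ax ∧
      (l : V ≃ₗ[ℚ] V) (VecTwo.bt t) = VecTwo.bt t ∧
      W (VecLink.tri i).2.1 ((l : V ≃ₗ[ℚ] V) ((g : V ≃ₗ[ℚ] V) ax)) = ax := by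
  obtain ⟨m, ⟨hm, rfl⟩, l, hl, β, h2, h3⟩ := reachB U hF hS hA ht h1 h0
  obtain ⟨i, hi, h4, h5⟩ := sB_zero m hm β h2
  have h6 := FactorTwo.fix _ hl
  exact ⟨i, hi, h4, l, h6.2, h6.1, by rw [h5]; exact h3⟩

end

/-! ### The class 2A -/

/-- The generators of the stabiliser of `a₀` and `a'`. -/
noncomputable def gA : List (List ℕ) := [[39], VecLink.k2g]

theorem gA_ok0 : okW [39] = true := by decide +kernel

theorem gA_ok1 : okW VecLink.k2g = true := by decide +kernel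

theorem cA0 : Nat.beq (evalF ltc [39]) CovS2A.e0 = true := by decide +kernel

theorem cA1 : Nat.beq (evalF ltc VecLink.k2g) CovS2A.e1 = true := by decide +kernel

theorem xi_fix : W [39] ax = ax ∧ W [39] ax2 = ax2 := by
  have h1 : CertBase.ident [39] [] = true := by decide +kernel
  have h2 : CertBase.ident (VecThree.a2w ++ [39]) VecThree.a2w = true := by decide +kernel
  have e1 := vv_eq_of_ident h1
  rw [vv_nil] at e1
  exact ⟨e1, VecThree.fix_of h2⟩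

theorem gA_fix : ∀ l ∈ Lw gA, l • ax2 = ax2 ∧ l • ax = ax := by
  intro l hl
  refine ⟨Lw_fix (fun w hw => ?_) l hl, Lw_fix (fun w hw => ?_) l hl⟩
  · rcases List.mem_cons.1 hw with rfl | hw
    · exact xi_fix.2
    · rcases List.mem_cons.1 hw with rfl | hw
      · exact VecLink.k2_fix.2
      · exact absurd hw (by simp)
  · rcases List.mem_cons.1 hw with rfl | hw
    · exact xi_fix.1
    · rcases List.mem_cons.1 hw with rfl | hw
      · exact VecLink.k2_fix.1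
      · exact absurd hw (by simp)

theorem sA_ok : ∀ m, m < 5 → okW (VecLinkA.sr m).2.1 = true := by decide +kernel

theorem sA_lin : ∀ m, m < 5 → linW (VecLinkA.sr m).2.1 (VecLinkA.sr m).1 = 6 := by decide +kernel

theorem sA_zero : ∀ m, m < 5 → ∀ β : Bool, (bif β then (VecLinkA.sr m).2.2.2 else (VecLinkA.sr m).2.2.1) = 0 →
    (VecLinkA.sr m).2.1 ++ (if β then [1] else []) = VecLinkA.w1 false ∨
    (VecLinkA.sr m).2.1 ++ (if β then [1] else []) = VecLinkA.w1 true ∨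
    (VecLinkA.sr m).2.1 ++ (if β then [1] else []) = [37, 37, 1] := by decide +kernel

/-- The code is a code of a representative. -/
def SrA (c : ℕ) : Prop := c = 0 ∨ ∃ m, m < 5 ∧ (VecLinkA.sr m).1 = c

noncomputable instance (c : ℕ) : Decidable (SrA c) := by unfold SrA; infer_instance

theorem sA : ∀ c ∈ CovS2A.short.map Prod.snd, SrA c := by decide +kernel

theorem nA : notAll CovS2A.codes = true := by decide +kernel

section

variable {u : leechLattice → V} (U : ULink u)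

theorem classA (hF : FixLine U) (hS : LineStab U) (hA : TwoA)
    {g : C} (h1 : F ((g : V ≃ₗ[ℚ] V) ax) ax = 1) (h0 : F ((g : V ≃ₗ[ℚ] V) ax) ax2 = 0) :
    ∃ l : C, (l : V ≃ₗ[ℚ] V) ax = ax ∧ (l : V ≃ₗ[ℚ] V) ax2 = ax2 ∧
      ((∃ b : Bool, W (VecLinkA.w1 b) ((l : V ≃ₗ[ℚ] V) ((g : V ≃ₗ[ℚ] V) ax)) = ax) ∨
        W [37, 37, 1] ((l : V ≃ₗ[ℚ] V) ((g : V ≃ₗ[ℚ] V) ax)) = ax) := by
  obtain ⟨m, hm, l, hl, β, h2, h3⟩ := reach U hF hS hA (fun l hl => (gA_fix l hl).1) (codes := CovS2A.codes)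
    (short := CovS2A.short) nA
    (fun _ hi hf _ hp => CovS2A.cover (S := coded U.ind)
      (inL_gs (gs := gA) U List.mem_cons_self gA_ok0 cA0)
      (inL_gs (gs := gA) U (List.mem_cons_of_mem _ List.mem_cons_self) gA_ok1 cA1) hi hf hp)
    (Q := fun m => m < 5) (sw := fun m => (VecLinkA.sr m).2.1)
    (fun c hc => by
      rcases sA c hc with h | ⟨m, hm, rfl⟩
      · exact Or.inl h
      · exact Or.inr ⟨m, hm, sA_ok m hm, sA_lin m hm⟩)
    (fun m hm => VecLinkA.sr_val hm) h1 h0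
  have h6 := gA_fix _ hl
  refine ⟨l, h6.2, h6.1, ?_⟩
  rcases sA_zero m hm β h2 with h4 | h4 | h4
  · exact Or.inl ⟨false, by rw [← h4]; exact h3⟩
  · exact Or.inl ⟨true, by rw [← h4]; exact h3⟩
  · exact Or.inr (by rw [← h4]; exact h3)

end

/-! ### The coverage -/

/-- The element mapping the standard triple to `(k s₀, k a₀, k b)`. -/
theorem glue {k w q : V ≃ₗ[ℚ] V} {l : C} (hk : k ∈ C) (hw : w ∈ C) (hq : q ∈ C) {s₀ b c : V}
    (hl : (l : V ≃ₗ[ℚ] V) ax = ax) (hb : (l : V ≃ₗ[ℚ] V) b = b) (e1 : w ((l : V ≃ₗ[ℚ] V) s₀) = ax)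
    (e2 : q ax = ax) (e3 : q (w ax) = ax2) (e4 : q (w b) = c) :
    ∃ K ∈ C, k s₀ = K ax ∧ k ax = K ax2 ∧ k b = K c := by
  refine ⟨k * (l : V ≃ₗ[ℚ] V)⁻¹ * w⁻¹ * q⁻¹,
    C.mul_mem (C.mul_mem (C.mul_mem hk (C.inv_mem l.2)) (C.inv_mem hw)) (C.inv_mem hq), ?_, ?_, ?_⟩
  · show k s₀ = k ((l : V ≃ₗ[ℚ] V)⁻¹ (w⁻¹ (q⁻¹ ax)))
    rw [inv_of e2, inv_of e1, inv_of rfl]
  · show k ax = k ((l : V ≃ₗ[ℚ] V)⁻¹ (w⁻¹ (q⁻¹ ax2)))
    rw [inv_of e3, inv_of (g := w) rfl, inv_of hl]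
  · show k b = k ((l : V ≃ₗ[ℚ] V)⁻¹ (w⁻¹ (q⁻¹ c)))
    rw [inv_of e4, inv_of (g := w) rfl, inv_of hb]

theorem tri_ok : ∀ i, i < 3 → okW (VecLink.tri i).2.1 = true ∧ okW (VecLink.tri i).2.2 = true := by decide +kernel

theorem w1_ok : ∀ b : Bool, okW (VecLinkA.w1 b) = true ∧ okW (VecLinkA.q1 b) = true := by decide +kernel

variable {u : leechLattice → V} (U : ULink u)

include U in
theorem W_mem {w : List ℕ} (h : okW w = true) : W w ∈ C := W_mem_C U ((okW_iff w).1 h)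

/-- **The coverage of level 3.** -/
theorem hcov (hF : FixLine U) (hS : LineStab U) (hA : TwoA)
    (hσ : ∀ g ∈ C, ∀ x : V, InstData.M.σ (g x) = g (InstData.M.σ x)) (hb : InstData.M.σ ax = vv [1])
    (cov₂ : ∀ s ∈ InstData.M.S, ∀ x ∈ InstData.M.X, InstData.M.F s x = 1 →
      (∃ t, t < 4 ∧ ∃ k ∈ C, s = k ax ∧ x = k (VecTwo.bt t)) ∨ ∃ k ∈ C, s = k ax ∧ x = k ax2) :
    ∀ s ∈ InstData.M.S, ∀ s' ∈ InstData.M.S, ∀ x ∈ InstData.M.X, InstData.M.F s s' = 1 →
      InstData.M.F s x = 0 → InstData.M.F s' x = 1 → x ≠ InstData.M.σ s →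
      ∃ t, t < 4 ∧ ∃ k ∈ C, s = k ax ∧ s' = k ax2 ∧ x = k (ct t) := by
  intro s hs s' hs' x hx h1 h0 h1' hne
  obtain ⟨g, hg, rfl⟩ := hs
  rw [M_C] at hg
  rw [M_a₀, ← ax_eq] at h1 h0 hne ⊢
  have key : ∀ {k : V ≃ₗ[ℚ] V} (hk : k ∈ C), g ax = k (((⟨k⁻¹ * g, C.mul_mem (C.inv_mem hk) hg⟩ : C) : V ≃ₗ[ℚ] V) ax) := by
    intro k hk
    show g ax = k (k⁻¹ (g ax))
    exact (k.apply_symm_apply (g ax)).symm
  rcases cov₂ s' hs' x hx h1' with ⟨t, ht, k, hk, rfl, rfl⟩ | ⟨k, hk, rfl, rfl⟩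
  · rw [key hk] at h1 h0 ⊢
    set g₀ : C := ⟨k⁻¹ * g, C.mul_mem (C.inv_mem hk) hg⟩ with hg₀
    have h2 : F ((g₀ : V ≃ₗ[ℚ] V) ax) ax = 1 := by rw [← C_isom k hk]; exact h1
    have h3 : F ((g₀ : V ≃ₗ[ℚ] V) ax) (VecTwo.bt t) = 0 := by rw [← C_isom k hk]; exact h0
    obtain ⟨i, hi, rfl, l, hl, hlb, e⟩ := classB U hF hS hA ht h2 h3
    obtain ⟨e2, e3, e4⟩ := VecLink.triple hi
    exact ⟨i + 1, by omega, glue hk (W_mem U (tri_ok i hi).1) (W_mem U (tri_ok i hi).2) hl hlb e e2 e3 e4⟩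
  · rw [key hk] at h1 h0 hne ⊢
    set g₀ : C := ⟨k⁻¹ * g, C.mul_mem (C.inv_mem hk) hg⟩ with hg₀
    have h2 : F ((g₀ : V ≃ₗ[ℚ] V) ax) ax = 1 := by rw [← C_isom k hk]; exact h1
    have h3 : F ((g₀ : V ≃ₗ[ℚ] V) ax) ax2 = 0 := by rw [← C_isom k hk]; exact h0
    obtain ⟨l, hl, hlb, ⟨b, e⟩ | e⟩ := classA U hF hS hA h2 h3
    · obtain ⟨e2, e3, e4⟩ := VecLinkA.triple b
      exact ⟨0, by norm_num, glue hk (W_mem U (w1_ok b).1) (W_mem U (w1_ok b).2) hl hlb e e2 e3 e4⟩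
    · exfalso
      apply hne
      have hw : W [37, 37, 1] ∈ C := W_mem U (by decide +kernel)
      have h4 : W [37, 37, 1] ((l : V ≃ₗ[ℚ] V) (InstData.M.σ ((g₀ : V ≃ₗ[ℚ] V) ax))) =
          W [37, 37, 1] ((l : V ≃ₗ[ℚ] V) ax2) := by
        rw [← hσ _ l.2, ← hσ _ hw, e, hb, hlb, VecLinkA.partner]
      have h5 := (l : V ≃ₗ[ℚ] V).injective ((W [37, 37, 1]).injective h4)
      rw [← h5, hσ k hk]

end Cfsg.Agent.MonsterU.CovThree
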