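import Cfsg.Agent.MonsterU.CovZero
import Cfsg.Agent.MonsterU.LevAsm

/-!
# The coverage of level 3
-/

set_option autoImplicit false
set_option maxRecDepth 100000

namespace Cfsg.Agent.MonsterU.CovThreeF

open Cfsg Cfsg.Agent.MonsterX Cfsg.Agent.MonsterX.Space Cfsg.Agent.MonsterX.Conc Cfsg.Agent.MonsterX.InstData
open Cfsg.Agent.MonsterX.CertV (vv ax)
open Cfsg.Agent.MonsterU.LevelThree

variable {u : leechLattice → V} (U : FrameConc.ULink u)

include U in
/-- **`Cov₃`**. -/
theorem cov₃ (H : CertCovD.LineStab U) (hF : LaneOf.FixLine U) (hσ : SigComm) (hb : SigBase) : LevAsm.Cov₃ :=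
  CovThree.hcov U hF H (CovZero.twoA U H) hσ hb fun _ hs _ hx h => CovTwo.cov₂ U H hs hx h

end Cfsg.Agent.MonsterU.CovThreeF
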