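import Cfsg.Agent.MonsterU.CovThree
import Cfsg.Agent.MonsterX.CertCovD
import Cfsg.Agent.MonsterX.FieldsP

/-!
# The axes `s ∈ S` with `F s a₀ = 1`

`twoA`: from the pair table at `j = 0`, they are one orbit of the stabiliser of `a₀` up to the partner.
-/

set_option autoImplicit false
set_option maxRecDepth 100000

namespace Cfsg.Agent.MonsterU.CovZero

open Cfsg Cfsg.Agent.MonsterX Cfsg.Agent.MonsterX.Space Cfsg.Agent.MonsterX.Conc Cfsg.Agent.MonsterX.InstData
open Cfsg.Agent.MonsterX.FrameConc Cfsg.Agent.MonsterX.CertV Cfsg.Agent.MonsterX.CertCovB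
open Cfsg.Agent.MonsterX.CertUTab Cfsg.Agent.MonsterX.PairValTab
open Cfsg.Agent.MonsterU.VecLink (ax_eq)

theorem bj_zero : W (bj 0) (vecV a0B) = vecV a0B := by
  have : bj 0 = [] := by decide +kernel
  rw [this, W_nil]
  rfl

theorem nr_zero : nr 0 = 4 := by decide

theorem tab : ∀ m, m < 4 → ∀ b : Bool, FieldsP.vb 0 m b = 256 → m = 1 := by decide +kernel

theorem word_eq (b : Bool) : CertCovD.word 0 1 b = CovThree.wA b := by cases b <;> rfl

variable {u : leechLattice → V} (U : ULink u)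

theorem twoA (H : CertCovD.LineStab U) : CovThree.TwoA := by
  intro g h
  obtain ⟨m, hm, b, l, hl, h1, h2⟩ := CertCovD.cov_S U H (j := 0) (by norm_num) g.2
  rw [bj_zero] at h1
  have h3 : F (vecV a0B) (FieldsP.yv 0 m b) = 1 := by
    have h4 : F (l ((W (CertCovD.word 0 m b))⁻¹ (vecV a0B))) (l (vecV a0B)) = 1 := by
      rw [← h2, h1, ← ax_eq]
      exact h
    rw [C_isom l hl, ← F_W (CertCovD.word 0 m b)] at h4
    have h5 : W (CertCovD.word 0 m b) ((W (CertCovD.word 0 m b))⁻¹ (vecV a0B)) = vecV a0B :=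
      (W (CertCovD.word 0 m b)).apply_symm_apply _
    rw [h5] at h4
    unfold FieldsP.yv
    rw [M_a₀, bj_zero]
    exact h4
  rw [FieldsP.F_a₀_yv (by norm_num) hm, div_eq_one_iff_eq (by norm_num)] at h3
  have h4 : FieldsP.vb 0 m b = 256 := by
    have : (FieldsP.vb 0 m b : ℚ) = (256 : ℤ) := by rw [h3]; norm_num
    exact_mod_cast this
  rw [nr_zero] at hm
  obtain rfl := tab m hm b h4
  refine ⟨b, ⟨l, hl⟩, ?_, ?_⟩
  · rw [ax_eq]
    exact h1
  · rw [ax_eq, ← word_eq]
    exact h2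

end Cfsg.Agent.MonsterU.CovZero
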