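import Cfsg.Agent.MonsterU.GeometryInst
import Cfsg.Agent.MonsterU.LevAsm

/-!
# The geometry of the model from `LevAsm` (helper620)
-/

set_option autoImplicit false

namespace Cfsg.Agent.MonsterU.GeometryFin

open Cfsg.Agent.MonsterX Cfsg.Agent.MonsterX.Space Cfsg.Agent.MonsterX.Conc Cfsg.Agent.MonsterX.InstData
open Cfsg.Agent.MonsterX.Model Cfsg.Agent.MonsterU.ModelGeo Cfsg.Agent.MonsterU.LevelsInst
open Cfsg.Agent.MonsterU.LevAsm Cfsg.Agent.MonsterU.GeometryInst

theorem KG_eq (hc : ∀ g ∈ InstData.M.G, g * InstData.M.z = InstData.M.z * g → g ∈ InstData.M.C) : KG = KΓ := by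
  ext g
  rw [mem_KΓ hc]
  exact Subgroup.mem_subgroupOf

theorem DG_eq : DG = DΓ := rfl

/-- **The geometry of the model from the levels in the form of `LevAsm.lev`.** -/
theorem geometry {K₀ : Type} [Group K₀] (hG : MGroup InstData.M K₀) (hR : MRep InstData.M) (hL : MLat InstData.M)
    (hO : MOrbit InstData.M) (hc : ∀ g ∈ InstData.M.G, g * InstData.M.z = InstData.M.z * g → g ∈ InstData.M.C)
    {h₁ : V → ℕ} {h₂ : V × V → ℕ} {h₃ : V × V × V → ℕ} (h : Lev InstData.M KG DG τG ξG h₁ h₂ h₃) :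
    EmbOf.Geometry zE aE bE τE ξE yE ModelCent.qE := by
  rw [KG_eq hc] at h
  exact GeometryInst.geometry hG hR hL hO hc D_le h

end Cfsg.Agent.MonsterU.GeometryFin
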