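import Cfsg.Agent.MonsterU.Morse

/-!
# Gluing homomorphisms of an amalgam of three subgroups along the point graph

`G` a group with subgroups `K` (point stabiliser), `N` (line stabiliser), `Q` (plane stabiliser);
homomorphisms `α, β, γ` of the three subgroups into a group `H` which agree on intersections.
If the point graph of `G` has a sheet for the covering defined by the amalgam (for instance by the Morse
argument of `Morse.lean`), then `α, β, γ` extend to a homomorphism `G →* H`.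
-/

set_option autoImplicit false

namespace Cfsg.Agent.MonsterU.Glue

open Cfsg.Agent.MonsterU.Morse

variable {G H : Type*} [Group G] [Group H]

/-- Subgroups and homomorphisms of an amalgam of three subgroups. -/
structure Amalgam (K N Q : Subgroup G) (α : K →* H) (β : N →* H) (γ : Q →* H) : Prop where
  kn : ∀ x (h : x ∈ K) (h' : x ∈ N), α ⟨x, h⟩ = β ⟨x, h'⟩
  kq : ∀ x (h : x ∈ K) (h' : x ∈ Q), α ⟨x, h⟩ = γ ⟨x, h'⟩
  nq : ∀ x (h : x ∈ N) (h' : x ∈ Q), β ⟨x, h⟩ = γ ⟨x, h'⟩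

/-- The two properties of the point-line-plane geometry which are used. -/
structure Geo (K N Q : Subgroup G) : Prop where
  /-- two points are on at most one line -/
  unique : ∀ m ∈ K, ∀ n ∈ N, ∀ n' ∈ N, n' ∉ K → n⁻¹ * m * n' ∈ K → m ∈ N
  /-- any two points of a plane are on a line of the plane -/
  plane : ∀ p ∈ Q, ∃ k ∈ K, k ∈ Q ∧ ∃ n ∈ N, n ∈ Q ∧ ∃ k' ∈ K, p = k * n * k'

/-- collinearity -/
def Adj (K N : Subgroup G) (x y : G ⧸ K) : Prop :=
  ∃ g : G, ∃ n ∈ N, x = (g : G ⧸ K) ∧ y = ((g * n : G) : G ⧸ K)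

/-- triangles in planes -/
def Tri (K Q : Subgroup G) (x y w : G ⧸ K) : Prop :=
  ∃ g : G, ∃ p ∈ Q, ∃ q ∈ Q, ∃ r ∈ Q,
    x = ((g * p : G) : G ⧸ K) ∧ y = ((g * q : G) : G ⧸ K) ∧ w = ((g * r : G) : G ⧸ K)

/-- The graph of a homomorphism of a subgroup. -/
def gr (K : Subgroup G) (α : K →* H) : Subgroup (G × H) :=
  (K.subtype.prod α).range

theorem mem_gr {K : Subgroup G} {α : K →* H} {x : G × H} :
    x ∈ gr K α ↔ ∃ h : x.1 ∈ K, α ⟨x.1, h⟩ = x.2 := by
  constructor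
  · rintro ⟨k, rfl⟩
    exact ⟨k.2, rfl⟩
  · rintro ⟨h, h'⟩
    exact ⟨⟨x.1, h⟩, Prod.ext rfl h'⟩

theorem mk_mem_gr {K : Subgroup G} {α : K →* H} {k : G} (hk : k ∈ K) :
    ((k, α ⟨k, hk⟩) : G × H) ∈ gr K α := mem_gr.2 ⟨hk, rfl⟩

/-- the projection of points -/
def proj (K : Subgroup G) (α : K →* H) : (G × H) ⧸ gr K α → G ⧸ K :=
  Quotient.map' Prod.fst (by
    intro a b hab
    rw [QuotientGroup.leftRel_apply] at hab ⊢
    obtain ⟨h, -⟩ := mem_gr.1 hab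
    exact h)

theorem proj_mk (K : Subgroup G) (α : K →* H) (x : G × H) :
    proj K α (x : (G × H) ⧸ gr K α) = (x.1 : G ⧸ K) := rfl

/-- collinearity upstairs -/
def Adj' (K N : Subgroup G) (α : K →* H) (β : N →* H) (x y : (G × H) ⧸ gr K α) : Prop :=
  ∃ g : G × H, ∃ n ∈ gr N β, x = (g : (G × H) ⧸ gr K α) ∧ y = ((g * n : G × H) : (G × H) ⧸ gr K α)

variable {K N Q : Subgroup G} {α : K →* H} {β : N →* H} {γ : Q →* H}

theorem mk_eq_mk {x y : G × H} :
    ((x : (G × H) ⧸ gr K α) = y) ↔ x⁻¹ * y ∈ gr K α := QuotientGroup.eq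

theorem mk_mul_gr (g k : G × H) (hk : k ∈ gr K α) :
    ((g * k : G × H) : (G × H) ⧸ gr K α) = (g : (G × H) ⧸ gr K α) := by
  rw [eq_comm, mk_eq_mk]
  simpa using hk

theorem gr_inf_kn (ha : Amalgam K N Q α β γ) {x : G × H} (hx : x ∈ gr N β) (hK : x.1 ∈ K) :
    x ∈ gr K α := by
  obtain ⟨h, h'⟩ := mem_gr.1 hx
  exact mem_gr.2 ⟨hK, by rw [ha.kn _ hK h, h']⟩

theorem gr_inf_nk (ha : Amalgam K N Q α β γ) {x : G × H} (hx : x ∈ gr K α) (hN : x.1 ∈ N) :
    x ∈ gr N β := by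
  obtain ⟨h, h'⟩ := mem_gr.1 hx
  exact mem_gr.2 ⟨hN, by rw [← ha.kn _ h hN, h']⟩

/-- two points of a plane are collinear, upstairs -/
theorem adj'_plane (ha : Amalgam K N Q α β γ) (hg : Geo K N Q) (g p : G × H) (hp : p ∈ gr Q γ) :
    Adj' K N α β (g : (G × H) ⧸ gr K α) ((g * p : G × H) : (G × H) ⧸ gr K α) := by
  obtain ⟨hpQ, hp'⟩ := mem_gr.1 hp
  obtain ⟨k, hk, hkQ, n, hn, hnQ, k', hk', hpe⟩ := hg.plane p.1 hpQ
  have hk'Q : k' ∈ Q := by
    have : k' = (k * n)⁻¹ * p.1 := by rw [hpe]; group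
    rw [this]
    exact Q.mul_mem (Q.inv_mem (Q.mul_mem hkQ hnQ)) hpQ
  set kh : G × H := (k, α ⟨k, hk⟩) with hkh
  set nh : G × H := (n, β ⟨n, hn⟩) with hnh
  set kh' : G × H := (k', α ⟨k', hk'⟩) with hkh'
  have hpe' : p = kh * nh * kh' := by
    refine Prod.ext hpe ?_
    show p.2 = α ⟨k, hk⟩ * β ⟨n, hn⟩ * α ⟨k', hk'⟩
    rw [ha.kq k hk hkQ, ha.nq n hn hnQ, ha.kq k' hk' hk'Q, ← map_mul, ← map_mul, ← hp']
    congr 1
    exact Subtype.ext hpe
  refine ⟨g * kh, nh, mk_mem_gr hn, ?_, ?_⟩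
  · exact (mk_mul_gr g kh (mk_mem_gr hk)).symm
  · rw [hpe', ← mul_assoc, ← mul_assoc]
    exact mk_mul_gr _ kh' (mk_mem_gr hk')

theorem cover (ha : Amalgam K N Q α β γ) (hg : Geo K N Q) :
    Cover (Adj K N) (Adj' K N α β) (Tri K Q) (proj K α) := by
  have huniq : ∀ x' y' y'' : (G × H) ⧸ gr K α, Adj' K N α β x' y' → Adj' K N α β x' y'' →
      proj K α y' = proj K α y'' → y' = y'' := by
    rintro x' y' y'' ⟨g, n, hn, rfl, rfl⟩ ⟨g₂, n', hn', hx, rfl⟩ hπ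
    rw [mk_eq_mk] at hx
    set m := g⁻¹ * g₂ with hm
    have hg₂ : g₂ = g * m := by rw [hm]; group
    rw [hg₂] at hπ ⊢
    rw [proj_mk, proj_mk, QuotientGroup.eq] at hπ
    have hπ' : n.1⁻¹ * m.1 * n'.1 ∈ K := by
      have : ((g * n).1)⁻¹ * (g * m * n').1 = n.1⁻¹ * m.1 * n'.1 := by
        simp only [Prod.fst_mul]; group
      rwa [this] at hπ
    rw [mk_eq_mk]
    have e : (g * n)⁻¹ * (g * m * n') = n⁻¹ * m * n' := by group
    rw [e]
    by_cases hn'K : n'.1 ∈ K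
    · have h2 : n' ∈ gr K α := gr_inf_kn ha hn' hn'K
      have h1 : n.1 ∈ K := by
        have hmK : m.1 ∈ K := (mem_gr.1 hx).1
        have : n.1⁻¹ ∈ K := by
          have : n.1⁻¹ = (n.1⁻¹ * m.1 * n'.1) * n'.1⁻¹ * m.1⁻¹ := by group
          rw [this]
          exact K.mul_mem (K.mul_mem hπ' (K.inv_mem hn'K)) (K.inv_mem hmK)
        exact K.inv_mem_iff.1 this
      have h3 : n ∈ gr K α := gr_inf_kn ha hn h1
      exact (gr K α).mul_mem ((gr K α).mul_mem ((gr K α).inv_mem h3) hx) h2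
    · have hmN : m.1 ∈ N :=
        hg.unique m.1 (mem_gr.1 hx).1 n.1 (mem_gr.1 hn).1 n'.1 (mem_gr.1 hn').1 hn'K hπ'
      have hmN' : m ∈ gr N β := gr_inf_nk ha hx hmN
      exact gr_inf_kn ha ((gr N β).mul_mem ((gr N β).mul_mem ((gr N β).inv_mem hn) hmN') hn') hπ'
  refine ⟨?_, ?_, ?_, ?_, huniq, ?_, ?_, ?_, ?_⟩
  · rintro x y ⟨g, n, hn, rfl, rfl⟩
    exact ⟨g * n, n⁻¹, N.inv_mem hn, rfl, by rw [mul_inv_cancel_right]⟩
  · rintro x y ⟨g, n, hn, rfl, rfl⟩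
    exact ⟨g * n, n⁻¹, (gr N β).inv_mem hn, rfl, by rw [mul_inv_cancel_right]⟩
  · rintro x y ⟨g, n, hn, rfl, rfl⟩
    exact ⟨g.1, n.1, (mem_gr.1 hn).1, rfl, rfl⟩
  · intro x' y hxy
    obtain ⟨g, rfl⟩ := QuotientGroup.mk_surjective x'
    obtain ⟨g₁, n, hn, hx, rfl⟩ := hxy
    rw [proj_mk, QuotientGroup.eq] at hx
    set k := g.1⁻¹ * g₁ with hk
    refine ⟨((g * (k, α ⟨k, hx⟩) * (n, β ⟨n, hn⟩) : G × H) : (G × H) ⧸ gr K α), ?_, ?_⟩
    · rw [proj_mk]
      show ((g.1 * k * n : G) : G ⧸ K) = _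
      rw [hk, mul_inv_cancel_left]
    · exact ⟨g * (k, α ⟨k, hx⟩), (n, β ⟨n, hn⟩), mk_mem_gr hn,
        (mk_mul_gr g _ (mk_mem_gr hx)).symm, rfl⟩
  · rintro x y w ⟨g, p, hp, q, hq, r, hr, rfl, rfl, rfl⟩
    exact ⟨g, q, hq, r, hr, p, hp, rfl, rfl, rfl⟩
  · rintro x y w ⟨g, p, hp, q, hq, r, hr, rfl, rfl, rfl⟩
    exact ⟨g, p, hp, r, hr, q, hq, rfl, rfl, rfl⟩
  · rintro x y w ⟨g, p, hp, q, hq, r, hr, rfl, rfl, rfl⟩
    obtain ⟨k, hk, hkQ, n, hn, hnQ, k', hk', hpe⟩ := hg.plane (p⁻¹ * q) (Q.mul_mem (Q.inv_mem hp) hq)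
    refine ⟨g * p * k, n, hn, ?_, ?_⟩
    · rw [QuotientGroup.eq]
      have : (g * p)⁻¹ * (g * p * k) = k := by group
      rw [this]; exact hk
    · rw [QuotientGroup.eq]
      have : (g * q)⁻¹ * (g * p * k * n) = k'⁻¹ := by
        have : q = p * (k * n * k') := by rw [← hpe]; group
        rw [this]; group
      rw [this]; exact K.inv_mem hk'
  · rintro x' y' w' ⟨g₀, p, hp, q, hq, r, hr, hx, hy, hw⟩ hxy hxw
    obtain ⟨g, rfl⟩ := QuotientGroup.mk_surjective x'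
    rw [proj_mk, QuotientGroup.eq] at hx
    set k := g.1⁻¹ * (g₀ * p) with hk
    have hg₀ : g₀ = g.1 * k * p⁻¹ := by rw [hk]; group
    have hpq : p⁻¹ * q ∈ Q := Q.mul_mem (Q.inv_mem hp) hq
    have hpr : p⁻¹ * r ∈ Q := Q.mul_mem (Q.inv_mem hp) hr
    have hqr : q⁻¹ * r ∈ Q := Q.mul_mem (Q.inv_mem hq) hr
    set kh : G × H := (k, α ⟨k, hx⟩) with hkh
    set a : G × H := (p⁻¹ * q, γ ⟨_, hpq⟩) with hadef
    set b : G × H := (p⁻¹ * r, γ ⟨_, hpr⟩) with hbdef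
    set c : G × H := (q⁻¹ * r, γ ⟨_, hqr⟩) with hcdef
    have hbc : b = a * c := by
      refine Prod.ext ?_ ?_
      · show p⁻¹ * r = p⁻¹ * q * (q⁻¹ * r)
        group
      · show γ ⟨_, hpr⟩ = γ ⟨_, hpq⟩ * γ ⟨_, hqr⟩
        rw [← map_mul]
        congr 1
        exact Subtype.ext (by simp [mul_assoc])
    have hgk : ((g * kh : G × H) : (G × H) ⧸ gr K α) = (g : (G × H) ⧸ gr K α) :=
      mk_mul_gr g kh (mk_mem_gr hx)
    have h1 : Adj' K N α β (g : (G × H) ⧸ gr K α) ((g * kh * a : G × H) : (G × H) ⧸ gr K α) := by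
      have := adj'_plane ha hg (g * kh) a (mk_mem_gr hpq)
      rwa [hgk] at this
    have h2 : Adj' K N α β (g : (G × H) ⧸ gr K α) ((g * kh * b : G × H) : (G × H) ⧸ gr K α) := by
      have := adj'_plane ha hg (g * kh) b (mk_mem_gr hpr)
      rwa [hgk] at this
    have hy' : y' = ((g * kh * a : G × H) : (G × H) ⧸ gr K α) := by
      refine huniq _ _ _ hxy h1 ?_
      rw [hy, proj_mk]
      show _ = ((g.1 * k * (p⁻¹ * q) : G) : G ⧸ K)
      rw [hg₀]
      congr 1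
      group
    have hw' : w' = ((g * kh * b : G × H) : (G × H) ⧸ gr K α) := by
      refine huniq _ _ _ hxw h2 ?_
      rw [hw, proj_mk]
      show _ = ((g.1 * k * (p⁻¹ * r) : G) : G ⧸ K)
      rw [hg₀]
      congr 1
      group
    rw [hy', hw', hbc, ← mul_assoc]
    exact adj'_plane ha hg (g * kh * a) c (mk_mem_gr hqr)

/-- A sheet extends the homomorphisms of the amalgam to the group. -/
theorem exists_hom (ha : Amalgam K N Q α β γ) (hg : Geo K N Q)
    (hgen : Subgroup.closure ((K : Set G) ∪ N) = ⊤) {s : G ⧸ K → (G × H) ⧸ gr K α}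
    (hs : Sheet (Adj K N) (Adj' K N α β) (proj K α) Set.univ s) :
    ∃ φ : G →* H, (∀ x (h : x ∈ K), φ x = α ⟨x, h⟩) ∧ (∀ x (h : x ∈ N), φ x = β ⟨x, h⟩) := by
  have hc := cover ha hg
  -- the group generated by the two graphs
  set D : Subgroup (G × H) := Subgroup.closure ((gr K α : Set (G × H)) ∪ gr N β) with hD
  -- translate the sheet so that it contains the base point
  obtain ⟨⟨g₀, h₀⟩, hg₀⟩ := QuotientGroup.mk_surjective (s ((1 : G) : G ⧸ K))
  have hsec₀ : (g₀ : G ⧸ K) = ((1 : G) : G ⧸ K) := by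
    have := hs.sec ((1 : G) : G ⧸ K) (Set.mem_univ _)
    rw [← hg₀] at this
    exact this
  have hg₀K : g₀ ∈ K := by
    rw [QuotientGroup.eq] at hsec₀
    simpa using hsec₀
  -- all reachable points are on the sheet
  have key : ∀ x', Relation.ReflTransGen (Adj' K N α β) (s ((1 : G) : G ⧸ K)) x' →
      s (proj K α x') = x' := by
    intro x' h
    induction h with
    | refl => rw [hs.sec _ (Set.mem_univ _)]
    | @tail b c hab hbc ih =>
      have h1 : Adj' K N α β (s (proj K α b)) (s (proj K α c)) :=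
        hs.adj _ (Set.mem_univ _) _ (Set.mem_univ _) (hc.map hbc)
      rw [ih] at h1
      exact (hc.uniq b c _ hbc h1 (by rw [hs.sec _ (Set.mem_univ _)])).symm
  -- reachability
  have hreach : ∀ d ∈ D, Relation.ReflTransGen (Adj' K N α β) (s ((1 : G) : G ⧸ K))
      ((((g₀, h₀) : G × H) * d : G × H) : (G × H) ⧸ gr K α) := by
    intro d hd
    induction hd using Subgroup.closure_induction_right with
    | one => rw [mul_one, hg₀]
    | mul_right x _ y hy ih =>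
      rcases hy with hy | hy
      · rw [← mul_assoc, mk_mul_gr _ y hy]; exact ih
      · rw [← mul_assoc]
        exact ih.tail ⟨_, y, hy, rfl, rfl⟩
    | mul_inv_cancel x _ y hy ih =>
      rcases hy with hy | hy
      · rw [← mul_assoc, mk_mul_gr _ y⁻¹ ((gr K α).inv_mem hy)]; exact ih
      · rw [← mul_assoc]
        exact ih.tail ⟨_, y⁻¹, (gr N β).inv_mem hy, rfl, rfl⟩
  -- D is a graph
  have hgraph : ∀ d ∈ D, d.1 = 1 → d.2 = 1 := by
    intro d hd hd1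
    have h1 := key _ (hreach d hd)
    have h2 := key _ (hreach 1 (one_mem _))
    rw [proj_mk] at h1 h2
    have e1 : (((g₀, h₀) : G × H) * d).1 = g₀ := by simp [hd1]
    have e2 : (((g₀, h₀) : G × H) * 1).1 = g₀ := by simp
    rw [e1] at h1
    rw [e2] at h2
    rw [h2, mk_eq_mk] at h1
    have h3 : d ∈ gr K α := by
      have e3 : (((g₀, h₀) : G × H) * 1)⁻¹ * (((g₀, h₀) : G × H) * d) = d := by group
      rwa [e3] at h1
    obtain ⟨h4, h5⟩ := mem_gr.1 h3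
    rw [← h5]
    have : (⟨d.1, h4⟩ : K) = 1 := Subtype.ext hd1
    rw [this, map_one]
  -- D projects onto G
  have hsurj : D.map (MonoidHom.fst G H) = ⊤ := by
    rw [eq_top_iff, ← hgen, Subgroup.closure_le]
    rintro x (hx | hx)
    · exact ⟨(x, α ⟨x, hx⟩), Subgroup.subset_closure (Or.inl (mk_mem_gr hx)), rfl⟩
    · exact ⟨(x, β ⟨x, hx⟩), Subgroup.subset_closure (Or.inr (mk_mem_gr hx)), rfl⟩
  have hex : ∀ g : G, ∃ h : H, (g, h) ∈ D := by
    intro g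
    have : g ∈ D.map (MonoidHom.fst G H) := by rw [hsurj]; trivial
    obtain ⟨⟨g', h⟩, hd, rfl⟩ := this
    exact ⟨h, hd⟩
  choose f hf using hex
  have huniq : ∀ g h, (g, h) ∈ D → h = f g := by
    intro g h hgh
    have := hgraph _ (D.mul_mem (D.inv_mem (hf g)) hgh) (by simp)
    simp only [Prod.snd_mul, Prod.snd_inv] at this
    rw [inv_mul_eq_one] at this
    exact this.symm
  refine ⟨MonoidHom.mk' f ?_, ?_, ?_⟩
  · intro a b
    exact (huniq (a * b) (f a * f b) (D.mul_mem (hf a) (hf b))).symm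
  · intro x hx
    exact (huniq x _ (Subgroup.subset_closure (Or.inl (mk_mem_gr hx)))).symm
  · intro x hx
    exact (huniq x _ (Subgroup.subset_closure (Or.inr (mk_mem_gr hx)))).symm

end Cfsg.Agent.MonsterU.Glue
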