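import Cfsg.Agent.MonsterX.InstData

/-!
# `z` fixes the representative of the second orbit of axes (concrete model)
-/

set_option autoImplicit false

namespace Cfsg.Agent.MonsterU.HzOne

open Cfsg.Agent.Monster.VecEngine Cfsg.Agent.Monster.VecSpace Cfsg.Agent.MonsterX.Space
open Cfsg.Agent.MonsterX.ProgTable Cfsg.Agent.MonsterX.GensT Cfsg.Agent.MonsterX.ProgBase
open Cfsg.Agent.MonsterX.Conc Cfsg.Agent.MonsterX.Model Cfsg.Agent.MonsterX.InstData

theorem chk : check ((bj 1 ++ [45]).map prog) (up 7 a0B) ((bj 1).map prog) (up 7 a0B) = true := by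
  decide +kernel

/-- **`z (d j₁) = d j₁`** for the concrete model. -/
theorem hz₁ : M.z (M.d M.j₁) = M.d M.j₁ := by
  have h := W_eq_of_up chk
  rw [W_append, W_single] at h
  exact h

end Cfsg.Agent.MonsterU.HzOne
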