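import Cfsg.Agent.MonsterU.TwoQ

/-!
# No involutions of the Monster over the elements of square `-1` of `Co0`
-/

set_option autoImplicit false

namespace Cfsg.Agent.MonsterU.TwoB0

open Cfsg Cfsg.Spor Cfsg.Agent.LeechMat.Core Cfsg.Agent.MonsterX.KSide Cfsg.Agent.MonsterX.KLift
open Cfsg.Agent.MonsterX.FrameKS
open Cfsg.Agent.MonsterU.Lam2 Cfsg.Agent.MonsterU.TwoCls Cfsg.Agent.MonsterU.TwoQ
open Cfsg.Agent.SporadicA.Co1Simple (allOne_smul allOne)
open Cfsg.Agent.SporadicA.Co0Mono (signCo0)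
open Cfsg.Agent.MonsterU.InvTwo (ι_inj)

/-! ### Linear algebra -/

/-- Commuting involutive operators have a common eigenvector. -/
theorem exists_eigen {W ι : Type*} [AddCommGroup W] [Module ℚ W] (E : ι → Module.End ℚ W)
    (S : Finset ι) (hsq : ∀ a ∈ S, ∀ f, E a (E a f) = f)
    (hc : ∀ a ∈ S, ∀ b ∈ S, ∀ f, E a (E b f) = E b (E a f)) (h0 : ∃ f : W, f ≠ 0) :
    ∃ f : W, f ≠ 0 ∧ ∀ a ∈ S, E a f = f ∨ E a f = -f := by
  classical
  induction S using Finset.induction_on with
  | empty =>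
    obtain ⟨f, hf⟩ := h0
    exact ⟨f, hf, fun a ha => absurd ha (Finset.notMem_empty a)⟩
  | insert x S hx ih =>
    obtain ⟨f, hf, h⟩ := ih (fun a ha => hsq a (Finset.mem_insert_of_mem ha))
      (fun a ha b hb => hc a (Finset.mem_insert_of_mem ha) b (Finset.mem_insert_of_mem hb))
    by_cases he : f + E x f = 0
    · refine ⟨f, hf, fun a ha => ?_⟩
      rcases Finset.mem_insert.1 ha with rfl | ha
      · right
        exact (neg_eq_of_add_eq_zero_right he).symm
      · exact h a ha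
    · refine ⟨f + E x f, he, fun a ha => ?_⟩
      rcases Finset.mem_insert.1 ha with rfl | ha
      · left
        rw [map_add, hsq a (Finset.mem_insert_self _ _), add_comm]
      · have h1 := hc a (Finset.mem_insert_of_mem ha) x (Finset.mem_insert_self _ _) f
        rcases h a ha with e | e
        · left
          rw [map_add, h1, e]
        · right
          rw [map_add, h1, e, map_neg, neg_add]

theorem comm_avg {P W : Type*} [Group P] [Fintype P] [AddCommGroup W] [Module ℚ W]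
    (ρ : P →* Module.End ℚ W) (X : Module.End ℚ W) (q : P) :
    (∑ p, ρ p * X * ρ p⁻¹) * ρ q = ρ q * (∑ p, ρ p * X * ρ p⁻¹) := by
  rw [Finset.sum_mul, Finset.mul_sum]
  refine Fintype.sum_equiv (Equiv.mulLeft q⁻¹) _ _ (fun p => ?_)
  rw [Equiv.coe_mulLeft, mul_inv_rev, inv_inv, map_mul ρ q⁻¹ p, map_mul ρ p⁻¹ q]
  have h1 : ρ q * ρ q⁻¹ = 1 := by rw [← map_mul, mul_inv_cancel, map_one]
  calc ρ p * X * ρ p⁻¹ * ρ q = 1 * (ρ p * X * ρ p⁻¹ * ρ q) := (one_mul _).symm
    _ = (ρ q * ρ q⁻¹) * (ρ p * X * ρ p⁻¹ * ρ q) := by rw [h1]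
    _ = ρ q * (ρ q⁻¹ * ρ p * X * (ρ p⁻¹ * ρ q)) := by simp only [mul_assoc]

/-- The sum of a function changing sign under a fixed point free involution is zero. -/
theorem sum_eq_zero_of_flip {P : Type*} [Group P] [DecidableEq P] (S : Finset P) (χ : P → ℚ)
    (a₀ : P) (hmem : ∀ a ∈ S, a₀ * a ∈ S) (h2 : ∀ a, a₀ * (a₀ * a) = a)
    (hχ : ∀ a ∈ S, χ (a₀ * a) = -χ a) : ∑ a ∈ S, χ a = 0 := by
  have h1 : ∑ a ∈ S, χ a = ∑ a ∈ S, χ (a₀ * a) := by
    refine Finset.sum_bij' (fun a _ => a₀ * a) (fun a _ => a₀ * a) hmem hmem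
      (fun a _ => h2 a) (fun a _ => h2 a) ?_
    intro a _
    rw [h2]
  have h3 : ∑ a ∈ S, χ (a₀ * a) = -∑ a ∈ S, χ a := by
    rw [← Finset.sum_neg_distrib]
    exact Finset.sum_congr rfl hχ
  rw [h3] at h1
  linarith

/-! ### Elements of square `-1` -/

theorem smul_smul_neg {B : Co0} (hB : B * B = signCo0 allOne) (v : leechLattice) :
    B • B • v = -v := by
  rw [← mul_smul, hB]
  exact allOne_smul v

theorem dot_smul_self {B : Co0} (hB : B * B = signCo0 allOne) (v : leechLattice) :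
    dotInt ((B • v : leechLattice) : GolayPt → ℤ) (v : GolayPt → ℤ) = 0 := by
  have h1 := co0_dotInt B (B • v) v
  rw [smul_smul_neg hB] at h1
  have h2 : dotInt ((-v : leechLattice) : GolayPt → ℤ) ((B • v : leechLattice) : GolayPt → ℤ) =
      -dotInt ((B • v : leechLattice) : GolayPt → ℤ) (v : GolayPt → ℤ) := by
    rw [AddSubgroup.coe_neg, dotInt_neg_left, dotInt_comm]
  rw [h2] at h1
  omega

theorem qf_comm {B : Co0} (hB : B * B = signCo0 allOne) (y : L2) : qf (B • y + y) = 0 := by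
  obtain ⟨v, rfl⟩ := cl_surjective y
  rw [qf_add, qf_smul, smul_cl, bf_cl]
  have h1 : b0 (B • v) v = 0 := by
    unfold b0
    rw [dot_smul_self hB]
    decide
  rw [h1, add_zero]
  rcases zmod2 (qf (cl v)) with e | e <;> rw [e] <;> decide

theorem free_of_sq {B : Co0} (hB : B * B = signCo0 allOne) : Free B := by
  intro x hx
  obtain ⟨v, rfl⟩ := cl_surjective x
  rw [smul_cl] at hx
  obtain ⟨t, ht⟩ := cl_eq.1 hx
  refine ⟨cl t, ?_⟩
  have h1 : B • (B • v - v) = -v - B • v := by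
    rw [co0_smul_sub, smul_smul_neg hB]
  have h2 : (2 : ℕ) • v = (2 : ℕ) • -(B • t + t) := by
    have h3 : B • (2 • t : leechLattice) = 2 • (B • t) := smul_two B t
    rw [ht, h3] at h1
    have h4 : B • v = v + 2 • t := by rw [← ht]; abel
    rw [h4] at h1
    rw [smul_neg, smul_add, h1]
    simp only [two_smul]
    abel
  have h3 : v = -(B • t + t) := by
    apply Subtype.ext
    funext i
    have h4 := congrArg (fun w : leechLattice => (w : GolayPt → ℤ) i) h2
    simp only [two_smul] at h4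
    have h5 : (v : GolayPt → ℤ) i + (v : GolayPt → ℤ) i =
      ((-(B • t + t) : leechLattice) : GolayPt → ℤ) i + ((-(B • t + t) : leechLattice) : GolayPt → ℤ) i := h4
    omega
  rw [h3, cl_neg, map_add, smul_cl]

variable {G V P W : Type*} [Group G] [AddCommGroup V] [Module ℚ V]
  [DistribMulAction G V] [SMulCommClass G ℚ V] [Group P] [AddCommGroup W] [Module ℚ W]
  {M : KS G V P W} {θ : leechLattice → P}


/-- **No involutions over the elements of square `-1`.** -/
theorem two_b0 (L : Lift M θ) {u : G} {A : Co0} (huK : u ∈ M.K) (hu : Ind M u A)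
    (hA : A * A = signCo0 allOne) : u * u ≠ 1 := by
  classical
  intro hu2
  obtain ⟨B, α, T, hB⟩ := M.acts u huK
  have hBA : B = A ∨ B = A * signCo0 allOne :=
    (Cfsg.Agent.CoOneType.ClosingFacts.mk_eq B A).1 (Ind_mk_eq hB.act_u hu)
  have hB2 : B * B = signCo0 allOne := by
    rcases hBA with e | e
    · rw [e, hA]
    · have hz : signCo0 allOne ∈ Subgroup.center Co0 :=
        Cfsg.Agent.SporadicA.Co1Simple.allOne_mem_center
      have hz2 : signCo0 allOne * signCo0 allOne = 1 := by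
        rw [← Cfsg.Agent.SporadicA.Co0Mono.signCo0_add]
        have : (allOne + allOne : golayCode) = 0 := by
          apply Subtype.ext
          funext i
          show (1 : ZMod 2) + 1 = 0
          decide
        rw [this, Cfsg.Agent.SporadicA.Co0Mono.signCo0_zero]
      have h1 := Subgroup.mem_center_iff.1 hz A
      rw [e]
      calc A * signCo0 allOne * (A * signCo0 allOne)
          = A * (signCo0 allOne * A) * signCo0 allOne := by group
        _ = A * (A * signCo0 allOne) * signCo0 allOne := by rw [h1]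
        _ = A * A * (signCo0 allOne * signCo0 allOne) := by group
        _ = _ := by rw [hA, hz2, mul_one]
  -- `α` is an involution
  have hα : ∀ p, α (α p) = p := by
    intro p
    apply ι_inj L
    have h4 : u * (u * M.ι p) = M.ι (α (α p)) * (u * u) := by
      rw [conj_ι hB, ← mul_assoc, conj_ι hB, mul_assoc]
    rw [← mul_assoc, hu2, one_mul, mul_one] at h4
    exact h4.symm
  have hclα : ∀ p, clP L (α p) = B • clP L p := clP_act L hB
  -- the square of `T`
  obtain ⟨c, hc⟩ := M.comm_scalar (T * T) (by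
    intro p f
    show T (T (M.ρ p f)) = M.ρ p (T (T f))
    rw [hB.act_ρ, hB.act_ρ, hα])
  have hc' : ∀ f, T (T f) = c • f := hc
  obtain ⟨g, v, hgv⟩ := M.Θ_ne
  have hc1 : c = -1 := by
    have h1 : u • u • M.Θ g (rat v) = M.Θ g (rat v) := by
      rw [← mul_smul, hu2, one_smul]
    rw [hB.act_Θ, hB.act_Θ, smul_smul_neg hB2, hc', rat_neg, map_neg, map_smul,
      LinearMap.smul_apply] at h1
    have h2 : (c + 1) • M.Θ g (rat v) = 0 := by
      rw [add_smul, one_smul]
      nth_rewrite 2 [← h1]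
      rw [add_neg_cancel]
    rcases smul_eq_zero.1 h2 with h3 | h3
    · linarith
    · exact absurd h3 hgv
  have hg0 : g ≠ 0 := by
    rintro rfl
    apply hgv
    rw [map_zero, LinearMap.zero_apply]
  -- the group `U`
  let U : Subgroup P :=
    { carrier := {p | ∃ y : L2, clP L p = B • y + y}
      one_mem' := ⟨0, by rw [clP_one, smul_zero, add_zero]⟩
      mul_mem' := by
        rintro a b ⟨y, hy⟩ ⟨y', hy'⟩
        refine ⟨y + y', ?_⟩
        rw [clP_mul, hy, hy', smul_add]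
        abel
      inv_mem' := by
        rintro a ⟨y, hy⟩
        exact ⟨y, by rw [clP_inv, hy]⟩ }
  have hU : ∀ p, p ∈ U ↔ ∃ y : L2, clP L p = B • y + y := fun p => Iff.rfl
  have hzU : M.zc ∈ U := (hU _).2 ⟨0, by rw [clP_zc, smul_zero, add_zero]⟩
  have hUsq : ∀ a ∈ U, a * a = 1 := by
    intro a ha
    obtain ⟨y, hy⟩ := (hU a).1 ha
    rw [sq_iff_qf L, hy, qf_comm hB2]
  have hUα : ∀ a ∈ U, α a = a := by
    intro a ha
    obtain ⟨y, hy⟩ := (hU a).1 ha
    obtain ⟨s, rfl⟩ := clP_surjective L y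
    have h1 : clP L a = clP L (α s * s⁻¹) := by rw [hy, clP_mul, clP_inv, hclα]
    have h2 : α s * s⁻¹ ∈ U := (hU _).2 ⟨clP L s, by rw [clP_mul, clP_inv, hclα]⟩
    have h3 := hUsq _ h2
    have h4 : α (α s * s⁻¹) = α s * s⁻¹ := by
      have h5 : (α s * s⁻¹)⁻¹ = α s * s⁻¹ := inv_eq_of_mul_eq_one_left h3
      have h6 : α (α s * s⁻¹) = (α s * s⁻¹)⁻¹ := by
        rw [map_mul, map_inv, hα, mul_inv_rev, inv_inv]
      rw [h6, h5]
    rcases (clP_eq' L).1 h1 with e | e
    · rw [e, h4]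
    · rw [e, map_mul, α_zc L, h4]
  have hUcomm : ∀ a ∈ U, ∀ b ∈ U, a * b = b * a := by
    intro a ha b hb
    have h1 := hUsq _ (U.mul_mem ha hb)
    have h2 := hUsq a ha
    have h3 := hUsq b hb
    calc a * b = (a * b)⁻¹ := (inv_eq_of_mul_eq_one_left h1).symm
      _ = b⁻¹ * a⁻¹ := mul_inv_rev a b
      _ = b * a := by rw [inv_eq_of_mul_eq_one_left h2, inv_eq_of_mul_eq_one_left h3]
  have hUself : ∀ p, (∀ a ∈ U, p * a = a * p) → p ∈ U := by
    intro p hp
    have h1 : ∀ y : L2, bf (clP L p) (B • y + y) = 0 := by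
      intro y
      obtain ⟨s, rfl⟩ := clP_surjective L y
      have h2 : α s * s⁻¹ ∈ U := (hU _).2 ⟨clP L s, by rw [clP_mul, clP_inv, hclα]⟩
      have h3 := (comm_iff_bf L p _).1 (hp _ h2)
      rwa [clP_mul, clP_inv, hclα] at h3
    have h2 : B • clP L p + clP L p = 0 := by
      apply bf_nondeg
      intro y
      have h3 : bf (B • clP L p) y = bf (clP L p) (B⁻¹ • y) := by
        have := bf_smul B (clP L p) (B⁻¹ • y)
        rwa [smul_inv_smul] at this
      have h4 := h1 (B⁻¹ • y)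
      rw [smul_inv_smul, bf_add_right] at h4
      rw [bf_add_left, h3, add_comm]
      exact h4
    exact (hU p).2 (free_of_sq hB2 _ (eq_of_add_eq_zero h2))
  -- the common eigenvector
  have hfinP : Finite P := Nat.finite_of_card_ne_zero (by rw [L.card]; norm_num)
  have : Fintype P := Fintype.ofFinite P
  let S : Finset P := Finset.univ.filter fun a => a ∈ U
  have hS : ∀ a, a ∈ S ↔ a ∈ U := fun a => by
    simp only [S, Finset.mem_filter, Finset.mem_univ, true_and]
  have hρρ : ∀ a b f, M.ρ a (M.ρ b f) = M.ρ (a * b) f := fun a b f => by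
    rw [map_mul]; rfl
  obtain ⟨f₀, hf₀, hev⟩ := exists_eigen (fun a => M.ρ a) S (by
    intro a ha f
    rw [hρρ, hUsq a ((hS a).1 ha), map_one]; rfl) (by
    intro a ha b hb f
    rw [hρρ, hρρ, hUcomm a ((hS a).1 ha) b ((hS b).1 hb)]) ⟨g, hg0⟩
  let lam : P → ℚ := fun a => if M.ρ a f₀ = f₀ then 1 else -1
  have hlam : ∀ a ∈ U, M.ρ a f₀ = lam a • f₀ := by
    intro a ha
    simp only [lam]
    split_ifs with h
    · rw [one_smul]; exact h
    · rw [neg_smul, one_smul]
      exact (hev a ((hS a).2 ha)).resolve_left h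
  have hlam1 : ∀ a, lam a = 1 ∨ lam a = -1 := by
    intro a
    simp only [lam]
    split_ifs
    · exact Or.inl rfl
    · exact Or.inr rfl
  have hlam2 : ∀ a, lam a * lam a = 1 := by
    intro a
    rcases hlam1 a with e | e <;> rw [e] <;> norm_num
  have hinj : ∀ {s t : ℚ}, s • f₀ = t • f₀ → s = t := by
    intro s t h
    have h1 : (s - t) • f₀ = 0 := by rw [sub_smul, h, sub_self]
    rcases smul_eq_zero.1 h1 with h2 | h2
    · linarith
    · exact absurd h2 hf₀
  have hlammul : ∀ a ∈ U, ∀ b ∈ U, lam (a * b) = lam a * lam b := by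
    intro a ha b hb
    apply hinj
    rw [← hlam _ (U.mul_mem ha hb), ← hρρ, hlam b hb, map_smul, hlam a ha, smul_smul, mul_comm]
  have hlamz : lam M.zc = -1 := by
    apply hinj
    rw [← hlam _ hzU, M.ρ_z, neg_smul, one_smul]
  -- the projection
  let π : Module.End ℚ W := ∑ a ∈ S, lam a • M.ρ a
  let N : Module.End ℚ W := ∑ p, M.ρ p * (T * π) * M.ρ p⁻¹
  obtain ⟨c', hN⟩ := M.comm_scalar N (by
    intro p f
    have := congrArg (fun X : Module.End ℚ W => X f) (comm_avg M.ρ (T * π) p)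
    exact this)
  have hconj : ∀ p, ∀ a, p * a * p⁻¹ = a ∨ p * a * p⁻¹ = M.zc * a := M.comm_or
  -- `π (ρ p⁻¹ f₀)`
  have hπ : ∀ p, π (M.ρ p⁻¹ f₀) = (∑ a ∈ S, lam a * lam (p * a * p⁻¹)) • M.ρ p⁻¹ f₀ := by
    intro p
    simp only [π]
    rw [LinearMap.sum_apply, Finset.sum_smul]
    refine Finset.sum_congr rfl fun a ha => ?_
    have haU := (hS a).1 ha
    have h1 : p * a * p⁻¹ ∈ U := by
      rcases hconj p a with e | e <;> rw [e]
      · exact haU
      · exact U.mul_mem hzU haU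
    rw [LinearMap.smul_apply, hρρ, mul_smul]
    congr 1
    have h2 : a * p⁻¹ = p⁻¹ * (p * a * p⁻¹) := by group
    rw [h2, ← hρρ, hlam _ h1, map_smul]
  have hχ : ∀ p, p ∉ U → ∑ a ∈ S, lam a * lam (p * a * p⁻¹) = 0 := by
    intro p hp
    obtain ⟨a₀, ha₀, hne⟩ : ∃ a₀ ∈ U, p * a₀ ≠ a₀ * p := by
      by_contra hcon
      push Not at hcon
      exact hp (hUself p hcon)
    have ha₀z : p * a₀ * p⁻¹ = M.zc * a₀ := by
      rcases hconj p a₀ with e | e
      · exact absurd (mul_inv_eq_iff_eq_mul.1 e) hne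
      · exact e
    refine sum_eq_zero_of_flip S _ a₀ ?_ ?_ ?_
    · intro a ha
      exact (hS _).2 (U.mul_mem ha₀ ((hS a).1 ha))
    · intro a
      rw [← mul_assoc, hUsq a₀ ha₀, one_mul]
    · intro a ha
      have haU := (hS a).1 ha
      have h1 : p * a * p⁻¹ ∈ U := by
        rcases hconj p a with e | e <;> rw [e]
        · exact haU
        · exact U.mul_mem hzU haU
      have h2 : p * (a₀ * a) * p⁻¹ = M.zc * (a₀ * (p * a * p⁻¹)) := by
        calc p * (a₀ * a) * p⁻¹ = (p * a₀ * p⁻¹) * (p * a * p⁻¹) := by group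
          _ = _ := by rw [ha₀z, mul_assoc]
      rw [h2, hlammul _ ha₀ _ haU, hlammul _ hzU _ (U.mul_mem ha₀ h1), hlammul _ ha₀ _ h1, hlamz]
      have h3 := hlam2 a₀
      linear_combination -(lam a * lam (p * a * p⁻¹)) * h3
  have hχ1 : ∀ p ∈ U, ∑ a ∈ S, lam a * lam (p * a * p⁻¹) = S.card := by
    intro p hp
    rw [Finset.sum_congr rfl (g := fun _ => (1 : ℚ))]
    · simp
    · intro a ha
      rw [hUcomm p hp a ((hS a).1 ha), mul_inv_cancel_right, hlam2]
  have hTU : ∀ p ∈ U, ∀ f, T (M.ρ p f) = M.ρ p (T f) := by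
    intro p hp f
    rw [hB.act_ρ, hUα p hp]
  have hNf : N f₀ = ((S.card : ℚ) * S.card) • T f₀ := by
    simp only [N]
    rw [LinearMap.sum_apply]
    have h1 : ∀ p, (M.ρ p * (T * π) * M.ρ p⁻¹) f₀ =
        if p ∈ U then (S.card : ℚ) • T f₀ else 0 := by
      intro p
      show M.ρ p (T (π (M.ρ p⁻¹ f₀))) = _
      rw [hπ]
      split_ifs with h
      · rw [hχ1 p h, map_smul, map_smul, hTU _ (U.inv_mem h), hρρ, mul_inv_cancel, map_one]
        rfl
      · rw [hχ p h, zero_smul, map_zero, map_zero]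
    rw [Finset.sum_congr rfl fun p _ => h1 p, ← Finset.sum_filter, Finset.sum_const]
    rw [← Nat.cast_smul_eq_nsmul ℚ, smul_smul]
  have hScard : (S.card : ℚ) ≠ 0 := by
    have : 0 < S.card := Finset.card_pos.2 ⟨1, (hS 1).2 U.one_mem⟩
    exact_mod_cast this.ne'
  -- `T f₀` is a multiple of `f₀`
  obtain ⟨d, hd⟩ : ∃ d : ℚ, T f₀ = d • f₀ := by
    refine ⟨((S.card : ℚ) * S.card)⁻¹ * c', ?_⟩
    rw [mul_smul, ← hN, hNf, inv_smul_smul₀ (mul_ne_zero hScard hScard)]
  have h1 := hc' f₀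
  rw [hd, map_smul, hd, smul_smul] at h1
  have h2 := hinj h1
  rw [hc1] at h2
  nlinarith [mul_self_nonneg d]

end Cfsg.Agent.MonsterU.TwoB0
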