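import Cfsg.Agent.MonsterU.TwoQ
import Cfsg.Agent.MonsterU.InvTwoLat

/-!
# Involutions of the Monster over the sign change on a dodecad
-/

set_option autoImplicit false

namespace Cfsg.Agent.MonsterU.TwoDod

open Cfsg Cfsg.Spor Cfsg.Agent.MonsterX.KSide Cfsg.Agent.MonsterX.KLift
open Cfsg.Agent.MonsterX.FrameKS
open Cfsg.Agent.MonsterU.Lam2 Cfsg.Agent.MonsterU.TwoCls Cfsg.Agent.MonsterU.InvTwo
open Cfsg.Agent.MonsterU.TwoQ Cfsg.Agent.MonsterU.InvTwoLat
open Cfsg.Agent.SporadicA.Co0Mono Cfsg.Agent.SporadicA.Co1Simple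
open Cfsg.Agent.CoOneType.ClosingFacts Cfsg.Agent.SporadicStructure.Co0Base
open Cfsg.Agent.Leech.Basic Cfsg.Agent.Leech.Code

/-! ### The lattice lemma -/

/-- **Lemma X** for dodecads: a vector whose class modulo `2Λ` is fixed is congruent modulo the commutators
to a vector with all coordinates divisible by 4. -/
theorem exists_form_dod {O : Finset GolayPt} (hOw : O ∈ Words) (hO12 : O.card = 12) {ε : Co0}
    (hε : IsEps ε O) (x : leechLattice) (hx : ∃ t : leechLattice, x - ε • x = 2 • t) :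
    ∃ (r w : leechLattice), Cl ((x + (r - ε • r) + 2 • w : leechLattice) : GolayPt → ℤ) ∅ := by
  obtain ⟨t, ht⟩ := hx
  have ht' : ∀ i, (t : GolayPt → ℤ) i = chi O i * (x : GolayPt → ℤ) i := by
    intro i
    have h1 := congrArg (fun v : leechLattice => (v : GolayPt → ℤ) i) ht
    simp only [hε.sub, coe_two] at h1
    omega
  obtain ⟨i₀, hi₀⟩ : O.Nonempty := by rw [← Finset.card_pos]; omega
  obtain ⟨j₀, hj₀⟩ : ∃ j, j ∉ O := by
    by_contra hcon
    push Not at hcon
    have h1 : O = Finset.univ := Finset.eq_univ_of_forall hcon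
    rw [h1, Finset.card_univ, card_golayPt] at hO12
    omega
  have ht0 : IsLeech 0 (t : GolayPt → ℤ) := even_of_zero (j := j₀) (by
    rw [ht', chi_not_mem hj₀, zero_mul])
  have hx0 : IsLeech 0 (x : GolayPt → ℤ) := by
    rcases isLeech_zero_or_one x.2 with h1 | h1
    · exact h1
    · exfalso
      have h2 := h1.par i₀
      have h3 := ht0.par i₀
      rw [ht', chi_mem hi₀, one_mul] at h3
      unfold Int.ModEq at h2 h3
      omega
  obtain ⟨B, hB, hxB⟩ := exists_cl hx0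
  have hBO : B ∩ O ∈ Words := by
    obtain ⟨B', hB', htB'⟩ := exists_cl ht0
    have h1 : Cl (t : GolayPt → ℤ) (B ∩ O) := by
      intro i
      have h2 := hxB i
      rw [ht']
      unfold chi at h2 ⊢
      by_cases h3 : i ∈ O <;> by_cases h4 : i ∈ B <;> simp only [h3, h4, Finset.mem_inter, if_true,
        if_false, and_true, and_false, and_self] at h2 ⊢ <;> omega
    rwa [cl_unique h1 htB']
  -- no word of weight 8 inside a dodecad
  have hno : ∀ {A D : Finset GolayPt}, A ∈ Words → D ∈ Words → D.card = 12 → A ⊆ D →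
      A = ∅ ∨ A = D := by
    intro A D hA hD hD12 hAD
    have h1 : symmDiff A D = D \ A := by
      ext i
      simp only [Finset.mem_symmDiff, Finset.mem_sdiff]
      constructor
      · rintro (⟨h, h'⟩ | h)
        · exact absurd (hAD h) h'
        · exact h
      · exact fun h => Or.inr h
    have h2 := card_words (symmDiff_mem hA hD)
    rw [h1] at h2
    have h3 : (D \ A).card = D.card - A.card := by
      rw [Finset.card_sdiff, Finset.inter_eq_left.2 hAD]
    have h4 := card_words hA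
    have h5 := Finset.card_le_card hAD
    have h6 : A.card = 0 ∨ A.card = 12 := by omega
    rcases h6 with h | h
    · exact Or.inl (Finset.card_eq_zero.1 h)
    · exact Or.inr (Finset.eq_of_subset_of_card_le hAD (by omega))
  -- make `B` disjoint from `O`
  obtain ⟨r₁, B₁, hB₁, hB₁O, hx₁⟩ : ∃ (r : leechLattice) (B₁ : Finset GolayPt), B₁ ∈ Words ∧
      Disjoint B₁ O ∧ Cl ((x + (r - ε • r) : leechLattice) : GolayPt → ℤ) B₁ := by
    rcases hno hBO hOw hO12 Finset.inter_subset_right with h | h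
    · refine ⟨0, B, hB, Finset.disjoint_iff_inter_eq_empty.2 h, ?_⟩
      have : x + (0 - ε • (0 : leechLattice)) = x := by
        rw [Cfsg.Agent.SporadicStructure.Co0Base.co0_smul_zero]; abel
      rw [this]
      exact hxB
    · have hsub : O ⊆ B := by
        rw [← h]; exact Finset.inter_subset_left
      refine ⟨r₀, symmDiff B O, symmDiff_mem hB hOw, ?_, ?_⟩
      · rw [Finset.disjoint_left]
        intro i hi hiO
        rw [Finset.mem_symmDiff] at hi
        rcases hi with ⟨-, h2⟩ | ⟨-, h2⟩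
        · exact h2 hiO
        · exact h2 (hsub hiO)
      · rw [add_coe]
        exact hxB.add (cl_r₀_sub hε)
  have hcompl : (Oᶜ).card = 12 := by rw [Finset.card_compl, card_golayPt]; omega
  have hsub : B₁ ⊆ Oᶜ := by
    intro i hi
    rw [Finset.mem_compl]
    exact Finset.disjoint_left.1 hB₁O hi
  rcases hno hB₁ (compl_mem hOw) hcompl hsub with h | h
  · refine ⟨r₁, 0, ?_⟩
    rw [_root_.smul_zero, add_zero]
    rwa [h] at hx₁
  · have hB₁' : symmDiff B₁ (symmDiff O Finset.univ) = ∅ := by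
      rw [h]
      ext i
      simp only [Finset.mem_symmDiff, Finset.mem_compl, Finset.mem_univ, Finset.notMem_empty,
        iff_false]
      tauto
    refine ⟨r₁ + r₀, r₀, ?_⟩
    have e : x + (r₁ + r₀ - ε • (r₁ + r₀)) + 2 • r₀ =
        (x + (r₁ - ε • r₁)) + ((r₀ - ε • r₀) + 2 • r₀) := by
      rw [Cfsg.Agent.SporadicStructure.Co0Base.co0_smul_add]; abel
    rw [e, add_coe, ← hB₁']
    refine hx₁.add ?_
    rw [add_coe]
    exact (cl_r₀_sub hε).add cl_two_r₀

theorem cl_e8_ne (i : GolayPt) : cl (e8 i) ≠ 0 := by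
  intro e
  obtain ⟨v, hv⟩ := cl_eq_zero.1 e
  have hv1 : ∀ j, 2 * (v : GolayPt → ℤ) j = if j = i then 8 else 0 := by
    intro j
    have h1 := congrArg (fun w : leechLattice => (w : GolayPt → ℤ) j) hv
    simp only [coe_two] at h1
    rw [← h1, e8_coe, Pi.single_apply]
  have h5 : sqNorm (v : GolayPt → ℤ) = 16 := by
    unfold sqNorm
    rw [Finset.sum_eq_single i]
    · have := hv1 i
      rw [if_pos rfl] at this
      have h6 : (v : GolayPt → ℤ) i = 4 := by omega
      rw [h6]; norm_num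
    · intro j _ hj
      have := hv1 j
      rw [if_neg hj] at this
      have h6 : (v : GolayPt → ℤ) j = 0 := by omega
      rw [h6]; norm_num
    · intro h; exact absurd (Finset.mem_univ _) h
  have hv0 : (v : GolayPt → ℤ) ≠ 0 := by
    intro e0
    have := hv1 i
    rw [e0, if_pos rfl] at this
    norm_num at this
  have h8 := Cfsg.Agent.S0391.result v v.2 hv0
  omega

/-- The class of `4 e_i + 4 e_j` is moved by the sign change on `O` when `O` separates `i` and `j`. -/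
theorem pr_moved {O : Finset GolayPt} {ε : Co0} (hε : IsEps ε O) {i j : GolayPt} (hi : i ∈ O)
    (hj : j ∉ O) : ε • cl (pr i j) ≠ cl (pr i j) := by
  intro e
  rw [smul_cl] at e
  apply cl_e8_ne i
  have hij : i ≠ j := fun h => hj (h ▸ hi)
  have h1 : (pr i j - ε • pr i j : leechLattice) = e8 i := by
    apply Subtype.ext
    funext k
    rw [hε.sub, pr_coe, e8_coe, Pi.single_apply]
    by_cases hki : k = i
    · subst hki
      rw [chi_mem hi]
      simp [hij]
    · by_cases hkj : k = j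
      · subst hkj
        rw [chi_not_mem hj]
        simp [hki]
      · simp [hki, hkj]
  rw [← h1, cl_sub, e, add_self]

theorem sqNorm_pr {i j : GolayPt} (hij : i ≠ j) : sqNorm ((pr i j : leechLattice) : GolayPt → ℤ) = 32 := by
  unfold sqNorm
  have h4 : ∀ k, ((pr i j : leechLattice) : GolayPt → ℤ) k ^ 2 =
      (if k = i then 16 else 0) + (if k = j then 16 else 0) := by
    intro k
    rw [pr_coe]
    by_cases hki : k = i
    · subst hki
      simp [hij]
    · by_cases hkj : k = j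
      · subst hkj
        simp [hki]
      · simp [hki, hkj]
  simp only [h4]
  rw [Finset.sum_add_distrib, Finset.sum_ite_eq', Finset.sum_ite_eq']
  simp

/-! ### The group part -/

variable {G V P W : Type*} [Group G] [AddCommGroup V] [Module ℚ V]
  [DistribMulAction G V] [SMulCommClass G ℚ V] [Group P] [AddCommGroup W] [Module ℚ W]
  {M : KS G V P W} {θ : leechLattice → P} {Γ : Subgroup G} {τ : G} {y : P}

theorem four_dvd_pr (i j k : GolayPt) : (4 : ℤ) ∣ ((pr i j : leechLattice) : GolayPt → ℤ) k :=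
  ⟨_, pr_coe i j k⟩

theorem Y_mul (a b : P) : τ * M.ι (a * b) * τ⁻¹ = (τ * M.ι a * τ⁻¹) * (τ * M.ι b * τ⁻¹) := by
  rw [map_mul]; group

/-- There is an involution in `Y ∩ K` over the sign change on a word which separates two points. -/
theorem exists_inv_Y (L : Lift M θ) (H : TauHyp M θ Γ τ y) {c : golayCode} {O : Finset GolayPt}
    (hε : IsEps (signCo0 c) O) {i j : GolayPt} (hi : i ∈ O) (hj : j ∉ O) :
    ∃ q : P, q * q = 1 ∧ τ * M.ι q * τ⁻¹ ∈ M.K ∧ Ind M (τ * M.ι q * τ⁻¹) (signCo0 c) := by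
  obtain ⟨q, hqK, hq⟩ := H.sgn c
  rcases L.sq q with h | h
  · exact ⟨q, h, hqK, hq⟩
  · have hij : i ≠ j := fun e => hj (e ▸ hi)
    obtain ⟨q', hq'⟩ := H.E_mem (pr i j) (four_dvd_pr i j)
    have hθ2 : θ (pr i j) * θ (pr i j) = 1 := by
      rw [sq_iff_qf L, clP_θ, qf_cl_eq_zero, sqNorm_pr hij]
    have hq'2 : q' * q' = 1 := by
      apply ι_inj L
      have h1 : τ * M.ι (q' * q') * τ⁻¹ = 1 := by
        rw [Y_mul, ← hq', ← map_mul, hθ2, map_one]
      rw [mul_inv_eq_one, mul_eq_left] at h1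
      rw [h1, map_one]
    have hs : τ * M.ι (q * q') * τ⁻¹ = (τ * M.ι q * τ⁻¹) * M.ι (θ (pr i j)) := by
      rw [Y_mul, hq']
    refine ⟨q * q', ?_, ?_, ?_⟩
    · by_contra hne
      -- then `q` and `q'` commute
      have hcomm : q * q' = q' * q := by
        by_contra hnc
        have h2 := sq_mul_ncomm (M := M) hnc
        rw [h, hq'2, mul_one, M.zc_mul] at h2
        exact hne h2
      have h3 : (τ * M.ι q * τ⁻¹) * M.ι (θ (pr i j)) = M.ι (θ (pr i j)) * (τ * M.ι q * τ⁻¹) := by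
        rw [hq', ← Y_mul, ← Y_mul, hcomm]
      obtain ⟨α, h4, h5⟩ := aut L hqK hq
      rw [h4] at h3
      have h6 : α (θ (pr i j)) = θ (pr i j) := ι_inj L (mul_right_cancel h3)
      have h7 := h5 (θ (pr i j))
      rw [h6, clP_θ] at h7
      exact pr_moved hε hi hj h7.symm
    · rw [hs]
      exact M.K.mul_mem hqK (M.ι_mem _)
    · rw [hs]
      have := hq.mul (ind_ι (M := M) (θ (pr i j)))
      rwa [mul_one] at this

/-- **Involutions over the sign change on a dodecad.** -/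
theorem two_dod (L : Lift M θ) (H : TauHyp M θ Γ τ y) {c : golayCode}
    (hc : (support₂ (c : GolayPt → ZMod 2)).card = 12) {u : G} (huK : u ∈ M.K) (hu2 : u * u = 1)
    (hu : Ind M u (signCo0 c)) : Con M Γ u := by
  obtain ⟨O, hO⟩ : ∃ O, O = support₂ (c : GolayPt → ZMod 2) := ⟨_, rfl⟩
  have hε : IsEps (signCo0 c) O := hO ▸ isEps_sign c
  have hOw : O ∈ Words := hO ▸ ⟨c, c.2, rfl⟩
  rw [← hO] at hc
  obtain ⟨i, hi⟩ : O.Nonempty := by rw [← Finset.card_pos]; omega
  obtain ⟨j, hj⟩ : ∃ j, j ∉ O := by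
    by_contra hcon
    push Not at hcon
    have h1 : O = Finset.univ := Finset.eq_univ_of_forall hcon
    rw [h1, Finset.card_univ, card_golayPt] at hc
    omega
  obtain ⟨q, hq2, hsK, hs⟩ := exists_inv_Y L H hε hi hj
  obtain ⟨s, hs_def⟩ : ∃ s, s = τ * M.ι q * τ⁻¹ := ⟨_, rfl⟩
  rw [← hs_def] at hsK hs
  have hs2 : s * s = 1 := by
    rw [hs_def, ← Y_mul, hq2, map_one]; group
  obtain ⟨p, rfl⟩ := Ind_eq_ι huK hsK hu hs
  have hfix := fixed_of_sq L hsK hs (Or.inl hs2) (Or.inl hu2)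
  obtain ⟨α, hα1, hα2⟩ := aut L hsK hs
  obtain ⟨x, hx⟩ := cl_surjective (clP L p)
  have hx2 : ∃ t : leechLattice, x - signCo0 c • x = 2 • t := by
    rw [← cl_eq, ← smul_cl, hx, hfix]
  obtain ⟨r, w, hrw⟩ := exists_form_dod hOw hc hε x hx2
  obtain ⟨x', hx'⟩ : ∃ x' : leechLattice, x' = x + (r - signCo0 c • r) + 2 • w := ⟨_, rfl⟩
  rw [← hx'] at hrw
  have hcl : cl x' = clP L (θ r * p * (α (θ r))⁻¹) := by
    rw [hx', map_add, map_add, cl_two, add_zero, cl_sub, ← smul_cl, clP_mul, clP_mul, clP_inv, hα2,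
      clP_θ, hx]
    abel
  have hconj : M.ι (θ r) * (M.ι p * s) * (M.ι (θ r))⁻¹ = M.ι (θ r * p * (α (θ r))⁻¹) * s := by
    have h9 : s * (M.ι (θ r))⁻¹ = (M.ι (α (θ r)))⁻¹ * s := by
      rw [← map_inv, hα1, map_inv, map_inv]
    rw [map_mul, map_mul, map_inv]
    calc M.ι (θ r) * (M.ι p * s) * (M.ι (θ r))⁻¹ = M.ι (θ r) * M.ι p * (s * (M.ι (θ r))⁻¹) := by
          group
      _ = _ := by rw [h9]; group
  obtain ⟨q₁, hq₁⟩ := H.E_mem x' hrw.dvd
  obtain ⟨q₂, hq₂⟩ := H.z_mem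
  have hY : ∃ q₃, M.ι (θ r) * (M.ι p * s) * (M.ι (θ r))⁻¹ = τ * M.ι q₃ * τ⁻¹ := by
    rw [hconj]
    have h1 : Eqz M (θ r * p * (α (θ r))⁻¹) (θ x') := (clP_eq_cl L).1 hcl.symm
    rcases h1 with e | e
    · exact ⟨q₁ * q, by rw [e, Y_mul, ← hq₁, hs_def]⟩
    · refine ⟨q₂ * q₁ * q, ?_⟩
      rw [e, Y_mul, Y_mul, ← hq₁, ← hq₂, hs_def, map_mul]
      rfl
  obtain ⟨q₃, hq₃⟩ := hY
  have hΓ : τ⁻¹ * M.ι (θ r) ∈ Γ := Γ.mul_mem (Γ.inv_mem H.τ_mem) (H.K_le (M.ι_mem _))
  apply Con.conj hΓ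
  have e1 : τ⁻¹ * M.ι (θ r) * (M.ι p * s) * (τ⁻¹ * M.ι (θ r))⁻¹ = M.ι q₃ := by
    calc τ⁻¹ * M.ι (θ r) * (M.ι p * s) * (τ⁻¹ * M.ι (θ r))⁻¹
        = τ⁻¹ * (M.ι (θ r) * (M.ι p * s) * (M.ι (θ r))⁻¹) * τ := by group
      _ = M.ι q₃ := by rw [hq₃]; group
  rw [e1]
  refine two_Q L H q₃ ?_ ?_
  · rw [← e1]
    calc τ⁻¹ * M.ι (θ r) * (M.ι p * s) * (τ⁻¹ * M.ι (θ r))⁻¹ *
        (τ⁻¹ * M.ι (θ r) * (M.ι p * s) * (τ⁻¹ * M.ι (θ r))⁻¹)
        = τ⁻¹ * M.ι (θ r) * ((M.ι p * s) * (M.ι p * s)) * (τ⁻¹ * M.ι (θ r))⁻¹ := by group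
      _ = 1 := by rw [hu2]; group
  · intro e
    rw [e, mul_inv_eq_one, mul_eq_left] at e1
    rw [e1] at hu
    have h2 := Ind_mk_eq hu (Ind.one M)
    have h3 : signCo0 c • cl (pr i j) = (1 : Co0) • cl (pr i j) := smul_eq_of_mk h2 _
    rw [one_smul] at h3
    exact pr_moved hε hi hj h3

end Cfsg.Agent.MonsterU.TwoDod
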