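import Cfsg.Agent.MonsterU.InvPairMain
import Cfsg.Agent.MonsterU.TwoDod
import Cfsg.Agent.MonsterU.TwoB0
import Cfsg.Agent.CoOneType.InvBridge
import Cfsg.Agent.Leech.Min

/-!
Pairs `(t, u)` of commuting involutions, `t` over a short vector and `u ∈ K`: either `u` is in `ι P` or the pair is
conjugate in `K` to a pair of elements of `Y = τ ι(P) τ⁻¹`.
-/

set_option autoImplicit false

namespace Cfsg.Agent.MonsterU.InvPair

open Cfsg Cfsg.Agent.LeechMat.Core Cfsg.Agent.MonsterX.KSide Cfsg.Agent.MonsterX.KLift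
open Cfsg.Agent.MonsterX.FrameKS Cfsg.Agent.MonsterU.InvTwo
open Cfsg.Agent.SporadicStructure.Co0Base (e8 e8_coe)
open Cfsg.Agent.SporadicA.Co0Mono (signCo0 permCo0 wordPerm permCo0_smul signCo0_smul)
open Cfsg.Agent.MonsterU.InvTwoLat
open Cfsg.Agent.Leech.Basic (chi chi_mem chi_not_mem)
open Cfsg.Agent.Leech.Min Cfsg.Agent.Leech.Code
open Cfsg.Agent.SporadicA Cfsg.Agent.SporadicA.Xi

/-! ### Lattice facts -/

/-- A short vector fixed modulo 2 by a sign change is supported on the set or on its complement. -/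
theorem supp_of_fixed {ε : Co0} {O : Finset GolayPt} (hε : IsEps ε O) {v : leechLattice}
    (hv : sqNorm (v : GolayPt → ℤ) = 32) (h : ∃ t : leechLattice, v - ε • v = 2 • t) :
    (∀ m, m ∉ O → (v : GolayPt → ℤ) m = 0) ∨ ∀ m, m ∈ O → (v : GolayPt → ℤ) m = 0 := by
  obtain ⟨t, ht⟩ := h
  have h1 : ∀ m, (t : GolayPt → ℤ) m = chi O m * (v : GolayPt → ℤ) m := by
    intro m
    have h2 := congrArg (fun v : leechLattice => (v : GolayPt → ℤ) m) ht
    simp only [hε.sub, coe_two] at h2
    omega
  by_cases h0 : (t : GolayPt → ℤ) = 0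
  · right
    intro m hm
    have h2 := h1 m
    rw [chi_mem hm, one_mul, h0] at h2
    exact h2.symm
  · left
    have h2 := Cfsg.Agent.S0391.result t t.2 h0
    have h3 : sqNorm (v : GolayPt → ℤ) = sqNorm (t : GolayPt → ℤ) +
        ∑ m, ((1 - chi O m) * (v : GolayPt → ℤ) m) ^ 2 := by
      unfold sqNorm
      rw [← Finset.sum_add_distrib]
      refine Finset.sum_congr rfl fun m _ => ?_
      rw [h1]
      unfold chi
      split_ifs <;> ring
    have h4 : ∑ m, ((1 - chi O m) * (v : GolayPt → ℤ) m) ^ 2 = 0 := by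
      have h5 : 0 ≤ ∑ m, ((1 - chi O m) * (v : GolayPt → ℤ) m) ^ 2 :=
        Finset.sum_nonneg fun m _ => sq_nonneg _
      linarith
    intro m hm
    have h5 := (Finset.sum_eq_zero_iff_of_nonneg (fun m _ => sq_nonneg _)).1 h4 m (Finset.mem_univ m)
    have h6 : (1 - chi O m) * (v : GolayPt → ℤ) m = 0 := by
      exact pow_eq_zero_iff (two_ne_zero) |>.1 h5
    rw [chi_not_mem hm] at h6
    linarith

theorem exists_two {O : Finset GolayPt} (hO : O ∈ octads) :
    ∃ T : GolayPt → Fin 6, IsSextet T ∧ fib T 0 ∪ fib T 1 = O := by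
  obtain ⟨S, hS, hSc⟩ := Finset.exists_subset_card_eq (s := O) (n := 4) (by rw [hO.2]; norm_num)
  obtain ⟨T, hT, hT0⟩ := XiSextet.exists_isSextet steiner S hSc
  obtain ⟨m, hm, hOm⟩ := octad_of_fib hT hO (p := 0) (by rw [hT0]; exact hS)
  let σ : Equiv.Perm (Fin 6) := Equiv.swap m 1
  obtain ⟨h1, h2⟩ := isSextet_perm hT σ
  have e0 := h2 0
  have e1 := h2 m
  have f0 : σ 0 = 0 := Equiv.swap_apply_of_ne_of_ne hm.symm (by decide)
  have f1 : σ m = 1 := Equiv.swap_apply_left m 1
  rw [f0] at e0
  rw [f1] at e1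
  exact ⟨_, h1, by rw [e0, e1, ← hOm]⟩

theorem exists_pair_of_octad {O : Finset GolayPt} (hO : O ∈ octads) : ∃ i ∈ O, ∃ j ∈ O, i ≠ j := by
  have h : 1 < O.card := by rw [hO.2]; norm_num
  obtain ⟨i, hi, j, hj, hij⟩ := Finset.one_lt_card.1 h
  exact ⟨i, hi, j, hj, hij⟩

/-- A sextet refining the octad `O` and a second octad `A`, equal to `O` or disjoint from it. -/
theorem exists_ab {O A : Finset GolayPt} (hO : O ∈ octads) (hA : A ∈ octads)
    (h : A = O ∨ Disjoint O A) : ∃ T : GolayPt → Fin 6, IsSextet T ∧ fib T 0 ∪ fib T 1 = O ∧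
      ∃ a b, a ≠ b ∧ A = fib T a ∪ fib T b := by
  rcases h with rfl | h
  · obtain ⟨T, hT, hT0⟩ := exists_two hO
    exact ⟨T, hT, hT0, 0, 1, by decide, hT0.symm⟩
  · obtain ⟨i, hi, j, hj, hij⟩ := exists_pair_of_octad hO
    obtain ⟨T, hT, h0, h1, -⟩ := exists_refine hO hA h hij hi hj
    exact ⟨T, hT, h0, 2, 3, by decide, h1.symm⟩

/-- A vector of shape `(±2)^8` on a union of two tetrads is mapped to a vector divisible by 4. -/
theorem exists_to_four {T : GolayPt → Fin 6} (hT : IsSextet T) {a b : Fin 6} (hab : a ≠ b)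
    {v : leechLattice} (h2 : ∀ i ∈ fib T a ∪ fib T b, (v : GolayPt → ℤ) i = 2 ∨ (v : GolayPt → ℤ) i = -2)
    (h0 : ∀ i, i ∉ fib T a ∪ fib T b → (v : GolayPt → ℤ) i = 0)
    (hev : Even ((fib T a ∪ fib T b).filter fun i => (v : GolayPt → ℤ) i = -2).card) :
    ∃ c : golayCode, ∀ m, (4 : ℤ) ∣ ((xiCo0 T hT • signCo0 c • v : leechLattice) : GolayPt → ℤ) m := by
  have hA := fib_union_octad hT hab
  obtain ⟨i₀, hi₀⟩ : (fib T a).Nonempty := by rw [← Finset.card_pos, hT.card]; norm_num
  obtain ⟨j₀, hj₀⟩ : (fib T b).Nonempty := by rw [← Finset.card_pos, hT.card]; norm_num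
  have hij : i₀ ≠ j₀ := fun e => by
    apply hab
    rw [← mem_fib.1 hi₀, ← mem_fib.1 hj₀, e]
  set A := fib T a ∪ fib T b with hAdef
  have hi₀A : i₀ ∈ A := Finset.mem_union_left _ hi₀
  have hj₀A : j₀ ∈ A := Finset.mem_union_right _ hj₀
  obtain ⟨B, hB, hBf⟩ := exists_trace_fun hA (fun m => (if (v : GolayPt → ℤ) m = -2 then 1 else 0) +
    (if m = i₀ then 1 else 0) + (if m = j₀ then 1 else 0)) (by
      rw [Finset.sum_add_distrib, Finset.sum_add_distrib, Finset.sum_ite_eq', Finset.sum_ite_eq',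
        if_pos hi₀A, if_pos hj₀A, ← Finset.sum_filter, Finset.sum_const]
      obtain ⟨k, hk⟩ := hev
      rw [hk]
      simp only [nsmul_eq_mul]
      push_cast
      omega)
  obtain ⟨cB', hcB', hcBs⟩ := hB
  refine ⟨⟨cB', hcB'⟩, ?_⟩
  have hεB : IsEps (signCo0 ⟨cB', hcB'⟩) B := by
    have := isEps_sign ⟨cB', hcB'⟩
    rwa [show support₂ (((⟨cB', hcB'⟩ : golayCode)) : GolayPt → ZMod 2) = B from hcBs] at this
  set v' := signCo0 ⟨cB', hcB'⟩ • v with hv'
  -- the values of `v'`
  have hval : ∀ m, (v' : GolayPt → ℤ) m = if m ∈ A then (if m = i₀ ∨ m = j₀ then -2 else 2) else 0 := by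
    intro m
    rw [hv', hεB]
    by_cases hm : m ∈ A
    · rw [if_pos hm]
      have h3 := hBf m hm
      have h4 := h2 m hm
      by_cases hmi : m = i₀
      · subst hmi
        rw [if_pos (Or.inl rfl)]
        rw [if_pos rfl, if_neg hij] at h3
        unfold chi at h3
        by_cases hmB : m ∈ B
        · rw [if_pos hmB] at h3 ⊢
          rcases h4 with h4 | h4
          · rw [h4]
          · rw [h4] at h3; norm_num at h3
        · rw [if_neg hmB] at h3 ⊢
          rcases h4 with h4 | h4
          · rw [h4] at h3; norm_num at h3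
          · exact h4
      · by_cases hmj : m = j₀
        · subst hmj
          rw [if_pos (Or.inr rfl)]
          rw [if_neg hmi, if_pos rfl] at h3
          unfold chi at h3
          by_cases hmB : m ∈ B
          · rw [if_pos hmB] at h3 ⊢
            rcases h4 with h4 | h4
            · rw [h4]
            · rw [h4] at h3; norm_num at h3
          · rw [if_neg hmB] at h3 ⊢
            rcases h4 with h4 | h4
            · rw [h4] at h3; norm_num at h3
            · exact h4
        · have hnn : ¬ (m = i₀ ∨ m = j₀) := fun h => h.elim hmi hmj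
          rw [if_neg hnn]
          rw [if_neg hmi, if_neg hmj] at h3
          unfold chi at h3
          by_cases hmB : m ∈ B
          · rw [if_pos hmB] at h3 ⊢
            rcases h4 with h4 | h4
            · rw [h4] at h3; norm_num at h3
            · rw [h4]; norm_num
          · rw [if_neg hmB] at h3 ⊢
            rcases h4 with h4 | h4
            · exact h4
            · rw [h4] at h3; norm_num at h3
    · rw [if_neg hm, h0 m hm]
      simp
  -- the sums over the tetrads
  have hsum : ∀ (k : Fin 6) (i : GolayPt), i ∈ fib T k → fib T k ⊆ A →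
      (∀ m ∈ fib T k, (m = i₀ ∨ m = j₀) ↔ m = i) → ∑ m ∈ fib T k, (v' : GolayPt → ℤ) m = 4 := by
    intro k i hik hkA huniq
    have h3 : ∀ m ∈ fib T k, (v' : GolayPt → ℤ) m = 2 + (if m = i then -4 else 0) := by
      intro m hm
      rw [hval, if_pos (hkA hm)]
      by_cases hmi : m = i
      · rw [if_pos ((huniq m hm).2 hmi), if_pos hmi]; norm_num
      · rw [if_neg (fun h => hmi ((huniq m hm).1 h)), if_neg hmi]; norm_num
    rw [Finset.sum_congr rfl h3, Finset.sum_add_distrib, Finset.sum_const, hT.card,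
      Finset.sum_ite_eq', if_pos hik]
    norm_num
  have hab' : ∀ {m}, m ∈ fib T a → m ≠ j₀ := fun {m} hm e => by
    apply hab
    rw [← mem_fib.1 hm, ← mem_fib.1 hj₀, e]
  have hba' : ∀ {m}, m ∈ fib T b → m ≠ i₀ := fun {m} hm e => by
    apply hab
    rw [← mem_fib.1 hm, ← mem_fib.1 hi₀, e]
  have hsa := hsum a i₀ hi₀ Finset.subset_union_left (fun m hm => by
    constructor
    · rintro (h | h)
      · exact h
      · exact absurd h (hab' hm)
    · exact fun h => Or.inl h)
  have hsb := hsum b j₀ hj₀ Finset.subset_union_right (fun m hm => by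
    constructor
    · rintro (h | h)
      · exact absurd h (hba' hm)
      · exact h
    · exact fun h => Or.inr h)
  intro m
  have h3 := two_xiCo0_smul T hT v' m
  by_cases hm : m ∈ A
  · have h4 : ∑ j ∈ fib T (T m), (v' : GolayPt → ℤ) j = 4 := by
      rcases Finset.mem_union.1 hm with h | h
      · rw [mem_fib.1 h]; exact hsa
      · rw [mem_fib.1 h]; exact hsb
    rw [h4, hval, if_pos hm] at h3
    split_ifs at h3 <;> omega
  · have h4 : ∑ j ∈ fib T (T m), (v' : GolayPt → ℤ) j = 0 := by
      refine Finset.sum_eq_zero fun j hj => ?_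
      rw [hval, if_neg]
      intro hjA
      apply hm
      rcases Finset.mem_union.1 hjA with h | h
      · exact Finset.mem_union_left _ (mem_fib.2 (by rw [← mem_fib.1 hj, mem_fib.1 h]))
      · exact Finset.mem_union_right _ (mem_fib.2 (by rw [← mem_fib.1 hj, mem_fib.1 h]))
    rw [h4, hval, if_neg hm] at h3
    simp at h3
    rw [h3]
    exact dvd_zero _

theorem sign_comm (c c' : golayCode) : signCo0 c * signCo0 c' = signCo0 c' * signCo0 c := by
  rw [← Cfsg.Agent.SporadicA.Co0Mono.signCo0_add, ← Cfsg.Agent.SporadicA.Co0Mono.signCo0_add, add_comm]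

/-! ### The group part -/

variable {G V P W : Type*} [Group G] [AddCommGroup V] [Module ℚ V]
  [DistribMulAction G V] [SMulCommClass G ℚ V] [Group P] [AddCommGroup W] [Module ℚ W]
  {M : KS G V P W} {θ : leechLattice → P} {Γ : Subgroup G} {τ : G} {y : P}

/-- Both elements are conjugate to elements of `Y` by the same element of `K`. -/
def GYP (M : KS G V P W) (τ t u : G) : Prop :=
  ∃ k ∈ M.K, InY M τ (k * t * k⁻¹) ∧ InY M τ (k * u * k⁻¹)

theorem GYP.conj {t u k : G} (hk : k ∈ M.K) (h : GYP M τ (k * t * k⁻¹) (k * u * k⁻¹)) :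
    GYP M τ t u := by
  obtain ⟨l, hl, h1, h2⟩ := h
  refine ⟨l * k, M.K.mul_mem hl hk, ?_, ?_⟩
  · rwa [show l * k * t * (l * k)⁻¹ = l * (k * t * k⁻¹) * l⁻¹ by group]
  · rwa [show l * k * u * (l * k)⁻¹ = l * (k * u * k⁻¹) * l⁻¹ by group]

variable (L : Lift M θ) (H : TauHyp M θ Γ τ y)

include L in
/-- The vector of an element commuting with `u` is fixed modulo 2. -/
theorem fixed_of_comm {t u : G} {ε : Co0} (hu : u ∈ M.K) (hI : Ind M u ε) {v : leechLattice}
    (htv : Zq M t (phi M θ v)) (h : t * u = u * t) : ∃ w : leechLattice, v - ε • v = 2 • w := by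
  have h1 : phi M θ v * u = u * phi M θ v := comm_zq L htv.symm hu h
  have h2 : u * phi M θ v * u⁻¹ = phi M θ v := by rw [← h1, mul_inv_cancel_right]
  have h3 := phi_conj L hu hI v
  rw [h2] at h3
  exact congr_of_zq L h3

omit L in
theorem phi_conj_phi (r v : leechLattice) : Zq M (phi M θ r * phi M θ v * (phi M θ r)⁻¹) (phi M θ v) := by
  rcases ι_comm_or (M := M) (θ r) (θ v) with h | h
  · exact Or.inl h
  · exact Or.inr h

include L H in
/-- The case of a vector divisible by 4. -/
theorem pair_four {c : golayCode} (hO : support₂ (c : GolayPt → ZMod 2) ∈ octads) {t u : G}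
    (hu : u ∈ M.K) (huu : u * u = 1) (hI : Ind M u (signCo0 c)) {v : leechLattice}
    (hv : sqNorm (v : GolayPt → ℤ) = 32) (h4 : ∀ m, (4 : ℤ) ∣ (v : GolayPt → ℤ) m)
    (htv : Zq M t (phi M θ v)) (htu : t * u = u * t) : GYP M τ t u := by
  set O := support₂ (c : GolayPt → ZMod 2) with hOdef
  have hε : IsEps (signCo0 c) O := isEps_sign c
  -- the shape of `v`
  have hT4 : Type4 (v : GolayPt → ℤ) := by
    rcases (min_iff _).1 ⟨v.2, hv⟩ with h | h | h
    · exact h
    · exfalso
      obtain ⟨A, hA, h2, -, -⟩ := h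
      obtain ⟨i, hi⟩ : A.Nonempty := by rw [← Finset.card_pos, hA.2]; norm_num
      have := h4 i
      rcases h2 i hi with h | h <;> rw [h] at this <;> norm_num at this
    · exfalso
      have h1 := type3_odd h none
      have h2 := h4 none
      omega
  obtain ⟨p, q, hpq, hp, hq, hz⟩ := hT4
  have hfix := fixed_of_comm L hu hI htv htu
  have hsup := supp_of_fixed hε hv hfix
  have hp0 : (v : GolayPt → ℤ) p ≠ 0 := by rcases hp with h | h <;> rw [h] <;> norm_num
  have hq0 : (v : GolayPt → ℤ) q ≠ 0 := by rcases hq with h | h <;> rw [h] <;> norm_num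
  obtain ⟨o, ho⟩ : O.Nonempty := by rw [← Finset.card_pos, hO.2]; norm_num
  obtain ⟨o', ho'⟩ : ∃ p, p ∉ O := by
    by_contra hcon
    push Not at hcon
    have h1 := Finset.eq_univ_of_forall hcon
    have h2 := hO.2
    rw [h1, Finset.card_univ, Cfsg.Agent.Leech.Code.card_golayPt] at h2
    omega
  obtain ⟨s, hs, hsY, hss, hsI⟩ := exists_s L H c ho ho'
  obtain ⟨x, hx⟩ := exists_phi_mul L hu hs hI hsI
  have hvY : InY M τ (phi M θ v) := phi_inY L H h4
  obtain ⟨k, hk, r, w, hkr, h | ⟨d, hd, hdis, hF⟩⟩ := form_or L H hO hs hsY hss hsI hu huu hx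
  · refine ⟨k, hk, ?_, h.2⟩
    rw [hkr]
    exact InY.of_zq H ((htv.conj L (phi_mem r)).trans (phi_conj_phi r v)) hvY
  · apply GYP.conj hk
    have htv' : Zq M (k * t * k⁻¹) (phi M θ v) := by
      rw [hkr]
      exact (htv.conj L (phi_mem r)).trans (phi_conj_phi r v)
    have htu' : (k * t * k⁻¹) * (k * u * k⁻¹) = (k * u * k⁻¹) * (k * t * k⁻¹) := by
      rw [show (k * t * k⁻¹) * (k * u * k⁻¹) = k * (t * u) * k⁻¹ by group, htu]; group
    set t' := k * t * k⁻¹
    set u' := k * u * k⁻¹
    -- a sextet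
    obtain ⟨T, hT, h0, h2, hTpq⟩ : ∃ T : GolayPt → Fin 6, IsSextet T ∧ fib T 0 ∪ fib T 1 = O ∧
        fib T 2 ∪ fib T 3 = d ∧ T p = T q := by
      rcases hsup with hsup | hsup
      · have hpO : p ∈ O := by
          by_contra h; exact hp0 (hsup p h)
        have hqO : q ∈ O := by
          by_contra h; exact hq0 (hsup q h)
        obtain ⟨T, hT, h0, h2, h3, h5⟩ := exists_refine hO hd hdis hpq hpO hqO
        exact ⟨T, hT, h0, h2, by rw [h3, h5]⟩
      · have hpO : p ∉ O := fun h => hp0 (hsup p h)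
        have hqO : q ∉ O := fun h => hq0 (hsup q h)
        have hiff : p ∈ d ↔ q ∈ d := by
          obtain ⟨hu'K, -, s', hs', hs'Y, -, hI', x', hx', hux'⟩ := hF
          have h5 : s' * phi M θ v = phi M θ v * s' := comm_s L H hs' hs'Y hI' h4 (by
            obtain ⟨w, hw⟩ := hfix
            exact ⟨-w, by rw [smul_neg, ← hw]; abel⟩)
          have h6 : phi M θ v * u' = u' * phi M θ v := comm_zq L htv'.symm hu'K htu'
          have h7 : Zq M (phi M θ x') (u' * s'⁻¹) := by
            have := hux'.symm.mul L hu'K (Zq.refl (M := M) s'⁻¹)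
            rwa [mul_inv_cancel_right] at this
          have h8 : phi M θ x' * phi M θ v = phi M θ v * phi M θ x' := by
            refine comm_zq L h7 (phi_mem v) ?_
            have h9 : s'⁻¹ * phi M θ v = phi M θ v * s'⁻¹ := by
              rw [inv_mul_eq_iff_eq_mul, ← mul_assoc, h5, mul_inv_cancel_right]
            rw [mul_assoc, h9, ← mul_assoc, ← h6, mul_assoc]
          have h9 : (16 : ℤ) ∣ dot x' v := by
            rw [L.comm]
            apply ι_inj L
            rw [map_mul, map_mul]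
            exact h8
          have h10 : dot x' v = (x' : GolayPt → ℤ) p * (v : GolayPt → ℤ) p +
              (x' : GolayPt → ℤ) q * (v : GolayPt → ℤ) q := by
            show dotInt _ _ = _
            unfold dotInt
            rw [← Finset.sum_subset (Finset.subset_univ {p, q})]
            · rw [Finset.sum_pair hpq]
            · intro m _ hm
              rw [Finset.mem_insert, Finset.mem_singleton] at hm
              rw [hz m (fun e => hm (Or.inl e)) (fun e => hm (Or.inr e)), mul_zero]
          rw [h10] at h9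
          have h11 := hx' p
          have h12 := hx' q
          unfold chi at h11 h12
          by_cases hpd : p ∈ d <;> by_cases hqd : q ∈ d <;>
            simp only [hpd, hqd, if_true, if_false] at h11 h12 ⊢
          · rcases hp with hp | hp <;> rcases hq with hq | hq <;> rw [hp, hq] at h9 <;> omega
          · rcases hp with hp | hp <;> rcases hq with hq | hq <;> rw [hp, hq] at h9 <;> omega
        by_cases hpd : p ∈ d
        · obtain ⟨T, hT, h0, h2, h3⟩ := exists_refine₂ hO hd hdis hpq hpd (hiff.1 hpd)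
          exact ⟨T, hT, h0, h2, h3⟩
        · have hqd : q ∉ d := fun h => hpd (hiff.2 h)
          obtain ⟨T, hT, h0, h2, h3⟩ := exists_refine₃ hO hd hdis hpq
            (Finset.mem_compl.2 fun h => (Finset.mem_union.1 h).elim hpO hpd)
            (Finset.mem_compl.2 fun h => (Finset.mem_union.1 h).elim hqO hqd)
          exact ⟨T, hT, h0, h2, h3⟩
    subst h2
    obtain ⟨k', hk', hk'Y, hk'G⟩ := main_oct L H hT (c := c) h0.symm hF
    refine ⟨k', hk', ?_, hk'Y⟩
    refine InY.of_zq H (htv'.conj L hk') (hk'G v ⟨h4, T p, fun m hm => ?_⟩)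
    exact hz m (fun e => hm (by rw [e])) (fun e => hm (by rw [e, hTpq]))

include L H in
/-- Pairs with the second involution over the sign change on an octad. -/
theorem pair_oct {c : golayCode} (hO : support₂ (c : GolayPt → ZMod 2) ∈ octads) {t u : G}
    (hu : u ∈ M.K) (huu : u * u = 1) (hI : Ind M u (signCo0 c)) {v : leechLattice}
    (hv : sqNorm (v : GolayPt → ℤ) = 32) (htv : Zq M t (phi M θ v)) (htu : t * u = u * t) :
    GYP M τ t u := by
  set O := support₂ (c : GolayPt → ZMod 2) with hOdef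
  have hε : IsEps (signCo0 c) O := isEps_sign c
  have hsup := supp_of_fixed hε hv (fixed_of_comm L hu hI htv htu)
  obtain ⟨o, ho⟩ : O.Nonempty := by rw [← Finset.card_pos, hO.2]; norm_num
  obtain ⟨o', ho'⟩ : ∃ p, p ∉ O := by
    by_contra hcon
    push Not at hcon
    have h1 := Finset.eq_univ_of_forall hcon
    have h2 := hO.2
    rw [h1, Finset.card_univ, Cfsg.Agent.Leech.Code.card_golayPt] at h2
    omega
  have h0 : ∃ i, (v : GolayPt → ℤ) i % 2 = 0 := by
    rcases hsup with h | h
    · exact ⟨o', by rw [h o' ho']; rfl⟩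
    · exact ⟨o, by rw [h o ho]; rfl⟩
  obtain ⟨i, hi⟩ := h0
  rcases type2_or_type4_of_coord v.2 hv hi with h | ⟨A, hA, h2, h3, hev⟩
  · refine pair_four L H hO hu huu hI hv (fun m => ?_) htv htu
    obtain ⟨p, q, -, hp, hq, hz⟩ := h
    by_cases hmp : m = p
    · rw [hmp]; rcases hp with h | h <;> rw [h] <;> norm_num
    · by_cases hmq : m = q
      · rw [hmq]; rcases hq with h | h <;> rw [h] <;> norm_num
      · rw [hz m hmp hmq]; exact dvd_zero _
  · have hne : ∀ m ∈ A, (v : GolayPt → ℤ) m ≠ 0 := fun m hm h => by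
      rcases h2 m hm with h' | h' <;> rw [h'] at h <;> norm_num at h
    have hAO : A = O ∨ Disjoint O A := by
      rcases hsup with h | h
      · left
        apply Finset.eq_of_subset_of_card_le
        · intro m hm
          by_contra hmO
          exact hne m hm (h m hmO)
        · rw [hO.2, hA.2]
      · right
        rw [Finset.disjoint_right]
        intro m hm hmO
        exact hne m hm (h m hmO)
    obtain ⟨T, hT, hT0, a, b, hab, hAab⟩ := exists_ab hO hA hAO
    obtain ⟨c', hc'⟩ := exists_to_four hT hab (v := v) (by rwa [← hAab]) (by rwa [← hAab])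
      (by rwa [← hAab])
    obtain ⟨k, hk, hkI⟩ := M.onto (xiCo0 T hT * signCo0 c')
    have hkI : Ind M k (xiCo0 T hT * signCo0 c') := hkI
    have hε' : IsEps (signCo0 c) (fib T 0 ∪ fib T 1) := by rw [hT0]; exact hε
    have hcomm : xiCo0 T hT * signCo0 c' * signCo0 c * (xiCo0 T hT * signCo0 c')⁻¹ = signCo0 c := by
      have e1 : signCo0 c' * signCo0 c * (signCo0 c')⁻¹ = signCo0 c := by
        rw [sign_comm, mul_inv_cancel_right]
      have e2 : xiCo0 T hT * signCo0 c' * signCo0 c * (xiCo0 T hT * signCo0 c')⁻¹ =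
          xiCo0 T hT * (signCo0 c' * signCo0 c * (signCo0 c')⁻¹) * (xiCo0 T hT)⁻¹ := by group
      rw [e2, e1, xi_comm hT hε', mul_inv_cancel_right]
    apply GYP.conj hk
    refine pair_four L H (c := c) hO (M.K.mul_mem (M.K.mul_mem hk hu) (M.K.inv_mem hk)) ?_ ?_
      (v := (xiCo0 T hT * signCo0 c') • v) ?_ ?_ ?_ ?_
    · rw [show k * u * k⁻¹ * (k * u * k⁻¹) = k * (u * u) * k⁻¹ by group, huu, mul_one, mul_inv_cancel]
    · rw [← hcomm]
      exact (hkI.mul hI).mul hkI.inv
    · rw [Cfsg.Agent.LeechMat.Core.co0_sqNorm, hv]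
    · intro m
      rw [mul_smul]
      exact hc' m
    · exact (htv.conj L hk).trans (phi_conj L hk hkI v)
    · rw [show (k * t * k⁻¹) * (k * u * k⁻¹) = k * (t * u) * k⁻¹ by group, htu]; group

include L H in
/-- Pairs with the second involution over the sign change on a dodecad. -/
theorem pair_dod {c : golayCode} (hc : (support₂ (c : GolayPt → ZMod 2)).card = 12) {t u : G}
    (hu : u ∈ M.K) (huu : u * u = 1) (hI : Ind M u (signCo0 c)) {v : leechLattice}
    (hv : sqNorm (v : GolayPt → ℤ) = 32) (htv : Zq M t (phi M θ v)) (htu : t * u = u * t) :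
    GYP M τ t u := by
  set O := support₂ (c : GolayPt → ZMod 2) with hOdef
  have hε : IsEps (signCo0 c) O := isEps_sign c
  have hOw : O ∈ Words := ⟨c, c.2, rfl⟩
  have hsup := supp_of_fixed hε hv (fixed_of_comm L hu hI htv htu)
  obtain ⟨o, ho⟩ : O.Nonempty := by rw [← Finset.card_pos, hc]; norm_num
  obtain ⟨o', ho'⟩ : ∃ p, p ∉ O := by
    by_contra hcon
    push Not at hcon
    have h1 := Finset.eq_univ_of_forall hcon
    rw [h1, Finset.card_univ, Cfsg.Agent.Leech.Code.card_golayPt] at hc
    omega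
  have h0 : ∃ i, (v : GolayPt → ℤ) i % 2 = 0 := by
    rcases hsup with h | h
    · exact ⟨o', by rw [h o' ho']; rfl⟩
    · exact ⟨o, by rw [h o ho]; rfl⟩
  obtain ⟨i, hi⟩ := h0
  have h4 : ∀ m, (4 : ℤ) ∣ (v : GolayPt → ℤ) m := by
    rcases type2_or_type4_of_coord v.2 hv hi with h | ⟨A, hA, h2, h3, hev⟩
    · intro m
      obtain ⟨p, q, -, hp, hq, hz⟩ := h
      by_cases hmp : m = p
      · rw [hmp]; rcases hp with h | h <;> rw [h] <;> norm_num
      · by_cases hmq : m = q
        · rw [hmq]; rcases hq with h | h <;> rw [h] <;> norm_num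
        · rw [hz m hmp hmq]; exact dvd_zero _
    · exfalso
      have hne : ∀ m ∈ A, (v : GolayPt → ℤ) m ≠ 0 := fun m hm h => by
        rcases h2 m hm with h' | h' <;> rw [h'] at h <;> norm_num at h
      have key : ∀ D ∈ Words, D.card = 12 → A ⊆ D → False := by
        intro D hD hD12 hAD
        have h5 := symmDiff_mem hD hA.1
        have h6 : (symmDiff D A).card = 4 := by
          rw [symmDiff_of_ge (show A ≤ D from hAD), Finset.card_sdiff_of_subset hAD, hD12, hA.2]
        have h7 := eight_le_card h5 (by rw [← Finset.card_pos, h6]; norm_num)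
        omega
      rcases hsup with h | h
      · exact key O hOw hc fun m hm => by
          by_contra hmO
          exact hne m hm (h m hmO)
      · refine key Oᶜ (compl_mem hOw) (by rw [Finset.card_compl, card_golayPt]; omega) fun m hm => ?_
        rw [Finset.mem_compl]
        intro hmO
        exact hne m hm (h m hmO)
  obtain ⟨s, hs, hsY, hss, hsI⟩ := exists_s L H c ho ho'
  obtain ⟨x, hx⟩ := exists_phi_mul L hu hs hI hsI
  obtain ⟨r, w, hrw⟩ := TwoDod.exists_form_dod hOw hc hε x (congr_of_sq L hs hsI hss huu hx)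
  refine ⟨phi M θ r, phi_mem r, ?_, ?_⟩
  · exact InY.of_zq H ((htv.conj L (phi_mem r)).trans (phi_conj_phi r v)) (phi_inY L H h4)
  · have h1 : Zq M (phi M θ r * u * (phi M θ r)⁻¹)
        (phi M θ (x + (r - signCo0 c • r) + 2 • w) * s) :=
      (hx.conj L (phi_mem r)).trans ((phi_conj_mul L hs hsI r x).trans
        ((phi_two L _ w).symm.mul L (phi_mem _) (Zq.refl s)))
    exact InY.of_zq H h1 ((phi_inY L H hrw.dvd).mul hsY)

end Cfsg.Agent.MonsterU.InvPair
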