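import Cfsg.Agent.MonsterU.InvPairOct

/-!
Involutions of `K` over the sign change on an octad, second form: main step.
-/

set_option autoImplicit false

namespace Cfsg.Agent.MonsterU.InvPair

open Cfsg Cfsg.Agent.LeechMat.Core Cfsg.Agent.MonsterX.KSide Cfsg.Agent.MonsterX.KLift
open Cfsg.Agent.MonsterX.FrameKS Cfsg.Agent.MonsterU.InvTwo
open Cfsg.Agent.SporadicStructure.Co0Base (e8 e8_coe)
open Cfsg.Agent.SporadicA.Co0Mono (signCo0 permCo0 wordPerm permCo0_smul signCo0_smul)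
open Cfsg.Agent.MonsterU.InvTwoLat
open Cfsg.Agent.Leech.Basic (chi chi_mem chi_not_mem)
open Cfsg.Agent.SporadicA Cfsg.Agent.SporadicA.Xi

variable {G V P W : Type*} [Group G] [AddCommGroup V] [Module ℚ V]
  [DistribMulAction G V] [SMulCommClass G ℚ V] [Group P] [AddCommGroup W] [Module ℚ W]
  {M : KS G V P W} {θ : leechLattice → P} {Γ : Subgroup G} {τ : G} {y : P}

variable (L : Lift M θ) (H : TauHyp M θ Γ τ y)

include L H in
/-- **Step 3.** The difference of two involutions of the same form. -/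
theorem form_diff {s u u' : G} {ε : Co0} {d : Finset GolayPt} (hs : s ∈ M.K) (hsY : InY M τ s)
    (hss : s * s = 1) (hI : Ind M s ε) {x t : leechLattice} (huK : u ∈ M.K) (huu : u * u = 1)
    (hu'u' : u' * u' = 1)
    (hx : Cl (x : GolayPt → ℤ) d) (htd : Cl (t : GolayPt → ℤ) d) (hux : Zq M u (phi M θ x * s))
    (hut : Zq M u' (phi M θ t * s)) :
    (∀ i, (4 : ℤ) ∣ ((t - x : leechLattice) : GolayPt → ℤ) i) ∧ (16 : ℤ) ∣ dot x (t - x) ∧
      ∃ w : leechLattice, (t - x) - ε • (t - x) = 2 • w := by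
  obtain ⟨t₁, ht₁⟩ := congr_of_sq L hs hI hss huu hux
  obtain ⟨t₂, ht₂⟩ := congr_of_sq L hs hI hss hu'u' hut
  have hcong : (t - x) - ε • (t - x) = 2 • (t₂ - t₁) := by
    rw [smul_sub, ← ht₁, ← ht₂, Cfsg.Agent.SporadicStructure.Co0Base.co0_smul_sub]
    abel
  set v := t - x with hv
  have hv4 : ∀ i, (4 : ℤ) ∣ (v : GolayPt → ℤ) i := by
    intro i
    obtain ⟨a, ha⟩ := hx i
    obtain ⟨b, hb⟩ := htd i
    exact ⟨b - a, by rw [hv, coe_sub]; linarith⟩
  have hbY : InY M τ (phi M θ v) := phi_inY L H hv4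
  have hbb : phi M θ v * phi M θ v = 1 := sq_inter L H hbY
  have hsb : s * phi M θ v * s⁻¹ = phi M θ v := by
    refine eq_of_both L H ((phi_conj L hs hI v).trans (phi_eqz_of L ⟨-(t₂ - t₁), ?_⟩))
      (comm_or_Y H hsY hbY)
    rw [smul_neg, ← hcong]; abel
  refine ⟨hv4, ?_, t₂ - t₁, hcong⟩
  rw [L.comm]
  apply ι_inj L
  rw [map_mul, map_mul]
  -- `u' = φ v u` up to `z`
  have h1 : Zq M u' (phi M θ v * u) := by
    refine hut.trans ?_
    have h2 : Zq M (phi M θ t * s) (phi M θ v * phi M θ x * s) := by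
      have e : t = v + x := by rw [hv]; abel
      rw [e]
      exact (phi_add L _ _).mul L (M.K.mul_mem (phi_mem _) (phi_mem _)) (Zq.refl _)
    refine h2.trans ?_
    rw [mul_assoc]
    exact (Zq.refl _).mul L (phi_mem _) hux.symm
  have h2 : phi M θ v * u * (phi M θ v * u) = 1 := by
    have hz := z_comm L (M.K.mul_mem (phi_mem (M := M) (θ := θ) v) huK)
    rcases h1 with h1 | h1
    · rw [← h1]; exact hu'u'
    · have h3 : M.z * (phi M θ v * u) * (M.z * (phi M θ v * u)) = 1 := by rw [← h1]; exact hu'u'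
      calc phi M θ v * u * (phi M θ v * u)
          = (M.z * M.z) * (phi M θ v * u * (phi M θ v * u)) := by rw [M.z_mul, one_mul]
        _ = M.z * (M.z * (phi M θ v * u)) * (phi M θ v * u) := by group
        _ = M.z * ((phi M θ v * u) * M.z) * (phi M θ v * u) := by rw [hz]
        _ = M.z * (phi M θ v * u) * (M.z * (phi M θ v * u)) := by group
        _ = 1 := h3
  have h3 : u * phi M θ v * u⁻¹ = phi M θ v := by
    have hui : u⁻¹ = u := inv_eq_of_mul_eq_one_left huu
    have hvi : (phi M θ v)⁻¹ = phi M θ v := inv_eq_of_mul_eq_one_left hbb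
    rw [hui]
    have h4 : phi M θ v * (u * phi M θ v * u) = 1 := by rw [← h2]; group
    exact (inv_eq_of_mul_eq_one_right h4).symm.trans hvi
  -- compute with `u = φ x s` up to `z`
  have h4 : phi M θ x * phi M θ v * (phi M θ x)⁻¹ = u * phi M θ v * u⁻¹ := by
    have h5 : (phi M θ x * s) * phi M θ v * (phi M θ x * s)⁻¹ =
        phi M θ x * phi M θ v * (phi M θ x)⁻¹ := by
      calc (phi M θ x * s) * phi M θ v * (phi M θ x * s)⁻¹ =
          phi M θ x * (s * phi M θ v * s⁻¹) * (phi M θ x)⁻¹ := by group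
        _ = _ := by rw [hsb]
    rw [← h5]
    rcases hux with e | e
    · rw [e]
    · rw [e]
      have hz' : M.z * (phi M θ x * s) * phi M θ v * (M.z * (phi M θ x * s))⁻¹ =
          M.z * ((phi M θ x * s) * phi M θ v * (phi M θ x * s)⁻¹) * M.z⁻¹ := by group
      have hm : (phi M θ x * s) * phi M θ v * (phi M θ x * s)⁻¹ ∈ M.K :=
        M.K.mul_mem (M.K.mul_mem (M.K.mul_mem (phi_mem _) hs) (phi_mem _))
          (M.K.inv_mem (M.K.mul_mem (phi_mem _) hs))
      rw [hz', ← z_comm L hm, mul_inv_cancel_right]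
  rw [h3] at h4
  exact mul_inv_eq_iff_eq_mul.1 h4

/-- The element `k` of `K` maps the elements over the vectors `Supp4 T` to `Y`. -/
def Good (M : KS G V P W) (θ : leechLattice → P) (τ : G) (T : GolayPt → Fin 6) (k : G) : Prop :=
  ∀ v, Supp4 T v → InY M τ (k * phi M θ v * k⁻¹)

include L H in
/-- **Step 4a.** -/
theorem main_even {T : GolayPt → Fin 6} (hT : IsSextet T) {ε : Co0}
    (hε : IsEps ε (fib T 0 ∪ fib T 1)) {i₀ j₀ : GolayPt} (hi₀ : T i₀ = 2) (hj₀ : T j₀ = 3)
    {s g : G} (hs : s ∈ M.K) (hsY : InY M τ s) (hss : s * s = 1) (hI : Ind M s ε) (hg : g ∈ M.K)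
    (hgI : Ind M g (xiCo0 T hT)) {w : leechLattice} (hw : ∀ m, (4 : ℤ) ∣ (w : GolayPt → ℤ) m)
    (hgs : Zq M (g * s * g⁻¹) (phi M θ w * s)) {u : G} (huu : u * u = 1)
    {x : leechLattice} (hx : Cl (x : GolayPt → ℤ) (fib T 2 ∪ fib T 3))
    (hux : Zq M u (phi M θ x * s)) (b : GolayPt → ℤ)
    (hb : ∀ m, ((x - (xiCo0 T hT • pr i₀ j₀ + w) : leechLattice) : GolayPt → ℤ) m = 4 * b m)
    (hpar : (2 : ℤ) ∣ ∑ m ∈ fib T 2, b m - ∑ m ∈ fib T 4, b m) :
    ∃ k ∈ M.K, InY M τ (k * u * k⁻¹) ∧ Good M θ τ T k := by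
  set e₀ := phi M θ (pr i₀ j₀) with he₀
  have hi₀O : i₀ ∉ fib T 0 ∪ fib T 1 := by
    rw [Finset.mem_union, mem_fib, mem_fib, hi₀]; decide
  have hj₀O : j₀ ∉ fib T 0 ∪ fib T 1 := by
    rw [Finset.mem_union, mem_fib, mem_fib, hj₀]; decide
  have heY : InY M τ e₀ := phi_inY L H (fun m => ⟨_, pr_coe i₀ j₀ m⟩)
  have hee : e₀ * e₀ = 1 := sq_inter L H heY
  have hεv : ε • pr i₀ j₀ = pr i₀ j₀ := by
    apply Subtype.ext
    funext m
    rw [hε]
    by_cases hm : m ∈ fib T 0 ∪ fib T 1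
    · have h1 : m ≠ i₀ := fun e => hi₀O (e ▸ hm)
      have h2 : m ≠ j₀ := fun e => hj₀O (e ▸ hm)
      rw [if_pos hm, pr_coe, if_neg h1, if_neg h2]; norm_num
    · rw [if_neg hm]
  have hse : s * e₀ = e₀ * s := comm_s L H hs hsY hI (fun m => ⟨_, pr_coe i₀ j₀ m⟩) ⟨0, by
    rw [hεv, sub_self, smul_zero]⟩
  have hesK : e₀ * s ∈ M.K := M.K.mul_mem (phi_mem _) hs
  have hesY : InY M τ (e₀ * s) := heY.mul hsY
  have heses : e₀ * s * (e₀ * s) = 1 := by
    calc e₀ * s * (e₀ * s) = e₀ * (s * e₀) * s := by group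
      _ = (e₀ * e₀) * (s * s) := by rw [hse]; group
      _ = 1 := by rw [hee, hss, one_mul]
  have hesI : Ind M (e₀ * s) ε := by
    have := (ind_phi (M := M) (θ := θ) (pr i₀ j₀)).mul hI
    rwa [one_mul] at this
  -- `u₁`
  set x₁ := xiCo0 T hT • pr i₀ j₀ + w with hx₁
  set u₁ := g * (e₀ * s) * g⁻¹ with hu₁
  have hu₁K : u₁ ∈ M.K := M.K.mul_mem (M.K.mul_mem hg hesK) (M.K.inv_mem hg)
  have hu₁u₁ : u₁ * u₁ = 1 := by
    rw [hu₁, show g * (e₀ * s) * g⁻¹ * (g * (e₀ * s) * g⁻¹) = g * (e₀ * s * (e₀ * s)) * g⁻¹ by group,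
      heses, mul_one, mul_inv_cancel]
  have hu₁x : Zq M u₁ (phi M θ x₁ * s) := by
    rw [hu₁, show g * (e₀ * s) * g⁻¹ = (g * e₀ * g⁻¹) * (g * s * g⁻¹) by group]
    refine ((phi_conj L hg hgI _).mul L (phi_mem _) hgs).trans ?_
    rw [← mul_assoc]
    exact (phi_add L _ _).symm.mul L (phi_mem _) (Zq.refl _)
  have hx₁d : Cl (x₁ : GolayPt → ℤ) (fib T 2 ∪ fib T 3) :=
    (cl_xi_pr hT hi₀ hj₀).of_congr fun m => by rw [hx₁, coe_add, add_sub_cancel_left]; exact hw m
  obtain ⟨hv4, hdot, w', hw'⟩ := form_diff L H hs hsY hss hI hu₁K hu₁u₁ huu hx₁d hx hu₁x hux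
  set v := x - x₁ with hv
  -- the parities
  set p : Fin 6 → ℤ := fun k => ∑ m ∈ fib T k, b m with hp
  have hall : (2 : ℤ) ∣ p 0 + p 1 + p 2 + p 3 + p 4 + p 5 := by
    have h1 := even_of_four v b hb
    rw [sum_by_fib T b, Fin.sum_univ_six] at h1
    exact h1
  have h01 : (2 : ℤ) ∣ p 0 + p 1 := by
    have h1 := even_of_four w' (fun m => chi (fib T 0 ∪ fib T 1) m * b m) (fun m => by
      have h2 := congrArg (fun v : leechLattice => (v : GolayPt → ℤ) m) hw'
      simp only [hε.sub, coe_two, hb] at h2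
      linarith)
    have h3 : ∑ m, chi (fib T 0 ∪ fib T 1) m * b m = p 0 + p 1 := by
      rw [sum_by_fib T, Fin.sum_univ_six]
      have h4 : ∀ k : Fin 6, (k = 0 ∨ k = 1) → ∑ m ∈ fib T k, chi (fib T 0 ∪ fib T 1) m * b m = p k := by
        intro k hk
        refine Finset.sum_congr rfl fun m hm => ?_
        rw [chi_mem, one_mul]
        rw [Finset.mem_union, mem_fib, mem_fib, mem_fib.1 hm]
        exact hk
      have h5 : ∀ k : Fin 6, ¬ (k = 0 ∨ k = 1) → ∑ m ∈ fib T k, chi (fib T 0 ∪ fib T 1) m * b m = 0 := by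
        intro k hk
        refine Finset.sum_eq_zero fun m hm => ?_
        rw [chi_not_mem, zero_mul]
        rw [Finset.mem_union, mem_fib, mem_fib, mem_fib.1 hm]
        exact hk
      rw [h4 0 (by decide), h4 1 (by decide), h5 2 (by decide), h5 3 (by decide), h5 4 (by decide),
        h5 5 (by decide)]
      ring
    rwa [h3] at h1
  have h23 : (2 : ℤ) ∣ p 2 + p 3 := by
    have h1 : dot x₁ v = 4 * ∑ m, (x₁ : GolayPt → ℤ) m * b m := by
      show dotInt _ _ = _
      unfold dotInt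
      rw [Finset.mul_sum]
      exact Finset.sum_congr rfl fun m _ => by rw [hb]; ring
    have h2 : (4 : ℤ) ∣ ∑ m, (x₁ : GolayPt → ℤ) m * b m := by
      rw [h1] at hdot; omega
    have h3 : (4 : ℤ) ∣ ∑ m, (x₁ : GolayPt → ℤ) m * b m -
        ∑ m, 2 * chi (fib T 2 ∪ fib T 3) m * b m := by
      rw [← Finset.sum_sub_distrib]
      refine Finset.dvd_sum fun m _ => ?_
      rw [← sub_mul]
      exact Dvd.dvd.mul_right (hx₁d m) _
    have h4 : ∑ m, 2 * chi (fib T 2 ∪ fib T 3) m * b m = 2 * (p 2 + p 3) := by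
      rw [sum_by_fib T, Fin.sum_univ_six]
      have h4 : ∀ k : Fin 6, (k = 2 ∨ k = 3) →
          ∑ m ∈ fib T k, 2 * chi (fib T 2 ∪ fib T 3) m * b m = 2 * p k := by
        intro k hk
        rw [hp, Finset.mul_sum]
        refine Finset.sum_congr rfl fun m hm => ?_
        rw [chi_mem, mul_one]
        rw [Finset.mem_union, mem_fib, mem_fib, mem_fib.1 hm]
        exact hk
      have h5 : ∀ k : Fin 6, ¬ (k = 2 ∨ k = 3) →
          ∑ m ∈ fib T k, 2 * chi (fib T 2 ∪ fib T 3) m * b m = 0 := by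
        intro k hk
        refine Finset.sum_eq_zero fun m hm => ?_
        rw [chi_not_mem, mul_zero, zero_mul]
        rw [Finset.mem_union, mem_fib, mem_fib, mem_fib.1 hm]
        exact hk
      rw [h4 2 (by decide), h4 3 (by decide), h5 0 (by decide), h5 1 (by decide), h5 4 (by decide),
        h5 5 (by decide)]
      ring
    rw [h4] at h3
    omega
  have hpar : (2 : ℤ) ∣ p 2 - p 4 := hpar
  -- correcting vectors
  have hcor : ∃ r w'' : leechLattice, ∀ m, (4 : ℤ) ∣
      ((xiCo0 T hT • v + (r - ε • r) + 2 • w'' : leechLattice) : GolayPt → ℤ) m := by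
    refine ⟨if (2 : ℤ) ∣ p 0 - p 2 then 0 else r₀, if (2 : ℤ) ∣ p 2 then 0 else r₀, fun m => ?_⟩
    have h1 := xi_mod hT v b hb m
    change (4 : ℤ) ∣ _ - 2 * p (T m) at h1
    rw [coe_add, coe_add, coe_two, hε.sub]
    have hr : (r₀ : GolayPt → ℤ) m = 1 ∨ (r₀ : GolayPt → ℤ) m = -3 := by
      rw [r₀_coe]; split_ifs <;> simp
    have hz : ((0 : leechLattice) : GolayPt → ℤ) m = 0 := rfl
    have hchi : chi (fib T 0 ∪ fib T 1) m = if T m = 0 ∨ T m = 1 then 1 else 0 := by
      unfold chi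
      simp only [Finset.mem_union, mem_fib]
    rw [hchi]
    have hcase : ∀ k : Fin 6, k = 0 ∨ k = 1 ∨ k = 2 ∨ k = 3 ∨ k = 4 ∨ k = 5 := by decide
    set X := ((xiCo0 T hT • v : leechLattice) : GolayPt → ℤ) m with hX
    have hfin : ∀ (q : ℤ) (a : ℤ), (4 : ℤ) ∣ X - 2 * q → (a = 0 ∨ a = 1) →
        (2 : ℤ) ∣ q - p 2 - a * (p 0 - p 2) →
        (4 : ℤ) ∣ X + 2 * (a * ((if (2 : ℤ) ∣ p 0 - p 2 then (0 : leechLattice) else r₀ :
          leechLattice) : GolayPt → ℤ) m) +
          2 * ((if (2 : ℤ) ∣ p 2 then (0 : leechLattice) else r₀ : leechLattice) : GolayPt → ℤ) m := by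
      intro q a hq ha hqa
      rcases ha with rfl | rfl
      · by_cases h5 : (2 : ℤ) ∣ p 2
        · rw [if_pos h5, hz]; omega
        · rw [if_neg h5]; rcases hr with hr | hr <;> rw [hr] <;> omega
      · by_cases h5 : (2 : ℤ) ∣ p 2 <;> by_cases h6 : (2 : ℤ) ∣ p 0 - p 2
        · rw [if_pos h5, if_pos h6, hz]; omega
        · rw [if_pos h5, if_neg h6, hz]; rcases hr with hr | hr <;> rw [hr] <;> omega
        · rw [if_neg h5, if_pos h6, hz]; rcases hr with hr | hr <;> rw [hr] <;> omega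
        · rw [if_neg h5, if_neg h6]; rcases hr with hr | hr <;> rw [hr] <;> omega
    rcases hcase (T m) with h | h | h | h | h | h <;> rw [h] at h1 ⊢
    · exact hfin _ _ h1 (by simp) (by simp)
    · exact hfin _ _ h1 (by simp) (by simp; omega)
    · exact hfin _ _ h1 (by simp) (by simp)
    · exact hfin _ _ h1 (by simp) (by simp; omega)
    · exact hfin _ _ h1 (by simp) (by simp; omega)
    · exact hfin _ _ h1 (by simp) (by simp; omega)
  obtain ⟨r, w'', hrw⟩ := hcor
  have hgI' : Ind M g⁻¹ (xiCo0 T hT) := by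
    have := hgI.inv
    rwa [xi_inv] at this
  have hgK' := M.K.inv_mem hg
  refine ⟨phi M θ r * g⁻¹, M.K.mul_mem (phi_mem r) hgK', ?_, ?_⟩
  · -- `u` is `φ v u₁` up to `z`
    have h1 : Zq M u (phi M θ v * u₁) := by
      refine hux.trans ?_
      have e : x = v + x₁ := by rw [hv]; abel
      have h2 : Zq M (phi M θ x * s) (phi M θ v * phi M θ x₁ * s) := by
        rw [e]
        exact (phi_add L _ _).mul L (M.K.mul_mem (phi_mem _) (phi_mem _)) (Zq.refl _)
      refine h2.trans ?_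
      rw [mul_assoc]
      exact (Zq.refl _).mul L (phi_mem _) hu₁x.symm
    have h2 : Zq M (g⁻¹ * u * g⁻¹⁻¹) (phi M θ (xiCo0 T hT • v) * (e₀ * s)) := by
      refine (h1.conj L hgK').trans ?_
      have e : g⁻¹ * (phi M θ v * u₁) * g⁻¹⁻¹ = (g⁻¹ * phi M θ v * g⁻¹⁻¹) * (e₀ * s) := by
        rw [hu₁]; group
      rw [e]
      exact (phi_conj L hgK' hgI' v).mul L (phi_mem _) (Zq.refl _)
    have e : phi M θ r * g⁻¹ * u * (phi M θ r * g⁻¹)⁻¹ =
        phi M θ r * (g⁻¹ * u * g⁻¹⁻¹) * (phi M θ r)⁻¹ := by group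
    rw [e]
    have h3 : Zq M (phi M θ r * (g⁻¹ * u * g⁻¹⁻¹) * (phi M θ r)⁻¹)
        (phi M θ (xiCo0 T hT • v + (r - ε • r) + 2 • w'') * (e₀ * s)) :=
      (h2.conj L (phi_mem r)).trans ((phi_conj_mul L hesK hesI r _).trans
        ((phi_two L _ w'').symm.mul L (phi_mem _) (Zq.refl _)))
    exact InY.of_zq H h3 ((phi_inY L H hrw).mul hesY)
  · intro v' hv'
    have hI' : Ind M (phi M θ r * g⁻¹) (xiCo0 T hT) := by
      have := (ind_phi (M := M) (θ := θ) r).mul hgI'
      rwa [one_mul] at this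
    exact InY.of_zq H (phi_conj L (M.K.mul_mem (phi_mem r) hgK') hI' v')
      (phi_inY L H (hv'.xi hT).1)

include L H in
/-- **Step 4.** -/
theorem main_oct {T : GolayPt → Fin 6} (hT : IsSextet T) {c : golayCode}
    (hc : support₂ (c : GolayPt → ZMod 2) = fib T 0 ∪ fib T 1) {u : G}
    (hu : Form M θ τ c (fib T 2 ∪ fib T 3) u) :
    ∃ k ∈ M.K, InY M τ (k * u * k⁻¹) ∧ Good M θ τ T k := by
  have hε : IsEps (signCo0 c) (fib T 0 ∪ fib T 1) := by
    have := isEps_sign c
    rwa [hc] at this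
  obtain ⟨s, hs, hsY, hss, hI, g, hg, hgI, w, hw, hgs⟩ := good_s L H hT hc
  obtain ⟨huK, huu, s', hs', hs'Y, hs's', hI', x', hx', hux'⟩ := hu
  obtain ⟨w₂, hw₂, hws⟩ := exists_w L H hs hs' hsY hs'Y hI hI'
  obtain ⟨i₀, hi₀⟩ : (fib T 2).Nonempty := by rw [← Finset.card_pos, hT.card]; norm_num
  obtain ⟨j₀, hj₀⟩ : (fib T 3).Nonempty := by rw [← Finset.card_pos, hT.card]; norm_num
  set x : leechLattice := x' + w₂ with hxdef
  have hx : Cl (x : GolayPt → ℤ) (fib T 2 ∪ fib T 3) := hx'.of_congr fun m => by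
    rw [hxdef, coe_add, add_sub_cancel_left]; exact hw₂ m
  have hux : Zq M u (phi M θ x * s) := by
    refine hux'.trans (((Zq.refl (M := M) (phi M θ x')).mul L (phi_mem _) hws).trans ?_)
    rw [← mul_assoc]
    exact (phi_add L _ _).symm.mul L (phi_mem _) (Zq.refl _)
  set x₁ := xiCo0 T hT • pr i₀ j₀ + w with hx₁
  have hx₁d : Cl (x₁ : GolayPt → ℤ) (fib T 2 ∪ fib T 3) :=
    (cl_xi_pr hT (mem_fib.1 hi₀) (mem_fib.1 hj₀)).of_congr fun m => by
      rw [hx₁, coe_add, add_sub_cancel_left]; exact hw m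
  have hb : ∀ m, ∃ b : ℤ, ((x - x₁ : leechLattice) : GolayPt → ℤ) m = 4 * b := by
    intro m
    obtain ⟨a, ha⟩ := hx m
    obtain ⟨b, hb⟩ := hx₁d m
    exact ⟨a - b, by rw [coe_sub]; linarith⟩
  choose b hb using hb
  by_cases hpar : (2 : ℤ) ∣ ∑ m ∈ fib T 2, b m - ∑ m ∈ fib T 4, b m
  · exact main_even L H hT hε (mem_fib.1 hi₀) (mem_fib.1 hj₀) hs hsY hss hI hg hgI hw hgs huu hx hux
      b hb hpar
  · -- conjugate by an element over a sign change
    have hij : i₀ ≠ j₀ := fun e => by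
      have h1 := mem_fib.1 hi₀
      rw [e, mem_fib.1 hj₀] at h1
      exact absurd h1 (by decide)
    obtain ⟨B, hB, hBS⟩ := exists_trace (O := fib T 2 ∪ fib T 3) (fib_union_octad hT (by decide))
      (S := {i₀, j₀}) (by
        intro m hm
        rw [Finset.mem_insert, Finset.mem_singleton] at hm
        rcases hm with rfl | rfl
        · exact Finset.mem_union_left _ hi₀
        · exact Finset.mem_union_right _ hj₀) (by rw [Finset.card_pair hij]; exact even_two)
    obtain ⟨cB', hcB', hcBs⟩ := hB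
    set cB : golayCode := ⟨cB', hcB'⟩ with hcB
    have hεB : IsEps (signCo0 cB) B := by
      have := isEps_sign cB
      rwa [show support₂ ((cB : golayCode) : GolayPt → ZMod 2) = B from hcBs] at this
    obtain ⟨q, hhK, hhI⟩ := H.sgn cB
    set h := τ * M.ι q * τ⁻¹ with hh
    have hhY : InY M τ h := ⟨q, hh⟩
    have hB2 : ∀ m ∈ fib T 2, (m ∈ B ↔ m = i₀) := by
      intro m hm
      have h1 : m ∈ B ∩ (fib T 2 ∪ fib T 3) ↔ m ∈ ({i₀, j₀} : Finset GolayPt) := by rw [hBS]
      rw [Finset.mem_inter, Finset.mem_insert, Finset.mem_singleton] at h1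
      have h2 : m ≠ j₀ := fun e => by
        have h1 := mem_fib.1 hm
        rw [e, mem_fib.1 hj₀] at h1
        exact absurd h1 (by decide)
      constructor
      · intro h3
        exact (h1.1 ⟨h3, Finset.mem_union_left _ hm⟩).resolve_right h2
      · intro h3
        exact (h1.2 (Or.inl h3)).1
    -- half of `x`
    have hy : ∀ m, ∃ a : ℤ, (x : GolayPt → ℤ) m = 2 * a ∧
        (m ∈ fib T 2 → ¬ (2 : ℤ) ∣ a) ∧ (m ∈ fib T 4 → (2 : ℤ) ∣ a) := by
      intro m
      have h1 := hx m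
      unfold chi at h1
      refine ⟨(x : GolayPt → ℤ) m / 2, ?_, ?_, ?_⟩
      · split_ifs at h1 <;> omega
      · intro h2
        rw [if_pos (Finset.mem_union_left _ h2)] at h1
        omega
      · intro h2
        rw [if_neg] at h1
        · omega
        · rw [Finset.mem_union, mem_fib, mem_fib, mem_fib.1 h2]; decide
    choose a ha ha2 ha4 using hy
    have hpar' : ∀ (b' η : GolayPt → ℤ),
        (∀ m, b' m = b m - (if m ∈ B then a m else 0) + 2 * η m) →
        (2 : ℤ) ∣ ∑ m ∈ fib T 2, b' m - ∑ m ∈ fib T 4, b' m := by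
      intro b' η hb'
      have h1 : ∀ k : Fin 6, ∑ m ∈ fib T k, b' m =
          ∑ m ∈ fib T k, b m - ∑ m ∈ fib T k, (if m ∈ B then a m else 0) + 2 * ∑ m ∈ fib T k, η m := by
        intro k
        rw [Finset.mul_sum, ← Finset.sum_sub_distrib, ← Finset.sum_add_distrib]
        exact Finset.sum_congr rfl fun m _ => hb' m
      have h2 : ∑ m ∈ fib T 2, (if m ∈ B then a m else 0) = a i₀ := by
        rw [Finset.sum_eq_single i₀]
        · rw [if_pos ((hB2 i₀ hi₀).2 rfl)]
        · intro m hm hne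
          rw [if_neg fun h => hne ((hB2 m hm).1 h)]
        · intro h; exact absurd hi₀ h
      have h4 : (2 : ℤ) ∣ ∑ m ∈ fib T 4, (if m ∈ B then a m else 0) := by
        refine Finset.dvd_sum fun m hm => ?_
        split_ifs
        · exact ha4 m hm
        · exact dvd_zero _
      have h5 := ha2 i₀ hi₀
      rw [h1, h1, h2]
      omega
    -- the conjugate
    have hx'' : Cl ((signCo0 cB • x : leechLattice) : GolayPt → ℤ) (fib T 2 ∪ fib T 3) := by
      refine hx.of_congr fun m => ?_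
      rw [hεB, ha m]
      split_ifs
      · exact ⟨-a m, by ring⟩
      · simp
    have huh : h * u * h⁻¹ * (h * u * h⁻¹) = 1 := by
      rw [show h * u * h⁻¹ * (h * u * h⁻¹) = h * (u * u) * h⁻¹ by group, huu, mul_one, mul_inv_cancel]
    have hfin : ∃ k ∈ M.K, InY M τ (k * (h * u * h⁻¹) * k⁻¹) ∧ Good M θ τ T k := by
      have h1 : Zq M (h * u * h⁻¹) (phi M θ (signCo0 cB • x) * (h * s * h⁻¹)) := by
        refine (hux.conj L hhK).trans ?_
        rw [show h * (phi M θ x * s) * h⁻¹ = (h * phi M θ x * h⁻¹) * (h * s * h⁻¹) by group]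
        exact (phi_conj L hhK hhI x).mul L (phi_mem _) (Zq.refl _)
      rcases comm_or_Y H hhY hsY with h2 | h2
      · rw [h2] at h1
        refine main_even L H hT hε (mem_fib.1 hi₀) (mem_fib.1 hj₀) hs hsY hss hI hg hgI hw hgs huh
          hx'' h1 (fun m => b m - (if m ∈ B then a m else 0) + 2 * 0) ?_ (hpar' _ (fun _ => 0)
            fun m => rfl)
        intro m
        have h3 := hb m
        rw [coe_sub] at h3 ⊢
        rw [hεB]
        by_cases hm : m ∈ B
        · rw [if_pos hm, if_pos hm]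
          have := ha m
          change _ = 4 * b m at h3
          change -(x : GolayPt → ℤ) m - (x₁ : GolayPt → ℤ) m = _
          linarith
        · rw [if_neg hm, if_neg hm]
          change _ = 4 * b m at h3
          change (x : GolayPt → ℤ) m - (x₁ : GolayPt → ℤ) m = _
          linarith
      · rw [h2] at h1
        have h3 : Zq M (h * u * h⁻¹) (phi M θ (signCo0 cB • x + e8 none) * s) := by
          refine h1.trans ?_
          rw [← mul_assoc]
          refine Zq.mul L (phi_mem _) ?_ (Zq.refl s)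
          exact ((Zq.refl (M := M) _).mul L (phi_mem _) (zq_y H)).trans (phi_add L _ _).symm
        refine main_even L H hT hε (mem_fib.1 hi₀) (mem_fib.1 hj₀) hs hsY hss hI hg hgI hw hgs huh
          (hx''.of_congr fun m => ?_) h3
          (fun m => b m - (if m ∈ B then a m else 0) + 2 * (if m = none then 1 else 0)) ?_
          (hpar' _ (fun m => if m = none then 1 else 0) fun m => rfl)
        · rw [coe_add, add_sub_cancel_left, e8_coe, Pi.single_apply]
          split_ifs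
          · norm_num
          · norm_num
        · intro m
          have h4 := hb m
          rw [coe_sub] at h4 ⊢
          rw [coe_add, hεB, e8_coe, Pi.single_apply]
          change _ = 4 * b m at h4
          by_cases hm : m ∈ B
          · rw [if_pos hm, if_pos hm]
            have := ha m
            change -(x : GolayPt → ℤ) m + _ - (x₁ : GolayPt → ℤ) m = _
            split_ifs <;> linarith
          · rw [if_neg hm, if_neg hm]
            change (x : GolayPt → ℤ) m + _ - (x₁ : GolayPt → ℤ) m = _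
            split_ifs <;> linarith
    obtain ⟨k, hk, hkY, hkG⟩ := hfin
    refine ⟨k * h, M.K.mul_mem hk hhK, ?_, ?_⟩
    · rwa [show k * h * u * (k * h)⁻¹ = k * (h * u * h⁻¹) * k⁻¹ by group]
    · intro v hv
      rw [show k * h * phi M θ v * (k * h)⁻¹ = k * (h * phi M θ v * h⁻¹) * k⁻¹ by group]
      exact InY.of_zq H ((phi_conj L hhK hhI v).conj L hk) (hkG _ (hv.sign cB))

end Cfsg.Agent.MonsterU.InvPair
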