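import Cfsg.Agent.MonsterU.InvTwoGrp
import Cfsg.Agent.GolayTrio.Trans

/-!
The involutions of `K` over the sign changes on octads are conjugate in `K` to elements of `Y = τ ι(P) τ⁻¹`.
-/

set_option autoImplicit false

namespace Cfsg.Agent.MonsterU.InvTwo

open Cfsg Cfsg.Agent.LeechMat.Core Cfsg.Agent.MonsterX.KSide Cfsg.Agent.MonsterX.KLift
open Cfsg.Agent.MonsterX.FrameKS
open Cfsg.Agent.SporadicStructure.Co0Base (e8 e8_coe)
open Cfsg.Agent.SporadicA.Co0Mono (signCo0 permCo0 wordPerm permCo0_smul signCo0_smul perm_mul_sign_mul_inv)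
open Cfsg.Agent.MonsterU.InvTwoLat
open scoped Pointwise

variable {G V P W : Type*} [Group G] [AddCommGroup V] [Module ℚ V]
  [DistribMulAction G V] [SMulCommClass G ℚ V] [Group P] [AddCommGroup W] [Module ℚ W]
  {M : KS G V P W} {θ : leechLattice → P} {Γ : Subgroup G} {τ : G} {y : P}

/-- `u` is conjugate in `K` to an element of `Y`. -/
def GY (M : KS G V P W) (τ u : G) : Prop := ∃ k ∈ M.K, InY M τ (k * u * k⁻¹)

theorem GY.conj {u k : G} (hk : k ∈ M.K) (h : GY M τ (k * u * k⁻¹)) : GY M τ u := by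
  obtain ⟨l, hl, h⟩ := h
  exact ⟨l * k, M.K.mul_mem hl hk, by
    rwa [show l * k * u * (l * k)⁻¹ = l * (k * u * k⁻¹) * l⁻¹ by group]⟩

theorem GY.conj_inv {u k : G} (hk : k ∈ M.K) (h : GY M τ u) : GY M τ (k * u * k⁻¹) := by
  apply GY.conj (M.K.inv_mem hk)
  rwa [show k⁻¹ * (k * u * k⁻¹) * k⁻¹⁻¹ = u by group]

theorem InY.of_zq (H : TauHyp M θ Γ τ y) {a b : G} (h : Zq M a b) (hb : InY M τ b) : InY M τ a := by
  rcases h with rfl | rfl
  · exact hb
  · exact (z_inY H).mul hb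

theorem GY.of_zq (L : Lift M θ) (H : TauHyp M θ Γ τ y) {a b : G} (h : Zq M a b) (hb : GY M τ b) :
    GY M τ a := by
  obtain ⟨k, hk, hY⟩ := hb
  exact ⟨k, hk, hY.of_zq H (h.conj L hk)⟩

/-- Involutions over the sign change on `c` which differ from an element of `Y` by a vector congruent to
`2 χ_d`. -/
structure Form (M : KS G V P W) (θ : leechLattice → P) (τ : G) (c : golayCode) (d : Finset GolayPt)
    (u : G) : Prop where
  mem : u ∈ M.K
  sq : u * u = 1
  ex : ∃ s ∈ M.K, InY M τ s ∧ s * s = 1 ∧ Ind M s (signCo0 c) ∧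
    ∃ x : leechLattice, Cl (x : GolayPt → ℤ) d ∧ Zq M u (phi M θ x * s)

variable (L : Lift M θ) (H : TauHyp M θ Γ τ y)

include L H in
/-- Two elements of `Y ∩ K` over the same sign change. -/
theorem exists_w {s s' : G} {ε : Co0} (hs : s ∈ M.K) (hs' : s' ∈ M.K) (hY : InY M τ s)
    (hY' : InY M τ s') (hI : Ind M s ε) (hI' : Ind M s' ε) :
    ∃ w : leechLattice, (∀ i, (4 : ℤ) ∣ (w : GolayPt → ℤ) i) ∧ Zq M s' (phi M θ w * s) := by
  obtain ⟨q, hq⟩ := M.mem_ι_of_trivial (s' * s⁻¹) (M.K.mul_mem hs' (M.K.inv_mem hs)) (fun v => by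
    have := (hI'.mul hI.inv) v
    rwa [mul_inv_cancel, one_smul] at this)
  have hqY : InY M τ (M.ι q) := by rw [← hq]; exact hY'.mul hY.inv
  obtain ⟨w, hw, h⟩ := exists_dvd L H hqY
  refine ⟨w, hw, ?_⟩
  rw [← hq] at h
  have h1 := h.mul L (phi_mem w) (Zq.refl (M := M) s)
  rwa [inv_mul_cancel_right] at h1

include L H in
/-- Conjugation by an element of `Y ∩ K`. -/
theorem conj_Y_zq {s g : G} {c : golayCode} (_hs : s ∈ M.K) (hYs : InY M τ s) (hYg : InY M τ g)
    {o p : GolayPt} (ho : o ∈ support₂ (c : GolayPt → ZMod 2))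
    (hp : p ∉ support₂ (c : GolayPt → ZMod 2)) :
    ∃ r w : leechLattice, Zq M (g * s * g⁻¹) (phi M θ ((r - signCo0 c • r) + 2 • w) * s) := by
  rcases comm_or_Y H hYg hYs with h | h
  · refine ⟨0, 0, ?_⟩
    rw [h, Cfsg.Agent.SporadicStructure.Co0Base.co0_smul_zero, sub_zero, smul_zero, add_zero]
    have h0 : Zq M (phi M θ 0) 1 := by
      have h1 := phi_add L (0 : leechLattice) 0
      rw [add_zero] at h1
      exact h1.trans (phi_sq L 0)
    have h1 := h0.mul L M.K.one_mem (Zq.refl (M := M) s)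
    rw [one_mul] at h1
    exact h1.symm
  · obtain ⟨r, w, hrw⟩ := exists_of_eight (isEps_sign c) ho hp (e8 none)
      (fun i => if i = none then 1 else 0) (fun i => by
        rw [e8_coe, Pi.single_apply]
        split_ifs <;> ring)
    refine ⟨r, w, ?_⟩
    rw [h, ← hrw]
    exact (zq_y H).mul L (phi_mem _) (Zq.refl _)

include L H in
/-- **(T5b)** -/
theorem form_conj {c : golayCode} {d : Finset GolayPt} (hO : support₂ (c : GolayPt → ZMod 2) ∈ octads)
    (hd : d ∈ octads) (hdis : Disjoint (support₂ (c : GolayPt → ZMod 2)) d) {u u' : G}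
    (hu : Form M θ τ c d u) (hu' : Form M θ τ c d u') : ∃ k ∈ M.K, Zq M (k * u * k⁻¹) u' := by
  obtain ⟨huK, huu, s, hs, hsY, hss, hI, x, hx, hux⟩ := hu
  obtain ⟨hu'K, hu'u', s', hs', hs'Y, hs's', hI', x', hx', hux'⟩ := hu'
  obtain ⟨w, hw, hws⟩ := exists_w L H hs hs' hsY hs'Y hI hI'
  set t : leechLattice := x' + w with ht
  have htd : Cl (t : GolayPt → ℤ) d := hx'.of_congr fun i => by
    rw [ht, coe_add, add_sub_cancel_left]; exact hw i
  have hut : Zq M u' (phi M θ t * s) := by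
    refine hux'.trans (((Zq.refl (M := M) (phi M θ x')).mul L (phi_mem _) hws).trans ?_)
    rw [← mul_assoc]
    exact (phi_add L _ _).symm.mul L (phi_mem _) (Zq.refl _)
  set ε := signCo0 c with hε
  have hεO := isEps_sign c
  obtain ⟨t₁, ht₁⟩ := congr_of_sq L hs hI hss huu hux
  obtain ⟨t₂, ht₂⟩ := congr_of_sq L hs hI hss hu'u' hut
  have hcong : (t - x) - ε • (t - x) = 2 • (t₂ - t₁) := by
    rw [smul_sub, ← ht₁, ← ht₂, Cfsg.Agent.SporadicStructure.Co0Base.co0_smul_sub]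
    abel
  -- the inner product
  set v := t - x with hv
  have hv4 : ∀ i, (4 : ℤ) ∣ (v : GolayPt → ℤ) i := by
    intro i
    obtain ⟨a, ha⟩ := hx i
    obtain ⟨b, hb⟩ := htd i
    exact ⟨b - a, by rw [hv, coe_sub]; linarith⟩
  have hbY : InY M τ (phi M θ v) := phi_inY L H hv4
  have hbb : phi M θ v * phi M θ v = 1 := sq_inter L H hbY
  have hsb : s * phi M θ v * s⁻¹ = phi M θ v := by
    refine eq_of_both L H ((phi_conj L hs hI v).trans (phi_eqz_of L ⟨-(t₂ - t₁), ?_⟩))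
      (comm_or_Y H hsY hbY)
    rw [smul_neg, ← hcong]; abel
  have hdot : (16 : ℤ) ∣ dot x v := by
    rw [L.comm]
    apply ι_inj L
    rw [map_mul, map_mul]
    -- `u' = φ v u` up to `z`
    have h1 : Zq M u' (phi M θ v * u) := by
      refine hut.trans ?_
      have h2 : Zq M (phi M θ t * s) (phi M θ v * phi M θ x * s) := by
        have e : t = v + x := by rw [hv]; abel
        rw [e]
        exact (phi_add L _ _).mul L (M.K.mul_mem (phi_mem _) (phi_mem _)) (Zq.refl _)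
      refine h2.trans ?_
      rw [mul_assoc]
      exact (Zq.refl _).mul L (phi_mem _) hux.symm
    have h2 : phi M θ v * u * (phi M θ v * u) = 1 := by
      have hz := z_comm L (M.K.mul_mem (phi_mem (M := M) (θ := θ) v) huK)
      rcases h1 with h1 | h1
      · rw [← h1]; exact hu'u'
      · have h3 : M.z * (phi M θ v * u) * (M.z * (phi M θ v * u)) = 1 := by rw [← h1]; exact hu'u'
        calc phi M θ v * u * (phi M θ v * u)
            = (M.z * M.z) * (phi M θ v * u * (phi M θ v * u)) := by rw [M.z_mul, one_mul]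
          _ = M.z * (M.z * (phi M θ v * u)) * (phi M θ v * u) := by group
          _ = M.z * ((phi M θ v * u) * M.z) * (phi M θ v * u) := by rw [hz]
          _ = M.z * (phi M θ v * u) * (M.z * (phi M θ v * u)) := by group
          _ = 1 := h3
    have h3 : u * phi M θ v * u⁻¹ = phi M θ v := by
      have hui : u⁻¹ = u := inv_eq_of_mul_eq_one_left huu
      have hvi : (phi M θ v)⁻¹ = phi M θ v := inv_eq_of_mul_eq_one_left hbb
      rw [hui]
      have h4 : phi M θ v * (u * phi M θ v * u) = 1 := by rw [← h2]; group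
      exact (inv_eq_of_mul_eq_one_right h4).symm.trans hvi
    -- compute with `u = φ x s` up to `z`
    have h4 : phi M θ x * phi M θ v * (phi M θ x)⁻¹ = u * phi M θ v * u⁻¹ := by
      have h5 : (phi M θ x * s) * phi M θ v * (phi M θ x * s)⁻¹ =
          phi M θ x * phi M θ v * (phi M θ x)⁻¹ := by
        calc (phi M θ x * s) * phi M θ v * (phi M θ x * s)⁻¹ =
            phi M θ x * (s * phi M θ v * s⁻¹) * (phi M θ x)⁻¹ := by group
          _ = _ := by rw [hsb]
      rw [← h5]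
      rcases hux with e | e
      · rw [e]
      · rw [e]
        have hz := z_comm L (phi_mem (M := M) (θ := θ) v)
        have hz' : M.z * (phi M θ x * s) * phi M θ v * (M.z * (phi M θ x * s))⁻¹ =
            M.z * ((phi M θ x * s) * phi M θ v * (phi M θ x * s)⁻¹) * M.z⁻¹ := by group
        have hm : (phi M θ x * s) * phi M θ v * (phi M θ x * s)⁻¹ ∈ M.K :=
          M.K.mul_mem (M.K.mul_mem (M.K.mul_mem (phi_mem _) hs) (phi_mem _))
            (M.K.inv_mem (M.K.mul_mem (phi_mem _) hs))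
        rw [hz', ← z_comm L hm, mul_inv_cancel_right]
    rw [h3] at h4
    exact mul_inv_eq_iff_eq_mul.1 h4
  obtain ⟨B, hB, hBall⟩ := exists_conj_form hO hd hdis hεO x t hx htd ⟨_, hcong⟩ hdot
  obtain ⟨cB', hcB', hcBs⟩ := hB
  set cB : golayCode := ⟨cB', hcB'⟩ with hcB
  obtain ⟨r, w', hrw⟩ := hBall (signCo0 cB) (by
    have := isEps_sign cB
    rwa [show support₂ ((cB : golayCode) : GolayPt → ZMod 2) = B from hcBs] at this)
  obtain ⟨q, hgK, hgI⟩ := H.sgn cB
  set g := τ * M.ι q * τ⁻¹ with hg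
  have hgY : InY M τ g := ⟨q, hg⟩
  obtain ⟨o, ho⟩ : (support₂ (c : GolayPt → ZMod 2)).Nonempty := by
    rw [← Finset.card_pos, hO.2]; norm_num
  obtain ⟨p, hp⟩ : d.Nonempty := by rw [← Finset.card_pos, hd.2]; norm_num
  obtain ⟨r', w'', hgs⟩ := conj_Y_zq L H hs hsY hgY ho (Finset.disjoint_right.1 hdis hp)
  -- `g u g⁻¹`
  have h1 : Zq M (g * u * g⁻¹) (phi M θ (signCo0 cB • x + ((r' - ε • r') + 2 • w'')) * s) := by
    refine (hux.conj L hgK).trans ?_
    rw [show g * (phi M θ x * s) * g⁻¹ = (g * phi M θ x * g⁻¹) * (g * s * g⁻¹) by group]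
    refine ((phi_conj L hgK hgI x).mul L (phi_mem _) hgs).trans ?_
    rw [← mul_assoc]
    exact (phi_add L _ _).symm.mul L (phi_mem _) (Zq.refl _)
  refine ⟨phi M θ (r - r') * g, M.K.mul_mem (phi_mem _) hgK, ?_⟩
  rw [show phi M θ (r - r') * g * u * (phi M θ (r - r') * g)⁻¹ =
    phi M θ (r - r') * (g * u * g⁻¹) * (phi M θ (r - r'))⁻¹ by group]
  refine (h1.conj L (phi_mem _)).trans ((phi_conj_mul L hs hI _ _).trans ?_)
  refine (Zq.mul L (phi_mem _) (phi_eqz_of L ⟨w'' - w', ?_⟩) (Zq.refl s)).trans hut.symm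
  rw [hrw, smul_sub, Cfsg.Agent.SporadicStructure.Co0Base.co0_smul_sub]
  abel

theorem support_wordPerm (σ : M24) (c : golayCode) :
    support₂ ((wordPerm σ c : golayCode) : GolayPt → ZMod 2) =
      (σ : Equiv.Perm GolayPt) • support₂ (c : GolayPt → ZMod 2) := by
  ext i
  rw [Cfsg.Agent.Leech.Code.mem_support₂, ← Finset.inv_smul_mem_iff,
    Cfsg.Agent.Leech.Code.mem_support₂]
  rfl

include L H in
/-- **(T5a)** -/
theorem form_perm {c : golayCode} {d : Finset GolayPt} {u : G} (hu : Form M θ τ c d u) (σ : M24) :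
    ∃ k ∈ M.K, Form M θ τ (wordPerm σ c) ((σ : Equiv.Perm GolayPt) • d) (k * u * k⁻¹) := by
  obtain ⟨huK, huu, s, hs, hsY, hss, hI, x, hx, hux⟩ := hu
  obtain ⟨k, hk, hkI, hky⟩ := exists_perm L H σ
  refine ⟨k, hk, M.K.mul_mem (M.K.mul_mem hk huK) (M.K.inv_mem hk), ?_, k * s * k⁻¹,
    M.K.mul_mem (M.K.mul_mem hk hs) (M.K.inv_mem hk), conj_inY L H hk hky hsY, ?_, ?_,
    permCo0 σ • x, ?_, ?_⟩
  · rw [show k * u * k⁻¹ * (k * u * k⁻¹) = k * (u * u) * k⁻¹ by group, huu, mul_one, mul_inv_cancel]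
  · rw [show k * s * k⁻¹ * (k * s * k⁻¹) = k * (s * s) * k⁻¹ by group, hss, mul_one, mul_inv_cancel]
  · rw [← perm_mul_sign_mul_inv]
    exact (hkI.mul hI).mul hkI.inv
  · intro i
    rw [permCo0_smul]
    have h1 := hx ((σ : Equiv.Perm GolayPt).symm i)
    have h2 : Cfsg.Agent.Leech.Basic.chi ((σ : Equiv.Perm GolayPt) • d) i = Cfsg.Agent.Leech.Basic.chi d ((σ : Equiv.Perm GolayPt).symm i) := by
      unfold Cfsg.Agent.Leech.Basic.chi
      have : i ∈ (σ : Equiv.Perm GolayPt) • d ↔ (σ : Equiv.Perm GolayPt).symm i ∈ d := by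
        rw [← Finset.inv_smul_mem_iff]; rfl
      simp only [this]
    rw [h2]
    exact h1
  · refine (hux.conj L hk).trans ?_
    rw [show k * (phi M θ x * s) * k⁻¹ = (k * phi M θ x * k⁻¹) * (k * s * k⁻¹) by group]
    exact (phi_conj L hk hkI x).mul L (phi_mem _) (Zq.refl _)

include L H in
/-- Reduction by Lemma X. -/
theorem form_or {c : golayCode} (hO : support₂ (c : GolayPt → ZMod 2) ∈ octads) {s u : G}
    (hs : s ∈ M.K) (hsY : InY M τ s) (hss : s * s = 1) (hI : Ind M s (signCo0 c)) (huK : u ∈ M.K)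
    (huu : u * u = 1) {x : leechLattice} (hux : Zq M u (phi M θ x * s)) :
    ∃ k ∈ M.K, ∃ r w : leechLattice, k = phi M θ r ∧
      ((∀ i, (4 : ℤ) ∣ ((x + (r - signCo0 c • r) + 2 • w : leechLattice) : GolayPt → ℤ) i) ∧
        InY M τ (k * u * k⁻¹) ∨
      ∃ d ∈ octads, Disjoint (support₂ (c : GolayPt → ZMod 2)) d ∧ Form M θ τ c d (k * u * k⁻¹)) := by
  obtain ⟨r, w, d, hd, hdis, hcl⟩ := exists_form_mod hO (isEps_sign c) x
    (congr_of_sq L hs hI hss huu hux)
  refine ⟨phi M θ r, phi_mem r, r, w, rfl, ?_⟩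
  have h1 : Zq M (phi M θ r * u * (phi M θ r)⁻¹) (phi M θ (x + (r - signCo0 c • r) + 2 • w) * s) :=
    (hux.conj L (phi_mem r)).trans ((phi_conj_mul L hs hI r x).trans
      ((phi_two L _ w).symm.mul L (phi_mem _) (Zq.refl s)))
  rcases hd with rfl | hd
  · left
    exact ⟨hcl.dvd, InY.of_zq H h1 ((phi_inY L H hcl.dvd).mul hsY)⟩
  · right
    refine ⟨d, hd, hdis.symm, M.K.mul_mem (M.K.mul_mem (phi_mem r) huK) (M.K.inv_mem (phi_mem r)), ?_,
      s, hs, hsY, hss, hI, _, hcl, h1⟩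
    rw [show phi M θ r * u * (phi M θ r)⁻¹ * (phi M θ r * u * (phi M θ r)⁻¹) =
      phi M θ r * (u * u) * (phi M θ r)⁻¹ by group, huu, mul_one, mul_inv_cancel]

theorem exists_word {O : Finset GolayPt} (hO : O ∈ octads) :
    ∃ c : golayCode, support₂ (c : GolayPt → ZMod 2) = O := by
  obtain ⟨⟨w, hw, h⟩, -⟩ := hO
  exact ⟨⟨w, hw⟩, h⟩

open Cfsg.Agent.SporadicA.Xi in
include L H in
/-- **(T5c)** Some involution of the second form is conjugate to an element of `Y`. -/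
theorem exists_good_form : ∃ (c : golayCode) (d : Finset GolayPt) (u : G),
    support₂ (c : GolayPt → ZMod 2) ∈ octads ∧ d ∈ octads ∧
    Disjoint (support₂ (c : GolayPt → ZMod 2)) d ∧ Form M θ τ c d u ∧ GY M τ u := by
  classical
  obtain ⟨S, hS⟩ : ∃ S : Finset GolayPt, S.card = 4 := by
    obtain ⟨S, -, hS⟩ := Finset.exists_subset_card_eq (s := (Finset.univ : Finset GolayPt)) (n := 4)
      (by rw [Finset.card_univ, Cfsg.Agent.Leech.Code.card_golayPt]; norm_num)
    exact ⟨S, hS⟩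
  obtain ⟨T, hT, -⟩ := Cfsg.Agent.SporadicA.XiSextet.exists_isSextet Cfsg.Agent.Leech.Code.steiner S hS
  have hdisj : ∀ k l, k ≠ l → Disjoint (fib T k) (fib T l) := by
    intro k l hkl
    rw [Finset.disjoint_left]
    intro i hi hi'
    exact hkl ((mem_fib.1 hi).symm.trans (mem_fib.1 hi'))
  have hoct : ∀ k l, k ≠ l → fib T k ∪ fib T l ∈ octads := fun k l hkl =>
    ⟨hT.code k l hkl, by rw [Finset.card_union_of_disjoint (hdisj k l hkl), hT.card, hT.card]⟩
  obtain ⟨c, hc⟩ := exists_word (hoct 0 1 (by decide))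
  have hO : support₂ (c : GolayPt → ZMod 2) ∈ octads := by rw [hc]; exact hoct 0 1 (by decide)
  have hd2 : Disjoint (support₂ (c : GolayPt → ZMod 2)) (fib T 2 ∪ fib T 3) := by
    rw [hc, Finset.disjoint_union_left, Finset.disjoint_union_right, Finset.disjoint_union_right]
    exact ⟨⟨hdisj _ _ (by decide), hdisj _ _ (by decide)⟩,
      ⟨hdisj _ _ (by decide), hdisj _ _ (by decide)⟩⟩
  obtain ⟨o, ho⟩ : (fib T 0).Nonempty := by rw [← Finset.card_pos, hT.card]; norm_num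
  obtain ⟨i, hi⟩ : (fib T 2).Nonempty := by rw [← Finset.card_pos, hT.card]; norm_num
  obtain ⟨j, hj⟩ : (fib T 3).Nonempty := by rw [← Finset.card_pos, hT.card]; norm_num
  have hiO : i ∉ support₂ (c : GolayPt → ZMod 2) :=
    Finset.disjoint_right.1 hd2 (Finset.mem_union_left _ hi)
  have hjO : j ∉ support₂ (c : GolayPt → ZMod 2) :=
    Finset.disjoint_right.1 hd2 (Finset.mem_union_right _ hj)
  obtain ⟨s, hs, hsY, hss, hI⟩ := exists_s L H c (o := o) (p := i)
    (by rw [hc]; exact Finset.mem_union_left _ ho) hiO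
  obtain ⟨k, hk, hkI⟩ := M.onto (xiCo0 T hT)
  have hkI : Ind M k (xiCo0 T hT) := hkI
  have hcomm : xiCo0 T hT * signCo0 c * (xiCo0 T hT)⁻¹ = signCo0 c := by
    rw [xi_comm hT (by have := isEps_sign c; rwa [hc] at this), mul_inv_cancel_right]
  -- `u₀ = k s k⁻¹`
  set u₀ := k * s * k⁻¹ with hu₀
  have hu₀K : u₀ ∈ M.K := M.K.mul_mem (M.K.mul_mem hk hs) (M.K.inv_mem hk)
  have hu₀u₀ : u₀ * u₀ = 1 := by
    rw [hu₀, show k * s * k⁻¹ * (k * s * k⁻¹) = k * (s * s) * k⁻¹ by group, hss, mul_one,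
      mul_inv_cancel]
  have hu₀I : Ind M u₀ (signCo0 c) := by
    rw [← hcomm]; exact (hkI.mul hI).mul hkI.inv
  have hu₀G : GY M τ u₀ := ⟨k⁻¹, M.K.inv_mem hk, by
    rw [hu₀, show k⁻¹ * (k * s * k⁻¹) * k⁻¹⁻¹ = s by group]; exact hsY⟩
  obtain ⟨x₀, hx₀⟩ := exists_phi_mul L hu₀K hs hu₀I hI
  obtain ⟨l, hl, r, w, hlr, h | ⟨d, hd, hdis, hF⟩⟩ := form_or L H hO hs hsY hss hI hu₀K hu₀u₀ hx₀
  · -- use `u₁ = k φ(w₀) s k⁻¹`
    obtain ⟨hdvd, -⟩ := h
    set e := phi M θ (pr i j) with he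
    have heY : InY M τ e := phi_inY L H (pr_dvd i j)
    have hee : e * e = 1 := sq_inter L H heY
    have hse : s * e * s⁻¹ = e := by
      refine eq_of_both L H ((phi_conj L hs hI _).trans (Zq.of_eq ?_)) (comm_or_Y H hsY heY)
      rw [he]
      congr 1
      apply Subtype.ext
      funext m
      rw [isEps_sign c]
      by_cases hm : m ∈ support₂ (c : GolayPt → ZMod 2)
      · have h1 : m ≠ i := fun e => hiO (e ▸ hm)
        have h2 : m ≠ j := fun e => hjO (e ▸ hm)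
        rw [if_pos hm, pr_coe, if_neg h1, if_neg h2]; norm_num
      · rw [if_neg hm]
    have hes : e * s * (e * s) = 1 := by
      rw [show e * s * (e * s) = e * (s * e * s⁻¹) * (s * s) by group, hse, hss, hee, mul_one]
    have heK : e * s ∈ M.K := M.K.mul_mem (phi_mem _) hs
    set u₁ := k * (e * s) * k⁻¹ with hu₁
    have hu₁K : u₁ ∈ M.K := M.K.mul_mem (M.K.mul_mem hk heK) (M.K.inv_mem hk)
    have hu₁u₁ : u₁ * u₁ = 1 := by
      rw [hu₁, show k * (e * s) * k⁻¹ * (k * (e * s) * k⁻¹) = k * (e * s * (e * s)) * k⁻¹ by group,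
        hes, mul_one, mul_inv_cancel]
    have hu₁G : GY M τ u₁ := ⟨k⁻¹, M.K.inv_mem hk, by
      rw [hu₁, show k⁻¹ * (k * (e * s) * k⁻¹) * k⁻¹⁻¹ = e * s by group]
      exact heY.mul hsY⟩
    have hx₁ : Zq M u₁ (phi M θ (xiCo0 T hT • pr i j + x₀) * s) := by
      rw [hu₁, show k * (e * s) * k⁻¹ = (k * e * k⁻¹) * (k * s * k⁻¹) by group]
      refine ((phi_conj L hk hkI _).mul L (phi_mem _) hx₀).trans ?_
      rw [← mul_assoc]
      exact (phi_add L _ _).symm.mul L (phi_mem _) (Zq.refl _)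
    refine ⟨c, fib T 2 ∪ fib T 3, l * u₁ * l⁻¹, hO, hoct 2 3 (by decide), hd2, ?_,
      hu₁G.conj_inv hl⟩
    refine ⟨M.K.mul_mem (M.K.mul_mem hl hu₁K) (M.K.inv_mem hl), ?_, s, hs, hsY, hss, hI,
      xiCo0 T hT • pr i j + (x₀ + (r - signCo0 c • r) + 2 • w), ?_, ?_⟩
    · rw [show l * u₁ * l⁻¹ * (l * u₁ * l⁻¹) = l * (u₁ * u₁) * l⁻¹ by group, hu₁u₁, mul_one,
        mul_inv_cancel]
    · exact (cl_xi_pr hT (mem_fib.1 hi) (mem_fib.1 hj)).of_congr fun m => by
        rw [coe_add, add_sub_cancel_left]; exact hdvd m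
    · rw [hlr]
      refine (hx₁.conj L (phi_mem r)).trans ((phi_conj_mul L hs hI r _).trans ?_)
      rw [show xiCo0 T hT • pr i j + (x₀ + (r - signCo0 c • r) + 2 • w) =
        xiCo0 T hT • pr i j + x₀ + (r - signCo0 c • r) + 2 • w by abel]
      exact (phi_two L _ w).symm.mul L (phi_mem _) (Zq.refl s)
  · exact ⟨c, d, l * u₀ * l⁻¹, hO, hd, hdis, hF, hu₀G.conj_inv hl⟩

include L H in
/-- **Involutions over the sign changes on octads are conjugate in `K` to elements of `Y`.** -/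
theorem gy_oct {u : G} {c : golayCode} (hO : support₂ (c : GolayPt → ZMod 2) ∈ octads)
    (hu : u ∈ M.K) (huu : u * u = 1) (hI : Ind M u (signCo0 c)) : GY M τ u := by
  obtain ⟨o, ho⟩ : (support₂ (c : GolayPt → ZMod 2)).Nonempty := by
    rw [← Finset.card_pos, hO.2]; norm_num
  obtain ⟨p, hp⟩ : ∃ p, p ∉ support₂ (c : GolayPt → ZMod 2) := by
    by_contra hcon
    push Not at hcon
    have h1 := Finset.eq_univ_of_forall hcon
    have h2 := hO.2
    rw [h1, Finset.card_univ, Cfsg.Agent.Leech.Code.card_golayPt] at h2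
    omega
  obtain ⟨s, hs, hsY, hss, hsI⟩ := exists_s L H c ho hp
  obtain ⟨x, hx⟩ := exists_phi_mul L hu hs hI hsI
  obtain ⟨k, hk, r, w, -, h | ⟨d, hd, hdis, hF⟩⟩ := form_or L H hO hs hsY hss hsI hu huu hx
  · exact ⟨k, hk, h.2⟩
  · apply GY.conj hk
    obtain ⟨c₂, d₂, u₂, hO₂, hd₂, hdis₂, hF₂, hG₂⟩ := exists_good_form L H
    have third : ∀ {A B : Finset GolayPt}, Disjoint A B → Disjoint A (A ∪ B)ᶜ ∧ Disjoint B (A ∪ B)ᶜ := by
      intro A B _
      constructor
      · rw [Finset.disjoint_left]; intro i hi hi'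
        rw [Finset.mem_compl, Finset.mem_union] at hi'
        exact hi' (Or.inl hi)
      · rw [Finset.disjoint_left]; intro i hi hi'
        rw [Finset.mem_compl, Finset.mem_union] at hi'
        exact hi' (Or.inr hi)
    obtain ⟨g, hg, h1, h2, -⟩ := Cfsg.Agent.GolayTrio.Trans.exists_ordered hO hd
      (exists_third hO hd hdis) hdis (third hdis).1 (third hdis).2 hO₂ hd₂
      (exists_third hO₂ hd₂ hdis₂) hdis₂ (third hdis₂).1 (third hdis₂).2
    obtain ⟨k', hk', hF'⟩ := form_perm L H hF ⟨g, hg⟩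
    have hc : wordPerm ⟨g, hg⟩ c = c₂ := by
      apply Subtype.ext
      have e1 : support₂ ((wordPerm ⟨g, hg⟩ c : golayCode) : GolayPt → ZMod 2) =
          support₂ (c₂ : GolayPt → ZMod 2) := by rw [support_wordPerm]; exact h1
      rw [← Cfsg.Agent.Leech.Code.ind_support₂ ((wordPerm ⟨g, hg⟩ c : golayCode) : GolayPt → ZMod 2),
        e1, Cfsg.Agent.Leech.Code.ind_support₂]
    rw [hc] at hF'
    have hF' : Form M θ τ c₂ d₂ (k' * (k * u * k⁻¹) * k'⁻¹) := by
      have : ((⟨g, hg⟩ : M24) : Equiv.Perm GolayPt) • d = d₂ := h2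
      rwa [this] at hF'
    obtain ⟨k'', hk'', hz⟩ := form_conj L H hO₂ hd₂ hdis₂ hF' hF₂
    exact (GY.of_zq L H hz hG₂).conj hk'' |>.conj hk'

end Cfsg.Agent.MonsterU.InvTwo
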