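import Cfsg.Agent.MonsterU.InvPairSex
import Cfsg.Agent.MonsterU.InvTwoOct

/-!
Involutions of `K` over the sign change on an octad, second form: conjugating with the elements over the
sextet maps.  The conjugating element maps the elements over vectors divisible by 4 supported on one tetrad to
`Y = τ ι(P) τ⁻¹` too.
-/

set_option autoImplicit false

namespace Cfsg.Agent.MonsterU.InvPair

open Cfsg Cfsg.Agent.LeechMat.Core Cfsg.Agent.MonsterX.KSide Cfsg.Agent.MonsterX.KLift
open Cfsg.Agent.MonsterX.FrameKS Cfsg.Agent.MonsterU.InvTwo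
open Cfsg.Agent.SporadicStructure.Co0Base (e8 e8_coe)
open Cfsg.Agent.SporadicA.Co0Mono (signCo0 permCo0 wordPerm permCo0_smul signCo0_smul)
open Cfsg.Agent.MonsterU.InvTwoLat
open Cfsg.Agent.Leech.Basic (chi chi_mem chi_not_mem)
open Cfsg.Agent.SporadicA Cfsg.Agent.SporadicA.Xi

/-! ### Lattice facts -/

theorem xi_mod {T : GolayPt → Fin 6} (hT : IsSextet T) (v : leechLattice) (b : GolayPt → ℤ)
    (hb : ∀ m, (v : GolayPt → ℤ) m = 4 * b m) (m : GolayPt) :
    (4 : ℤ) ∣ ((xiCo0 T hT • v : leechLattice) : GolayPt → ℤ) m - 2 * ∑ l ∈ fib T (T m), b l := by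
  have h1 := two_xiCo0_smul T hT v m
  have h2 : ∑ j ∈ fib T (T m), (v : GolayPt → ℤ) j = 4 * ∑ j ∈ fib T (T m), b j := by
    rw [Finset.mul_sum]
    exact Finset.sum_congr rfl fun j _ => hb j
  rw [h2, hb m] at h1
  split_ifs at h1 <;> omega

/-- Vectors divisible by 4 supported on one tetrad. -/
def Supp4 (T : GolayPt → Fin 6) (v : leechLattice) : Prop :=
  (∀ m, (4 : ℤ) ∣ (v : GolayPt → ℤ) m) ∧ ∃ k, ∀ m, T m ≠ k → (v : GolayPt → ℤ) m = 0

theorem Supp4.xi {T : GolayPt → Fin 6} (hT : IsSextet T) {v : leechLattice} (h : Supp4 T v) :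
    Supp4 T (xiCo0 T hT • v) := by
  obtain ⟨h4, k, hk⟩ := h
  choose b hb using h4
  have hb0 : ∀ m, T m ≠ k → b m = 0 := fun m hm => by
    have := hk m hm
    rw [hb m] at this
    omega
  have hsum : ∑ m, b m = ∑ m ∈ fib T k, b m := by
    symm
    refine Finset.sum_subset (Finset.subset_univ _) fun m _ hm => hb0 m fun e => hm (mem_fib.2 e)
  have hev := even_of_four v b hb
  refine ⟨fun m => ?_, k, fun m hm => ?_⟩
  · have h1 := xi_mod hT v b hb m
    by_cases hm : T m = k
    · rw [hm, ← hsum] at h1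
      omega
    · have h2 : ∑ l ∈ fib T (T m), b l = 0 :=
        Finset.sum_eq_zero fun l hl => hb0 l (by rw [mem_fib.1 hl]; exact hm)
      rw [h2] at h1
      simpa using h1
  · have h1 := two_xiCo0_smul T hT v m
    have h2 : ∑ l ∈ fib T (T m), (v : GolayPt → ℤ) l = 0 :=
      Finset.sum_eq_zero fun l hl => hk l (by rw [mem_fib.1 hl]; exact hm)
    rw [h2, hk m hm] at h1
    simpa using h1

theorem Supp4.sign {T : GolayPt → Fin 6} {v : leechLattice} (h : Supp4 T v) (c : golayCode) :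
    Supp4 T (signCo0 c • v) := by
  obtain ⟨h4, k, hk⟩ := h
  refine ⟨fun m => ?_, k, fun m hm => ?_⟩
  · rw [isEps_sign c]
    split_ifs
    · exact dvd_neg.2 (h4 m)
    · exact h4 m
  · rw [isEps_sign c, hk m hm]
    simp

theorem xi_xi {T : GolayPt → Fin 6} (hT : IsSextet T) (v : leechLattice) :
    xiCo0 T hT • xiCo0 T hT • v = v := Subtype.ext (xiFun_xiFun hT v.2)

theorem xi_inv {T : GolayPt → Fin 6} (hT : IsSextet T) : (xiCo0 T hT)⁻¹ = xiCo0 T hT := by
  apply inv_eq_of_mul_eq_one_left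
  apply Cfsg.Agent.SporadicA.Co0Mono.ext
  intro v
  rw [mul_smul, xi_xi, one_smul]

theorem dot_pr (x : leechLattice) (i j : GolayPt) :
    dot x (pr i j) = 4 * ((x : GolayPt → ℤ) i + (x : GolayPt → ℤ) j) := by
  show dotInt _ _ = _
  unfold dotInt
  have h : ∀ k, (x : GolayPt → ℤ) k * ((pr i j : leechLattice) : GolayPt → ℤ) k =
      (if k = i then 4 * (x : GolayPt → ℤ) k else 0) + (if k = j then 4 * (x : GolayPt → ℤ) k else 0) := by
    intro k
    rw [pr_coe]
    split_ifs <;> ring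
  rw [Finset.sum_congr rfl fun k _ => h k, Finset.sum_add_distrib, Finset.sum_ite_eq',
    Finset.sum_ite_eq']
  simp
  ring

theorem supp4_pr {T : GolayPt → Fin 6} {i j : GolayPt} (h : T i = T j) : Supp4 T (pr i j) := by
  refine ⟨fun m => ⟨_, pr_coe i j m⟩, T i, fun m hm => ?_⟩
  have h1 : m ≠ i := fun e => hm (by rw [e])
  have h2 : m ≠ j := fun e => hm (by rw [e, h])
  rw [pr_coe, if_neg h1, if_neg h2]
  rfl

/-- A vector supported on one tetrad is fixed up to sign by the sign change on two tetrads. -/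
theorem Supp4.eps {T : GolayPt → Fin 6} {v : leechLattice} (h : Supp4 T v) {ε : Co0}
    (hε : IsEps ε (fib T 0 ∪ fib T 1)) : ∃ t : leechLattice, ε • v - v = 2 • t := by
  obtain ⟨-, k, hk⟩ := h
  by_cases hk2 : k = 0 ∨ k = 1
  · refine ⟨-v, ?_⟩
    have h1 : ε • v = -v := by
      apply Subtype.ext
      funext m
      rw [hε]
      by_cases hm : T m = k
      · rw [if_pos (by rw [Finset.mem_union, mem_fib, mem_fib, hm]; exact hk2)]
        rfl
      · have h0 := hk m hm
        rw [h0]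
        show _ = -((v : GolayPt → ℤ) m)
        rw [h0]; simp
    rw [h1, smul_neg, two_smul]; abel
  · refine ⟨0, ?_⟩
    have h1 : ε • v = v := by
      apply Subtype.ext
      funext m
      rw [hε]
      by_cases hm : T m = k
      · rw [if_neg (by rw [Finset.mem_union, mem_fib, mem_fib, hm]; exact hk2)]
      · rw [hk m hm]; simp
    rw [h1, sub_self, smul_zero]

/-! ### Calculations in `K` -/

variable {G V P W : Type*} [Group G] [AddCommGroup V] [Module ℚ V]
  [DistribMulAction G V] [SMulCommClass G ℚ V] [Group P] [AddCommGroup W] [Module ℚ W]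
  {M : KS G V P W} {θ : leechLattice → P} {Γ : Subgroup G} {τ : G} {y : P}

/-- Commuting does not depend on the factor `z`. -/
theorem comm_zq (L : Lift M θ) {a b g : G} (h : Zq M a b) (hg : g ∈ M.K) (hb : b * g = g * b) :
    a * g = g * a := by
  rcases h with rfl | rfl
  · exact hb
  · have hz := z_comm L hg
    rw [mul_assoc, hb, ← mul_assoc, ← hz, mul_assoc]

variable (L : Lift M θ) (H : TauHyp M θ Γ τ y)

include L H in
/-- `s ∈ Y ∩ K` over `ε` commutes with the elements over vectors divisible by 4 fixed by `ε` modulo 2. -/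
theorem comm_s {s : G} {ε : Co0} (hs : s ∈ M.K) (hsY : InY M τ s) (hI : Ind M s ε) {v : leechLattice}
    (h4 : ∀ m, (4 : ℤ) ∣ (v : GolayPt → ℤ) m) (hv : ∃ t : leechLattice, ε • v - v = 2 • t) :
    s * phi M θ v = phi M θ v * s := by
  have h := eq_of_both L H ((phi_conj L hs hI v).trans (phi_eqz_of L hv))
    (comm_or_Y H hsY (phi_inY L H h4))
  exact mul_inv_eq_iff_eq_mul.1 h

include L H in
/-- **Step 1.** -/
theorem ortho {T : GolayPt → Fin 6} (hT : IsSextet T) {ε : Co0} (hε : IsEps ε (fib T 0 ∪ fib T 1))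
    {s k : G} (hs : s ∈ M.K) (hsY : InY M τ s) (hI : Ind M s ε) (hk : k ∈ M.K)
    (hkI : Ind M k (xiCo0 T hT)) {x₀ : leechLattice}
    (hx₀ : Zq M (k * s * k⁻¹) (phi M θ x₀ * s)) {v : leechLattice} (hv : Supp4 T v) :
    (16 : ℤ) ∣ dot x₀ v := by
  have h1 := comm_s L H hs hsY hI hv.1 (hv.eps hε)
  have h2 := comm_s L H hs hsY hI (hv.xi hT).1 ((hv.xi hT).eps hε)
  -- `k s k⁻¹` commutes with `φ v`
  have h3 : Zq M (phi M θ v) (k * phi M θ (xiCo0 T hT • v) * k⁻¹) := by
    have := phi_conj L hk hkI (xiCo0 T hT • v)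
    rw [xi_xi] at this
    exact this.symm
  have hsK : k * s * k⁻¹ ∈ M.K := M.K.mul_mem (M.K.mul_mem hk hs) (M.K.inv_mem hk)
  have h4 : phi M θ v * (k * s * k⁻¹) = (k * s * k⁻¹) * phi M θ v := by
    refine comm_zq L h3 hsK ?_
    calc k * phi M θ (xiCo0 T hT • v) * k⁻¹ * (k * s * k⁻¹)
        = k * (phi M θ (xiCo0 T hT • v) * s) * k⁻¹ := by group
      _ = k * (s * phi M θ (xiCo0 T hT • v)) * k⁻¹ := by rw [h2]
      _ = _ := by group
  have h5 : Zq M (phi M θ x₀) ((k * s * k⁻¹) * s⁻¹) := by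
    have := hx₀.symm.mul L hsK (Zq.refl (M := M) s⁻¹)
    rwa [mul_inv_cancel_right] at this
  have h6 : phi M θ x₀ * phi M θ v = phi M θ v * phi M θ x₀ := by
    refine comm_zq L h5 (phi_mem v) ?_
    have h7 : s⁻¹ * phi M θ v = phi M θ v * s⁻¹ := by
      rw [inv_mul_eq_iff_eq_mul, ← mul_assoc, h1, mul_inv_cancel_right]
    rw [mul_assoc, h7, ← mul_assoc, ← h4, mul_assoc]
  rw [L.comm]
  apply ι_inj L
  rw [map_mul, map_mul]
  exact h6

include L H in
/-- **Step 2.** A good involution of `Y` over `ε`. -/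
theorem good_s {T : GolayPt → Fin 6} (hT : IsSextet T) {c : golayCode}
    (hc : support₂ (c : GolayPt → ZMod 2) = fib T 0 ∪ fib T 1) :
    ∃ s ∈ M.K, InY M τ s ∧ s * s = 1 ∧ Ind M s (signCo0 c) ∧
      ∃ g ∈ M.K, Ind M g (xiCo0 T hT) ∧ ∃ w : leechLattice, (∀ m, (4 : ℤ) ∣ (w : GolayPt → ℤ) m) ∧
        Zq M (g * s * g⁻¹) (phi M θ w * s) := by
  have hO : fib T 0 ∪ fib T 1 ∈ octads := fib_union_octad hT (by decide)
  have hε : IsEps (signCo0 c) (fib T 0 ∪ fib T 1) := by
    have := isEps_sign c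
    rwa [hc] at this
  obtain ⟨o, ho⟩ : (fib T 0).Nonempty := by rw [← Finset.card_pos, hT.card]; norm_num
  obtain ⟨p, hp⟩ : (fib T 2).Nonempty := by rw [← Finset.card_pos, hT.card]; norm_num
  have hpO : p ∉ support₂ (c : GolayPt → ZMod 2) := by
    rw [hc, Finset.mem_union, mem_fib, mem_fib, mem_fib.1 hp]
    decide
  obtain ⟨s, hs, hsY, hss, hI⟩ := exists_s L H c (o := o) (p := p)
    (by rw [hc]; exact Finset.mem_union_left _ ho) hpO
  obtain ⟨k, hk, hkI⟩ := M.onto (xiCo0 T hT)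
  have hkI : Ind M k (xiCo0 T hT) := hkI
  have hcomm : xiCo0 T hT * signCo0 c * (xiCo0 T hT)⁻¹ = signCo0 c := by
    rw [xi_comm hT hε, mul_inv_cancel_right]
  set u₀ := k * s * k⁻¹ with hu₀
  have hu₀K : u₀ ∈ M.K := M.K.mul_mem (M.K.mul_mem hk hs) (M.K.inv_mem hk)
  have hu₀u₀ : u₀ * u₀ = 1 := by
    rw [hu₀, show k * s * k⁻¹ * (k * s * k⁻¹) = k * (s * s) * k⁻¹ by group, hss, mul_one,
      mul_inv_cancel]
  have hu₀I : Ind M u₀ (signCo0 c) := by
    rw [← hcomm]; exact (hkI.mul hI).mul hkI.inv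
  obtain ⟨x₀, hx₀⟩ := exists_phi_mul L hu₀K hs hu₀I hI
  obtain ⟨r, w, d, hd, hdis, hcl⟩ := exists_form_mod hO hε x₀ (congr_of_sq L hs hI hss hu₀u₀ hx₀)
  set x₁ := x₀ + (r - signCo0 c • r) + 2 • w with hx₁
  have hgs : Zq M ((phi M θ r * k) * s * (phi M θ r * k)⁻¹) (phi M θ x₁ * s) := by
    rw [show (phi M θ r * k) * s * (phi M θ r * k)⁻¹ = phi M θ r * u₀ * (phi M θ r)⁻¹ by
      rw [hu₀]; group]
    exact (hx₀.conj L (phi_mem r)).trans ((phi_conj_mul L hs hI r x₀).trans
      ((phi_two L _ w).symm.mul L (phi_mem _) (Zq.refl s)))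
  have hgI : Ind M (phi M θ r * k) (xiCo0 T hT) := by
    have := (ind_phi (M := M) (θ := θ) r).mul hkI
    rwa [one_mul] at this
  have hgK : phi M θ r * k ∈ M.K := M.K.mul_mem (phi_mem r) hk
  rcases hd with rfl | hd
  · exact ⟨s, hs, hsY, hss, hI, phi M θ r * k, hgK, hgI, x₁, hcl.dvd, hgs⟩
  · -- `d` is a union of two tetrads
    have hort : ∀ i j, T i = T j → (i ∈ d ↔ j ∈ d) := by
      intro i j hij
      have h1 := ortho L H hT hε hs hsY hI hgK hgI hgs (supp4_pr hij)
      rw [dot_pr] at h1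
      have h2 := hcl i
      have h3 := hcl j
      unfold chi at h2 h3
      by_cases hi : i ∈ d <;> by_cases hj : j ∈ d <;> simp only [hi, hj, if_true, if_false] at h2 h3 ⊢
      · omega
      · omega
    obtain ⟨i₀, hi₀⟩ : d.Nonempty := by rw [← Finset.card_pos, hd.2]; norm_num
    obtain ⟨b, hb, hdb⟩ := octad_of_fib hT hd (p := T i₀) (fun j hj =>
      (hort i₀ j (mem_fib.1 hj).symm).1 hi₀)
    obtain ⟨j₀, hj₀⟩ : (fib T b).Nonempty := by rw [← Finset.card_pos, hT.card]; norm_num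
    have hj₀d : j₀ ∈ d := by rw [hdb]; exact Finset.mem_union_right _ hj₀
    have hi₀O : i₀ ∉ fib T 0 ∪ fib T 1 := Finset.disjoint_left.1 hdis hi₀
    have hj₀O : j₀ ∉ fib T 0 ∪ fib T 1 := Finset.disjoint_left.1 hdis hj₀d
    -- the new involution
    set v := pr i₀ j₀ with hv
    have h4v : ∀ m, (4 : ℤ) ∣ (v : GolayPt → ℤ) m := fun m => ⟨_, pr_coe i₀ j₀ m⟩
    have hεv : signCo0 c • v = v := by
      apply Subtype.ext
      funext m
      rw [hε]
      by_cases hm : m ∈ fib T 0 ∪ fib T 1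
      · have h1 : m ≠ i₀ := fun e => hi₀O (e ▸ hm)
        have h2 : m ≠ j₀ := fun e => hj₀O (e ▸ hm)
        rw [if_pos hm, hv, pr_coe, if_neg h1, if_neg h2]; norm_num
      · rw [if_neg hm]
    have hsv : s * phi M θ v = phi M θ v * s := comm_s L H hs hsY hI h4v ⟨0, by
      rw [hεv, sub_self, smul_zero]⟩
    have heY : InY M τ (phi M θ v) := phi_inY L H h4v
    have hee : phi M θ v * phi M θ v = 1 := sq_inter L H heY
    refine ⟨phi M θ v * s, M.K.mul_mem (phi_mem _) hs, heY.mul hsY, ?_, ?_, phi M θ r * k, hgK, hgI,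
      xiCo0 T hT • v + x₁ - v, ?_, ?_⟩
    · calc phi M θ v * s * (phi M θ v * s) = phi M θ v * (s * phi M θ v) * s := by group
        _ = (phi M θ v * phi M θ v) * (s * s) := by rw [hsv]; group
        _ = 1 := by rw [hee, hss, one_mul]
    · have := (ind_phi (M := M) (θ := θ) v).mul hI
      rwa [one_mul] at this
    · intro m
      -- the class of `ξ v` is `d`
      have h5 : Cl ((xiCo0 T hT • v : leechLattice) : GolayPt → ℤ) d := by
        intro m
        have h6 := xi_mod hT v (fun l => (if l = i₀ then 1 else 0) + (if l = j₀ then 1 else 0))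
          (fun m => by rw [hv]; exact pr_coe i₀ j₀ m) m
        rw [Finset.sum_add_distrib, Finset.sum_ite_eq', Finset.sum_ite_eq'] at h6
        simp only [mem_fib] at h6
        have h7 : m ∈ d ↔ (T i₀ = T m ∨ T j₀ = T m) := by
          rw [hdb, Finset.mem_union, mem_fib, mem_fib, mem_fib.1 hj₀]
          constructor
          · rintro (h | h)
            · exact Or.inl h.symm
            · exact Or.inr h.symm
          · rintro (h | h)
            · exact Or.inl h.symm
            · exact Or.inr h.symm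
        have h8 : ¬ (T i₀ = T m ∧ T j₀ = T m) := by
          rintro ⟨h, h'⟩
          apply hb
          rw [← mem_fib.1 hj₀, h, h']
        unfold chi
        simp only [h7]
        by_cases h9 : T i₀ = T m
        · have h10 : T j₀ ≠ T m := fun h => h8 ⟨h9, h⟩
          simp only [h9, h10, if_true, if_false, or_false] at h6 ⊢
          simpa using h6
        · by_cases h10 : T j₀ = T m
          · simp only [h9, h10, if_true, if_false, or_true] at h6 ⊢
            simpa using h6
          · simp only [h9, h10, if_false, or_false] at h6 ⊢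
            simpa using h6
      have h6 := (h5 m)
      have h7 := hcl m
      have h8 := h4v m
      rw [coe_sub, coe_add]
      omega
    · have e1 : (phi M θ r * k) * (phi M θ v * s) * (phi M θ r * k)⁻¹ =
          ((phi M θ r * k) * phi M θ v * (phi M θ r * k)⁻¹) *
            ((phi M θ r * k) * s * (phi M θ r * k)⁻¹) := by group
      rw [e1]
      refine ((phi_conj L hgK hgI v).mul L (phi_mem _) hgs).trans ?_
      rw [← mul_assoc, ← mul_assoc]
      refine Zq.mul L (M.K.mul_mem (phi_mem _) (phi_mem _)) ?_ (Zq.refl s)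
      have e2 : xiCo0 T hT • v + x₁ = (xiCo0 T hT • v + x₁ - v) + v := by abel
      refine (phi_add L _ _).symm.trans ?_
      rw [e2]
      refine (phi_add L _ _).trans ?_
      rw [show xiCo0 T hT • v + x₁ - v + v - v = xiCo0 T hT • v + x₁ - v by abel]
      exact Zq.refl _

end Cfsg.Agent.MonsterU.InvPair
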