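import Cfsg.Agent.MonsterU.InvTwoLat

/-!
Sextets refining a trio, with two given points of one octad in the same tetrad.
-/

set_option autoImplicit false

namespace Cfsg.Agent.MonsterU.InvPair

open Cfsg Cfsg.Agent.Leech.Basic Cfsg.Agent.Leech.Code
open Cfsg.Agent.SporadicA Cfsg.Agent.SporadicA.Xi
open Cfsg.Agent.MonsterU.InvTwoLat

theorem fib_disjoint (T : GolayPt → Fin 6) {k l : Fin 6} (h : k ≠ l) : Disjoint (fib T k) (fib T l) := by
  rw [Finset.disjoint_left]
  intro i hi hi'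
  exact h ((mem_fib.1 hi).symm.trans (mem_fib.1 hi'))

theorem fib_union_octad {T : GolayPt → Fin 6} (hT : IsSextet T) {k l : Fin 6} (h : k ≠ l) :
    fib T k ∪ fib T l ∈ octads :=
  ⟨hT.code k l h, by rw [Finset.card_union_of_disjoint (fib_disjoint T h), hT.card, hT.card]⟩

/-- An octad containing a tetrad is the union of two tetrads. -/
theorem octad_of_fib {T : GolayPt → Fin 6} (hT : IsSextet T) {O : Finset GolayPt} (hO : O ∈ octads)
    {p : Fin 6} (hp : fib T p ⊆ O) : ∃ m, m ≠ p ∧ O = fib T p ∪ fib T m := by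
  obtain ⟨x, hx, hxp⟩ : ∃ x ∈ O, x ∉ fib T p := by
    by_contra hcon
    push Not at hcon
    have h1 := Finset.card_le_card (show O ⊆ fib T p from hcon)
    rw [hO.2, hT.card] at h1
    omega
  refine ⟨T x, fun e => hxp (mem_fib.2 e), ?_⟩
  apply GolayBase.octad_unique hO (fib_union_octad hT (fun e => hxp (mem_fib.2 e.symm)))
  have h1 : insert x (fib T p) ⊆ O ∩ (fib T p ∪ fib T (T x)) := by
    intro y hy
    rw [Finset.mem_insert] at hy
    rw [Finset.mem_inter, Finset.mem_union]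
    rcases hy with rfl | hy
    · exact ⟨hx, Or.inr (mem_fib.2 rfl)⟩
    · exact ⟨hp hy, Or.inl hy⟩
  have h2 := Finset.card_le_card h1
  rw [Finset.card_insert_of_notMem hxp, hT.card] at h2
  exact h2

theorem isSextet_perm {T : GolayPt → Fin 6} (hT : IsSextet T) (σ : Equiv.Perm (Fin 6)) :
    IsSextet (fun i => σ (T i)) ∧ ∀ k, fib (fun i => σ (T i)) (σ k) = fib T k := by
  have h : ∀ k, fib (fun i => σ (T i)) (σ k) = fib T k := by
    intro k
    ext i
    rw [mem_fib, mem_fib]
    exact σ.injective.eq_iff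
  have h' : ∀ k, fib (fun i => σ (T i)) k = fib T (σ.symm k) := by
    intro k
    rw [← h, Equiv.apply_symm_apply]
  refine ⟨⟨fun k => ?_, fun k l hkl => ?_⟩, h⟩
  · rw [h', hT.card]
  · rw [h', h']
    exact hT.code _ _ (fun e => hkl (σ.symm.injective e))

/-- The sizes of the intersections of two octads. -/
theorem inter_cases {A B : Finset GolayPt} (hA : A ∈ octads) (hB : B ∈ octads) (h : A ≠ B)
    (h3 : 3 ≤ (A ∩ B).card) : (A ∩ B).card = 4 := by
  have h1 : (A ∩ B).card < 5 := by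
    by_contra h5
    exact h (GolayBase.octad_unique hA hB (not_lt.1 h5))
  obtain ⟨k, hk⟩ := even_inter hA.1 hB.1
  omega

theorem exists_perm4 : ∀ p q r : Fin 6, p ≠ 0 → q ≠ 0 → r ≠ 0 → p ≠ q → p ≠ r → q ≠ r →
    ∃ σ : Equiv.Perm (Fin 6), σ 0 = 0 ∧ σ p = 1 ∧ σ q = 2 ∧ σ r = 3 := by
  intro p q r h1 h2 h3 h4 h5 h6
  refine ⟨(Equiv.swap (Equiv.swap (Equiv.swap p 1 q) 2 (Equiv.swap p 1 r)) 3) *
    (Equiv.swap (Equiv.swap p 1 q) 2) * Equiv.swap p 1, ?_⟩
  revert h1 h2 h3 h4 h5 h6
  revert p q r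
  decide

/-- **A sextet refining two disjoint octads**, two given points of the first in the same tetrad. -/
theorem exists_refine {A B : Finset GolayPt} (hA : A ∈ octads) (hB : B ∈ octads)
    (hAB : Disjoint A B) {i j : GolayPt} (hij : i ≠ j) (hi : i ∈ A) (hj : j ∈ A) :
    ∃ T : GolayPt → Fin 6, IsSextet T ∧ fib T 0 ∪ fib T 1 = A ∧ fib T 2 ∪ fib T 3 = B ∧
      T i = 0 ∧ T j = 0 := by
  classical
  obtain ⟨k, hk⟩ : ((A.erase i).erase j).Nonempty := by
    rw [← Finset.card_pos, Finset.card_erase_of_mem (Finset.mem_erase.2 ⟨hij.symm, hj⟩),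
      Finset.card_erase_of_mem hi, hA.2]
    norm_num
  rw [Finset.mem_erase, Finset.mem_erase] at hk
  obtain ⟨hkj, hki, hkA⟩ := hk
  obtain ⟨a, ha⟩ : B.Nonempty := by rw [← Finset.card_pos, hB.2]; norm_num
  have haA : a ∉ A := Finset.disjoint_right.1 hAB ha
  have hai : a ≠ i := fun e => haA (e ▸ hi)
  have haj : a ≠ j := fun e => haA (e ▸ hj)
  have hak : a ≠ k := fun e => haA (e ▸ hkA)
  set S₀ : Finset GolayPt := {a, i, j, k} with hS₀
  have hS₀c : S₀.card = 4 := by
    rw [hS₀, Finset.card_insert_of_notMem (by simp [hai, haj, hak]),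
      Finset.card_insert_of_notMem (by simp [hij, hki.symm]),
      Finset.card_insert_of_notMem (by simp [hkj.symm]), Finset.card_singleton]
  obtain ⟨T, hT, hT0⟩ := XiSextet.exists_isSextet steiner S₀ hS₀c
  have hS₀A : S₀ ∩ A = {i, j, k} := by
    ext x
    simp only [hS₀, Finset.mem_inter, Finset.mem_insert, Finset.mem_singleton]
    constructor
    · rintro ⟨rfl | h, hx⟩
      · exact absurd hx haA
      · exact h
    · rintro (rfl | rfl | rfl)
      · exact ⟨Or.inr (Or.inl rfl), hi⟩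
      · exact ⟨Or.inr (Or.inr (Or.inl rfl)), hj⟩
      · exact ⟨Or.inr (Or.inr (Or.inr rfl)), hkA⟩
  have hS₀B : S₀ ∩ B = {a} := by
    ext x
    simp only [hS₀, Finset.mem_inter, Finset.mem_insert, Finset.mem_singleton]
    constructor
    · rintro ⟨h | h | h | h, hx⟩
      · exact h
      · exact absurd hx (h ▸ Finset.disjoint_left.1 hAB hi)
      · exact absurd hx (h ▸ Finset.disjoint_left.1 hAB hj)
      · exact absurd hx (h ▸ Finset.disjoint_left.1 hAB hkA)
    · rintro rfl
      exact ⟨Or.inl rfl, ha⟩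
  have hc3 : ({i, j, k} : Finset GolayPt).card = 3 := by
    rw [Finset.card_insert_of_notMem (by simp [hij, hki.symm]),
      Finset.card_insert_of_notMem (by simp [hkj.symm]), Finset.card_singleton]
  -- the five octads through `S₀`
  have hD : ∀ l : Fin 6, l ≠ 0 → S₀ ∪ fib T l ∈ octads := by
    intro l hl
    rw [← hT0]
    exact fib_union_octad hT hl.symm
  have hdis : ∀ l : Fin 6, l ≠ 0 → Disjoint S₀ (fib T l) := by
    intro l hl
    rw [← hT0]
    exact fib_disjoint T hl.symm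
  have hDA : ∀ l : Fin 6, l ≠ 0 → ((S₀ ∪ fib T l) ∩ A).card = 4 := by
    intro l hl
    apply inter_cases (hD l hl) hA
    · intro e
      apply haA
      rw [← e]
      exact Finset.mem_union_left _ (by rw [hS₀]; exact Finset.mem_insert_self _ _)
    · rw [← hc3, ← hS₀A]
      exact Finset.card_le_card (Finset.inter_subset_inter_right Finset.subset_union_left)
  -- some octad contains four points of `B`
  obtain ⟨l, hl, hDB⟩ : ∃ l : Fin 6, l ≠ 0 ∧ ((S₀ ∪ fib T l) ∩ B).card = 4 := by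
    by_contra hcon
    push Not at hcon
    have h1 : ∀ l : Fin 6, l ≠ 0 → (fib T l ∩ B).card ≤ 1 := by
      intro l hl
      have h2 : ((S₀ ∪ fib T l) ∩ B).card = 1 + (fib T l ∩ B).card := by
        rw [Finset.union_inter_distrib_right, Finset.card_union_of_disjoint, hS₀B,
          Finset.card_singleton]
        exact (hdis l hl).mono Finset.inter_subset_left Finset.inter_subset_left
      have h3 : ((S₀ ∪ fib T l) ∩ B).card < 3 := by
        by_contra h3
        apply hcon l hl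
        apply inter_cases (hD l hl) hB _ (not_lt.1 h3)
        intro e
        apply Finset.disjoint_left.1 hAB hi
        rw [← e]
        exact Finset.mem_union_left _ (by rw [hS₀]; simp)
      omega
    have h2 : B.card = ∑ l : Fin 6, (fib T l ∩ B).card := by
      rw [Finset.card_eq_sum_card_fiberwise (f := T) (t := Finset.univ) (fun x _ => by simp)]
      refine Finset.sum_congr rfl fun l _ => ?_
      congr 1
      ext x
      rw [Finset.mem_filter, Finset.mem_inter, mem_fib, and_comm]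
    rw [hB.2, Fin.sum_univ_six] at h2
    have h3 : (fib T 0 ∩ B).card = 1 := by rw [hT0, hS₀B, Finset.card_singleton]
    have := h1 1 (by decide)
    have := h1 2 (by decide)
    have := h1 3 (by decide)
    have := h1 4 (by decide)
    have := h1 5 (by decide)
    omega
  set D := S₀ ∪ fib T l with hDdef
  have hDo : D ∈ octads := hD l hl
  have hDAc := hDA l hl
  -- the sextet of `D ∩ A`
  obtain ⟨R, hR, hR0⟩ := XiSextet.exists_isSextet steiner (D ∩ A) hDAc
  obtain ⟨p, hp, hAp⟩ := octad_of_fib hR hA (p := 0) (by rw [hR0]; exact Finset.inter_subset_right)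
  obtain ⟨q, hq, hDq⟩ := octad_of_fib hR hDo (p := 0) (by rw [hR0]; exact Finset.inter_subset_left)
  have hqB : fib R q ⊆ B := by
    -- `D ∩ B` lies in `fib R q` and has four elements
    have h1 : D ∩ B ⊆ fib R q := by
      intro x hx
      rw [Finset.mem_inter] at hx
      have h2 : x ∈ fib R 0 ∪ fib R q := by rw [← hDq]; exact hx.1
      rcases Finset.mem_union.1 h2 with h2 | h2
      · rw [hR0] at h2
        exact absurd (Finset.mem_inter.1 h2).2 (Finset.disjoint_right.1 hAB hx.2)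
      · exact h2
    have h2 : D ∩ B = fib R q := Finset.eq_of_subset_of_card_le h1 (by rw [hDB, hR.card])
    rw [← h2]
    exact Finset.inter_subset_right
  obtain ⟨r, hr, hBr⟩ := octad_of_fib hR hB hqB
  have hnot : ∀ m : Fin 6, fib R m ⊆ A → fib R m ⊆ B → False := by
    intro m h1 h2
    obtain ⟨x, hx⟩ : (fib R m).Nonempty := by rw [← Finset.card_pos, hR.card]; norm_num
    exact Finset.disjoint_left.1 hAB (h1 hx) (h2 hx)
  have h0A : fib R 0 ⊆ A := by rw [hAp]; exact Finset.subset_union_left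
  have hpA : fib R p ⊆ A := by rw [hAp]; exact Finset.subset_union_right
  have hrB : fib R r ⊆ B := by rw [hBr]; exact Finset.subset_union_right
  have hpq : p ≠ q := fun e => hnot p hpA (e ▸ hqB)
  have hpr : p ≠ r := fun e => hnot p hpA (e ▸ hrB)
  have hr0 : r ≠ 0 := fun e => hnot 0 h0A (e ▸ hrB)
  obtain ⟨σ, s0, s1, s2, s3⟩ := exists_perm4 p q r hp hq hr0 hpq hpr hr.symm
  obtain ⟨h1, h2⟩ := isSextet_perm hR σ
  have hi0 : R i = 0 := by
    rw [← mem_fib, hR0, Finset.mem_inter]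
    exact ⟨Finset.mem_union_left _ (by rw [hS₀]; simp), hi⟩
  have hj0 : R j = 0 := by
    rw [← mem_fib, hR0, Finset.mem_inter]
    exact ⟨Finset.mem_union_left _ (by rw [hS₀]; simp), hj⟩
  refine ⟨fun i => σ (R i), h1, ?_, ?_, ?_, ?_⟩
  · have e0 := h2 0
    have e1 := h2 p
    rw [s0] at e0
    rw [s1] at e1
    rw [e0, e1, hAp]
  · have e0 := h2 q
    have e1 := h2 r
    rw [s2] at e0
    rw [s3] at e1
    rw [e0, e1, hBr]
  · show σ (R i) = 0
    rw [hi0, s0]
  · show σ (R j) = 0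
    rw [hj0, s0]

/-- The same with the two points in the second octad. -/
theorem exists_refine₂ {A B : Finset GolayPt} (hA : A ∈ octads) (hB : B ∈ octads)
    (hAB : Disjoint A B) {i j : GolayPt} (hij : i ≠ j) (hi : i ∈ B) (hj : j ∈ B) :
    ∃ T : GolayPt → Fin 6, IsSextet T ∧ fib T 0 ∪ fib T 1 = A ∧ fib T 2 ∪ fib T 3 = B ∧
      T i = T j := by
  obtain ⟨T, hT, h1, h2, h3, h4⟩ := exists_refine hB hA hAB.symm hij hi hj
  let σ : Equiv.Perm (Fin 6) := Equiv.swap 0 2 * Equiv.swap 1 3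
  obtain ⟨h5, h6⟩ := isSextet_perm hT σ
  have e0 := h6 0
  have e1 := h6 1
  have e2 := h6 2
  have e3 := h6 3
  have f0 : σ 0 = 2 := by decide
  have f1 : σ 1 = 3 := by decide
  have f2 : σ 2 = 0 := by decide
  have f3 : σ 3 = 1 := by decide
  rw [f0] at e0
  rw [f1] at e1
  rw [f2] at e2
  rw [f3] at e3
  refine ⟨_, h5, ?_, ?_, ?_⟩
  · rw [e2, e3, h2]
  · rw [e0, e1, h1]
  · show _ = _
    rw [h3, h4]

/-- The same with the two points in the third octad. -/
theorem exists_refine₃ {A B : Finset GolayPt} (hA : A ∈ octads) (hB : B ∈ octads)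
    (hAB : Disjoint A B) {i j : GolayPt} (hij : i ≠ j) (hi : i ∈ (A ∪ B)ᶜ) (hj : j ∈ (A ∪ B)ᶜ) :
    ∃ T : GolayPt → Fin 6, IsSextet T ∧ fib T 0 ∪ fib T 1 = A ∧ fib T 2 ∪ fib T 3 = B ∧
      T i = T j := by
  have hC := exists_third hA hB hAB
  have hCA : Disjoint (A ∪ B)ᶜ A := by
    rw [Finset.disjoint_left]
    intro x hx hx'
    exact (Finset.mem_compl.1 hx) (Finset.mem_union_left _ hx')
  obtain ⟨T, hT, h1, h2, h3, h4⟩ := exists_refine hC hA hCA hij hi hj
  have hB' : B = fib T 4 ∪ fib T 5 := by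
    ext x
    have hx1 : x ∈ (A ∪ B)ᶜ ↔ (T x = 0 ∨ T x = 1) := by
      rw [← h1, Finset.mem_union, mem_fib, mem_fib]
    have hx2 : x ∈ A ↔ (T x = 2 ∨ T x = 3) := by
      rw [← h2, Finset.mem_union, mem_fib, mem_fib]
    rw [Finset.mem_compl, Finset.mem_union] at hx1
    have hx3 : x ∈ A → x ∉ B := fun h => Finset.disjoint_left.1 hAB h
    rw [Finset.mem_union, mem_fib, mem_fib]
    have hcase : ∀ k : Fin 6, (k = 0 ∨ k = 1) ∨ (k = 2 ∨ k = 3) ∨ (k = 4 ∨ k = 5) := by decide
    have hex1 : ∀ k : Fin 6, (k = 0 ∨ k = 1) → ¬ (k = 4 ∨ k = 5) := by decide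
    have hex2 : ∀ k : Fin 6, (k = 2 ∨ k = 3) → ¬ (k = 4 ∨ k = 5) := by decide
    constructor
    · intro hxB
      rcases hcase (T x) with h | h | h
      · exact absurd (Or.inr hxB) (hx1.2 h)
      · exact absurd hxB (hx3 (hx2.2 h))
      · exact h
    · intro h
      by_contra hxB
      have hxA : x ∉ A := fun hA => hex2 _ (hx2.1 hA) h
      have : T x = 0 ∨ T x = 1 := hx1.1 (fun hh => hh.elim hxA hxB)
      exact hex1 _ this h
  -- `0 1 2 3 4 5 ↦ 4 5 0 1 2 3`
  let σ : Equiv.Perm (Fin 6) := Equiv.addRight 4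
  obtain ⟨h5, h6⟩ := isSextet_perm hT σ
  have e2 := h6 2
  have e3 := h6 3
  have e4 := h6 4
  have e5 := h6 5
  have f2 : σ 2 = 0 := by decide
  have f3 : σ 3 = 1 := by decide
  have f4 : σ 4 = 2 := by decide
  have f5 : σ 5 = 3 := by decide
  rw [f2] at e2
  rw [f3] at e3
  rw [f4] at e4
  rw [f5] at e5
  refine ⟨_, h5, ?_, ?_, ?_⟩
  · rw [e2, e3, h2]
  · rw [e4, e5, ← hB']
  · show σ _ = σ _
    rw [h3, h4]

end Cfsg.Agent.MonsterU.InvPair
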