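import Cfsg.Agent.MonsterU.InvTwo
import Cfsg.Agent.MonsterU.InvTwoLat

/-!
Calculations in `K` modulo `z`, and the group `Y = τ ι(P) τ⁻¹`.
-/

set_option autoImplicit false

namespace Cfsg.Agent.MonsterU.InvTwo

open Cfsg Cfsg.Agent.LeechMat.Core Cfsg.Agent.MonsterX.KSide Cfsg.Agent.MonsterX.KLift
open Cfsg.Agent.MonsterX.FrameKS
open Cfsg.Agent.SporadicStructure.Co0Base (e8 e8_coe)
open Cfsg.Agent.SporadicA.Co0Mono (signCo0 permCo0 wordPerm permCo0_smul signCo0_smul perm_mul_sign_mul_inv)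
open Cfsg.Agent.MonsterU.InvTwoLat

variable {G V P W : Type*} [Group G] [AddCommGroup V] [Module ℚ V]
  [DistribMulAction G V] [SMulCommClass G ℚ V] [Group P] [AddCommGroup W] [Module ℚ W]
  {M : KS G V P W} {θ : leechLattice → P} {Γ : Subgroup G} {τ : G} {y : P}

/-- The element of `K` over a lattice vector. -/
def phi (M : KS G V P W) (θ : leechLattice → P) (v : leechLattice) : G := M.ι (θ v)

theorem phi_mem (v : leechLattice) : phi M θ v ∈ M.K := M.ι_mem _

theorem z_mem_K : M.z ∈ M.K := M.ι_mem _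

theorem z_comm (L : Lift M θ) {k : G} (hk : k ∈ M.K) : k * M.z = M.z * k := by
  obtain ⟨A, α, T, hA⟩ := M.acts k hk
  have h := conj_ι hA M.zc
  rw [α_zc L α] at h
  exact h

theorem Zq.refl (a : G) : Zq M a a := Or.inl rfl

theorem Zq.of_eq {a b : G} (h : a = b) : Zq M a b := Or.inl h

theorem Zq.symm {a b : G} (h : Zq M a b) : Zq M b a := by
  rcases h with rfl | rfl
  · exact Or.inl rfl
  · right; rw [← mul_assoc, M.z_mul, one_mul]

theorem Zq.trans {a b c : G} (h : Zq M a b) (h' : Zq M b c) : Zq M a c := by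
  rcases h with rfl | rfl
  · exact h'
  · rcases h' with rfl | rfl
    · exact Or.inr rfl
    · left; rw [← mul_assoc, M.z_mul, one_mul]

theorem Zq.mul (L : Lift M θ) {a b c d : G} (hb : b ∈ M.K) (h : Zq M a b) (h' : Zq M c d) :
    Zq M (a * c) (b * d) := by
  rcases h with rfl | rfl <;> rcases h' with rfl | rfl
  · exact Or.inl rfl
  · right; rw [← mul_assoc, z_comm L hb, mul_assoc]
  · right; rw [mul_assoc]
  · left
    rw [show M.z * b * (M.z * d) = M.z * (b * M.z) * d by group, z_comm L hb,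
      show M.z * (M.z * b) * d = M.z * M.z * (b * d) by group, M.z_mul, one_mul]

theorem Zq.inv (L : Lift M θ) {a b : G} (hb : b ∈ M.K) (h : Zq M a b) : Zq M a⁻¹ b⁻¹ := by
  have hz : (M.z)⁻¹ = M.z := inv_eq_of_mul_eq_one_left M.z_mul
  rcases h with rfl | rfl
  · exact Or.inl rfl
  · right
    rw [mul_inv_rev, hz, z_comm L (M.K.inv_mem hb)]

/-- Conjugation by an element of `K`. -/
theorem Zq.conj (L : Lift M θ) {k a b : G} (hk : k ∈ M.K) (h : Zq M a b) :
    Zq M (k * a * k⁻¹) (k * b * k⁻¹) := by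
  rcases h with rfl | rfl
  · exact Or.inl rfl
  · right
    rw [← mul_assoc, z_comm L hk]; group

theorem Zq.mem {a b : G} (h : Zq M a b) (hb : b ∈ M.K) : a ∈ M.K := by
  rcases h with rfl | rfl
  · exact hb
  · exact M.K.mul_mem z_mem_K hb

theorem phi_congr {v w : leechLattice} (h : Eqz M (θ v) (θ w)) : Zq M (phi M θ v) (phi M θ w) :=
  Zq.of_eqz h

theorem phi_add (L : Lift M θ) (v w : leechLattice) :
    Zq M (phi M θ (v + w)) (phi M θ v * phi M θ w) := by
  unfold phi
  rw [← map_mul]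
  exact Zq.of_eqz (L.add v w)

theorem phi_two (L : Lift M θ) (v w : leechLattice) :
    Zq M (phi M θ (v + 2 • w)) (phi M θ v) :=
  Zq.of_eqz (eqz_of_congr L ⟨w, by abel⟩)

theorem phi_eqz_of (L : Lift M θ) {v w : leechLattice} (h : ∃ t : leechLattice, v - w = 2 • t) :
    Zq M (phi M θ v) (phi M θ w) := Zq.of_eqz (eqz_of_congr L h)

theorem eqz_of_zq (L : Lift M θ) {a b : P} (h : Zq M (M.ι a) (M.ι b)) : Eqz M a b := by
  rcases h with h | h
  · exact Or.inl (ι_inj L h)
  · exact Or.inr (ι_inj L (by rw [h, map_mul]; rfl))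

theorem congr_of_zq (L : Lift M θ) {v w : leechLattice} (h : Zq M (phi M θ v) (phi M θ w)) :
    ∃ t : leechLattice, v - w = 2 • t := congr_of_eqz L (eqz_of_zq L h)

theorem phi_one_of (L : Lift M θ) {v : leechLattice} (h : Zq M (phi M θ v) 1) :
    ∃ t : leechLattice, v = 2 • t := by
  have h1 : Zq M (M.ι (θ v)) (M.ι 1) := by rw [map_one]; exact h
  exact L.ker v (by
    rcases eqz_of_zq L h1 with h2 | h2
    · exact Or.inl h2
    · exact Or.inr (by rw [h2, mul_one]))

theorem phi_sq (L : Lift M θ) (v : leechLattice) : Zq M (phi M θ v * phi M θ v) 1 := by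
  unfold phi
  rw [← map_mul]
  rcases L.sq (θ v) with h | h
  · left; rw [h, map_one]
  · right; rw [h, mul_one]; rfl

theorem phi_inv (L : Lift M θ) (v : leechLattice) : Zq M (phi M θ v)⁻¹ (phi M θ v) := by
  have h := (phi_sq L v).mul L (M.K.one_mem) (Zq.refl (M := M) (phi M θ v)⁻¹)
  rw [mul_inv_cancel_right, one_mul] at h
  exact h.symm

/-- An element of `K` with its action on `P`. -/
theorem exists_alpha (L : Lift M θ) {k : G} {A : Co0} (hk : k ∈ M.K) (h : Ind M k A) :
    ∃ α : P ≃* P, (∀ p, k * M.ι p = M.ι (α p) * k) ∧ ∀ v, Eqz M (θ (A • v)) (α (θ v)) := by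
  obtain ⟨A', α, T, hA⟩ := M.acts k hk
  refine ⟨α, conj_ι hA, fun v => ?_⟩
  have hAr : ∀ v : leechLattice, A' • v = A • v ∨ A' • v = -(A • v) := by
    have h1 : ∀ v, M.u ((A'⁻¹ * A) • v) = M.u v := by
      intro v
      have h2 := hA.act_u (A'⁻¹ • A • v)
      rw [smul_inv_smul, ← h] at h2
      have h3 := congrArg (k⁻¹ • ·) h2
      simp only [inv_smul_smul] at h3
      rw [mul_smul]
      exact h3
    intro v
    rcases M.pm_of_u _ h1 with h2 | h2
    · left
      have := h2 v
      rw [mul_smul, inv_smul_eq_iff] at this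
      exact this.symm
    · right
      have := h2 v
      rw [mul_smul, inv_smul_eq_iff, co0_smul_neg] at this
      rw [this, neg_neg]
  refine Eqz.trans ?_ (act_θ L hA v)
  apply θ_pm L
  rcases hAr v with h | h
  · exact Or.inl h.symm
  · right; rw [h, neg_neg]

theorem phi_conj (L : Lift M θ) {k : G} {A : Co0} (hk : k ∈ M.K) (h : Ind M k A) (v : leechLattice) :
    Zq M (k * phi M θ v * k⁻¹) (phi M θ (A • v)) := by
  obtain ⟨α, h1, h2⟩ := exists_alpha L hk h
  have h3 : k * phi M θ v * k⁻¹ = M.ι (α (θ v)) := by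
    unfold phi
    rw [h1, mul_inv_cancel_right]
  rw [h3]
  exact (Zq.of_eqz (h2 v)).symm

/-- Elements of `K` acting trivially on the lattice modulo sign. -/
theorem exists_phi (L : Lift M θ) {k : G} (hk : k ∈ M.K) (h : Ind M k 1) :
    ∃ v, Zq M k (phi M θ v) := by
  obtain ⟨q, rfl⟩ := M.mem_ι_of_trivial k hk (fun v => by rw [h v, one_smul])
  obtain ⟨v, hv⟩ := L.surj q
  exact ⟨v, Zq.of_eqz hv⟩

theorem ind_phi (v : leechLattice) : Ind M (phi M θ v) 1 := fun w => by
  rw [one_smul]; exact M.ι_u _ _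

theorem ind_of_zq {a b : G} {A : Co0} (h : Zq M a b) (hb : Ind M b A) : Ind M a A := by
  rcases h with rfl | rfl
  · exact hb
  · intro v
    rw [mul_smul, hb v, M.z_u]

/-- Two elements of `K` over the same element of `Co0`. -/
theorem exists_phi_mul (L : Lift M θ) {u s : G} {A : Co0} (hu : u ∈ M.K) (hs : s ∈ M.K)
    (hA : Ind M u A) (hA' : Ind M s A) : ∃ x, Zq M u (phi M θ x * s) := by
  obtain ⟨x, hx⟩ := exists_phi L (k := u * s⁻¹) (M.K.mul_mem hu (M.K.inv_mem hs)) (by
    have := hA.mul hA'.inv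
    rwa [mul_inv_cancel] at this)
  refine ⟨x, ?_⟩
  have h := hx.mul L (phi_mem x) (Zq.refl (M := M) s)
  rwa [inv_mul_cancel_right] at h

/-- Conjugating `φ x · s` by `φ r`. -/
theorem phi_conj_mul (L : Lift M θ) {s : G} {ε : Co0} (hs : s ∈ M.K) (hε : Ind M s ε)
    (r x : leechLattice) :
    Zq M (phi M θ r * (phi M θ x * s) * (phi M θ r)⁻¹) (phi M θ (x + (r - ε • r)) * s) := by
  have h1 : phi M θ r * (phi M θ x * s) * (phi M θ r)⁻¹ =
      phi M θ r * phi M θ x * (s * phi M θ r * s⁻¹)⁻¹ * s := by group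
  rw [h1]
  have h2 := (phi_conj L hs hε r).inv L (phi_mem _)
  have h3 := h2.trans (phi_inv L (ε • r))
  have h4 : Zq M (phi M θ r * phi M θ x * (s * phi M θ r * s⁻¹)⁻¹)
      (phi M θ r * phi M θ x * phi M θ (ε • r)) :=
    (Zq.refl _).mul L (M.K.mul_mem (phi_mem _) (phi_mem _)) h3
  have h5 : Zq M (phi M θ (x + (r - ε • r))) (phi M θ r * phi M θ x * phi M θ (ε • r)) := by
    have e : x + (r - ε • r) = r + x + ε • r + 2 • (-(ε • r)) := by
      rw [smul_neg, two_smul]; abel
    rw [e]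
    refine (phi_two L _ _).trans ((phi_add L _ _).trans ?_)
    exact (phi_add L _ _).mul L (M.K.mul_mem (phi_mem _) (phi_mem _)) (Zq.refl _)
  exact (h4.trans h5.symm).mul L (phi_mem _) (Zq.refl _)

/-- The square of `φ x · s`. -/
theorem congr_of_sq (L : Lift M θ) {s u : G} {ε : Co0} (hs : s ∈ M.K) (hε : Ind M s ε)
    (hss : s * s = 1) (huu : u * u = 1) {x : leechLattice} (hu : Zq M u (phi M θ x * s)) :
    ∃ t : leechLattice, x - ε • x = 2 • t := by
  have h1 : Zq M 1 (phi M θ x * s * (phi M θ x * s)) := by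
    have := hu.mul L (M.K.mul_mem (phi_mem _) hs) hu
    rwa [huu] at this
  have h2 : phi M θ x * s * (phi M θ x * s) = phi M θ x * (s * phi M θ x * s⁻¹) * (s * s) := by
    group
  rw [h2, hss, mul_one] at h1
  have h3 : Zq M (phi M θ x * (s * phi M θ x * s⁻¹)) (phi M θ (x + ε • x)) :=
    ((Zq.refl (M := M) (phi M θ x)).mul L (phi_mem _) (phi_conj L hs hε x)).trans
      (phi_add L _ _).symm
  obtain ⟨t, ht⟩ := phi_one_of L (h1.trans h3).symm
  refine ⟨x - t, ?_⟩
  have : x - ε • x = 2 • x - (x + ε • x) := by rw [two_smul]; abel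
  rw [this, ht, smul_sub]

/-! ### The group `Y = τ ι(P) τ⁻¹` -/

/-- Membership in `Y`. -/
def InY (M : KS G V P W) (τ g : G) : Prop := ∃ q, g = τ * M.ι q * τ⁻¹

theorem InY.mul {a b : G} (ha : InY M τ a) (hb : InY M τ b) : InY M τ (a * b) := by
  obtain ⟨p, rfl⟩ := ha
  obtain ⟨q, rfl⟩ := hb
  exact ⟨p * q, by rw [map_mul]; group⟩

theorem InY.inv {a : G} (ha : InY M τ a) : InY M τ a⁻¹ := by
  obtain ⟨p, rfl⟩ := ha
  exact ⟨p⁻¹, by rw [map_inv]; group⟩

/-- The class of `8 e_∞` is not zero. -/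
theorem e8_ne : ¬ ∃ t : leechLattice, e8 none = 2 • t := by
  rintro ⟨t, ht⟩
  have h := even_of_four t (fun i => if i = none then 1 else 0) (fun i => by
    have h1 := congrArg (fun v : leechLattice => (v : GolayPt → ℤ) i) ht
    simp only [coe_two, e8_coe] at h1
    by_cases hi : i = none
    · subst hi
      rw [Pi.single_eq_same] at h1
      rw [if_pos rfl]; omega
    · rw [Pi.single_eq_of_ne hi] at h1
      rw [if_neg hi]; omega)
  rw [Finset.sum_ite_eq'] at h
  simp at h

section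

variable (L : Lift M θ) (H : TauHyp M θ Γ τ y)

include H in
theorem zq_y : Zq M (M.ι y) (phi M θ (e8 none)) := Zq.of_eqz H.y_eq

include L H in
theorem y_ne : ¬ Zq M (M.ι y) 1 := fun h =>
  e8_ne (phi_one_of L ((zq_y H).symm.trans h))

include H in
theorem y_inY : InY M τ (M.ι y) := ⟨M.zc, H.τ_z.symm⟩

include H in
theorem z_inY : InY M τ M.z := H.z_mem

include H in
theorem y_mul : M.ι y * M.ι y = 1 := by
  rw [← H.τ_z]
  have := M.z_mul
  calc τ * M.z * τ⁻¹ * (τ * M.z * τ⁻¹) = τ * (M.z * M.z) * τ⁻¹ := by group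
    _ = 1 := by rw [this]; group

include H in
/-- `ι y` is central in `Y`. -/
theorem y_comm {a : G} (ha : InY M τ a) : a * M.ι y = M.ι y * a := by
  obtain ⟨p, rfl⟩ := ha
  rw [← H.τ_z]
  have h : M.ι p * M.z = M.z * M.ι p := by
    rw [KS.z, ← map_mul, ← map_mul, M.zc_comm]
  calc τ * M.ι p * τ⁻¹ * (τ * M.z * τ⁻¹) = τ * (M.ι p * M.z) * τ⁻¹ := by group
    _ = _ := by rw [h]; group

include H in
theorem comm_or_Y {a b : G} (ha : InY M τ a) (hb : InY M τ b) :
    a * b * a⁻¹ = b ∨ a * b * a⁻¹ = M.ι y * b := by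
  obtain ⟨p, rfl⟩ := ha
  obtain ⟨q, rfl⟩ := hb
  have e : τ * M.ι p * τ⁻¹ * (τ * M.ι q * τ⁻¹) * (τ * M.ι p * τ⁻¹)⁻¹ =
      τ * M.ι (p * q * p⁻¹) * τ⁻¹ := by rw [map_mul, map_mul, map_inv]; group
  rw [e]
  rcases M.comm_or p q with h | h
  · left; rw [h]
  · right
    rw [h, map_mul, ← H.τ_z]
    show τ * (M.z * M.ι q) * τ⁻¹ = _
    group

include L H in
theorem sq_Y {a : G} (ha : InY M τ a) : a * a = 1 ∨ a * a = M.ι y := by
  obtain ⟨p, rfl⟩ := ha
  have e : τ * M.ι p * τ⁻¹ * (τ * M.ι p * τ⁻¹) = τ * M.ι (p * p) * τ⁻¹ := by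
    rw [map_mul]; group
  rw [e]
  rcases L.sq p with h | h
  · left; rw [h, map_one]; group
  · right; rw [h]; exact H.τ_z

theorem ι_sq (L : Lift M θ) (p : P) : M.ι p * M.ι p = 1 ∨ M.ι p * M.ι p = M.z := by
  rw [← map_mul]
  rcases L.sq p with h | h
  · left; rw [h, map_one]
  · right; rw [h]; rfl

theorem ι_comm_or (p q : P) : M.ι p * M.ι q * (M.ι p)⁻¹ = M.ι q ∨
    M.ι p * M.ι q * (M.ι p)⁻¹ = M.z * M.ι q := by
  rw [← map_inv, ← map_mul, ← map_mul]
  rcases M.comm_or p q with h | h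
  · left; rw [h]
  · right; rw [h, map_mul]; rfl

include L H in
/-- Elements of `ι(P) ∩ Y` have square 1. -/
theorem sq_inter {p : P} (hp : InY M τ (M.ι p)) : M.ι p * M.ι p = 1 := by
  rcases ι_sq L p with h | h
  · exact h
  · rcases sq_Y L H hp with h' | h'
    · exact h'
    · exfalso
      apply y_ne L H
      right
      rw [← h', h, mul_one]

include L H in
/-- A conjugate which is equal up to `z` and up to `ι y` is equal. -/
theorem eq_of_both {a b : G} (h1 : Zq M a b) (h2 : a = b ∨ a = M.ι y * b) : a = b := by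
  rcases h2 with h2 | h2
  · exact h2
  · exfalso
    apply y_ne L H
    rcases h1 with h1 | h1
    · left
      have : M.ι y * b = 1 * b := by rw [one_mul, ← h2, h1]
      exact mul_right_cancel this
    · right
      rw [mul_one]
      exact mul_right_cancel (h2.symm.trans h1)

include L H in
/-- The elements of `Y` in `ι(P)` over vectors divisible by 4. -/
theorem phi_inY {v : leechLattice} (hv : ∀ i, (4 : ℤ) ∣ (v : GolayPt → ℤ) i) :
    InY M τ (phi M θ v) := H.E_mem v hv

theorem pr_dvd (i j k : GolayPt) : (4 : ℤ) ∣ ((pr i j : leechLattice) : GolayPt → ℤ) k :=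
  ⟨_, pr_coe i j k⟩

/-- The class of `8 e_i` does not depend on `i`. -/
theorem e8_congr (i j : GolayPt) : ∃ t : leechLattice, e8 i - e8 j = 2 • t := by
  refine ⟨pr i j - e8 j, ?_⟩
  apply Subtype.ext
  funext k
  rw [coe_sub, coe_two, coe_sub, pr_coe, e8_coe, e8_coe]
  simp only [Pi.single_apply]
  split_ifs <;> ring

include L H in
/-- **(E1)** An involution of `Y ∩ K` over the sign change on a word. -/
theorem exists_s (c : golayCode) {o p : GolayPt} (ho : o ∈ support₂ (c : GolayPt → ZMod 2))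
    (hp : p ∉ support₂ (c : GolayPt → ZMod 2)) :
    ∃ s ∈ M.K, InY M τ s ∧ s * s = 1 ∧ Ind M s (signCo0 c) := by
  obtain ⟨q, hK, hI⟩ := H.sgn c
  set s := τ * M.ι q * τ⁻¹ with hs
  have hsY : InY M τ s := ⟨q, hs⟩
  rcases sq_Y L H hsY with h | h
  · exact ⟨s, hK, hsY, h, hI⟩
  set e := phi M θ (pr o p) with he
  have heY : InY M τ e := phi_inY L H (pr_dvd o p)
  have hee : e * e = 1 := sq_inter L H heY
  refine ⟨e * s, M.K.mul_mem (phi_mem _) hK, heY.mul hsY, ?_, ?_⟩
  · have h1 : s * e * s⁻¹ = M.ι y * e := by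
      rcases comm_or_Y H hsY heY with h2 | h2
      · exfalso
        have h3 := phi_conj L hK hI (pr o p)
        rw [← he, h2] at h3
        have hε := isEps_sign c
        have h4 : signCo0 c • pr o p = pr o p + e8 none + 2 • (-(e8 o)) + (e8 o - e8 none) := by
          apply Subtype.ext
          funext k
          rw [coe_add, coe_add, coe_add, coe_two, coe_neg, coe_sub, hε, pr_coe, e8_coe, e8_coe]
          by_cases hko : k = o
          · subst hko
            have hkp : k ≠ p := fun e => hp (e ▸ ho)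
            simp [ho, hkp]
            ring
          · by_cases hkp : k = p
            · subst hkp
              simp [hp, hko]
            · simp [hko, hkp]
        obtain ⟨t, ht⟩ := e8_congr o none
        have h5 : Zq M (phi M θ (signCo0 c • pr o p)) (phi M θ (pr o p) * M.ι y) := by
          rw [h4, ht]
          refine (phi_two L _ _).trans ((phi_two L _ _).trans ((phi_add L _ _).trans ?_))
          exact (Zq.refl _).mul L (phi_mem _) (zq_y H).symm
        have h6 : Zq M (e⁻¹ * e) (e⁻¹ * (e * M.ι y)) :=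
          (Zq.refl (M := M) e⁻¹).mul L (M.K.inv_mem (phi_mem _)) (h3.trans h5)
        rw [inv_mul_cancel, inv_mul_cancel_left] at h6
        exact y_ne L H h6.symm
      · exact h2
    have h2 : e * s * (e * s) = e * (s * e * s⁻¹) * (s * s) := by group
    rw [h2, h1, h]
    have h3 := y_comm H heY
    calc e * (M.ι y * e) * M.ι y = (e * M.ι y) * (e * M.ι y) := by group
      _ = (e * M.ι y) * (M.ι y * e) := by rw [h3]
      _ = e * (M.ι y * M.ι y) * e := by group
      _ = 1 := by rw [y_mul H, mul_one, hee]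
  · have := (ind_phi (M := M) (θ := θ) (pr o p)).mul hI
    rwa [one_mul] at this

include L H in
/-- **(E5)** The elements of `K` commuting with `ι y` normalise `Y`. -/
theorem conj_inY {k : G} (hk : k ∈ M.K) (hky : k * M.ι y * k⁻¹ = M.ι y) {g : G} (hg : InY M τ g) :
    InY M τ (k * g * k⁻¹) := by
  obtain ⟨q, rfl⟩ := hg
  have hm : τ⁻¹ * k * τ ∈ M.K := by
    apply H.cent
    · exact Γ.mul_mem (Γ.mul_mem (Γ.inv_mem H.τ_mem) (H.K_le hk)) H.τ_mem
    · have h1 : k * M.ι y = M.ι y * k := by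
        rw [← hky]; simp only [inv_mul_cancel_right]
        rw [hky]
      have h2 : τ * M.z = M.ι y * τ := by rw [← H.τ_z]; group
      calc τ⁻¹ * k * τ * M.z = τ⁻¹ * k * (τ * M.z) := by group
        _ = τ⁻¹ * (k * M.ι y) * τ := by rw [h2]; group
        _ = τ⁻¹ * M.ι y * k * τ := by rw [h1]; group
        _ = M.z * (τ⁻¹ * k * τ) := by rw [← H.τ_z]; group
  obtain ⟨A, α, T, hA⟩ := M.acts _ hm
  refine ⟨α q, ?_⟩
  have h := conj_ι hA q
  calc k * (τ * M.ι q * τ⁻¹) * k⁻¹ = τ * (τ⁻¹ * k * τ * M.ι q) * (τ⁻¹ * k⁻¹) := by group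
    _ = τ * M.ι (α q) * τ⁻¹ := by rw [h]; group

include L H in
/-- **(E6)** A permutation is induced by an element of `K` commuting with `ι y`. -/
theorem exists_perm (σ : M24) : ∃ k ∈ M.K, Ind M k (permCo0 σ) ∧ k * M.ι y * k⁻¹ = M.ι y := by
  obtain ⟨k, hk, hI⟩ := M.onto (permCo0 σ)
  have hI : Ind M k (permCo0 σ) := hI
  have h1 : Zq M (k * M.ι y * k⁻¹) (M.ι y) := by
    refine ((zq_y H).conj L hk).trans ((phi_conj L hk hI _).trans ?_)
    have h2 : permCo0 σ • e8 none = e8 ((σ : Equiv.Perm GolayPt) none) := by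
      apply Subtype.ext
      funext i
      rw [permCo0_smul]
      show ((e8 none : leechLattice) : GolayPt → ℤ) ((σ : Equiv.Perm GolayPt).symm i) = _
      rw [e8_coe, e8_coe, Pi.single_apply, Pi.single_apply]
      by_cases h : i = (σ : Equiv.Perm GolayPt) none
      · rw [if_pos h, if_pos (by rw [h, Equiv.symm_apply_apply])]
      · rw [if_neg h, if_neg (fun e => h (by rw [← e, Equiv.apply_symm_apply]))]
    rw [h2]
    exact (phi_eqz_of L (e8_congr _ _)).trans (zq_y H).symm
  rcases h1 with h1 | h1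
  · exact ⟨k, hk, hI, h1⟩
  · refine ⟨phi M θ r₀ * k, M.K.mul_mem (phi_mem _) hk, ?_, ?_⟩
    · have := (ind_phi (M := M) (θ := θ) r₀).mul hI
      rwa [one_mul] at this
    · have h2 : phi M θ r₀ * M.ι y * (phi M θ r₀)⁻¹ = M.z * M.ι y := by
        rcases ι_comm_or (M := M) (θ r₀) y with h | h
        · exfalso
          have h3 : θ r₀ * y = y * θ r₀ := by
            apply ι_inj L
            rw [map_mul, map_mul]
            exact mul_inv_eq_iff_eq_mul.1 h
          have h4 : θ r₀ * θ (e8 none) = θ (e8 none) * θ r₀ := by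
            rcases H.y_eq with e | e
            · rw [← e]; exact h3
            · have e' : θ (e8 none) = M.zc * y := by rw [e, M.zc_zc]
              rw [e', ← mul_assoc, ← M.zc_comm, mul_assoc, h3, mul_assoc]
          have h5 := (L.comm r₀ (e8 none)).2 h4
          have h6 : dot r₀ (e8 none) = -24 := by
            show dotInt _ _ = _
            unfold dotInt
            rw [e8_coe, Finset.sum_eq_single none]
            · rw [Pi.single_eq_same, r₀_coe, if_pos rfl]; norm_num
            · intro b _ hb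
              rw [Pi.single_eq_of_ne hb, mul_zero]
            · intro h; exact absurd (Finset.mem_univ _) h
          rw [h6] at h5
          norm_num at h5
        · exact h
      have hz := z_comm L (phi_mem (M := M) (θ := θ) r₀)
      calc phi M θ r₀ * k * M.ι y * (phi M θ r₀ * k)⁻¹
          = phi M θ r₀ * (k * M.ι y * k⁻¹) * (phi M θ r₀)⁻¹ := by group
        _ = (phi M θ r₀ * M.z) * M.ι y * (phi M θ r₀)⁻¹ := by rw [h1]; group
        _ = M.z * (phi M θ r₀ * M.ι y * (phi M θ r₀)⁻¹) := by rw [hz]; group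
        _ = M.ι y := by rw [h2, ← mul_assoc, M.z_mul, one_mul]

include L H in
/-- **(E7)** The elements of `ι(P) ∩ Y`. -/
theorem exists_dvd {p : P} (hp : InY M τ (M.ι p)) :
    ∃ w : leechLattice, (∀ i, (4 : ℤ) ∣ (w : GolayPt → ℤ) i) ∧ Zq M (M.ι p) (phi M θ w) := by
  obtain ⟨x, hx⟩ := L.surj p
  have hx : Eqz M p (θ x) := hx
  have hcomm : ∀ v : leechLattice, M.ι p * phi M θ v = phi M θ v * M.ι p → (16 : ℤ) ∣ dot x v := by
    intro v hv
    rw [L.comm]
    have h1 : p * θ v = θ v * p := by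
      apply ι_inj L
      rw [map_mul, map_mul]; exact hv
    rcases hx with e | e
    · rw [← e]; exact h1
    · have e' : θ x = M.zc * p := by rw [e, M.zc_zc]
      rw [e', mul_assoc, h1, ← mul_assoc, M.zc_comm, mul_assoc]
  obtain ⟨w, hw⟩ := exists_dvd_of_dot x (by
    apply hcomm
    have h1 := y_comm H hp
    rcases zq_y (M := M) H with h | h
    · rw [← h]; exact h1
    · have h' : phi M θ (e8 none) = M.z * M.ι y := by
        rw [h, ← mul_assoc, M.z_mul, one_mul]
      have hz := z_comm L (M.ι_mem p)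
      rw [h', ← mul_assoc, hz, mul_assoc, h1, ← mul_assoc]) (by
    intro v hv
    apply hcomm
    have hvY := phi_inY L H hv
    have h1 : M.ι p * phi M θ v * (M.ι p)⁻¹ = phi M θ v :=
      eq_of_both L H (ι_comm_or p (θ v)) (comm_or_Y H hp hvY)
    exact mul_inv_eq_iff_eq_mul.1 h1)
  exact ⟨x + 2 • w, hw, (Zq.of_eqz hx).trans (phi_two L _ _).symm⟩

end

end Cfsg.Agent.MonsterU.InvTwo
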