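import Cfsg.Agent.MonsterU.InvTwoOct
import Cfsg.Agent.MonsterU.TwoDod
import Cfsg.Agent.MonsterU.TwoB0
import Cfsg.Agent.CoOneType.InvBridge

/-!
# Two classes of involutions

Every involution of the model group `Γ` is conjugate in `Γ` to the central involution `z` of `K` or to a short
element of `ι P`.
-/

set_option autoImplicit false

namespace Cfsg.Agent.MonsterU.InvTwoMain

open Cfsg Cfsg.Agent.LeechMat.Core Cfsg.Agent.MonsterX.KSide Cfsg.Agent.MonsterX.KLift
open Cfsg.Agent.MonsterX.FrameKS Cfsg.Agent.MonsterU.InvTwo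
open Cfsg.Agent.SporadicA.Co0Mono (signCo0)
open Cfsg.Agent.SporadicA.Co1Simple
open Cfsg.Agent.CoOneType.ClosingFacts Cfsg.Agent.CoOneType.SignFacts

variable {G V P W : Type*} [Group G] [AddCommGroup V] [Module ℚ V]
  [DistribMulAction G V] [SMulCommClass G ℚ V] [Group P] [AddCommGroup W] [Module ℚ W]
  {M : KS G V P W} {θ : leechLattice → P} {Γ : Subgroup G} {τ : G} {y : P}

variable (L : Lift M θ) (H : TauHyp M θ Γ τ y)

include L H in
/-- Involutions conjugate in `K` to an element of `Y`. -/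
theorem con_of_gy {u : G} (huu : u * u = 1) (hu1 : u ≠ 1) (h : GY M τ u) : Con M Γ u := by
  obtain ⟨k, hk, q, hq⟩ := h
  have hqq : M.ι q = τ⁻¹ * (k * u * k⁻¹) * τ := by rw [hq]; group
  apply Con.conj (H.K_le hk)
  rw [hq]
  apply Con.conj_inv H.τ_mem
  apply TwoQ.two_Q L H
  · rw [hqq, show τ⁻¹ * (k * u * k⁻¹) * τ * (τ⁻¹ * (k * u * k⁻¹) * τ) = τ⁻¹ * (k * (u * u) * k⁻¹) * τ by
      group, huu, mul_one, mul_inv_cancel, mul_one, inv_mul_cancel]
  · intro e
    apply hu1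
    rw [hqq] at e
    have : u = k⁻¹ * (τ * (τ⁻¹ * (k * u * k⁻¹) * τ) * τ⁻¹) * k := by group
    rw [this, e]; group

include L H in
/-- Involutions of `K` over a sign change. -/
theorem con_sign {u : G} {c : golayCode} (hu : u ∈ M.K) (huu : u * u = 1) (hu1 : u ≠ 1)
    (hI : Ind M u (signCo0 c)) : Con M Γ u := by
  have hι : Ind M u 1 → Con M Γ u := by
    intro h
    obtain ⟨q, rfl⟩ := M.mem_ι_of_trivial u hu (fun v => by rw [h v, one_smul])
    exact TwoQ.two_Q L H q huu hu1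
  have hneg : ∀ c' : golayCode, Ind M u (signCo0 c') → Ind M u (signCo0 (c' + allOne)) := by
    intro c' h
    exact TwoQ.Ind_of_mk h (mk_add_allOne c').symm
  have hwt : ∀ c' : golayCode, wt c' = (support₂ (c' : GolayPt → ZMod 2)).card := fun _ => rfl
  have hoct : ∀ c' : golayCode, wt c' = 8 → Ind M u (signCo0 c') → Con M Γ u := by
    intro c' h8 h
    exact con_of_gy L H huu hu1 (gy_oct L H (c := c') ⟨⟨_, c'.2, rfl⟩, h8⟩ hu huu h)
  rcases wt_cases c with h | h | h | h | h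
  · rw [eq_zero_of_wt h, Cfsg.Agent.SporadicA.Co0Mono.signCo0_zero] at hI
    exact hι hI
  · exact hoct c h hI
  · exact TwoDod.two_dod L H h hu huu hI
  · refine hoct (c + allOne) ?_ (hneg c hI)
    have := wt_add_allOne c
    omega
  · rw [eq_allOne_of_wt h] at hI
    apply hι
    have h1 := hneg _ hI
    have h2 : (allOne + allOne : golayCode) = 0 := by
      apply Subtype.ext
      funext i
      show (1 : ZMod 2) + 1 = 0
      decide
    rwa [h2, Cfsg.Agent.SporadicA.Co0Mono.signCo0_zero] at h1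

include L H in
/-- Involutions of `K`. -/
theorem con_K {u : G} (hu : u ∈ M.K) (huu : u * u = 1) (hu1 : u ≠ 1) : Con M Γ u := by
  obtain ⟨A, hA⟩ := TwoQ.ind_exists hu
  have h1 : Ind M 1 (A * A) := by
    have := hA.mul hA
    rwa [huu] at this
  have h2 : mk (A * A) = 1 := TwoQ.Ind_mk_eq h1 (Ind.one M)
  rcases (mk_eq_one (A * A)).1 h2 with h3 | h3
  · obtain ⟨g, c, hg⟩ := Cfsg.Agent.CoOneType.InvBridge.conj_sign A h3
    obtain ⟨k, hk, hkI⟩ := TwoQ.exists_ind M g
    apply Con.conj (H.K_le hk)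
    apply con_sign L H (c := c) (M.K.mul_mem (M.K.mul_mem hk hu) (M.K.inv_mem hk))
    · rw [show k * u * k⁻¹ * (k * u * k⁻¹) = k * (u * u) * k⁻¹ by group, huu, mul_one, mul_inv_cancel]
    · intro e
      apply hu1
      have : u = k⁻¹ * (k * u * k⁻¹) * k := by group
      rw [this, e]; group
    · rw [← hg]
      exact TwoQ.Ind_conj hA hkI
  · exact absurd huu (TwoB0.two_b0 L hu hA h3)

include L H in
/-- **Two classes of involutions.** -/
theorem two_classes (hΓ : Finite Γ) (hodd : ¬ 2 ∣ M.K.relIndex Γ) {u : G} (hu : u ∈ Γ)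
    (huu : u * u = 1) (hu1 : u ≠ 1) : Con M Γ u := by
  obtain ⟨g, hg, hK⟩ := TwoQ.exists_conj_of_odd' hΓ hodd hu huu
  apply Con.conj hg
  apply con_K L H hK
  · rw [show g * u * g⁻¹ * (g * u * g⁻¹) = g * (u * u) * g⁻¹ by group, huu, mul_one, mul_inv_cancel]
  · intro e
    apply hu1
    have : u = g⁻¹ * (g * u * g⁻¹) * g := by group
    rw [this, e]; group

include L H in
/-- The same with a fixed short element. -/
theorem two_classes_t (hΓ : Finite Γ) (hodd : ¬ 2 ∣ M.K.relIndex Γ) {t₀ : P} (ht₀ : t₀ ∈ M.Sh)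
    {u : G} (hu : u ∈ Γ) (huu : u * u = 1) (hu1 : u ≠ 1) :
    (∃ g ∈ Γ, g * u * g⁻¹ = M.z) ∨ ∃ g ∈ Γ, g * u * g⁻¹ = M.ι t₀ :=
  (two_classes L H hΓ hodd hu huu hu1).to L H.K_le ht₀

end Cfsg.Agent.MonsterU.InvTwoMain
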