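import Cfsg.Agent.MonsterU.CovFactor
import Cfsg.Agent.MonsterU.VecThree
import Cfsg.Agent.MonsterX.CertLine
import Cfsg.Agent.MonsterX.CertGlue

/-!
# The lane of a line on which `x a₀` is

`FixLine U`: the elements of `C` fixing the base axis fix its class `y₁`; `fixLine`: from the `K`-side.
`lane_two`: if `x a₀ ∈ N a₀`, the code of `x⁻¹ y0` is `w + 6` with a lane `w` orthogonal to `6`; `lane_three`: if also
`x a' ∈ N a₀`, then `w` is orthogonal to `10` and `code (x⁻¹ y0) = w' + 10` with a lane `w'`.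
-/

set_option autoImplicit false
set_option maxRecDepth 100000

namespace Cfsg.Agent.MonsterU.LaneOf

open Cfsg Cfsg.Agent.MonsterX Cfsg.Agent.MonsterX.Space Cfsg.Agent.MonsterX.Conc Cfsg.Agent.MonsterX.InstData
open Cfsg.Agent.MonsterX.FrameAct Cfsg.Agent.MonsterX.FrameInst Cfsg.Agent.MonsterX.FrameCover
open Cfsg.Agent.MonsterX.FrameGam Cfsg.Agent.MonsterX.FrameConc Cfsg.Agent.MonsterX.Lin24
open Cfsg.Agent.MonsterX.CertLin Cfsg.Agent.MonsterX.CertSPl Cfsg.Agent.MonsterX.CertCov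
open Cfsg.Agent.MonsterX.CertCovB Cfsg.Agent.MonsterU.CovBase Cfsg.Agent.MonsterU.RowGlue
open Cfsg.Agent.MonsterU.CovFactor Cfsg.Agent.MonsterX.CertV Cfsg.Agent.MonsterU.VecThree
open Cfsg.Agent.MonsterX.KSide Cfsg.Agent.MonsterX.KModel

variable {u : leechLattice → V} (U : ULink u)

/-- The elements of `C` fixing the base axis fix its class. -/
def FixLine : Prop := ∀ h : C, (h : V ≃ₗ[ℚ] V) ax = ax → h • y₁ U = y₁ U

/-- `FixLine` from the structure of the `K`-side. -/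
theorem fixLine {P W₀ : Type} [Group P] [AddCommGroup W₀] [Module ℚ W₀]
    {M : KS ↥InstData.M.G V P W₀} {x₀ : P}
    (H : Link InstData.M M x₀) (hu : M.u = u) (hl : codeL (M.lam x₀) = 6) : FixLine U := by
  intro h hh
  obtain ⟨A, α, T, hA, -⟩ := H.conj (g := (h : V ≃ₗ[ℚ] V)) h.2
  have hR : FrameConc.R u h A := by
    intro v
    rw [← hu]
    exact hA.act_u v
  have e1 : y₁ U = cl U.ind (M.lam x₀) := (coded U.ind).inj _ _ (by
    show 6 = codeL (M.lam x₀)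
    rw [hl])
  have h4 := Link.smul_a hA x₀ H.x₀_mem
  have e2 : M.a x₀ = ax := by rw [Cfsg.Agent.MonsterX.CertGlue.ax_eq, ← M_a₀, H.a₀_eq]
  rw [e2] at h4
  have h5 : M.a (α x₀) = M.a x₀ := by
    rw [e2, ← h4]
    exact hh
  have h6 : α x₀ = x₀ := M.a_inj _ _ (hA.act_sh _ H.x₀_mem) H.x₀_mem h5
  have h7 := hA.act_lam x₀ H.x₀_mem
  rw [h6] at h7
  rw [e1, smul_cl U.ind hR, cl_eq_iff]
  rcases h7 with h7 | h7
  · rw [← h7]
  · rw [← codeL_neg, ← h7]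

/-! ### The codes of the line -/

variable {U}

/-- The lane of `y0 + y₁`. -/
theorem lane_ok : UX.testBit 62496 = true ∧ num P 62496 = 4096 ^^^ 6 := by
  have h : (Nat.beq (Nat.land (Nat.shiftRight UX 62496) 1) 1 && Nat.beq (num P 62496) 4102) = true := by
    decide +kernel
  rw [Bool.and_eq_true] at h
  refine ⟨?_, Nat.eq_of_beq_eq_true h.2⟩
  rw [← tb_eq]
  exact h.1

/-- `x c = d y₁` for classes, `d` fixing `y0`. -/
theorem onLane_of {x d : C} {c : ℕ} (hc : c < 2 ^ 24) (hd : d • (coded U.ind).y0 = (coded U.ind).y0)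
    (h : x • pt U c hc = d • y₁ U) :
    (∃ i, UX.testBit i = true ∧ (coded U.ind).code (x⁻¹ • (coded U.ind).y0) = num P i ^^^ c) ∧
      form ((coded U.ind).code (x⁻¹ • (coded U.ind).y0)) c = false := by
  have e0 : x⁻¹ • (coded U.ind).y0 = (x⁻¹ * d) • (coded U.ind).y0 := by rw [mul_smul, hd]
  have e1 : pt U c hc = (x⁻¹ * d) • y₁ U := by rw [mul_smul, ← h, inv_smul_smul]
  have hlt : (4096 ^^^ 6 : ℕ) < 2 ^ 24 := by decide
  have h1 : (coded U.ind).code (pt U (4096 ^^^ 6) hlt) =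
      (coded U.ind).code (coded U.ind).y0 ^^^ (coded U.ind).code (y₁ U) := by
    rw [code_pt, code_y₁]; rfl
  have h2 := code_smul_xor U (x⁻¹ * d) h1
  rw [← e0, ← e1, code_pt] at h2
  refine ⟨?_, ?_⟩
  · have hL : OnLane U (pt U (4096 ^^^ 6) hlt) := ⟨62496, lane_ok.1, lane_ok.2.symm⟩
    obtain ⟨i, hi, h3⟩ := onLane_smul U (x⁻¹ * d) hL
    exact ⟨i, hi, by rw [← h3, h2, Nat.xor_assoc, Nat.xor_self, Nat.xor_zero]⟩
  · have h3 := form_smul U (x⁻¹ * d) (coded U.ind).y0 (y₁ U)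
    rw [← e0, ← e1, code_pt, code_y₁] at h3
    rw [h3]
    show form 4096 6 = false
    decide +kernel

/-- The class of `x a₀`. -/
theorem smul_y₁ (hF : FixLine U) {x : C} {d : V ≃ₗ[ℚ] V} (hd : d ∈ N) (h : (x : V ≃ₗ[ℚ] V) ax = d ax) :
    ∃ d' : C, d' • (coded U.ind).y0 = (coded U.ind).y0 ∧ x • y₁ U = d' • y₁ U := by
  set d' : C := ⟨d, N_le_C hd⟩ with hd'
  refine ⟨d', (U.frames.stab d').2 hd, ?_⟩
  have h1 : ((d'⁻¹ * x : C) : V ≃ₗ[ℚ] V) ax = ax := by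
    show (d⁻¹ : V ≃ₗ[ℚ] V) ((x : V ≃ₗ[ℚ] V) ax) = ax
    rw [h]
    exact d.symm_apply_apply ax
  have h2 := hF _ h1
  rw [mul_smul] at h2
  rw [← h2, smul_inv_smul, h2]

/-- The class of `a'`. -/
theorem a2w_ok : okW a2w = true ∧ linW a2w 6 = 10 := by
  have h : (okW a2w && Nat.beq (linW a2w 6) 10) = true := by decide +kernel
  rw [Bool.and_eq_true] at h
  exact ⟨h.1, Nat.eq_of_beq_eq_true h.2⟩

theorem smul_ten (hF : FixLine U) {x : C} {d : V ≃ₗ[ℚ] V} (hd : d ∈ N) (h : (x : V ≃ₗ[ℚ] V) ax2 = d ax) :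
    ∃ d' : C, d' • (coded U.ind).y0 = (coded U.ind).y0 ∧ x • pt U 10 (by norm_num) = d' • y₁ U := by
  have hok := (okW_iff _).1 a2w_ok.1
  have e : prodF EC a2w • y₁ U = pt U 10 (by norm_num) := by
    apply (coded U.ind).inj
    rw [code_word U hok, code_y₁, code_pt, a2w_ok.2]
  have h1 : ((x * prodF EC a2w : C) : V ≃ₗ[ℚ] V) ax = d ax := by
    show (x : V ≃ₗ[ℚ] V) (((prodF EC a2w : C) : V ≃ₗ[ℚ] V) ax) = d ax
    rw [prodF_coe U hok]
    exact h
  obtain ⟨d', h2, h3⟩ := smul_y₁ hF hd h1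
  exact ⟨d', h2, by rw [← e, ← mul_smul, h3]⟩

/-- **Level 2**: the lane of the line of `x`. -/
theorem lane_two (hF : FixLine U) {x : C} {d : V ≃ₗ[ℚ] V} (hd : d ∈ N) (h : (x : V ≃ₗ[ℚ] V) ax = d ax) :
    ∃ i, UX.testBit i = true ∧ form (num P i) 6 = false ∧
      (coded U.ind).code (x⁻¹ • (coded U.ind).y0) = num P i ^^^ 6 := by
  obtain ⟨d', h1, h2⟩ := smul_y₁ hF hd h
  obtain ⟨⟨i, hi, h3⟩, h4⟩ := onLane_of (c := 6) (by norm_num) h1 h2
  refine ⟨i, hi, ?_, h3⟩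
  rw [h3, form_xor_left, show form 6 6 = false by decide +kernel, Bool.xor_false] at h4
  exact h4

/-- **Level 3**: the lanes of the line of `x`. -/
theorem lane_three (hF : FixLine U) {x : C} {d e : V ≃ₗ[ℚ] V} (hd : d ∈ N) (h : (x : V ≃ₗ[ℚ] V) ax = d ax)
    (he : e ∈ N) (h' : (x : V ≃ₗ[ℚ] V) ax2 = e ax) :
    ∃ i i', UX.testBit i = true ∧ form (num P i) 6 = false ∧ form (num P i) 10 = false ∧
      (coded U.ind).code (x⁻¹ • (coded U.ind).y0) = num P i ^^^ 6 ∧ UX.testBit i' = true ∧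
      (coded U.ind).code (x⁻¹ • (coded U.ind).y0) = num P i' ^^^ 10 := by
  obtain ⟨i, hi, hf, hx⟩ := lane_two hF hd h
  obtain ⟨e', h1, h2⟩ := smul_ten hF he h'
  obtain ⟨⟨i', hi', h3⟩, h4⟩ := onLane_of (c := 10) (by norm_num) h1 h2
  refine ⟨i, i', hi, hf, ?_, hx, hi', h3⟩
  rw [hx, form_xor_left, show form 6 10 = false by decide +kernel, Bool.xor_false] at h4
  exact h4

end Cfsg.Agent.MonsterU.LaneOf
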