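import Cfsg.Agent.MonsterU.LaneOf
import Cfsg.Agent.MonsterX.FieldsP

/-!
# The class of an axis `s ∈ S` with `F s a₀ = 1`

`lane_of_pair`: the class of `g a₀` (`g ∈ C`, `F (g a₀) a₀ = 1`) is the sum of `6` and a lane orthogonal to `6`;
`short_of`: so the coverage modules move it to one of the short representatives; `eq_of_class`: the axis itself.
-/

set_option autoImplicit false
set_option maxRecDepth 100000

namespace Cfsg.Agent.MonsterU.LaneS

open Cfsg Cfsg.Agent.MonsterX Cfsg.Agent.MonsterX.Space Cfsg.Agent.MonsterX.Conc Cfsg.Agent.MonsterX.InstData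
open Cfsg.Agent.MonsterX.FrameAct Cfsg.Agent.MonsterX.FrameInst Cfsg.Agent.MonsterX.FrameCover
open Cfsg.Agent.MonsterX.FrameGam Cfsg.Agent.MonsterX.FrameConc Cfsg.Agent.MonsterX.Lin24
open Cfsg.Agent.MonsterX.CertLin Cfsg.Agent.MonsterX.CertSPl Cfsg.Agent.MonsterX.CertCov
open Cfsg.Agent.MonsterX.CertCovB Cfsg.Agent.MonsterU.CovBase Cfsg.Agent.MonsterU.RowGlue
open Cfsg.Agent.MonsterX.CertCovD Cfsg.Agent.MonsterX.CertUTab
open Cfsg.Agent.MonsterU.CovFactor Cfsg.Agent.MonsterX.CertV Cfsg.Agent.MonsterU.LaneOf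

variable {u : leechLattice → V} {U : ULink u}

/-- The value `1` occurs only for the representative `1`. -/
theorem tab_one : ∀ m < nr 0, ∀ b : Bool, FieldsP.vb 0 m b = 256 → m = 1 := by decide +kernel

theorem word_one (b : Bool) : linW (word 0 1 b) 130 = 6 := by
  cases b
  · have h : Nat.beq (linW (word 0 1 false) 130) 6 = true := by decide +kernel
    exact Nat.eq_of_beq_eq_true h
  · have h : Nat.beq (linW (word 0 1 true) 130) 6 = true := by decide +kernel
    exact Nat.eq_of_beq_eq_true h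

theorem F_inv {w : V ≃ₗ[ℚ] V} (hw : w ∈ InstData.M.C) (x y : V) : F (w⁻¹ x) y = F x (w y) := by
  have h := C_isom w hw (w⁻¹ x) y
  have e : w (w⁻¹ x) = x := w.apply_symm_apply x
  rw [e] at h
  exact h.symm

/-- The lane of `130 + 6`. -/
theorem lane_132 : UX.testBit 62508 = true ∧ num P 62508 = 132 := by
  have h : (Nat.beq (Nat.land (Nat.shiftRight UX 62508) 1) 1 && Nat.beq (num P 62508) 132) = true := by
    decide +kernel
  rw [Bool.and_eq_true] at h
  refine ⟨?_, Nat.eq_of_beq_eq_true h.2⟩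
  rw [← tb_eq]
  exact h.1

theorem form_132 : form 132 6 = false := by decide +kernel

/-- **The class of `g a₀`, if `F (g a₀) a₀ = 1`.** -/
theorem lane_of_pair (H : LineStab U) (hF : FixLine U) {g : C} (h : F ((g : V ≃ₗ[ℚ] V) ax) ax = 1) :
    ∃ i, UX.testBit i = true ∧ form (num P i) 6 = false ∧
      (coded U.ind).code (g • y₁ U) = num P i ^^^ 6 := by
  obtain ⟨m, hm, b, l, hl, h1, h2⟩ := cov_S U H (j := 0) (by norm_num) g.2
  have hb0 : W (bj 0) (vecV a0B) = vecV a0B := by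
    have e : bj 0 = [] := by decide +kernel
    rw [e, W_nil]
    rfl
  rw [hb0, ← CertGlue.ax_eq] at h1
  rw [← CertGlue.ax_eq] at h2
  have hwC : W (word 0 m b) ∈ InstData.M.C := by
    have := word_ok (b := b) (uw_ok 0 m)
    rw [M_C, ← prodF_coe U this]
    exact (prodF EC _ : C).2
  have hm1 : m = 1 := by
    refine tab_one m hm b ?_
    have h3 : F (vecV a0B) (FieldsP.yv 0 m b) = 1 := by
      have h4 := C_isom l hl ((W (word 0 m b))⁻¹ ax) ax
      rw [h1, ← h2, h, F_inv hwC, CertGlue.ax_eq] at h4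
      have e2 : FieldsP.yv 0 m b = W (word 0 m b) (vecV a0B) := by
        unfold FieldsP.yv
        rw [M_a₀, hb0]
        rfl
      rw [e2]
      exact h4.symm
    rw [FieldsP.F_a₀_yv (by norm_num) hm, div_eq_iff (by norm_num)] at h3
    have h5 : (FieldsP.vb 0 m b : ℚ) = 256 := by rw [h3]; norm_num
    exact_mod_cast h5
  subst hm1
  -- the elements of `C`
  set w : C := prodF EC (word 0 1 b) with hw
  have hok := word_ok (b := b) (uw_ok 0 1)
  have hwv : (w : V ≃ₗ[ℚ] V) = W (word 0 1 b) := prodF_coe U hok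
  set l' : C := ⟨l, hl⟩ with hl'
  have hly : l' • y₁ U = y₁ U := hF l' h1
  have h130 : w • pt U 130 (by norm_num) = y₁ U := by
    apply (coded U.ind).inj
    rw [code_word U hok, code_pt, word_one, code_y₁]
  have hfix : (w * l'⁻¹ * g) • y₁ U = y₁ U := by
    refine hF _ ?_
    show (w : V ≃ₗ[ℚ] V) ((l⁻¹ : V ≃ₗ[ℚ] V) ((g : V ≃ₗ[ℚ] V) ax)) = ax
    rw [h2, hwv]
    have e1 : (l⁻¹ : V ≃ₗ[ℚ] V) (l ((W (word 0 1 b))⁻¹ ax)) = (W (word 0 1 b))⁻¹ ax := l.symm_apply_apply _
    rw [e1]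
    exact (W (word 0 1 b)).apply_symm_apply _
  have hg : g • y₁ U = l' • pt U 130 (by norm_num) := by
    rw [mul_smul, mul_smul] at hfix
    have e1 : l'⁻¹ • g • y₁ U = w⁻¹ • y₁ U := by
      rw [eq_inv_smul_iff]
      exact hfix
    have e2 : w⁻¹ • y₁ U = pt U 130 (by norm_num) := by
      rw [inv_smul_eq_iff]
      exact h130.symm
    rw [e2, inv_smul_eq_iff] at e1
    exact e1
  have hc : (coded U.ind).code (pt U 132 (by norm_num)) =
      (coded U.ind).code (pt U 130 (by norm_num)) ^^^ (coded U.ind).code (y₁ U) := by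
    rw [code_pt, code_pt, code_y₁]
    rfl
  have h6 := code_smul_xor U l' hc
  rw [hly, code_y₁, ← hg] at h6
  have hL : OnLane U (pt U 132 (by norm_num)) := ⟨62508, lane_132.1, lane_132.2.symm⟩
  obtain ⟨i, hi, h7⟩ := onLane_smul U l' hL
  refine ⟨i, hi, ?_, ?_⟩
  · have h8 := form_smul U l' (pt U 132 (by norm_num)) (y₁ U)
    rw [hly, code_y₁, code_pt, h7, form_132] at h8
    exact h8
  · rw [← h7, h6, Nat.xor_assoc, Nat.xor_self, Nat.xor_zero]

/-- The representatives of frames are excluded. -/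
theorem short_of {L : Subgroup (V ≃ₗ[ℚ] V)} {g : C} {codes cs : List ℕ}
    (hs : ∀ c ∈ codes, notShort c = true)
    (h : ∃ c ∈ codes ++ cs, ∃ l ∈ L.subgroupOf C, (coded U.ind).code (l • g • y₁ U) = c) :
    ∃ c ∈ cs, c ≠ 0 ∧ ∃ l : C, (l : V ≃ₗ[ℚ] V) ∈ L ∧ (coded U.ind).code (l • g • y₁ U) = c := by
  obtain ⟨c, hc, l, hl, e⟩ := h
  have hL := onLane_smul U (l * g) (onLane_y₁ U)
  rw [mul_smul] at hL
  rcases List.mem_append.1 hc with hc | hc
  · exfalso
    obtain ⟨i, hi, h1⟩ := hL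
    exact notShort_sound (hs c hc) hi (h1.symm.trans e)
  · refine ⟨c, hc, ?_, l, Subgroup.mem_subgroupOf.1 hl, e⟩
    rintro rfl
    rw [← mul_smul] at e
    have := code_smul_eq_zero U _ e
    rw [code_y₁] at this
    norm_num at this

/-- The axis with a class mapped to `6` by a word. -/
theorem eq_of_class (H : LineStab U) {g l : C} {w : List ℕ} (hw : okW w = true) {c : ℕ}
    (hc : (coded U.ind).code (l • g • y₁ U) = c) (hwc : linW w c = 6) :
    ∃ b : Bool, W (w ++ (if b then [1] else [])) ((l : V ≃ₗ[ℚ] V) ((g : V ≃ₗ[ℚ] V) ax)) = ax := by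
  have hok := (okW_iff w).1 hw
  have h1 : (prodF EC w * l * g) • y₁ U = y₁ U := by
    apply (coded U.ind).inj
    rw [mul_smul, mul_smul, code_word U hok, hc, hwc, code_y₁]
  have h2 := H _ h1
  have e1 : ((prodF EC w * l * g : C) : V ≃ₗ[ℚ] V) (vecV a0B) =
      W w ((l : V ≃ₗ[ℚ] V) ((g : V ≃ₗ[ℚ] V) (vecV a0B))) := by
    rw [← prodF_coe U hok]
    rfl
  rw [e1, ← CertGlue.ax_eq] at h2
  rcases h2 with h2 | h2
  · exact ⟨false, by simpa using h2⟩
  · refine ⟨true, ?_⟩
    rw [if_pos rfl, W_append, LinearEquiv.mul_apply, h2, x1_a1, CertGlue.ax_eq]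

end Cfsg.Agent.MonsterU.LaneS
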