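import Cfsg.Agent.MonsterU.LevAsm
import Cfsg.Agent.MonsterU.TabInst
import Cfsg.Agent.MonsterU.CovThreeF
import Cfsg.Agent.MonsterU.LevelOneX
import Cfsg.Agent.MonsterU.Final
import Cfsg.Agent.MonsterX.CertAsm
import Cfsg.Agent.MonsterX.Instance
import Cfsg.Agent.MonsterX.MainBasic
import Cfsg.Agent.MonsterX.FieldsP

/-!
# The levels of (F) for the concrete model

`lev` : the structure `LevelsInst.Lev` for `K = C_G(z)` and `D` the monomial group, without hypotheses except the
centraliser of `z`.  `embSt` : the embedding statement from `MOrbit` and `MTrans`.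
-/

set_option autoImplicit false
set_option maxRecDepth 100000

namespace Cfsg.Agent.MonsterU.LevFinal

open Cfsg Cfsg.Agent.MonsterX Cfsg.Agent.MonsterX.Space Cfsg.Agent.MonsterX.Conc Cfsg.Agent.MonsterX.Model
open Cfsg.Agent.MonsterX.InstData Cfsg.Agent.MonsterX.CertCovD Cfsg.Agent.MonsterX.FrameAct
open Cfsg.Agent.MonsterX.MainTrans Cfsg.Agent.MonsterX.MainSimple
open Cfsg.Agent.MonsterX.CertV (vv ax)
open Cfsg.Agent.MonsterU.Local Cfsg.Agent.MonsterU.LineTab Cfsg.Agent.MonsterU.LevelThree
open Cfsg.Agent.MonsterU.LaneOf Cfsg.Agent.MonsterU.LevAsm Cfsg.Agent.MonsterU.LevelsInst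
open Cfsg.Agent.MonsterU.ModelGeo

/-- The elements of `C` fixing the base axis fix its class. -/
theorem fixLine : FixLine Instance.ulink := LaneOf.fixLine Instance.ulink KDone.lnk rfl Instance.code_x₀

/-- The covering of the orbits. -/
theorem href : TabInst.Ref := CertAsm.refines Instance.ulink

/-- The facts on the axes. -/
theorem tab : Tab (Subgroup.closure ((N : Set (V ≃ₗ[ℚ] V)) ∪ {τ})) := TabInst.tab href

theorem sigComm : SigComm := KDone.mRep.σ_comm

theorem sigBase : SigBase := by
  have h := Instance.σ_a₀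
  rw [M_a₀, M_a₁, ← CertGlue.ax_eq] at h
  show InstData.M.σ ax = vv [1]
  rw [h, CertGlue.vv_eq, FieldsP.x1_a0]

/-- The coverage of level 3. -/
theorem cov₃ : Cov₃ := CovThreeF.cov₃ Instance.ulink Instance.lineStab fixLine sigComm sigBase

/-- Level 1. -/
theorem l₁ : LocHyp C N τ Conc.ξ (fun x => x ∈ InstData.M.X) hh := LevelOneX.l₁_tab Instance.ulink tab

/-- The levels over `C`. -/
theorem levC : Lev InstData.M KG DG τG ξG hh LevelTwo.h₂ h₃ :=
  LevAsm.lev Instance.ulink tab Instance.lineStab fixLine sigComm sigBase cov₃ l₁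

theorem KG_eq (hc : ∀ g ∈ InstData.M.G, g * InstData.M.z = InstData.M.z * g → g ∈ InstData.M.C) : KG = KΓ := by
  ext g
  exact Subgroup.mem_subgroupOf.trans (mem_KΓ hc).symm

/-- **The levels of the model.** -/
theorem lev (hc : ∀ g ∈ InstData.M.G, g * InstData.M.z = InstData.M.z * g → g ∈ InstData.M.C) :
    Lev InstData.M KΓ GeometryInst.DΓ τE ξE hh LevelTwo.h₂ h₃ := by
  rw [← KG_eq hc]
  exact levC

/-- **The embedding statement.** -/
theorem embSt.{u} (hO : MOrbit InstData.M) (hT : MTrans InstData.M) :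
    Assembly.EmbSt.{u} InstData.M (Final.all hO hT).hG := Final.embSt.{u} hO hT (lev (Final.cent hO hT))

end Cfsg.Agent.MonsterU.LevFinal
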