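import Cfsg.Agent.MonsterU.LocalCert
import Cfsg.Agent.MonsterU.FCovBase
import Cfsg.Agent.MonsterX.CertAll
import Cfsg.Agent.MonsterX.CertV

/-!
# Level 1 of the Morse certificate (points against one axis)

`P`: the axes, `h`: the number of the `C`-orbit.  `locHyp`: the local hypotheses for the axes, from

* `FCov`: every element of `C` is in `N (W k_r) L_j` for some `r` of the class `j`;
* `Disj`: the vectors `b j` are in different `C`-orbits;
* `Geom` for `C`, `N`, `τ`, `ξ`, `E 41 = τ⁻¹`, `τ³ = 1`.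
-/

set_option autoImplicit false
set_option Elab.async false
set_option maxRecDepth 100000

namespace Cfsg.Agent.MonsterU.LevelOne

open Cfsg Cfsg.Agent.MonsterX Cfsg.Agent.Monster.VecEngine Cfsg.Agent.Monster.VecSpace Cfsg.Agent.MonsterX.Space
open Cfsg.Agent.MonsterX.ProgTable Cfsg.Agent.MonsterX.Conc Cfsg.Agent.MonsterX.InstData
open Cfsg.Agent.MonsterX.CertVec Cfsg.Agent.MonsterX.CertB Cfsg.Agent.MonsterX.CertTab Cfsg.Agent.MonsterX.CertV
open Cfsg.Agent.MonsterX.CertCovB Cfsg.Agent.MonsterX.FrameConc Cfsg.Agent.MonsterX.Lin24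
open Cfsg.Agent.MonsterU.Local Cfsg.Agent.MonsterU.RowGlue Cfsg.Agent.MonsterU.LowTab Cfsg.Agent.MonsterU.LowChk
open Cfsg.Agent.MonsterU.FCovBase

/-! ### Vectors -/

/-- The two descriptions of the base axis agree. -/
theorem ax_eq : ax = vecV a0B := by
  have h : vecV CertBase.a0 = (2 : ℚ) ^ 8 • vecV a0B := by
    rw [← vecV_up]
    exact vecV_congr (by decide +kernel)
  unfold ax
  rw [h, smul_smul]
  norm_num

/-- The representative of the class `j`. -/
noncomputable def b (j : ℕ) : V := Conc.W (bj j) (vecV a0B)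

/-- The representative of the `D`-orbit `r`. -/
noncomputable def v (r : ℕ) : V := Conc.W (cw r) (b (J r))

theorem bw_eq : ∀ j, j < 12 → bw j = bj j := by
  intro j hj
  interval_cases j <;> rfl

theorem vv_vw {r : ℕ} (hr : r < 251) : vv (vw r) = v r := by
  unfold vw
  rw [vv_append]
  show Conc.W (cw r) (vv (bw (J r))) = _
  unfold vv
  rw [bw_eq _ (J_lt r hr), ax_eq]
  rfl

theorem tau_v (h41 : Conc.E 41 = τ⁻¹) {t : ℕ} (ht : t < 123) :
    τ (v (t0 t)) = Conc.W (n1 t) (v (t1 t)) ∧ τ⁻¹ (v (t0 t)) = Conc.W (n2 t) (v (t2 t)) := by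
  have h0 : t0 t < 251 := cl_lt t ht 0 (by norm_num)
  have h1 : t1 t < 251 := cl_lt t ht 1 (by norm_num)
  have h2 : t2 t < 251 := cl_lt t ht 2 (by norm_num)
  have h3 : and (CertBase.ident (vw (t0 t) ++ [40]) (vw (t1 t) ++ n1 t))
    (CertBase.ident (vw (t0 t) ++ [41]) (vw (t2 t) ++ n2 t)) = true := Cfsg.Agent.MonsterX.CertAll.tau_all t ht
  rw [Bool.and_eq_true] at h3
  have h4 := vv_eq_of_ident h3.1
  have h5 := vv_eq_of_ident h3.2
  rw [vv_append, vv_append, vv_vw h0, vv_vw h1, W_single] at h4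
  rw [vv_append, vv_append, vv_vw h0, vv_vw h2, W_single, h41] at h5
  exact ⟨h4, h5⟩

/-! ### The predicate and the height -/

/-- The axes. -/
def P (w : V) : Prop := ∃ j, j < 12 ∧ ∃ g ∈ C, w = g (b j)

open Classical in
/-- The height: the number of the `C`-orbit. -/
noncomputable def h (w : V) : ℕ := if hw : P w then hw.choose else 0

/-- The vectors `b j` are in different `C`-orbits. -/
def Disj : Prop := ∀ i j, i < 12 → j < 12 → ∀ g ∈ C, g (b i) = b j → i = j

theorem h_of (hd : Disj) {j : ℕ} (hj : j < 12) {g : V ≃ₗ[ℚ] V} (hg : g ∈ C) : h (g (b j)) = j := by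
  have hP : P (g (b j)) := ⟨j, hj, g, hg, rfl⟩
  unfold h
  rw [dif_pos hP]
  obtain ⟨h1, g', hg', h2⟩ := hP.choose_spec
  refine (hd _ _ hj h1 (g'⁻¹ * g) (C.mul_mem (C.inv_mem hg') hg) ?_).symm
  have h4 := congrArg (fun x => g'⁻¹ x) h2
  exact h4.trans (g'.symm_apply_apply _)

theorem inv (hd : Disj) : Inv C P h where
  P_smul := by
    rintro k hk _ ⟨j, hj, g, hg, rfl⟩
    exact ⟨j, hj, k * g, C.mul_mem hk hg, rfl⟩
  h_smul := by
    intro k hk w
    by_cases hP : P w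
    · obtain ⟨j, hj, g, hg, rfl⟩ := hP
      show h ((k * g) (b j)) = _
      rw [h_of hd hj hg, h_of hd hj (C.mul_mem hk hg)]
    · have hP' : ¬ P (k • w) := by
        rintro ⟨j, hj, g, hg, e⟩
        refine hP ⟨j, hj, k⁻¹ * g, C.mul_mem (C.inv_mem hk) hg, ?_⟩
        show w = k⁻¹ (g (b j))
        rw [← e]
        exact (k.symm_apply_apply _).symm
      unfold h
      rw [dif_neg hP, dif_neg hP']

section

variable {u : leechLattice → V} (U : ULink u)

include U in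
theorem W_mem_N {w : List ℕ} (h : ∀ i ∈ w, isN i = true) : Conc.W w ∈ N := by
  refine W_mem fun n hn => ?_
  have h1 := h n hn
  unfold isN at h1
  rw [Bool.or_eq_true, Bool.or_eq_true] at h1
  rcases h1 with h1 | h1 | h1
  · have := Nat.le_of_ble_eq_true h1
    exact E_mem_N (by omega)
  · rw [Nat.eq_of_beq_eq_true h1, U.shift_inv]
    exact N.inv_mem (E_mem_N (by norm_num))
  · rw [Nat.eq_of_beq_eq_true h1, U.cube_inv]
    exact N.inv_mem (E_mem_N (by norm_num))

theorem n_isN : ∀ t, t < 123 → (∀ i ∈ n1 t, isN i = true) ∧ ∀ i ∈ n2 t, isN i = true := by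
  intro t ht
  have h := allB_sound (n := 123) (p := fun t => and (allW isN (n1 t)) (allW isN (n2 t))) (by decide +kernel) t ht
  rw [Bool.and_eq_true] at h
  exact ⟨allW_sound h.1, allW_sound h.2⟩

theorem cw_ok : ∀ r, r < 251 → (cw r).all okC = true := by
  intro r hr
  have h := allB_sound (n := 251) (p := fun r => okW (cw r)) (by decide +kernel) r hr
  exact (okW_iff _).1 h

include U in
theorem cw_mem {r : ℕ} (hr : r < 251) : Conc.W (cw r) ∈ C := W_mem_C U (cw_ok r hr)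

include U in
theorem P_v {r : ℕ} (hr : r < 251) : P (v r) := ⟨J r, J_lt r hr, _, cw_mem U hr, rfl⟩

include U in
theorem h_v (hd : Disj) {r : ℕ} (hr : r < 251) : h (v r) = J r := h_of hd (J_lt r hr) (cw_mem U hr)

include U in
/-- The points of the line of `v (t0 t)`. -/
theorem orb_pow (h41 : Conc.E 41 = τ⁻¹) (h3 : τ * τ * τ = 1) {t : ℕ} (ht : t < 123) (e : ℕ) :
    ∃ d ∈ N, (τ ^ e) (v (t0 t)) = d (v (cl t (e % 3))) := by
  have hmod : τ ^ e = τ ^ (e % 3) := by
    conv_lhs => rw [← Nat.div_add_mod e 3, pow_add, pow_mul]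
    have : τ ^ 3 = 1 := by rw [pow_succ, pow_two]; exact h3
    rw [this, one_pow, one_mul]
  rw [hmod]
  have hlt : e % 3 < 3 := Nat.mod_lt _ (by norm_num)
  obtain ⟨m, hm⟩ : ∃ m, m = e % 3 := ⟨_, rfl⟩
  rw [← hm] at hlt ⊢
  have h1 := tau_v h41 ht
  interval_cases m
  · exact ⟨1, N.one_mem, rfl⟩
  · refine ⟨_, W_mem_N U (n_isN t ht).1, ?_⟩
    rw [pow_one]
    exact h1.1
  · refine ⟨_, W_mem_N U (n_isN t ht).2, ?_⟩
    have : τ ^ 2 = τ⁻¹ := by
      rw [pow_two]
      exact eq_inv_of_mul_eq_one_left h3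
    rw [this]
    exact h1.2

variable {Nn : Subgroup (V ≃ₗ[ℚ] V)}

include U in
/-- Reduction of the types to the table. -/
theorem types (hd : Disj) (h41 : Conc.E 41 = τ⁻¹) (h3 : τ * τ * τ = 1) {r : ℕ} (hr : r < 251) :
    ∃ p : V, (∃ d ∈ N, p = d • v r) ∧ P (τ • p) ∧ h (τ • p) = ty r 1 ∧ P (τ⁻¹ • p) ∧ h (τ⁻¹ • p) = ty r 2 := by
  obtain ⟨ht, he, hc⟩ := pk_ok r hr
  have hval : ∀ e, ∃ d ∈ N, (τ ^ e) (v (t0 (pt r))) = d (v (cl (pt r) (e % 3))) := orb_pow U h41 h3 ht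
  have hPh : ∀ e, P ((τ ^ e) (v (t0 (pt r)))) ∧ h ((τ ^ e) (v (t0 (pt r)))) = J (cl (pt r) (e % 3)) := by
    intro e
    obtain ⟨d, hd', h1⟩ := hval e
    have hlt := cl_lt _ ht (e % 3) (Nat.mod_lt _ (by norm_num))
    rw [h1]
    have h2 := (inv hd).P_smul d (N_le_C hd') _ (P_v U hlt)
    have h4 := (inv hd).h_smul d (N_le_C hd') (v (cl (pt r) (e % 3)))
    rw [h_v U hd hlt] at h4
    exact ⟨h2, h4⟩
  refine ⟨(τ ^ pe r) (v (t0 (pt r))), ?_, ?_⟩
  · obtain ⟨d, hd', h1⟩ := hval (pe r)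
    rw [Nat.mod_eq_of_lt he, hc] at h1
    exact ⟨d, hd', h1⟩
  · have e1 : τ • (τ ^ pe r) (v (t0 (pt r))) = (τ ^ (pe r + 1)) (v (t0 (pt r))) := by
      rw [pow_succ']; rfl
    have e2 : τ⁻¹ • (τ ^ pe r) (v (t0 (pt r))) = (τ ^ (pe r + 2)) (v (t0 (pt r))) := by
      have : τ⁻¹ * τ ^ pe r = τ ^ (pe r + 2) := by
        rw [inv_mul_eq_iff_eq_mul, ← pow_succ']
        have h5 : τ ^ 3 = 1 := by rw [pow_succ, pow_two]; exact h3
        rw [show pe r + 2 + 1 = pe r + 3 from rfl, pow_add, h5, mul_one]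
      rw [← this]; rfl
    rw [e1, e2]
    exact ⟨(hPh _).1, (hPh _).2, (hPh _).1, (hPh _).2⟩

include U in
theorem lo_iff (hG : Geom C Nn N τ ξ) (hd : Disj) (h41 : Conc.E 41 = τ⁻¹) (h3 : τ * τ * τ = 1) {r : ℕ} (hr : r < 251) :
    Lo τ P h (v r) ↔ low r = true := by
  obtain ⟨p, ⟨d, hdN, rfl⟩, h1, h2, h4, h5⟩ := types U hd h41 h3 hr
  rw [← Lo.smul_D_iff hG (inv hd) hdN]
  have h6 : h (d • v r) = J r := by rw [(inv hd).h_smul d (N_le_C hdN), h_v U hd hr]
  unfold Lo low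
  rw [h2, h5, h6, Bool.or_eq_true, Nat.blt_eq, Nat.blt_eq]
  constructor
  · rintro (⟨-, h7⟩ | ⟨-, h7⟩)
    · exact Or.inl h7
    · exact Or.inr h7
  · rintro (h7 | h7)
    · exact Or.inl ⟨h1, h7⟩
    · exact Or.inr ⟨h4, h7⟩

include U in
theorem flat_of (hG : Geom C Nn N τ ξ) (hd : Disj) (h41 : Conc.E 41 = τ⁻¹) (h3 : τ * τ * τ = 1) {r : ℕ} (hr : r < 251)
    (hf : Flat τ P h (v r)) : flat r = true := by
  obtain ⟨p, ⟨d, hdN, rfl⟩, h1, h2, h4, h5⟩ := types U hd h41 h3 hr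
  have hf' := Flat.smul_D hG (inv hd) hdN (P_v U hr) hf
  have h6 : h (d • v r) = J r := by rw [(inv hd).h_smul d (N_le_C hdN), h_v U hd hr]
  unfold Flat at hf'
  rw [h2, h5, h6] at hf'
  unfold flat
  rw [Bool.or_eq_true]
  rcases hf' with ⟨-, h7⟩ | ⟨-, h7⟩
  · exact Or.inl (by rw [h7]; exact Nat.beq_refl _)
  · exact Or.inr (by rw [h7]; exact Nat.beq_refl _)

/-! ### The groups `L j` -/

theorem gs_fix : ∀ j, j < 12 → ∀ w ∈ gs j, Conc.W w (b j) = b j := by
  intro j hj w hw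
  interval_cases j
  · rcases List.mem_cons.1 hw with rfl | hw
    · exact CertLj.fix0_0
    · rw [List.mem_singleton.1 hw]; exact CertLj.fix0_1
  · rcases List.mem_cons.1 hw with rfl | hw
    · exact CertLj.fix1_0
    rcases List.mem_cons.1 hw with rfl | hw
    · exact CertLj.fix1_1
    · rw [List.mem_singleton.1 hw]; exact CertLj.fix1_2
  · rcases List.mem_cons.1 hw with rfl | hw
    · exact CertLj.fix2_0
    · rw [List.mem_singleton.1 hw]; exact CertLj.fix2_1
  · rcases List.mem_cons.1 hw with rfl | hw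
    · exact CertLj.fix3_0
    rcases List.mem_cons.1 hw with rfl | hw
    · exact CertLj.fix3_1
    · rw [List.mem_singleton.1 hw]; exact CertLj.fix3_2
  · rcases List.mem_cons.1 hw with rfl | hw
    · exact CertLj.fix4_0
    rcases List.mem_cons.1 hw with rfl | hw
    · exact CertLj.fix4_1
    rcases List.mem_cons.1 hw with rfl | hw
    · exact CertLj.fix4_2
    · rw [List.mem_singleton.1 hw]; exact CertLj.fix4_3
  · rcases List.mem_cons.1 hw with rfl | hw
    · exact CertLj.fix5_0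
    · rw [List.mem_singleton.1 hw]; exact CertLj.fix5_1
  · rcases List.mem_cons.1 hw with rfl | hw
    · exact CertLj.fix6_0
    rcases List.mem_cons.1 hw with rfl | hw
    · exact CertLj.fix6_1
    · rw [List.mem_singleton.1 hw]; exact CertLj.fix6_2
  · rcases List.mem_cons.1 hw with rfl | hw
    · exact CertLj.fix7_0
    · rw [List.mem_singleton.1 hw]; exact CertLj.fix7_1
  · rcases List.mem_cons.1 hw with rfl | hw
    · exact CertLj.fix8_0
    · rw [List.mem_singleton.1 hw]; exact CertLj.fix8_1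
  · rcases List.mem_cons.1 hw with rfl | hw
    · exact CertLj.fix9_0
    rcases List.mem_cons.1 hw with rfl | hw
    · exact CertLj.fix9_1
    · rw [List.mem_singleton.1 hw]; exact CertLj.fix9_2
  · rcases List.mem_cons.1 hw with rfl | hw
    · exact CertLj.fix10_0
    · rw [List.mem_singleton.1 hw]; exact CertLj.fix10_1
  · rcases List.mem_cons.1 hw with rfl | hw
    · exact CertLj.fix11_0
    · rw [List.mem_singleton.1 hw]; exact CertLj.fix11_1

/-- One letter `ξ` at most. -/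
noncomputable def oneX (w : List ℕ) : Bool :=
  List.rec (motive := fun _ => Bool) true
    (fun a w ih => Bool.rec (and (isN a) ih) (allW isN w) (Nat.beq a 39)) w

theorem oneX_sound {w : List ℕ} (h : oneX w = true) :
    (∀ i ∈ w, isN i = true) ∨ ∃ w₁ w₂, w = w₁ ++ 39 :: w₂ ∧ (∀ i ∈ w₁, isN i = true) ∧ ∀ i ∈ w₂, isN i = true := by
  induction w with
  | nil => exact Or.inl (by simp)
  | cons a w ih =>
    have h' : (Bool.rec (and (isN a) (oneX w)) (allW isN w) (Nat.beq a 39) : Bool) = true := h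
    cases ha : Nat.beq a 39 with
    | true =>
      rw [ha] at h'
      refine Or.inr ⟨[], w, ?_, by simp, allW_sound h'⟩
      rw [Nat.eq_of_beq_eq_true ha]; rfl
    | false =>
      rw [ha] at h'
      have h2 : (isN a && oneX w) = true := h'
      rw [Bool.and_eq_true] at h2
      rcases ih h2.2 with h3 | ⟨w₁, w₂, rfl, h3, h4⟩
      · left
        intro i hi
        rcases List.mem_cons.1 hi with rfl | hi
        · exact h2.1
        · exact h3 i hi
      · right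
        refine ⟨a :: w₁, w₂, rfl, ?_, h4⟩
        intro i hi
        rcases List.mem_cons.1 hi with rfl | hi
        · exact h2.1
        · exact h3 i hi

/-- all words satisfy `p` -/
noncomputable def allG (p : List ℕ → Bool) (l : List (List ℕ)) : Bool :=
  List.rec (motive := fun _ => Bool) true (fun w _ ih => and (p w) ih) l

theorem allG_sound {p : List ℕ → Bool} {l : List (List ℕ)} (h : allG p l = true) : ∀ w ∈ l, p w = true := by
  induction l with
  | nil => simp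
  | cons a w ih =>
    have h1 : (p a && allG p w) = true := h
    rw [Bool.and_eq_true] at h1
    intro i hi
    rcases List.mem_cons.1 hi with rfl | hi
    · exact h1.1
    · exact ih h1.2 i hi

theorem gs_oneX : ∀ j, j < 12 → ∀ w ∈ gs j, oneX w = true := by
  intro j hj
  exact allG_sound (allB_sound (n := 12) (p := fun j => allG oneX (gs j)) (by decide +kernel) j hj)

theorem gs_okC : ∀ j, j < 12 → ∀ w ∈ gs j, w.all okC = true := by
  intro j hj w hw
  exact (okW_iff _).1 (allG_sound (allB_sound (n := 12) (p := fun j => allG okW (gs j)) (by decide +kernel) j hj) w hw)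

/-! ### The paths -/

/-- The path of `r`. -/
def Good (r : ℕ) : Prop := r < 251 ∧ (0 < J r → low r = true) ∧ (0 < J r →
  Relation.ReflTransGen (Step N ξ (Lo τ P h) (b (J r))) 1 (Conc.W (tw r))) ∧
  Dbl N (Lw (gs (J r))) (Conc.W (cw r)) (Conc.W (tw r))

include U in
theorem lo_dbl (hG : Geom C Nn N τ ξ) (hd : Disj) (h41 : Conc.E 41 = τ⁻¹) (h3 : τ * τ * τ = 1) {r : ℕ} (hr : r < 251)
    (hl : low r = true) {x : V ≃ₗ[ℚ] V} (hx : Dbl N (Lw (gs (J r))) (Conc.W (cw r)) x) :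
    Lo τ P h (x • b (J r)) := by
  obtain ⟨d, hdN, e⟩ := hx.smul (Lw_fix (gs_fix (J r) (J_lt r hr)))
  rw [e]
  exact Lo.smul_D hG (inv hd) hdN ((lo_iff U hG hd h41 h3 hr).2 hl)

include U in
theorem good_step (hG : Geom C Nn N τ ξ) (hd : Disj) (h41 : Conc.E 41 = τ⁻¹) (h3 : τ * τ * τ = 1)
    {x : ℕ × ℕ × List ℕ × List ℕ} {done : List ℕ} (hx : lowRow x done = true) (hdone : ∀ r ∈ done, Good r) :
    Good x.1 := by
  obtain ⟨r, p, n, H⟩ := x
  unfold lowRow at hx
  simp only [Bool.and_eq_true] at hx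
  obtain ⟨h1, h2, h4, h5, h6, h7, h8⟩ := hx
  have hr : r < 251 := by rwa [Nat.blt_eq] at h1
  have hp := hdone p (memB_sound h2)
  have hJ : J r = J p := Nat.eq_of_beq_eq_true h4
  have htw : tw r = tw p ++ (n ++ [39]) := eqL_sound h7
  have hdbl : Dbl N (Lw (gs (J r))) (Conc.W (cw r)) (Conc.W (tw r)) := dbl_of_rowH U _ h8
  refine ⟨hr, fun _ => h5, fun hpos => ?_, hdbl⟩
  obtain ⟨hp1, hp2, hp3, hp4⟩ := hp
  have hpos' : 0 < J p := by rw [← hJ]; exact hpos
  have hn : Conc.W n ∈ N := W_mem_N U (allW_sound h6)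
  have e : Conc.W (tw r) = ξ * (Conc.W n * Conc.W (tw p)) := by
    rw [htw, Conc.W_append, Conc.W_append, W_single, mul_assoc]; rfl
  rw [hJ] at hdbl ⊢
  have l1 : Lo τ P h (Conc.W (tw p) • b (J p)) := lo_dbl U hG hd h41 h3 hp1 (hp2 hpos') hp4
  have l2 : Lo τ P h ((Conc.W n * Conc.W (tw p)) • b (J p)) := by
    rw [mul_smul]
    exact Lo.smul_D hG (inv hd) hn l1
  have l3 : Lo τ P h (Conc.W (tw r) • b (J p)) := by
    have := lo_dbl U hG hd h41 h3 hr h5 (x := Conc.W (tw r)) (by rw [hJ]; exact hdbl)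
    rwa [hJ] at this
  have s1 : Step N ξ (Lo τ P h) (b (J p)) (Conc.W (tw p)) (Conc.W n * Conc.W (tw p)) :=
    ⟨l1, l2, Or.inl ⟨_, hn, rfl⟩⟩
  have s2 : Step N ξ (Lo τ P h) (b (J p)) (Conc.W n * Conc.W (tw p)) (Conc.W (tw r)) :=
    ⟨l2, l3, Or.inr e⟩
  exact ((hp3 hpos').tail s1).tail s2

include U in
theorem good_tab (hG : Geom C Nn N τ ξ) (hd : Disj) (h41 : Conc.E 41 = τ⁻¹) (h3 : τ * τ * τ = 1)
    {T : List (ℕ × ℕ × List ℕ × List ℕ)} {done : List ℕ} (hT : lowTab T done = true) (hdone : ∀ r ∈ done, Good r) :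
    ∀ r ∈ fsts T, Good r := by
  induction T generalizing done with
  | nil => intro r hr; exact absurd hr (by simp [fsts])
  | cons x T ih =>
    have h1 : (lowRow x done && lowTab T (x.1 :: done)) = true := hT
    rw [Bool.and_eq_true] at h1
    have h2 := good_step U hG hd h41 h3 h1.1 hdone
    intro r hr
    rcases List.mem_cons.1 (show r ∈ x.1 :: fsts T from hr) with rfl | hr
    · exact h2
    · refine ih h1.2 ?_ r hr
      intro s hs
      rcases List.mem_cons.1 hs with rfl | hs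
      · exact h2
      · exact hdone s hs

include U in
theorem good_base (hG : Geom C Nn N τ ξ) : ∀ r ∈ baseT, Good r := by
  have key : ∀ j, j < 12 → Good (bs j) := by
    intro j hj
    obtain ⟨h1, h2, h3, h4, h5⟩ := base_ok j hj
    refine ⟨h1, fun hpos => h5 (by rw [← h2]; exact hpos), fun _ => ?_, ?_⟩
    · rw [h4, Conc.W_nil]
    · rw [h3, h4]
      exact Dbl.refl _ _ _
  intro r hr
  have h6 : ∃ j, j < 12 ∧ r = bs j := by
    have h7 : baseT = [bs 0, bs 1, bs 2, bs 3, bs 4, bs 5, bs 6, bs 7, bs 8, bs 9, bs 10, bs 11] := rfl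
    rw [h7] at hr
    simp only [List.mem_cons, List.not_mem_nil, or_false] at hr
    rcases hr with h | h | h | h | h | h | h | h | h | h | h | h
    · exact ⟨0, by norm_num, h⟩
    · exact ⟨1, by norm_num, h⟩
    · exact ⟨2, by norm_num, h⟩
    · exact ⟨3, by norm_num, h⟩
    · exact ⟨4, by norm_num, h⟩
    · exact ⟨5, by norm_num, h⟩
    · exact ⟨6, by norm_num, h⟩
    · exact ⟨7, by norm_num, h⟩
    · exact ⟨8, by norm_num, h⟩
    · exact ⟨9, by norm_num, h⟩
    · exact ⟨10, by norm_num, h⟩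
    · exact ⟨11, by norm_num, h⟩
  obtain ⟨j, hj, rfl⟩ := h6
  exact key j hj

include U in
theorem good_low (hG : Geom C Nn N τ ξ) (hd : Disj) (h41 : Conc.E 41 = τ⁻¹) (h3 : τ * τ * τ = 1) :
    ∀ r, r < 251 → low r = true → Good r := by
  intro r hr hl
  have hb := good_base U hG
  rcases low_all r hr hl with h | h
  · exact good_tab U hG hd h41 h3 low_ok hb r h
  · exact hb r h

include U in
/-- The certificate for the class `j`. -/
theorem treeCert (hG : Geom C Nn N τ ξ) (hd : Disj) (hF : FCov) (h41 : Conc.E 41 = τ⁻¹) (h3 : τ * τ * τ = 1)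
    {j : ℕ} (hj : j < 12) (hpos : 0 < j) :
    TreeCert C N (Lw (gs j)) ξ (Lo τ P h) (b j) (fun r : {r : ℕ // r < 251 ∧ J r = j} => Conc.W (cw r.1))
      {g | ∃ w ∈ gs j, g = Conc.W w} where
  fix := Lw_fix (gs_fix j hj)
  factor := by
    intro x hx _
    obtain ⟨r, hr, hJ, d, hdN, l, hl, e⟩ := hF j hj x hx
    exact ⟨⟨r, hr, hJ⟩, l, hl, d, hdN, e⟩
  base := by
    obtain ⟨h1, h2, h4, _, h5⟩ := base_ok j hj
    have h6 := (lo_iff U hG hd h41 h3 h1).2 (h5 hpos)
    have e : v (bs j) = b j := by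
      unfold v
      rw [h4, Conc.W_nil, h2]
      rfl
    rwa [e] at h6
  tree := by
    rintro ⟨r, hr, hJ⟩ hlo
    have h1 : low r = true := by
      rw [← lo_iff U hG hd h41 h3 hr]
      unfold v
      rw [hJ]
      exact hlo
    obtain ⟨_, _, h4, h5⟩ := good_low U hG hd h41 h3 r hr h1
    rw [hJ] at h4 h5
    obtain ⟨d, hdN, l, hl, e⟩ := h5
    exact ⟨_, h4 hpos, d, hdN, l, hl, e⟩
  closure := rfl
  gens := by
    rintro _ ⟨w, hw, rfl⟩
    obtain ⟨h1, h2, h4, _, h5⟩ := base_ok j hj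
    have h6 := (lo_iff U hG hd h41 h3 h1).2 (h5 hpos)
    have e : v (bs j) = b j := by
      unfold v
      rw [h4, Conc.W_nil, h2]
      rfl
    rw [e] at h6
    rcases oneX_sound (gs_oneX j hj w hw) with h7 | ⟨w₁, w₂, rfl, h7, h8⟩
    · exact gen_D hG (inv hd) h6 (W_mem_N U h7)
    · refine gen_ξ hG (inv hd) h6 (W_mem_N U h8) (W_mem_N U h7) ?_ (gs_fix j hj _ hw)
      rw [Conc.W_append, Conc.W_cons]
      rfl

include U in
theorem flat_row (hG : Geom C Nn N τ ξ) (hd : Disj) (h41 : Conc.E 41 = τ⁻¹) (h3 : τ * τ * τ = 1)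
    {x : ℕ × ℕ × List ℕ × List ℕ} (hr : x.1 < 251) (hx : flatRow x = true) :
    ∃ d ∈ N, Lo τ P h (ξ • d • v x.1) := by
  obtain ⟨r, s, n, H⟩ := x
  unfold flatRow at hx
  simp only [Bool.and_eq_true] at hx
  obtain ⟨h1, h4, h5, h6, h8⟩ := hx
  have hs : s < 251 := by rwa [Nat.blt_eq] at h1
  have hJ : J r = J s := Nat.eq_of_beq_eq_true h4
  have hdbl := dbl_of_rowH U _ h8
  rw [hJ] at hdbl
  refine ⟨Conc.W n, W_mem_N U (allW_sound h6), ?_⟩
  have h7 := lo_dbl U hG hd h41 h3 hs h5 hdbl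
  have e : ξ • Conc.W n • v r = Conc.W (cw r ++ (n ++ [39])) • b (J s) := by
    rw [Conc.W_append, Conc.W_append, W_single, mul_smul, mul_smul, ← hJ]; rfl
  show Lo τ P h (ξ • Conc.W n • v r)
  rw [e]
  exact h7

include U in
theorem flat_tab (hG : Geom C Nn N τ ξ) (hd : Disj) (h41 : Conc.E 41 = τ⁻¹) (h3 : τ * τ * τ = 1)
    {T : List (ℕ × ℕ × List ℕ × List ℕ)} (hT : flatTab T = true) {r : ℕ} (hr : r < 251) (hmem : r ∈ fsts T) :
    ∃ d ∈ N, Lo τ P h (ξ • d • v r) := by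
  induction T with
  | nil => exact absurd hmem (by simp [fsts])
  | cons x T ih =>
    have h1 : (flatRow x && flatTab T) = true := hT
    rw [Bool.and_eq_true] at h1
    rcases List.mem_cons.1 (show r ∈ x.1 :: fsts T from hmem) with h2 | h2
    · subst h2
      exact flat_row U hG hd h41 h3 hr h1.1
    · exact ih h1.2 h2

include U in
/-- The representatives. -/
theorem reps (hG : Geom C Nn N τ ξ) (hd : Disj) (hF : FCov) (h41 : Conc.E 41 = τ⁻¹) (h3 : τ * τ * τ = 1) :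
    Reps C N τ ξ P h (fun j : Fin 12 => b j.1) (fun r : Fin 251 => v r.1) where
  cov := by
    rintro w ⟨j, hj, g, hg, rfl⟩
    exact ⟨⟨j, hj⟩, g, hg, rfl⟩
  covD := by
    rintro w ⟨j, hj, g, hg, rfl⟩ _ _
    obtain ⟨r, hr, hJ, hdbl⟩ := hF j hj g hg
    obtain ⟨d, hdN, e⟩ := hdbl.smul (Lw_fix (gs_fix j hj))
    refine ⟨⟨r, hr⟩, d, hdN, ?_⟩
    show g • b j = d • v r
    rw [e]
    unfold v
    rw [hJ]
    rfl
  base := by
    intro j hpos
    have h0 : h (b j.1) = j.1 := by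
      have := h_of hd j.2 C.one_mem
      exact this
    rw [h0] at hpos
    exact (treeCert U hG hd hF h41 h3 j.2 hpos).base
  conn := by
    intro j hpos x hx hlo
    have h0 : h (b j.1) = j.1 := by
      have := h_of hd j.2 C.one_mem
      exact this
    rw [h0] at hpos
    exact (treeCert U hG hd hF h41 h3 j.2 hpos).conn hG.ξ_sq
      (fun d hd' w => Lo.smul_D_iff hG (inv hd) hd') x hx hlo
  flat := by
    intro r hP hpos hf
    rw [h_v U hd r.2] at hpos
    rcases flat_all r.1 r.2 hpos (flat_of U hG hd h41 h3 r.2 hf) with h1 | h1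
    · exact Or.inl ((lo_iff U hG hd h41 h3 r.2).2 h1)
    · exact Or.inr (flat_tab U hG hd h41 h3 flat_ok r.2 h1)

include U in
/-- **The local hypotheses of level 1.** -/
theorem locHyp (hG : Geom C Nn N τ ξ) (hd : Disj) (hF : FCov) (h41 : Conc.E 41 = τ⁻¹) (h3 : τ * τ * τ = 1) :
    LocHyp C N τ ξ P h := (reps U hG hd hF h41 h3).locHyp hG (inv hd)

include U in
/-- The axes are closed under `τ` and `τ⁻¹`. -/
theorem P_tau (hG : Geom C Nn N τ ξ) (hd : Disj) (hF : FCov) (h41 : Conc.E 41 = τ⁻¹) (h3 : τ * τ * τ = 1) {w : V}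
    (hw : P w) : P (τ • w) ∧ P (τ⁻¹ • w) := by
  obtain ⟨j, hj, g, hg, rfl⟩ := hw
  obtain ⟨r, hr, hJ, hdbl⟩ := hF j hj g hg
  obtain ⟨d, hdN, e⟩ := hdbl.smul (Lw_fix (gs_fix j hj))
  obtain ⟨p, ⟨d', hdN', rfl⟩, h1, _, h4, _⟩ := types U hd h41 h3 hr
  have e1 : g (b j) = (d * d'⁻¹) • (d' • v r) := by
    rw [mul_smul, inv_smul_smul]
    show g • b j = d • v r
    rw [e]
    unfold v
    rw [hJ]
    rfl
  rw [e1]
  have hdd : d * d'⁻¹ ∈ N := N.mul_mem hdN (N.inv_mem hdN')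
  -- elements of `Nn`
  have key : ∀ n : V ≃ₗ[ℚ] V, n = τ ∨ n = τ⁻¹ → P (n • (d * d'⁻¹) • (d' • v r)) := by
    intro n hn
    have hnN : n * (d * d'⁻¹) ∈ Nn := Nn.mul_mem (hG.mem_N hn) (hG.D_N hdd)
    -- `n d = d₂ τ^ε`
    have hinv := hG.cases _ (Nn.inv_mem hnN)
    rw [← mul_smul]
    rcases hinv with h5 | ⟨d₂, hd₂, h5⟩ | ⟨d₂, hd₂, h5⟩
    · have h6 : n * (d * d'⁻¹) ∈ N := by simpa using N.inv_mem h5
      exact (inv hd).P_smul _ (N_le_C h6) _ ((inv hd).P_smul _ (N_le_C hdN') _ (P_v U hr))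
    · have h6 : n * (d * d'⁻¹) = d₂⁻¹ * τ⁻¹ := by
        rw [← inv_inv (n * (d * d'⁻¹)), h5, mul_inv_rev]
      rw [h6, mul_smul]
      exact (inv hd).P_smul _ (N_le_C (N.inv_mem hd₂)) _ h4
    · have h6 : n * (d * d'⁻¹) = d₂⁻¹ * τ := by
        rw [← inv_inv (n * (d * d'⁻¹)), h5, mul_inv_rev, inv_inv]
      rw [h6, mul_smul]
      exact (inv hd).P_smul _ (N_le_C (N.inv_mem hd₂)) _ h1
  exact ⟨key τ (Or.inl rfl), key τ⁻¹ (Or.inr rfl)⟩

end

end Cfsg.Agent.MonsterU.LevelOne
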