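import Cfsg.Agent.MonsterU.LineTab
import Cfsg.Agent.MonsterU.RowGlue

/-!
# Level 2 of (F): the local hypotheses for the pairs `(s, x)`, `s ∈ S`, `x ∈ X`, `F s x = 1`

`level` : from `Tab` (facts on the lines of axes), the coverage `hcov` of the pairs, the values `hF`, and the
factorisation `hfac` (`FactorTwo.factor`).
-/

set_option autoImplicit false
set_option maxRecDepth 100000

namespace Cfsg.Agent.MonsterU.LevelTwo

open Cfsg.Agent.MonsterX Cfsg.Agent.MonsterX.Space Cfsg.Agent.MonsterX.Conc Cfsg.Agent.MonsterX.Model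
open Cfsg.Agent.MonsterX.InstData Cfsg.Agent.MonsterX.CertVec Cfsg.Agent.MonsterX.CertTab
open Cfsg.Agent.MonsterX.CertV Cfsg.Agent.MonsterX.CertBase Cfsg.Agent.MonsterX.CertB
open Cfsg.Agent.MonsterU.Local Cfsg.Agent.MonsterU.Types Cfsg.Agent.MonsterU.LineTab
open Cfsg.Agent.MonsterU.VecTwo Cfsg.Agent.MonsterU.RowGlue Cfsg.Agent.MonsterP Cfsg.Agent.MonsterU.LevelsInst

/-! ### Words -/

theorem isD_spec {i : ℕ} (h : isD i = true) : i < 39 ∨ 42 ≤ i ∧ i < 46 := by
  unfold isD at h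
  rw [Bool.or_eq_true, Bool.and_eq_true, Nat.blt_eq] at h
  rcases h with h | ⟨h1, h2⟩
  · exact Or.inl h
  · have := Nat.le_of_ble_eq_true h1
    have := Nat.le_of_ble_eq_true h2
    right; omega

theorem allL_sound {p : ℕ → Bool} {w : List ℕ} (h : allL p w = true) : ∀ n ∈ w, p n = true := by
  induction w with
  | nil => simp
  | cons a w ih =>
    have h1 : and (p a) (allL p w) = true := h
    rw [Bool.and_eq_true] at h1
    intro i hi
    rcases List.mem_cons.1 hi with rfl | hi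
    · exact h1.1
    · exact ih h1.2 i hi

theorem W_mem_N' {w : List ℕ} (h : allL isD w = true) : W w ∈ N :=
  ProgM.Inv.W_mem_N fun n hn => isD_spec (allL_sound h n hn)

/-- The letters of `C`. -/
noncomputable def isCl (n : ℕ) : Bool := or (isD n) (Nat.beq n 39)

theorem W_mem_C' {w : List ℕ} (h : allL isCl w = true) : W w ∈ C := by
  apply ProgM.Inv.W_mem_C
  intro n hn
  have h1 := allL_sound h n hn
  unfold isCl at h1
  rw [Bool.or_eq_true] at h1
  rcases h1 with h2 | h2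
  · rcases isD_spec h2 with h3 | h3
    · exact Or.inl (by omega)
    · exact Or.inr h3
  · have := Nat.eq_of_beq_eq_true h2
    exact Or.inl (by omega)

/-- The word is monomial or of the form `a ξ b`, `a`, `b` monomial. -/
noncomputable def splitOK (w : List ℕ) : Bool :=
  or (allL isD w) (and (decide (w = w.takeWhile (· ≠ 39) ++ [39] ++ w.drop ((w.takeWhile (· ≠ 39)).length + 1)))
    (and (allL isD (w.takeWhile (· ≠ 39))) (allL isD (w.drop ((w.takeWhile (· ≠ 39)).length + 1)))))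

theorem splitOK_sound {w : List ℕ} (h : splitOK w = true) :
    W w ∈ N ∨ ∃ n₁ ∈ N, ∃ n₂ ∈ N, W w = n₁ * Conc.ξ * n₂ := by
  unfold splitOK at h
  rw [Bool.or_eq_true, Bool.and_eq_true, Bool.and_eq_true] at h
  rcases h with h | ⟨h1, h2, h3⟩
  · exact Or.inl (W_mem_N' h)
  · right
    rw [decide_eq_true_eq] at h1
    refine ⟨_, W_mem_N' h3, _, W_mem_N' h2, ?_⟩
    conv_lhs => rw [h1]
    rw [Conc.W_append, Conc.W_append, Conc.W_single, mul_assoc]
    rfl

/-- The path of a generator of the stabiliser. -/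
theorem gen_path {W' : Type*} [MulAction (V ≃ₗ[ℚ] V) W'] {P : W' → Prop} {h : W' → ℕ}
    {N' : Subgroup (V ≃ₗ[ℚ] V)} (hG : Geom C N' N τ Conc.ξ) (hi : Inv C P h) {b : W'} (hb : Lo τ P h b)
    {w : List ℕ} (hw : splitOK w = true) (hfix : W w • b = b) :
    Relation.ReflTransGen (Step N Conc.ξ (Lo τ P h) b) 1 (W w) := by
  rcases splitOK_sound hw with h1 | ⟨n₁, hn₁, n₂, hn₂, e⟩
  · exact gen_D hG hi hb h1
  · exact gen_ξ hG hi hb hn₁ hn₂ e hfix

/-! ### The predicate and the height -/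

/-- The height of a pair. -/
noncomputable def h₂ (w : V × V) : ℕ := hh w.2

theorem F_C {g : V ≃ₗ[ℚ] V} (hg : g ∈ C) (x y : V) : InstData.M.F (g x) (g y) = InstData.M.F x y :=
  M_C_isom g hg x y

variable {N' : Subgroup (V ≃ₗ[ℚ] V)} (T : Tab N')

include T

theorem inv₂ : Inv C (P₂ InstData.M) h₂ where
  P_smul := by
    rintro k hk ⟨s, x⟩ ⟨hs, hx, hF⟩
    exact ⟨S_smul hk hs, X_smul hk hx, (F_C hk s x).trans hF⟩
  h_smul := by
    rintro k hk ⟨s, x⟩
    exact hgt_smul T.disj hk x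

omit T in
theorem tau_ax : τ ax = ax := by
  have h : W [40] ax = ax := by
    have := vv_eq_of_ident (w₁ := [40]) (w₂ := []) (by decide +kernel)
    rw [vv_nil] at this
    exact this
  rw [Conc.W_single] at h
  exact h

omit T in
theorem tauInv_ax : τ⁻¹ ax = ax := by
  have h := congrArg (fun x => τ⁻¹ x) tau_ax
  have h2 : τ⁻¹ (τ ax) = ax := τ.symm_apply_apply ax
  exact h.symm.trans h2

omit T in
theorem F_tau (x y : V) : InstData.M.F (τ x) (τ y) = InstData.M.F x y := τ_isom x y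

omit T in
theorem F_tauInv (x y : V) : InstData.M.F (τ⁻¹ x) (τ⁻¹ y) = InstData.M.F x y := by
  rw [← F_tau (τ⁻¹ x) (τ⁻¹ y)]
  have e : ∀ x : V, τ (τ⁻¹ x) = x := fun x => τ.apply_symm_apply x
  rw [e, e]

omit T in
theorem ax_mem_S : ax ∈ InstData.M.S := by
  refine ⟨1, InstData.M.C.one_mem, ?_⟩
  show ax = InstData.M.a₀
  rw [M_a₀]
  have h : vecV CertBase.a0 = vecV (up 8 a0B) := vecV_congr (by decide +kernel)
  unfold ax
  rw [h, vecV_up, smul_smul]
  norm_num

theorem P_tau {y : V} (hy : y ∈ InstData.M.X) (hF : InstData.M.F ax y = 1) :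
    P₂ InstData.M (τ • ((ax, y) : V × V)) ∧ P₂ InstData.M (τ⁻¹ • ((ax, y) : V × V)) := by
  refine ⟨⟨?_, (T.tau y hy).1, ?_⟩, ?_, (T.tau y hy).2, ?_⟩
  · show τ ax ∈ InstData.M.S
    rw [tau_ax]
    exact ax_mem_S
  · exact (F_tau ax y).trans hF
  · show τ⁻¹ ax ∈ InstData.M.S
    rw [tauInv_ax]
    exact ax_mem_S
  · exact (F_tauInv ax y).trans hF

/-- Lowering lines of a pair `(a₀, y)`. -/
theorem lo_iff {y : V} (hy : y ∈ InstData.M.X) (hF : InstData.M.F ax y = 1) :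
    Lo τ (P₂ InstData.M) h₂ ((ax, y) : V × V) ↔ Lo τ (fun x => x ∈ InstData.M.X) hh y := by
  have h1 := P_tau T hy hF
  have h2 := T.tau y hy
  constructor
  · rintro (⟨_, h⟩ | ⟨_, h⟩)
    · exact Or.inl ⟨h2.1, h⟩
    · exact Or.inr ⟨h2.2, h⟩
  · rintro (⟨_, h⟩ | ⟨_, h⟩)
    · exact Or.inl ⟨h1.1, h⟩
    · exact Or.inr ⟨h1.2, h⟩

theorem flat_iff {y : V} (hy : y ∈ InstData.M.X) (hF : InstData.M.F ax y = 1) :
    Flat τ (P₂ InstData.M) h₂ ((ax, y) : V × V) ↔ Flat τ (fun x => x ∈ InstData.M.X) hh y := by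
  have h1 := P_tau T hy hF
  have h2 := T.tau y hy
  constructor
  · rintro (⟨_, h⟩ | ⟨_, h⟩)
    · exact Or.inl ⟨h2.1, h⟩
    · exact Or.inr ⟨h2.2, h⟩
  · rintro (⟨_, h⟩ | ⟨_, h⟩)
    · exact Or.inl ⟨h1.1, h⟩
    · exact Or.inr ⟨h1.2, h⟩

/-! ### The rows -/

omit T in
theorem rr_lt : ∀ m, m < 16 → rr m < 57 := by decide +kernel

omit T in
theorem rt_lt : ∀ m, m < 16 → rt m < 4 := by decide +kernel

/-- The second vector of the row `m`. -/
noncomputable def ym (m : ℕ) : V := W (rd m) (vv (vw (rr m)))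

omit T in
theorem ym_mem {m : ℕ} (hm : m < 16) : ym m ∈ MulAction.orbit N (vv (vw (rr m))) :=
  ⟨⟨_, W_mem_N' (monoN m hm).2⟩, rfl⟩

omit T in
theorem row_smul {m : ℕ} (hm : m < 16) : W (rk m) • ((ax, bt (rt m)) : V × V) = (ax, ym m) :=
  Prod.ext (k_fix hm) (k_bt hm)

/-- The values of `F`. -/
def Vals : Prop := ∀ t, t < 4 → InstData.M.F ax (bt t) = 1

omit T in
theorem rk_ok : ∀ m, m < 16 → allL isCl (rk m) = true := by decide +kernel

omit T in
theorem W_rk_mem {m : ℕ} (hm : m < 16) : W (rk m) ∈ C := W_mem_C' (rk_ok m hm)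

omit T in
theorem F_ym (hF : Vals) {m : ℕ} (hm : m < 16) : InstData.M.F ax (ym m) = 1 := by
  have h1 := F_C (W_rk_mem hm) ax (bt (rt m))
  rw [hF _ (rt_lt m hm)] at h1
  rw [← h1]
  unfold ym
  rw [← k_bt hm, k_fix hm]

theorem lo_row (hF : Vals) {m : ℕ} (hm : m < 16) :
    Lo τ (P₂ InstData.M) h₂ (W (rk m) • ((ax, bt (rt m)) : V × V)) ↔ lowB (rr m) = true := by
  rw [row_smul hm, lo_iff T (T.mem _ (rr_lt m hm) _ (ym_mem hm)) (F_ym hF hm)]
  exact T.lo _ (rr_lt m hm) _ (ym_mem hm)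

theorem flat_row (hF : Vals) {m : ℕ} (hm : m < 16) :
    Flat τ (P₂ InstData.M) h₂ (W (rk m) • ((ax, bt (rt m)) : V × V)) ↔ flatB (rr m) = true := by
  rw [row_smul hm, flat_iff T (T.mem _ (rr_lt m hm) _ (ym_mem hm)) (F_ym hF hm)]
  exact T.flat _ (rr_lt m hm) _ (ym_mem hm)

/-! ### Checks on the tables -/

/-- The check of the row `m`: if the line is lowering or flat and `m` is not a first row, the parent is lowering. -/
noncomputable def parOK (m : ℕ) : Bool :=
  or (and (not (lowB (rr m))) (not (flatB (rr m)))) (or (decide (m ∈ base)) (lowB (rr (rp m))))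

omit T in
theorem par_ok : ∀ m, m < 16 → parOK m = true := by decide +kernel

/-- The first rows are lowering, of positive height. -/
noncomputable def baseOK (t : ℕ) : Bool :=
  and (lowB (rr (first t))) (Nat.blt 0 (ty (rr (first t))).1)

omit T in
theorem base_ok : ∀ t, t < 4 → baseOK t = true := by decide +kernel

omit T in
theorem first_lt : ∀ t, t < 4 → first t < 16 := by decide +kernel

omit T in
theorem base_low : ∀ m, m < 16 → m ∈ base → lowB (rr m) = true ∧ rk m = [] := by decide +kernel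

omit T in
theorem gen_ok : ∀ i, i < 9 → splitOK (gg i) = true := by decide +kernel

omit T in
theorem par_lo {m : ℕ} (hm : m < 16) (hb : m ∉ base) (h : lowB (rr m) = true ∨ flatB (rr m) = true) :
    lowB (rr (rp m)) = true := by
  have h1 := par_ok m hm
  unfold parOK at h1
  rw [Bool.or_eq_true, Bool.or_eq_true, Bool.and_eq_true, Bool.not_eq_true', Bool.not_eq_true',
    decide_eq_true_eq] at h1
  rcases h1 with ⟨h2, h3⟩ | h2 | h2
  · rcases h with h | h
    · rw [h2] at h; exact absurd h (by simp)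
    · rw [h3] at h; exact absurd h (by simp)
  · exact absurd h2 hb
  · exact h2

/-! ### The classes -/

omit T in
theorem b_eq {t : ℕ} (ht : t < 4) : ((ax, bt t) : V × V) = (ax, ym (first t)) := by
  have h := row_smul (first_lt t ht)
  rw [base_k t ht, Conc.W_nil, one_smul, base_t t ht] at h
  exact h

theorem P_b (hF : Vals) {t : ℕ} (ht : t < 4) : P₂ InstData.M ((ax, bt t) : V × V) := by
  rw [b_eq ht]
  exact ⟨ax_mem_S, T.mem _ (rr_lt _ (first_lt t ht)) _ (ym_mem (first_lt t ht)), F_ym hF (first_lt t ht)⟩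

theorem pos_b {t : ℕ} (ht : t < 4) : 0 < h₂ ((ax, bt t) : V × V) := by
  rw [b_eq ht]
  show 0 < hh (ym (first t))
  rw [T.hgt _ (rr_lt _ (first_lt t ht)) _ (ym_mem (first_lt t ht))]
  have h := base_ok t ht
  unfold baseOK at h
  rw [Bool.and_eq_true, Nat.blt_eq] at h
  exact h.2

theorem lo_b (hF : Vals) {t : ℕ} (ht : t < 4) : Lo τ (P₂ InstData.M) h₂ ((ax, bt t) : V × V) := by
  have h := lo_row T hF (first_lt t ht)
  rw [base_k t ht, Conc.W_nil, one_smul, base_t t ht] at h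
  rw [h]
  have h := base_ok t ht
  unfold baseOK at h
  rw [Bool.and_eq_true] at h
  exact h.1

theorem tree (hF : Vals) : ∀ m, m < 16 → lowB (rr m) = true →
    Relation.ReflTransGen (Step N Conc.ξ (Lo τ (P₂ InstData.M) h₂) ((ax, bt (rt m)) : V × V)) 1 (W (rk m)) := by
  intro m
  induction m using Nat.strong_induction_on with
  | _ m ih =>
    intro hm hlo
    by_cases hb : m ∈ base
    · rw [(base_low m hm hb).2, Conc.W_nil]
    · obtain ⟨-, h2, h3⟩ := k_tree hm hb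
      have hp : rp m < 16 := by omega
      have hlp := par_lo hm hb (Or.inl hlo)
      have h4 := ih (rp m) h3 hp hlp
      have h5 := (lo_row T hF hp).2 hlp
      rw [h2] at h4 h5
      exact chain_step T.geo (inv₂ T) (W_mem_N' (monoN m hm).1) (W_k_tree hm hb) h4 h5
        ((lo_row T hF hm).2 hlo)

theorem flat (hF : Vals) {m : ℕ} (hm : m < 16) (h : flatB (rr m) = true) :
    Lo τ (P₂ InstData.M) h₂ (W (rk m) • ((ax, bt (rt m)) : V × V)) ∨
      ∃ d ∈ N, Lo τ (P₂ InstData.M) h₂ (Conc.ξ • d • W (rk m) • ((ax, bt (rt m)) : V × V)) := by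
  by_cases hb : m ∈ base
  · exact Or.inl ((lo_row T hF hm).2 (base_low m hm hb).1)
  · right
    obtain ⟨-, h2, h3⟩ := k_tree hm hb
    have hp : rp m < 16 := by omega
    refine ⟨1, N.one_mem, ?_⟩
    have h5 := (lo_row T hF hp).2 (par_lo hm hb (Or.inr h))
    rw [h2] at h5
    rw [one_smul, W_k_tree hm hb, ← mul_smul, ← mul_assoc, ← mul_assoc, T.geo.ξ_sq, one_mul, mul_smul]
    exact Lo.smul_D T.geo (inv₂ T) (W_mem_N' (monoN m hm).1) h5

/-- A pair on a lowering or flat line. -/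
theorem mem_T {w : V × V} (hw : P₂ InstData.M w)
    (h : P₂ InstData.M (τ • w) ∨ P₂ InstData.M (τ⁻¹ • w)) : w.1 ∈ TZero.T₀ := by
  apply T.two w.1 hw.1
  rcases h with h | h
  · exact Or.inl h.1
  · exact Or.inr h.1

/-- **The certificate of level 2.** -/
theorem cert (hF : Vals) (hcov : ∀ s ∈ InstData.M.S, ∀ x ∈ InstData.M.X, InstData.M.F s x = 1 → 0 < hh x →
      ∃ t, t < 4 ∧ ∃ k ∈ C, s = k ax ∧ x = k (bt t))
    {gs : ℕ → List (List ℕ)} (hgs : ∀ t, t < 4 → ∀ w ∈ gs t, ∃ i, i < 9 ∧ gt i = t ∧ w = gg i)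
    (hfac : ∀ t, t < 4 → ∀ x ∈ C, x ax ∈ TZero.T₀ → ∃ m, (m < 16 ∧ rt m = t) ∧ Dbl N (Lw (gs t)) (W (rk m)) x) :
    ClassCert C N τ Conc.ξ (P₂ InstData.M) h₂ (fun t : Fin 4 => ((ax, bt t.1) : V × V)) (fun w => w.1 ∈ TZero.T₀)
      (fun m : Fin 16 => (⟨rt m.1, rt_lt m.1 m.2⟩ : Fin 4)) (fun m => W (rk m.1)) (fun t => Lw (gs t.1))
      (fun t => {g | ∃ w ∈ gs t.1, g = W w}) where
  cov := by
    rintro ⟨s, x⟩ ⟨hs, hx, hsx⟩ hpos
    obtain ⟨t, ht, k, hk, rfl, rfl⟩ := hcov s hs x hx hsx hpos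
    exact ⟨⟨t, ht⟩, k, hk, rfl⟩
  mem_lo := by
    intro w hw _ h
    exact mem_T T hw (h.imp And.left And.left)
  mem_flat := by
    intro w hw _ h
    exact mem_T T hw (h.imp And.left And.left)
  P_b := fun t => P_b T hF t.2
  pos := fun t => pos_b T t.2
  base := fun t => lo_b T hF t.2
  fix := by
    intro t l hl
    refine Prod.ext ?_ ?_
    · refine Lw_fix (b := ax) (fun w hw => ?_) l hl
      obtain ⟨i, hi, _, rfl⟩ := hgs t.1 t.2 w hw
      exact (gen_fix hi).2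
    · refine Lw_fix (b := bt t.1) (fun w hw => ?_) l hl
      obtain ⟨i, hi, h1, rfl⟩ := hgs t.1 t.2 w hw
      rw [← h1]
      exact (gen_fix hi).1
  factor := by
    intro t x hx hA
    obtain ⟨m, ⟨hm, hmt⟩, d, hd, l, hl, e⟩ := hfac t.1 t.2 x hx hA
    exact ⟨⟨m, hm⟩, Fin.ext hmt, d, hd, l, hl, e⟩
  tree := fun m h => tree T hF m.1 m.2 ((lo_row T hF m.2).1 h)
  closure := fun t => rfl
  gens := by
    rintro t _ ⟨w, hw, rfl⟩
    obtain ⟨i, hi, h1, rfl⟩ := hgs t.1 t.2 w hw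
    refine gen_path T.geo (inv₂ T) (lo_b T hF t.2) (gen_ok i hi) (Prod.ext (gen_fix hi).2 ?_)
    have h2 := (gen_fix hi).1
    rw [h1] at h2
    exact h2
  flat := fun m h => flat T hF m.2 ((flat_row T hF m.2).1 h)

end Cfsg.Agent.MonsterU.LevelTwo
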