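import Cfsg.Agent.MonsterU.Glue

/-!
# The Morse argument in several levels (helper620)

The bottom of each level is the whole of the next one; the bottom of the last level is one point.
-/

set_option autoImplicit false

namespace Cfsg.Agent.MonsterU.Levels

open Cfsg.Agent.MonsterU.Morse Cfsg.Agent.MonsterU.Glue

variable {P P' : Type*} {A : P → P → Prop} {A' : P' → P' → Prop} {T : P → P → P → Prop} {π : P' → P}

/-- A sheet over one point. -/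
theorem sheet_point (hπ : Function.Surjective π) (hrefl : ∀ x', A' x' x') (x₀ : P) :
    ∃ s : P → P', Sheet A A' π {x₀} s := by
  classical
  obtain ⟨x', hx'⟩ := hπ x₀
  refine ⟨fun _ => x', ?_, ?_⟩
  · rintro x rfl
    exact hx'
  · rintro x rfl y rfl _
    exact hrefl x'

/-- One level: from the bottom to the whole of `E`. -/
theorem level (hc : Cover A A' T π) {E F : Set P} {ht : P → ℕ} (hm : MorseHyp A T E ht)
    (hb : ∃ N, ∀ x ∈ E, ht x ≤ N) (hF : ∀ x ∈ E, ht x = 0 → x ∈ F) (h : ∃ s : P → P', Sheet A A' π F s) :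
    ∃ s : P → P', Sheet A A' π E s := by
  obtain ⟨s, hs⟩ := h
  exact Sheet.extend hc hm hb (hs.mono fun x hx => hF x hx.1 hx.2)

/-- **Three levels.** -/
theorem sheet_univ (hc : Cover A A' T π) (hπ : Function.Surjective π) (hrefl : ∀ x', A' x' x')
    {E₁ E₂ E₃ : Set P} {h₁ h₂ h₃ : P → ℕ} {x₀ : P}
    (m₁ : MorseHyp A T E₁ h₁) (m₂ : MorseHyp A T E₂ h₂) (m₃ : MorseHyp A T E₃ h₃)
    (n₁ : ∃ N, ∀ x ∈ E₁, h₁ x ≤ N) (n₂ : ∃ N, ∀ x ∈ E₂, h₂ x ≤ N) (n₃ : ∃ N, ∀ x ∈ E₃, h₃ x ≤ N)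
    (b₀ : ∀ x, x ∈ E₁) (b₁ : ∀ x ∈ E₁, h₁ x = 0 → x ∈ E₂) (b₂ : ∀ x ∈ E₂, h₂ x = 0 → x ∈ E₃)
    (b₃ : ∀ x ∈ E₃, h₃ x = 0 → x = x₀) : ∃ s : P → P', Sheet A A' π Set.univ s := by
  have s₃ : ∃ s : P → P', Sheet A A' π E₃ s :=
    level hc m₃ n₃ (F := {x₀}) (fun x hx h => b₃ x hx h) (sheet_point hπ hrefl x₀)
  have s₂ : ∃ s : P → P', Sheet A A' π E₂ s := level hc m₂ n₂ b₂ s₃
  obtain ⟨s, hs⟩ := level hc m₁ n₁ b₁ s₂
  exact ⟨s, hs.mono fun x _ => b₀ x⟩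

/-- A function with finitely many values is bounded. -/
theorem bounded_of_finite_range {ht : P → ℕ} {E : Set P} {ι : Type*} [Finite ι] (f : P → ι) (g : ι → ℕ)
    (h : ∀ x ∈ E, ht x = g (f x)) : ∃ N, ∀ x ∈ E, ht x ≤ N := by
  obtain ⟨N, hN⟩ := (Set.finite_range g).bddAbove
  exact ⟨N, fun x hx => by rw [h x hx]; exact hN ⟨f x, rfl⟩⟩

section Group

variable {G H : Type*} [Group G] [Group H] {K N Q : Subgroup G} {α : K →* H} {β : N →* H} {γ : Q →* H}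

theorem proj_surjective : Function.Surjective (proj K α) := by
  intro x
  obtain ⟨g, rfl⟩ := QuotientGroup.mk_surjective x
  exact ⟨(((g, 1) : G × H) : (G × H) ⧸ gr K α), rfl⟩

theorem adj'_refl (x' : (G × H) ⧸ gr K α) : Adj' K N α β x' x' := by
  obtain ⟨g, rfl⟩ := QuotientGroup.mk_surjective x'
  exact ⟨g, 1, one_mem _, rfl, by rw [mul_one]⟩

/-- The homomorphism from the model, with the plane group. -/
theorem exists_hom_of_levels (ha : Amalgam K N Q α β γ) (hg : Geo K N Q)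
    (hgen : Subgroup.closure ((K : Set G) ∪ N) = ⊤)
    {E₁ E₂ E₃ : Set (G ⧸ K)} {h₁ h₂ h₃ : G ⧸ K → ℕ} {x₀ : G ⧸ K}
    (m₁ : MorseHyp (Adj K N) (Tri K Q) E₁ h₁) (m₂ : MorseHyp (Adj K N) (Tri K Q) E₂ h₂)
    (m₃ : MorseHyp (Adj K N) (Tri K Q) E₃ h₃)
    (n₁ : ∃ N, ∀ x ∈ E₁, h₁ x ≤ N) (n₂ : ∃ N, ∀ x ∈ E₂, h₂ x ≤ N) (n₃ : ∃ N, ∀ x ∈ E₃, h₃ x ≤ N)
    (b₀ : ∀ x, x ∈ E₁) (b₁ : ∀ x ∈ E₁, h₁ x = 0 → x ∈ E₂) (b₂ : ∀ x ∈ E₂, h₂ x = 0 → x ∈ E₃)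
    (b₃ : ∀ x ∈ E₃, h₃ x = 0 → x = x₀) :
    ∃ φ : G →* H, (∀ x (h : x ∈ K), φ x = α ⟨x, h⟩) ∧ (∀ x (h : x ∈ N), φ x = β ⟨x, h⟩) := by
  obtain ⟨s, hs⟩ := sheet_univ (cover ha hg) proj_surjective adj'_refl m₁ m₂ m₃ n₁ n₂ n₃ b₀ b₁ b₂ b₃
  exact exists_hom ha hg hgen hs

end Group

end Cfsg.Agent.MonsterU.Levels
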