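import Cfsg.Agent.MonsterU.Assembly
import Cfsg.Statements.S1673

set_option autoImplicit false
open Cfsg
namespace Cfsg.Agent.MonsterU.Lit1673
open Cfsg.Agent.MonsterU.Assembly Cfsg.Agent.MonsterX.Model Cfsg.Agent.MonsterX.MainPack

variable {W : Type} [AddCommGroup W] [Module ℚ W] {M : MData W} {K₀ : Type} [Group K₀]

/-- The literal of S1673 from the model. -/
theorem lit.{u} (A : All M K₀) (E : EmbSt.{u} M A.hG) (hM : Nonempty (M.G ≃* Cfsg.Spor.Monster))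
    {G : Type u} [Group G] [Finite G] [IsSimpleGroup G] (y : G) (hy : orderOf y = 2) (Q : Subgroup (Subgroup.centralizer ({y} : Set G))) [Q.Normal] (hQ : Cfsg.IsExtraspecial 2 Q) (hcard : Nat.card Q = 2 ^ 25) (hplus : ∃ E : Subgroup Q, Cfsg.IsElementaryAbelian 2 E ∧ Nat.card E = 2 ^ 13) (h2c : Subgroup.centralizer (Q : Set (Subgroup.centralizer ({y} : Set G))) ≤ Q) (hCo1 : Cfsg.Spor.IsoCo1 ((Subgroup.centralizer ({y} : Set G)) ⧸ Q)) : Cfsg.Spor.IsoM G :=
  s1673 A E hM ⟨y, hy, Q, inferInstance, hQ, hcard, hplus, h2c, hCo1⟩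

end Cfsg.Agent.MonsterU.Lit1673
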