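import Cfsg.Agent.MonsterU.Glue

/-!
# The Morse hypotheses of the point graph in local form

`G` acts on a set `W`; `K`, `N` are the stabilisers of a point and of a line of a flag, `D ≤ K ∩ N`;
`τ ∈ N` permutes the three points of the line, `ξ ∈ K`, `ξ ξ = 1`, moves the line to another line of the plane.

A point `g K` is identified with the value `g⁻¹ w₀ ∈ W` up to `K`.  `P` is a `K`-invariant predicate on `W` and
`h` a `K`-invariant function, so they define a set `Pts K P w₀` of points and a height function `ht K h w₀`.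

For `w ∈ W` the lines through the point are `x⁻¹ F₀`, `x ∈ K`, `F₀` the line of the flag; it is LOWERING if
`Lo (x w)`, i.e. if one of the points `τ (x w)`, `τ⁻¹ (x w)` satisfies `P` and is lower.  Neighbouring lines:
`x` and `d x` (`d ∈ D`: the same line), `x` and `ξ x` (two lines of a plane).

`LocHyp`: the local hypotheses; `morse`: they imply `Morse.MorseHyp` for every relation `T` with `TriHyp`
(two points of a line and two points of neighbouring lines form triangles with the common point).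
-/

set_option autoImplicit false

namespace Cfsg.Agent.MonsterU.Local

open Cfsg.Agent.MonsterU.Morse Cfsg.Agent.MonsterU.Glue

variable {G W : Type*} [Group G] [MulAction G W]

/-- The flag. -/
structure Geom (K N D : Subgroup G) (τ ξ : G) : Prop where
  D_K : D ≤ K
  D_N : D ≤ N
  τ_N : τ ∈ N
  ξ_K : ξ ∈ K
  ξ_sq : ξ * ξ = 1
  cases : ∀ n ∈ N, n ∈ D ∨ (∃ d ∈ D, n = τ * d) ∨ ∃ d ∈ D, n = τ⁻¹ * d

/-- The triangles. -/
structure TriHyp (K N : Subgroup G) (τ ξ : G) (T : G ⧸ K → G ⧸ K → G ⧸ K → Prop) : Prop where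
  swap : ∀ {x y w}, T x y w → T x w y
  line : ∀ g : G, ∀ n ∈ N, ∀ n' ∈ N, T (g : G ⧸ K) ((g * n : G) : G ⧸ K) ((g * n' : G) : G ⧸ K)
  plane : ∀ g n n' : G, (n = τ ∨ n = τ⁻¹) → (n' = τ ∨ n' = τ⁻¹) →
    T (g : G ⧸ K) ((g * n : G) : G ⧸ K) ((g * (ξ * n') : G) : G ⧸ K)

/-- Invariance under `K`. -/
structure Inv (K : Subgroup G) (P : W → Prop) (h : W → ℕ) : Prop where
  P_smul : ∀ k ∈ K, ∀ w, P w → P (k • w)
  h_smul : ∀ k ∈ K, ∀ w, h (k • w) = h w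

/-- The standard line is lowering. -/
def Lo (τ : G) (P : W → Prop) (h : W → ℕ) (w : W) : Prop :=
  (P (τ • w) ∧ h (τ • w) < h w) ∨ (P (τ⁻¹ • w) ∧ h (τ⁻¹ • w) < h w)

/-- One of the other points of the standard line satisfies `P` and has the same height. -/
def Flat (τ : G) (P : W → Prop) (h : W → ℕ) (w : W) : Prop :=
  (P (τ • w) ∧ h (τ • w) = h w) ∨ (P (τ⁻¹ • w) ∧ h (τ⁻¹ • w) = h w)

/-- Neighbouring lines, both lowering. -/
def Step (D : Subgroup G) (ξ : G) (L : W → Prop) (w : W) (x y : G) : Prop :=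
  L (x • w) ∧ L (y • w) ∧ ((∃ d ∈ D, y = d * x) ∨ y = ξ * x)

/-- The local hypotheses. -/
structure LocHyp (K D : Subgroup G) (τ ξ : G) (P : W → Prop) (h : W → ℕ) : Prop where
  m1 : ∀ w, P w → 0 < h w → ∃ k ∈ K, Lo τ P h (k • w)
  m2 : ∀ w, P w → 0 < h w → ∀ x ∈ K, ∀ y ∈ K, Lo τ P h (x • w) → Lo τ P h (y • w) →
    Relation.ReflTransGen (Step D ξ (Lo τ P h) w) x y
  m3 : ∀ w, P w → 0 < h w → Flat τ P h w → Lo τ P h w ∨ ∃ d ∈ D, Lo τ P h (ξ • d • w)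

/-- The set of points defined by `P`. -/
def Pts (K : Subgroup G) (P : W → Prop) (w₀ : W) : Set (G ⧸ K) :=
  {x | ∃ g : G, x = (g : G ⧸ K) ∧ P (g⁻¹ • w₀)}

/-- The height function defined by `h`. -/
noncomputable def ht (K : Subgroup G) (h : W → ℕ) (w₀ : W) (x : G ⧸ K) : ℕ :=
  h ((Quotient.out x)⁻¹ • w₀)

variable {K N D : Subgroup G} {τ ξ : G} {P : W → Prop} {h : W → ℕ} {w₀ : W}
  {T : G ⧸ K → G ⧸ K → G ⧸ K → Prop}

theorem Inv.P_iff (hi : Inv K P h) {k : G} (hk : k ∈ K) (w : W) : P (k • w) ↔ P w := by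
  refine ⟨fun h1 => ?_, hi.P_smul k hk w⟩
  have := hi.P_smul k⁻¹ (K.inv_mem hk) _ h1
  rwa [inv_smul_smul] at this

theorem ht_mk (hi : Inv K P h) (g : G) : ht K h w₀ (g : G ⧸ K) = h (g⁻¹ • w₀) := by
  unfold ht
  have h1 : (Quotient.out (g : G ⧸ K))⁻¹ * g ∈ K := by
    rw [← QuotientGroup.eq]
    exact QuotientGroup.out_eq' _
  have h2 := hi.h_smul _ h1 (g⁻¹ • w₀)
  rw [← h2, ← mul_smul]
  congr 2
  group

theorem mem_Pts (hi : Inv K P h) (g : G) : (g : G ⧸ K) ∈ Pts K P w₀ ↔ P (g⁻¹ • w₀) := by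
  constructor
  · rintro ⟨g', hg, hP⟩
    rw [QuotientGroup.eq] at hg
    have h1 := hi.P_smul _ hg _ hP
    rw [← mul_smul] at h1
    have e : g⁻¹ * g' * g'⁻¹ = g⁻¹ := by group
    rwa [e] at h1
  · intro hP
    exact ⟨g, rfl, hP⟩

/-- multiplication of `τ ^ ± 1` by elements of `D` -/
theorem Geom.mul_D (hG : Geom K N D τ ξ) {n d : G} (hn : n = τ ∨ n = τ⁻¹) (hd : d ∈ D) :
    d * n ∈ D ∨ (∃ d' ∈ D, d * n = τ * d') ∨ ∃ d' ∈ D, d * n = τ⁻¹ * d' := by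
  refine hG.cases _ (N.mul_mem (hG.D_N hd) ?_)
  rcases hn with rfl | rfl
  · exact hG.τ_N
  · exact N.inv_mem hG.τ_N

/-- `Lo` for the point of the line. -/
theorem lo_of {n : G} (hn : n = τ ∨ n = τ⁻¹) {w : W} (h1 : P (n⁻¹ • w)) (h2 : h (n⁻¹ • w) < h w) :
    Lo τ P h w := by
  rcases hn with rfl | rfl
  · exact Or.inr ⟨h1, h2⟩
  · rw [inv_inv] at h1 h2
    exact Or.inl ⟨h1, h2⟩

theorem exists_of_lo {w : W} (h1 : Lo τ P h w) : ∃ n : G, (n = τ ∨ n = τ⁻¹) ∧ P (n⁻¹ • w) ∧ h (n⁻¹ • w) < h w := by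
  rcases h1 with ⟨h1, h2⟩ | ⟨h1, h2⟩
  · exact ⟨τ⁻¹, Or.inr rfl, by rwa [inv_inv], by rwa [inv_inv]⟩
  · exact ⟨τ, Or.inl rfl, h1, h2⟩

/-- `Lo` is `D`-invariant. -/
theorem Lo.smul_D (hG : Geom K N D τ ξ) (hi : Inv K P h) {d : G} (hd : d ∈ D) {w : W} (h1 : Lo τ P h w) :
    Lo τ P h (d • w) := by
  obtain ⟨n, hn, h2, h3⟩ := exists_of_lo h1
  have hdK := hG.D_K hd
  rcases hG.mul_D hn hd with h4 | ⟨d', hd', h4⟩ | ⟨d', hd', h4⟩
  · exfalso
    have h5 : n ∈ K := by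
      have : n = d⁻¹ * (d * n) := by group
      rw [this]
      exact K.mul_mem (K.inv_mem hdK) (hG.D_K h4)
    rw [hi.h_smul _ (K.inv_mem h5)] at h3
    exact lt_irrefl _ h3
  · have h5 : τ⁻¹ • d • w = d' • n⁻¹ • w := by
      rw [← mul_smul, ← mul_smul]
      congr 1
      have : d' = τ⁻¹ * (d * n) := by rw [h4]; group
      rw [this]; group
    refine lo_of (Or.inl rfl) ?_ ?_
    · rw [h5]; exact hi.P_smul _ (hG.D_K hd') _ h2
    · rw [h5, hi.h_smul _ (hG.D_K hd'), hi.h_smul _ hdK]; exact h3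
  · have h5 : (τ⁻¹)⁻¹ • d • w = d' • n⁻¹ • w := by
      rw [← mul_smul, ← mul_smul]
      congr 1
      have : d' = (τ⁻¹)⁻¹ * (d * n) := by rw [h4]; group
      rw [this]; group
    refine lo_of (Or.inr rfl) ?_ ?_
    · rw [h5]; exact hi.P_smul _ (hG.D_K hd') _ h2
    · rw [h5, hi.h_smul _ (hG.D_K hd'), hi.h_smul _ hdK]; exact h3

theorem Lo.smul_D_iff (hG : Geom K N D τ ξ) (hi : Inv K P h) {d : G} (hd : d ∈ D) {w : W} :
    Lo τ P h (d • w) ↔ Lo τ P h w := by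
  refine ⟨fun h1 => ?_, Lo.smul_D hG hi hd⟩
  have := Lo.smul_D hG hi (D.inv_mem hd) h1
  rwa [inv_smul_smul] at this

/-- Adjacent points. -/
theorem Geom.adj_cases (hG : Geom K N D τ ξ) {x y : G ⧸ K} (hxy : Adj K N x y) :
    x = y ∨ ∃ g : G, ∃ n : G, (n = τ ∨ n = τ⁻¹) ∧ x = (g : G ⧸ K) ∧ y = ((g * n : G) : G ⧸ K) := by
  obtain ⟨g, n, hn, rfl, rfl⟩ := hxy
  rcases hG.cases n hn with h1 | ⟨d, hd, rfl⟩ | ⟨d, hd, rfl⟩
  · left
    rw [QuotientGroup.eq, inv_mul_cancel_left]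
    exact hG.D_K h1
  · right
    refine ⟨g, τ, Or.inl rfl, rfl, ?_⟩
    rw [QuotientGroup.eq]
    have : (g * (τ * d))⁻¹ * (g * τ) = d⁻¹ := by group
    rw [this]
    exact K.inv_mem (hG.D_K hd)
  · right
    refine ⟨g, τ⁻¹, Or.inr rfl, rfl, ?_⟩
    rw [QuotientGroup.eq]
    have : (g * (τ⁻¹ * d))⁻¹ * (g * τ⁻¹) = d⁻¹ := by group
    rw [this]
    exact K.inv_mem (hG.D_K hd)

theorem Geom.mem_N (hG : Geom K N D τ ξ) {n : G} (hn : n = τ ∨ n = τ⁻¹) : n ∈ N := by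
  rcases hn with rfl | rfl
  · exact hG.τ_N
  · exact N.inv_mem hG.τ_N

theorem Geom.ξ_inv (hG : Geom K N D τ ξ) : ξ⁻¹ = ξ := inv_eq_of_mul_eq_one_left hG.ξ_sq

theorem mk_mul_K {g k : G} (hk : k ∈ K) : ((g * k : G) : G ⧸ K) = (g : G ⧸ K) := by
  rw [eq_comm, QuotientGroup.eq, inv_mul_cancel_left]
  exact hk

/-- The triangles in planes. -/
theorem triHyp_of_plane {Q : Subgroup G} (hG : Geom K N D τ ξ) (hτ : τ ∈ Q) (hξ : ξ ∈ Q) :
    TriHyp K N τ ξ (Tri K Q) := by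
  have key : ∀ n ∈ N, ∃ p ∈ Q, ∀ g : G, ((g * n : G) : G ⧸ K) = ((g * p : G) : G ⧸ K) := by
    intro n hn
    rcases hG.cases n hn with h1 | ⟨d, hd, rfl⟩ | ⟨d, hd, rfl⟩
    · exact ⟨1, Q.one_mem, fun g => by rw [mul_one]; exact mk_mul_K (hG.D_K h1)⟩
    · exact ⟨τ, hτ, fun g => by rw [← mul_assoc]; exact mk_mul_K (hG.D_K hd)⟩
    · exact ⟨τ⁻¹, Q.inv_mem hτ, fun g => by rw [← mul_assoc]; exact mk_mul_K (hG.D_K hd)⟩
  refine ⟨?_, ?_, ?_⟩
  · rintro x y w ⟨g, p, hp, q, hq, r, hr, h1, h2, h3⟩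
    exact ⟨g, p, hp, r, hr, q, hq, h1, h3, h2⟩
  · intro g n hn n' hn'
    obtain ⟨p, hp, h1⟩ := key n hn
    obtain ⟨p', hp', h2⟩ := key n' hn'
    exact ⟨g, 1, Q.one_mem, p, hp, p', hp', by rw [mul_one], h1 g, h2 g⟩
  · intro g n n' hn hn'
    obtain ⟨p, hp, h1⟩ := key n (hG.mem_N hn)
    obtain ⟨p', hp', h2⟩ := key n' (hG.mem_N hn')
    refine ⟨g, 1, Q.one_mem, p, hp, ξ * p', Q.mul_mem hξ hp', by rw [mul_one], h1 g, ?_⟩
    rw [← mul_assoc, ← mul_assoc]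
    exact h2 (g * ξ)

/-- The point `g x⁻¹ n K`. -/
theorem mem_Low (hG : Geom K N D τ ξ) (hi : Inv K P h) (g : G) {x n : G} (hx : x ∈ K) (hn : n = τ ∨ n = τ⁻¹) :
    ((g * x⁻¹ * n : G) : G ⧸ K) ∈ Low (Adj K N) (Pts K P w₀) (ht K h w₀) (g : G ⧸ K) ↔
      P (n⁻¹ • x • g⁻¹ • w₀) ∧ h (n⁻¹ • x • g⁻¹ • w₀) < h (x • g⁻¹ • w₀) := by
  have e : (g * x⁻¹ * n)⁻¹ • w₀ = n⁻¹ • x • g⁻¹ • w₀ := by
    rw [← mul_smul, ← mul_smul]
    congr 1
    group
  constructor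
  · rintro ⟨h1, -, h3⟩
    rw [mem_Pts hi, e] at h1
    rw [ht_mk hi, ht_mk hi, e] at h3
    exact ⟨h1, by rw [hi.h_smul x hx]; exact h3⟩
  · rintro ⟨h1, h2⟩
    rw [hi.h_smul x hx] at h2
    refine ⟨?_, ?_, ?_⟩
    · rw [mem_Pts hi, e]; exact h1
    · exact ⟨g * x⁻¹, n, hG.mem_N hn, (mk_mul_K (K.inv_mem hx)).symm, rfl⟩
    · rw [ht_mk hi, ht_mk hi, e]; exact h2

/-- Every lower neighbour of `g K` is of the form `g x⁻¹ n K`. -/
theorem exists_of_Low (hG : Geom K N D τ ξ) (hi : Inv K P h) (g : G) {q : G ⧸ K}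
    (hq : q ∈ Low (Adj K N) (Pts K P w₀) (ht K h w₀) (g : G ⧸ K)) :
    ∃ x ∈ K, ∃ n : G, (n = τ ∨ n = τ⁻¹) ∧ q = ((g * x⁻¹ * n : G) : G ⧸ K) ∧ Lo τ P h (x • g⁻¹ • w₀) := by
  rcases hG.adj_cases hq.2.1 with h1 | ⟨g', n, hn, h1, h2⟩
  · exfalso
    have := hq.2.2
    rw [← h1] at this
    exact lt_irrefl _ this
  · rw [QuotientGroup.eq] at h1
    have e : q = ((g * ((g⁻¹ * g')⁻¹)⁻¹ * n : G) : G ⧸ K) := by
      rw [h2]
      congr 1
      group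
    have hx : (g⁻¹ * g')⁻¹ ∈ K := K.inv_mem h1
    refine ⟨(g⁻¹ * g')⁻¹, hx, n, hn, e, ?_⟩
    rw [e, mem_Low hG hi g hx hn] at hq
    exact lo_of hn hq.1 hq.2

theorem exists_Low_of_lo (hG : Geom K N D τ ξ) (hi : Inv K P h) (g : G) {x : G} (hx : x ∈ K)
    (h1 : Lo τ P h (x • g⁻¹ • w₀)) :
    ∃ n : G, (n = τ ∨ n = τ⁻¹) ∧
      ((g * x⁻¹ * n : G) : G ⧸ K) ∈ Low (Adj K N) (Pts K P w₀) (ht K h w₀) (g : G ⧸ K) := by
  obtain ⟨n, hn, h2, h3⟩ := exists_of_lo h1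
  exact ⟨n, hn, (mem_Low hG hi g hx hn).2 ⟨h2, h3⟩⟩

/-- Two lower points of the same line are linked. -/
theorem link_line (hG : Geom K N D τ ξ) (hT : TriHyp K N τ ξ T) (g : G) {x n n' : G} (hx : x ∈ K)
    (hn : n = τ ∨ n = τ⁻¹) (hn' : n' = τ ∨ n' = τ⁻¹)
    (h1 : ((g * x⁻¹ * n : G) : G ⧸ K) ∈ Low (Adj K N) (Pts K P w₀) (ht K h w₀) (g : G ⧸ K))
    (h2 : ((g * x⁻¹ * n' : G) : G ⧸ K) ∈ Low (Adj K N) (Pts K P w₀) (ht K h w₀) (g : G ⧸ K)) :
    Link (Adj K N) T (Pts K P w₀) (ht K h w₀) (g : G ⧸ K)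
      ((g * x⁻¹ * n : G) : G ⧸ K) ((g * x⁻¹ * n' : G) : G ⧸ K) := by
  refine ⟨h1, h2, ?_⟩
  have h3 := hT.line (g * x⁻¹) n (hG.mem_N hn) n' (hG.mem_N hn')
  rwa [mk_mul_K (K.inv_mem hx)] at h3

/-- Lower points of neighbouring lines are linked. -/
theorem link_step (hG : Geom K N D τ ξ) (hT : TriHyp K N τ ξ T) (g : G) {x y n n' : G} (hx : x ∈ K)
    (hn : n = τ ∨ n = τ⁻¹) (hn' : n' = τ ∨ n' = τ⁻¹)
    (h1 : ((g * x⁻¹ * n : G) : G ⧸ K) ∈ Low (Adj K N) (Pts K P w₀) (ht K h w₀) (g : G ⧸ K))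
    (h2 : ((g * y⁻¹ * n' : G) : G ⧸ K) ∈ Low (Adj K N) (Pts K P w₀) (ht K h w₀) (g : G ⧸ K))
    (hs : (∃ d ∈ D, y = d * x) ∨ y = ξ * x) :
    Link (Adj K N) T (Pts K P w₀) (ht K h w₀) (g : G ⧸ K)
      ((g * x⁻¹ * n : G) : G ⧸ K) ((g * y⁻¹ * n' : G) : G ⧸ K) := by
  rcases hs with ⟨d, hd, rfl⟩ | rfl
  · rcases hG.mul_D hn' (D.inv_mem hd) with h3 | ⟨d', hd', h3⟩ | ⟨d', hd', h3⟩
    · exfalso
      have h4 : ((g * (d * x)⁻¹ * n' : G) : G ⧸ K) = (g : G ⧸ K) := by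
        have e : g * (d * x)⁻¹ * n' = g * (x⁻¹ * (d⁻¹ * n')) := by group
        rw [e]
        exact mk_mul_K (K.mul_mem (K.inv_mem hx) (hG.D_K h3))
      rw [h4] at h2
      exact lt_irrefl _ h2.2.2
    · have h4 : ((g * (d * x)⁻¹ * n' : G) : G ⧸ K) = ((g * x⁻¹ * τ : G) : G ⧸ K) := by
        have e : g * (d * x)⁻¹ * n' = g * x⁻¹ * τ * d' := by
          have : g * (d * x)⁻¹ * n' = g * x⁻¹ * (d⁻¹ * n') := by group
          rw [this, h3]; group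
        rw [e]
        exact mk_mul_K (hG.D_K hd')
      rw [h4] at h2 ⊢
      exact link_line hG hT g hx hn (Or.inl rfl) h1 h2
    · have h4 : ((g * (d * x)⁻¹ * n' : G) : G ⧸ K) = ((g * x⁻¹ * τ⁻¹ : G) : G ⧸ K) := by
        have e : g * (d * x)⁻¹ * n' = g * x⁻¹ * τ⁻¹ * d' := by
          have : g * (d * x)⁻¹ * n' = g * x⁻¹ * (d⁻¹ * n') := by group
          rw [this, h3]; group
        rw [e]
        exact mk_mul_K (hG.D_K hd')
      rw [h4] at h2 ⊢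
      exact link_line hG hT g hx hn (Or.inr rfl) h1 h2
  · refine ⟨h1, h2, ?_⟩
    have h3 := hT.plane (g * x⁻¹) n n' hn hn'
    rw [mk_mul_K (K.inv_mem hx)] at h3
    have e : g * x⁻¹ * (ξ * n') = g * (ξ * x)⁻¹ * n' := by
      rw [mul_inv_rev, hG.ξ_inv]; group
    rwa [e] at h3

/-- **The Morse hypotheses from the local hypotheses.** -/
theorem morse (hG : Geom K N D τ ξ) (hT : TriHyp K N τ ξ T) (hi : Inv K P h) (hl : LocHyp K D τ ξ P h) (w₀ : W) :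
    MorseHyp (Adj K N) T (Pts K P w₀) (ht K h w₀) where
  m1 := by
    intro x hx hpos
    obtain ⟨g, rfl⟩ := QuotientGroup.mk_surjective x
    rw [mem_Pts hi] at hx
    rw [ht_mk hi] at hpos
    obtain ⟨k, hk, h1⟩ := hl.m1 _ hx hpos
    obtain ⟨n, hn, h2⟩ := exists_Low_of_lo hG hi g hk h1
    exact ⟨_, h2⟩
  m2 := by
    intro x hx hpos q hq q' hq'
    obtain ⟨g, rfl⟩ := QuotientGroup.mk_surjective x
    rw [mem_Pts hi] at hx
    rw [ht_mk hi] at hpos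
    obtain ⟨x, hxK, n, hn, rfl, hlo⟩ := exists_of_Low hG hi g hq
    obtain ⟨y, hyK, n', hn', rfl, hlo'⟩ := exists_of_Low hG hi g hq'
    have hch := hl.m2 _ hx hpos x hxK y hyK hlo hlo'
    clear hlo'
    -- all elements of the chain are in `K`
    have key : ∀ y, Relation.ReflTransGen (Step D ξ (Lo τ P h) (g⁻¹ • w₀)) x y → y ∈ K ∧
        ∀ n', (n' = τ ∨ n' = τ⁻¹) →
          ((g * y⁻¹ * n' : G) : G ⧸ K) ∈ Low (Adj K N) (Pts K P w₀) (ht K h w₀) (g : G ⧸ K) →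
          Relation.ReflTransGen (Link (Adj K N) T (Pts K P w₀) (ht K h w₀) (g : G ⧸ K))
            ((g * x⁻¹ * n : G) : G ⧸ K) ((g * y⁻¹ * n' : G) : G ⧸ K) := by
      intro y hy
      induction hy with
      | refl =>
        refine ⟨hxK, fun n' hn' hq' => ?_⟩
        exact Relation.ReflTransGen.single (link_line hG hT g hxK hn hn' hq hq')
      | @tail b c _ hbc ih =>
        obtain ⟨hb, hbq⟩ := ih
        obtain ⟨h1, h2, h3⟩ := hbc
        have hc : c ∈ K := by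
          rcases h3 with ⟨d, hd, rfl⟩ | rfl
          · exact K.mul_mem (hG.D_K hd) hb
          · exact K.mul_mem hG.ξ_K hb
        refine ⟨hc, fun n' hn' hq' => ?_⟩
        obtain ⟨n₁, hn₁, h4⟩ := exists_Low_of_lo hG hi g hb h1
        exact (hbq n₁ hn₁ h4).tail (link_step hG hT g hb hn₁ hn' h4 hq' h3)
    exact (key y hch).2 n' hn' hq'
  m3 := by
    intro x hx y hy hxy heq hpos
    rcases hG.adj_cases hxy with rfl | ⟨g, n, hn, rfl, rfl⟩
    · -- a lower neighbour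
      obtain ⟨g, rfl⟩ := QuotientGroup.mk_surjective x
      rw [mem_Pts hi] at hx
      rw [ht_mk hi] at hpos
      obtain ⟨k, hk, h1⟩ := hl.m1 _ hx hpos
      obtain ⟨n, hn, h2⟩ := exists_Low_of_lo hG hi g hk h1
      refine ⟨_, h2, ?_⟩
      have h3 := hT.line (g * k⁻¹) 1 N.one_mem n (hG.mem_N hn)
      rwa [mul_one, mk_mul_K (K.inv_mem hk)] at h3
    · rw [mem_Pts hi] at hx hy
      rw [ht_mk hi] at hpos
      rw [ht_mk hi, ht_mk hi] at heq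
      have e : (g * n)⁻¹ • w₀ = n⁻¹ • g⁻¹ • w₀ := by rw [← mul_smul]; congr 1; group
      rw [e] at heq hy
      have hflat : Flat τ P h (g⁻¹ • w₀) := by
        rcases hn with rfl | rfl
        · exact Or.inr ⟨hy, heq.symm⟩
        · rw [inv_inv] at hy heq
          exact Or.inl ⟨hy, heq.symm⟩
      rcases hl.m3 _ hx hpos hflat with h1 | ⟨d, hd, h1⟩
      · have h1' : Lo τ P h ((1 : G) • g⁻¹ • w₀) := by rwa [one_smul]
        obtain ⟨n', hn', h2⟩ := exists_Low_of_lo hG hi g K.one_mem h1'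
        have e2 : g * (1 : G)⁻¹ * n' = g * n' := by group
        rw [e2] at h2
        exact ⟨_, h2, hT.line g n (hG.mem_N hn) n' (hG.mem_N hn')⟩
      · have hk : ξ * d ∈ K := K.mul_mem hG.ξ_K (hG.D_K hd)
        rw [← mul_smul] at h1
        obtain ⟨n', hn', h2⟩ := exists_Low_of_lo hG hi g hk h1
        refine ⟨_, h2, ?_⟩
        have e4 : g * (ξ * d)⁻¹ * n' = g * d⁻¹ * (ξ * n') := by
          rw [mul_inv_rev, hG.ξ_inv]; group
        rw [e4]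
        have hx' : ((g * d⁻¹ : G) : G ⧸ K) = (g : G ⧸ K) := mk_mul_K (K.inv_mem (hG.D_K hd))
        rcases hG.mul_D hn hd with h3 | ⟨d', hd', h3⟩ | ⟨d', hd', h3⟩
        · -- `g n K = g K`
          have e3 : ((g * n : G) : G ⧸ K) = (g : G ⧸ K) := by
            have : g * n = g * (d⁻¹ * (d * n)) := by group
            rw [this]
            exact mk_mul_K (K.mul_mem (K.inv_mem (hG.D_K hd)) (hG.D_K h3))
          rw [e3]
          have h5 := hT.line (g * d⁻¹ * ξ) 1 N.one_mem n' (hG.mem_N hn')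
          rw [mul_one, mk_mul_K hG.ξ_K, hx', mul_assoc (g * d⁻¹)] at h5
          exact h5
        · have e3 : ((g * n : G) : G ⧸ K) = ((g * d⁻¹ * τ : G) : G ⧸ K) := by
            have : g * n = g * d⁻¹ * τ * d' := by
              have : g * n = g * d⁻¹ * (d * n) := by group
              rw [this, h3]; group
            rw [this]
            exact mk_mul_K (hG.D_K hd')
          rw [e3]
          have h5 := hT.plane (g * d⁻¹) τ n' (Or.inl rfl) hn'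
          rwa [hx'] at h5
        · have e3 : ((g * n : G) : G ⧸ K) = ((g * d⁻¹ * τ⁻¹ : G) : G ⧸ K) := by
            have : g * n = g * d⁻¹ * τ⁻¹ * d' := by
              have : g * n = g * d⁻¹ * (d * n) := by group
              rw [this, h3]; group
            rw [this]
            exact mk_mul_K (hG.D_K hd')
          rw [e3]
          have h5 := hT.plane (g * d⁻¹) τ⁻¹ n' (Or.inr rfl) hn'
          rwa [hx'] at h5

end Cfsg.Agent.MonsterU.Local
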