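import Cfsg.Agent.MonsterU.Local
import Cfsg.Agent.MonsterX.CertOrb

/-!
# The local hypotheses from representatives

* `Reps`: `b j` represent the `K`-orbits, `v r` the `D`-orbits of the elements with `P`; `locHyp`: the local
  hypotheses from facts about the representatives;
* `TreeCert`, `TreeCert.conn`: connectivity of the lowering lines of one vector `b` from a tree on the
  `D`-orbits and paths for generators of a subgroup of the stabiliser of `b`;
* `geom_of_tauData`: the geometry from `TauData`.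
-/

set_option autoImplicit false

namespace Cfsg.Agent.MonsterU.Local

open Cfsg.Agent.MonsterX.CertOrb

variable {G W : Type*} [Group G] [MulAction G W]
  {K N D : Subgroup G} {τ ξ : G} {P : W → Prop} {h : W → ℕ}

/-! ### Steps -/

theorem Step.symm {L : W → Prop} {w : W} {x y : G} (hξ : ξ * ξ = 1) (h1 : Step D ξ L w x y) :
    Step D ξ L w y x := by
  obtain ⟨h2, h3, h4⟩ := h1
  refine ⟨h3, h2, ?_⟩
  rcases h4 with ⟨d, hd, rfl⟩ | rfl
  · exact Or.inl ⟨d⁻¹, D.inv_mem hd, by group⟩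
  · right
    rw [← mul_assoc, hξ, one_mul]

theorem Step.chain_symm {L : W → Prop} {w : W} {x y : G} (hξ : ξ * ξ = 1)
    (h1 : Relation.ReflTransGen (Step D ξ L w) x y) : Relation.ReflTransGen (Step D ξ L w) y x := by
  induction h1 with
  | refl => exact Relation.ReflTransGen.refl
  | tail _ h2 ih => exact (Relation.ReflTransGen.single (h2.symm hξ)).trans ih

/-- Translation from the right. -/
theorem Step.mul_right {L : W → Prop} {w w' : W} {x y : G} (k : G) (hk : k • w' = w) (h1 : Step D ξ L w x y) :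
    Step D ξ L w' (x * k) (y * k) := by
  obtain ⟨h2, h3, h4⟩ := h1
  refine ⟨by rw [mul_smul, hk]; exact h2, by rw [mul_smul, hk]; exact h3, ?_⟩
  rcases h4 with ⟨d, hd, rfl⟩ | rfl
  · exact Or.inl ⟨d, hd, by rw [mul_assoc]⟩
  · exact Or.inr (by rw [mul_assoc])

theorem Step.chain_mul_right {L : W → Prop} {w w' : W} {x y : G} (k : G) (hk : k • w' = w)
    (h1 : Relation.ReflTransGen (Step D ξ L w) x y) :
    Relation.ReflTransGen (Step D ξ L w') (x * k) (y * k) := by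
  induction h1 with
  | refl => exact Relation.ReflTransGen.refl
  | tail _ h2 ih => exact ih.tail (h2.mul_right k hk)

/-! ### Flat lines -/

theorem flat_of {n : G} (hn : n = τ ∨ n = τ⁻¹) {w : W} (h1 : P (n⁻¹ • w)) (h2 : h (n⁻¹ • w) = h w) :
    Flat τ P h w := by
  rcases hn with rfl | rfl
  · exact Or.inr ⟨h1, h2⟩
  · rw [inv_inv] at h1 h2
    exact Or.inl ⟨h1, h2⟩

theorem exists_of_flat {w : W} (h1 : Flat τ P h w) :
    ∃ n : G, (n = τ ∨ n = τ⁻¹) ∧ P (n⁻¹ • w) ∧ h (n⁻¹ • w) = h w := by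
  rcases h1 with ⟨h1, h2⟩ | ⟨h1, h2⟩
  · exact ⟨τ⁻¹, Or.inr rfl, by rwa [inv_inv], by rwa [inv_inv]⟩
  · exact ⟨τ, Or.inl rfl, h1, h2⟩

theorem Flat.smul_D (hG : Geom K N D τ ξ) (hi : Inv K P h) {d : G} (hd : d ∈ D) {w : W} (h0 : P w)
    (h1 : Flat τ P h w) : Flat τ P h (d • w) := by
  obtain ⟨n, hn, h2, h3⟩ := exists_of_flat h1
  have hdK := hG.D_K hd
  rcases hG.mul_D hn hd with h4 | ⟨d', hd', h4⟩ | ⟨d', hd', h4⟩
  · have h5 : n ∈ K := by
      have : n = d⁻¹ * (d * n) := by group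
      rw [this]
      exact K.mul_mem (K.inv_mem hdK) (hG.D_K h4)
    refine flat_of hn ?_ ?_
    · exact hi.P_smul _ (K.inv_mem h5) _ (hi.P_smul _ hdK _ h0)
    · rw [hi.h_smul _ (K.inv_mem h5)]
  · have h5 : τ⁻¹ • d • w = d' • n⁻¹ • w := by
      rw [← mul_smul, ← mul_smul]
      congr 1
      have : d' = τ⁻¹ * (d * n) := by rw [h4]; group
      rw [this]; group
    refine flat_of (Or.inl rfl) ?_ ?_
    · rw [h5]; exact hi.P_smul _ (hG.D_K hd') _ h2
    · rw [h5, hi.h_smul _ (hG.D_K hd'), hi.h_smul _ hdK]; exact h3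
  · have h5 : (τ⁻¹)⁻¹ • d • w = d' • n⁻¹ • w := by
      rw [← mul_smul, ← mul_smul]
      congr 1
      have : d' = (τ⁻¹)⁻¹ * (d * n) := by rw [h4]; group
      rw [this]; group
    refine flat_of (Or.inr rfl) ?_ ?_
    · rw [h5]; exact hi.P_smul _ (hG.D_K hd') _ h2
    · rw [h5, hi.h_smul _ (hG.D_K hd'), hi.h_smul _ hdK]; exact h3

/-! ### Representatives -/

/-- Facts about the representatives `b j` of the `K`-orbits and `v r` of the `D`-orbits. -/
structure Reps (K D : Subgroup G) (τ ξ : G) (P : W → Prop) (h : W → ℕ) {κ ρ : Type*} (b : κ → W) (v : ρ → W) :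
    Prop where
  cov : ∀ w, P w → ∃ j, ∃ k ∈ K, w = k • b j
  covD : ∀ w, P w → 0 < h w → Flat τ P h w → ∃ r, ∃ d ∈ D, w = d • v r
  base : ∀ j, 0 < h (b j) → Lo τ P h (b j)
  conn : ∀ j, 0 < h (b j) → ∀ x ∈ K, Lo τ P h (x • b j) →
    Relation.ReflTransGen (Step D ξ (Lo τ P h) (b j)) 1 x
  flat : ∀ r, P (v r) → 0 < h (v r) → Flat τ P h (v r) →
    Lo τ P h (v r) ∨ ∃ d ∈ D, Lo τ P h (ξ • d • v r)

/-- **The local hypotheses from representatives.** -/
theorem Reps.locHyp {κ ρ : Type*} {b : κ → W} {v : ρ → W} (hG : Geom K N D τ ξ) (hi : Inv K P h)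
    (hr : Reps K D τ ξ P h b v) : LocHyp K D τ ξ P h where
  m1 := by
    intro w hw hpos
    obtain ⟨j, k, hk, rfl⟩ := hr.cov w hw
    rw [hi.h_smul k hk] at hpos
    exact ⟨k⁻¹, K.inv_mem hk, by rw [inv_smul_smul]; exact hr.base j hpos⟩
  m2 := by
    intro w hw hpos x hx y hy h1 h2
    obtain ⟨j, k, hk, rfl⟩ := hr.cov w hw
    rw [hi.h_smul k hk] at hpos
    rw [← mul_smul] at h1 h2
    have c1 := hr.conn j hpos _ (K.mul_mem hx hk) h1
    have c2 := hr.conn j hpos _ (K.mul_mem hy hk) h2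
    have c3 := (Step.chain_symm hG.ξ_sq c1).trans c2
    have c4 := Step.chain_mul_right (w' := k • b j) k⁻¹ (inv_smul_smul k _) c3
    rwa [mul_inv_cancel_right, mul_inv_cancel_right] at c4
  m3 := by
    intro w hw hpos hf
    obtain ⟨r, d, hd, rfl⟩ := hr.covD w hw hpos hf
    have hPv : P (v r) := (hi.P_iff (hG.D_K hd) _).1 hw
    have hf' : Flat τ P h (v r) := by
      have := Flat.smul_D hG hi (D.inv_mem hd) hw hf
      rwa [inv_smul_smul] at this
    rw [hi.h_smul _ (hG.D_K hd)] at hpos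
    rcases hr.flat r hPv hpos hf' with h1 | ⟨d', hd', h1⟩
    · exact Or.inl (Lo.smul_D hG hi hd h1)
    · refine Or.inr ⟨d' * d⁻¹, D.mul_mem hd' (D.inv_mem hd), ?_⟩
      rw [mul_smul, inv_smul_smul]
      exact h1

/-! ### Connectivity -/

/-- Certificate for the connectivity of the lowering lines of the vector `b`. -/
structure TreeCert (K D L : Subgroup G) (ξ : G) (Lw : W → Prop) (b : W) {μ : Type*} (c : μ → G) (S : Set G) :
    Prop where
  fix : ∀ l ∈ L, l • b = b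
  /-- every lowering line is in the orbit of one of the representatives -/
  factor : ∀ x ∈ K, Lw (x • b) → ∃ m, ∃ l ∈ L, ∃ d ∈ D, x = d * c m * l
  base : Lw b
  /-- the path of the representative `m` ends in `k = d * c m * l` -/
  tree : ∀ m, Lw (c m • b) → ∃ k : G, Relation.ReflTransGen (Step D ξ Lw b) 1 k ∧
    ∃ d ∈ D, ∃ l ∈ L, k = d * c m * l
  closure : L = Subgroup.closure S
  gens : ∀ g ∈ S, Relation.ReflTransGen (Step D ξ Lw b) 1 g

theorem TreeCert.conn_L {K D L : Subgroup G} {Lw : W → Prop} {b : W} {μ : Type*} {c : μ → G} {S : Set G}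
    (hξ : ξ * ξ = 1) (ht : TreeCert K D L ξ Lw b c S) :
    ∀ l ∈ L, Relation.ReflTransGen (Step D ξ Lw b) 1 l := by
  intro l hl
  have hl' : l ∈ Subgroup.closure S := by rw [← ht.closure]; exact hl
  induction hl' using Subgroup.closure_induction with
  | mem x hx => exact ht.gens x hx
  | one => exact Relation.ReflTransGen.refl
  | mul x y hx hy ihx ihy =>
    rw [← ht.closure] at hx hy
    have h1 := ihx hx
    have h2 := Step.chain_mul_right (w' := b) y (ht.fix y hy) h1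
    rw [one_mul] at h2
    exact (ihy hy).trans h2
  | inv x hx ih =>
    rw [← ht.closure] at hx
    have h1 := Step.chain_mul_right (w' := b) x⁻¹ (ht.fix _ (L.inv_mem hx)) (ih hx)
    rw [one_mul, mul_inv_cancel] at h1
    exact Step.chain_symm hξ h1

/-- **Connectivity of the lowering lines.** -/
theorem TreeCert.conn {K D L : Subgroup G} {Lw : W → Prop} {b : W} {μ : Type*} {c : μ → G} {S : Set G}
    (hξ : ξ * ξ = 1) (hD : ∀ d ∈ D, ∀ w, Lw (d • w) ↔ Lw w) (ht : TreeCert K D L ξ Lw b c S) :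
    ∀ x ∈ K, Lw (x • b) → Relation.ReflTransGen (Step D ξ Lw b) 1 x := by
  intro x hx hlo
  obtain ⟨m, l, hl, d, hd, rfl⟩ := ht.factor x hx hlo
  have h1 : Lw (c m • b) := by
    rw [mul_smul, mul_smul, ht.fix l hl, hD d hd] at hlo
    exact hlo
  obtain ⟨k, hk, d', hd', l', hl', rfl⟩ := ht.tree m h1
  -- `d c l = (d d'⁻¹) k (l'⁻¹ l)`
  have h2 := Step.chain_mul_right (w' := b) (l'⁻¹ * l)
    (by rw [mul_smul, ht.fix l hl, ht.fix _ (L.inv_mem hl')]) hk
  rw [one_mul] at h2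
  have h3 := (ht.conn_L hξ _ (L.mul_mem (L.inv_mem hl') hl)).trans h2
  refine h3.tail ⟨?_, hlo, Or.inl ⟨d * d'⁻¹, D.mul_mem hd (D.inv_mem hd'), ?_⟩⟩
  · have e : (d' * c m * l' * (l'⁻¹ * l)) • b = d' • c m • b := by
      have e1 : d' * c m * l' * (l'⁻¹ * l) = d' * c m * l := by group
      rw [e1, mul_smul, mul_smul, ht.fix l hl]
    rw [e, hD d' hd']
    exact h1
  · group

/-- A generator in `D`. -/
theorem gen_D {K : Subgroup G} (hG : Geom K N D τ ξ) (hi : Inv K P h) {b : W} (hb : Lo τ P h b) {g : G}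
    (hg : g ∈ D) : Relation.ReflTransGen (Step D ξ (Lo τ P h) b) 1 g :=
  Relation.ReflTransGen.single ⟨by rw [one_smul]; exact hb, Lo.smul_D hG hi hg hb, Or.inl ⟨g, hg, by rw [mul_one]⟩⟩

/-- A generator `n₁ ξ n₂` of the stabiliser. -/
theorem gen_ξ {K : Subgroup G} (hG : Geom K N D τ ξ) (hi : Inv K P h) {b : W} (hb : Lo τ P h b) {g n₁ n₂ : G}
    (hn₁ : n₁ ∈ D) (hn₂ : n₂ ∈ D) (e : g = n₁ * ξ * n₂) (hfix : g • b = b) :
    Relation.ReflTransGen (Step D ξ (Lo τ P h) b) 1 g := by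
  have h1 : Lo τ P h (n₂ • b) := Lo.smul_D hG hi hn₂ hb
  have h2 : Lo τ P h ((ξ * n₂) • b) := by
    have e2 : (ξ * n₂) • b = n₁⁻¹ • b := by
      rw [eq_inv_smul_iff, ← mul_smul, ← mul_assoc, ← e, hfix]
    rw [e2]
    exact Lo.smul_D hG hi (D.inv_mem hn₁) hb
  have s1 : Step D ξ (Lo τ P h) b 1 n₂ :=
    ⟨by rw [one_smul]; exact hb, h1, Or.inl ⟨n₂, hn₂, by rw [mul_one]⟩⟩
  have s2 : Step D ξ (Lo τ P h) b n₂ (ξ * n₂) := ⟨h1, h2, Or.inr rfl⟩
  have s3 : Step D ξ (Lo τ P h) b (ξ * n₂) g :=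
    ⟨h2, by rw [hfix]; exact hb, Or.inl ⟨n₁, hn₁, by rw [e, mul_assoc]⟩⟩
  exact ((Relation.ReflTransGen.single s1).tail s2).tail s3

/-! ### The geometry from `TauData` -/

/-- `⟨D, τ⟩ = D ∪ τ D ∪ τ⁻¹ D`. -/
theorem cases_of_tauData {D D₀ : Subgroup G} {τ e : G} (ht : TauData D D₀ τ e) (h3 : τ * τ * τ = 1) :
    ∀ n ∈ Subgroup.closure ((D : Set G) ∪ {τ}),
      n ∈ D ∨ (∃ d ∈ D, n = τ * d) ∨ ∃ d ∈ D, n = τ⁻¹ * d := by
  have h2 : τ * τ = τ⁻¹ := eq_inv_of_mul_eq_one_left h3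
  have h2' : τ⁻¹ * τ⁻¹ = τ := by
    rw [← h2]
    calc (τ * τ) * (τ * τ) = (τ * τ * τ) * τ := by group
      _ = τ := by rw [h3, one_mul]
  let A : G → Prop := fun n => n ∈ D ∨ (∃ d ∈ D, n = τ * d) ∨ ∃ d ∈ D, n = τ⁻¹ * d
  -- `D τ ⊆ A` and `D τ⁻¹ ⊆ A`
  have hDt : ∀ d ∈ D, A (d * τ) ∧ A (d * τ⁻¹) := by
    intro d hd
    rcases ht.cosets d hd with h1 | h1
    · refine ⟨Or.inr (Or.inl ⟨τ⁻¹ * d * τ, ht.conj' d h1, by group⟩),
        Or.inr (Or.inr ⟨τ * d * τ⁻¹, ht.conj d h1, by group⟩)⟩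
    · have e1 : d * τ = τ⁻¹ * ((τ * (d * e) * τ⁻¹) * e⁻¹) := by
        have : τ⁻¹ * e⁻¹ = e⁻¹ * τ := ht.tau_inv_e
        calc d * τ = (d * e) * (e⁻¹ * τ) := by group
          _ = (d * e) * (τ⁻¹ * e⁻¹) := by rw [this]
          _ = _ := by group
      have e2 : d * τ⁻¹ = τ * ((τ⁻¹ * (d * e) * τ) * e⁻¹) := by
        have : τ * e⁻¹ = e⁻¹ * τ⁻¹ := ht.tau_e
        calc d * τ⁻¹ = (d * e) * (e⁻¹ * τ⁻¹) := by group
          _ = (d * e) * (τ * e⁻¹) := by rw [this]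
          _ = _ := by group
      exact ⟨Or.inr (Or.inr ⟨_, D.mul_mem (ht.conj _ h1) (D.inv_mem ht.e_mem), e1⟩),
        Or.inr (Or.inl ⟨_, D.mul_mem (ht.conj' _ h1) (D.inv_mem ht.e_mem), e2⟩)⟩
  have hA_D : ∀ n, A n → ∀ d ∈ D, A (n * d) := by
    rintro n (h1 | ⟨d', hd', rfl⟩ | ⟨d', hd', rfl⟩) d hd
    · exact Or.inl (D.mul_mem h1 hd)
    · exact Or.inr (Or.inl ⟨d' * d, D.mul_mem hd' hd, by rw [mul_assoc]⟩)
    · exact Or.inr (Or.inr ⟨d' * d, D.mul_mem hd' hd, by rw [mul_assoc]⟩)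
  have hτA : ∀ n, A n → A (τ * n) ∧ A (τ⁻¹ * n) := by
    rintro n (h1 | ⟨d', hd', rfl⟩ | ⟨d', hd', rfl⟩)
    · exact ⟨Or.inr (Or.inl ⟨n, h1, rfl⟩), Or.inr (Or.inr ⟨n, h1, rfl⟩)⟩
    · refine ⟨Or.inr (Or.inr ⟨d', hd', ?_⟩), Or.inl ?_⟩
      · rw [← mul_assoc, h2]
      · rw [inv_mul_cancel_left]; exact hd'
    · refine ⟨Or.inl ?_, Or.inr (Or.inl ⟨d', hd', ?_⟩)⟩
      · rw [mul_inv_cancel_left]; exact hd'
      · rw [← mul_assoc, h2']
  have hAτ : ∀ n, A n → A (n * τ) ∧ A (n * τ⁻¹) := by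
    rintro n (h1 | ⟨d', hd', rfl⟩ | ⟨d', hd', rfl⟩)
    · exact hDt n h1
    · rw [mul_assoc, mul_assoc]
      exact ⟨(hτA _ (hDt d' hd').1).1, (hτA _ (hDt d' hd').2).1⟩
    · rw [mul_assoc, mul_assoc]
      exact ⟨(hτA _ (hDt d' hd').1).2, (hτA _ (hDt d' hd').2).2⟩
  intro n hn
  change A n
  induction hn using Subgroup.closure_induction_right with
  | one => exact Or.inl D.one_mem
  | mul_right x _ y hy ih =>
    rcases hy with hy | hy
    · exact hA_D x ih y hy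
    · rw [Set.mem_singleton_iff.1 hy]
      exact (hAτ x ih).1
  | mul_inv_cancel x _ y hy ih =>
    rcases hy with hy | hy
    · exact hA_D x ih _ (D.inv_mem hy)
    · rw [Set.mem_singleton_iff.1 hy]
      exact (hAτ x ih).2

end Cfsg.Agent.MonsterU.Local
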