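import Cfsg.Agent.MonsterU.LowTab
import Cfsg.Agent.MonsterU.RowGlue

/-!
# Level 1 of the Morse certificate: kernel checks of the tables

`low r`: one of the other points of the line of `v_r` is lower; `flat r`: one of them has the same height.
-/

set_option autoImplicit false
set_option Elab.async false
set_option maxRecDepth 100000

namespace Cfsg.Agent.MonsterU.LowChk

open Cfsg.Agent.MonsterX.CertVec Cfsg.Agent.MonsterX.CertTab Cfsg.Agent.MonsterX.FrameGam
open Cfsg.Agent.MonsterX.CertCovB Cfsg.Agent.MonsterX.Lin24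
open Cfsg.Agent.MonsterU.LowTab Cfsg.Agent.MonsterU.RowGlue

/-! ### Boolean functions -/

/-- membership -/
noncomputable def memB (a : ℕ) (l : List ℕ) : Bool :=
  List.rec (motive := fun _ => Bool) false (fun b _ ih => or (Nat.beq a b) ih) l

theorem memB_sound {a : ℕ} {l : List ℕ} (h : memB a l = true) : a ∈ l := by
  induction l with
  | nil => exact absurd h (by simp [memB])
  | cons b l ih =>
    have h1 : (Nat.beq a b || memB a l) = true := h
    rw [Bool.or_eq_true] at h1
    rcases h1 with h1 | h1
    · rw [Nat.eq_of_beq_eq_true h1]; exact List.mem_cons_self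
    · exact List.mem_cons_of_mem _ (ih h1)

/-- equality of lists -/
noncomputable def eqL (l : List ℕ) : List ℕ → Bool :=
  List.rec (motive := fun _ => List ℕ → Bool)
    (fun m => List.rec (motive := fun _ => Bool) true (fun _ _ _ => false) m)
    (fun a _ ih m => List.rec (motive := fun _ => Bool) false (fun b m _ => and (Nat.beq a b) (ih m)) m) l

theorem eqL_sound {l m : List ℕ} (h : eqL l m = true) : l = m := by
  induction l generalizing m with
  | nil =>
    cases m with
    | nil => rfl
    | cons b m => exact absurd h (by simp [eqL])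
  | cons a l ih =>
    cases m with
    | nil => exact absurd h (by simp [eqL])
    | cons b m =>
      have h1 : (Nat.beq a b && eqL l m) = true := h
      rw [Bool.and_eq_true] at h1
      rw [Nat.eq_of_beq_eq_true h1.1, ih h1.2]

/-- all letters satisfy `p` -/
noncomputable def allW (p : ℕ → Bool) (w : List ℕ) : Bool :=
  List.rec (motive := fun _ => Bool) true (fun a _ ih => and (p a) ih) w

theorem allW_sound {p : ℕ → Bool} {w : List ℕ} (h : allW p w = true) : ∀ i ∈ w, p i = true := by
  induction w with
  | nil => simp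
  | cons a w ih =>
    have h1 : (p a && allW p w) = true := h
    rw [Bool.and_eq_true] at h1
    intro i hi
    rcases List.mem_cons.1 hi with rfl | hi
    · exact h1.1
    · exact ih h1.2 i hi

/-! ### Types -/

/-- The class of the `D`-orbit `r`. -/
noncomputable def J (r : ℕ) : ℕ := nth 0 kj r

/-- The word `k_r`. -/
noncomputable def cw (r : ℕ) : List ℕ := nth [] kw r

/-- The generators of `L j`. -/
noncomputable def gs (j : ℕ) : List (List ℕ) := nth [] gT j

/-- The word of the path. -/
noncomputable def tw (r : ℕ) : List ℕ := nth [] kt r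

/-- The indices of the row `t` of the `τ`-table. -/
noncomputable def cl (t e : ℕ) : ℕ := nth 0 [t0 t, t1 t, t2 t] e

/-- The row of `r`. -/
noncomputable def pt (r : ℕ) : ℕ := (nth (0, 0) pkT r).1

/-- The place of `r` in its row. -/
noncomputable def pe (r : ℕ) : ℕ := (nth (0, 0) pkT r).2

/-- The class of `τ v_r` (`i = 1`) and `τ⁻¹ v_r` (`i = 2`), up to exchange. -/
noncomputable def ty (r i : ℕ) : ℕ := J (cl (pt r) (Nat.mod (Nat.add (pe r) i) 3))

/-- One of the other points of the line is lower. -/
noncomputable def low (r : ℕ) : Bool := or (Nat.blt (ty r 1) (J r)) (Nat.blt (ty r 2) (J r))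

/-- One of the other points of the line has the same height. -/
noncomputable def flat (r : ℕ) : Bool := or (Nat.beq (ty r 1) (J r)) (Nat.beq (ty r 2) (J r))

/-- The letters of `D`. -/
noncomputable def isN (a : ℕ) : Bool := or (Nat.ble a 38) (or (Nat.beq a 42) (Nat.beq a 43))

/-! ### The checks -/

theorem pk_ok : ∀ r, r < 251 → pt r < 123 ∧ pe r < 3 ∧ cl (pt r) (pe r) = r := by
  intro r hr
  have h := allB_sound (n := 251) (p := fun r => and (Nat.blt (pt r) 123) (and (Nat.blt (pe r) 3)
    (Nat.beq (cl (pt r) (pe r)) r))) (by decide +kernel) r hr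
  rw [Bool.and_eq_true, Bool.and_eq_true, Nat.blt_eq, Nat.blt_eq] at h
  exact ⟨h.1, h.2.1, Nat.eq_of_beq_eq_true h.2.2⟩

theorem cl_lt : ∀ t, t < 123 → ∀ e, e < 3 → cl t e < 251 := by
  intro t ht e he
  have h := allB_sound (allB_sound (n := 123) (p := fun t => allB 3 fun e => Nat.blt (cl t e) 251)
    (by decide +kernel) t ht) e he
  rwa [Nat.blt_eq] at h

theorem J_lt : ∀ r, r < 251 → J r < 12 := by
  intro r hr
  have h := allB_sound (n := 251) (p := fun r => Nat.blt (J r) 12) (by decide +kernel) r hr
  rwa [Nat.blt_eq] at h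

/-- The base representatives. -/
noncomputable def bs (j : ℕ) : ℕ := nth 0 baseT j

/-- The base representatives are the `d j`; for `j > 0` their lines are lowering. -/
theorem base_ok : ∀ j, j < 12 → bs j < 251 ∧ J (bs j) = j ∧ cw (bs j) = [] ∧ tw (bs j) = [] ∧
    (0 < j → low (bs j) = true) := by
  intro j hj
  have h := allB_sound (n := 12) (p := fun j => and (Nat.blt (bs j) 251) (and (Nat.beq (J (bs j)) j)
    (and (eqL (cw (bs j)) []) (and (eqL (tw (bs j)) []) (or (Nat.beq j 0) (low (bs j)))))))
    (by decide +kernel) j hj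
  rw [Bool.and_eq_true, Bool.and_eq_true, Bool.and_eq_true, Bool.and_eq_true, Nat.blt_eq] at h
  obtain ⟨h1, h2, h3, h4, h5⟩ := h
  refine ⟨h1, Nat.eq_of_beq_eq_true h2, eqL_sound h3, eqL_sound h4, fun hpos => ?_⟩
  rw [Bool.or_eq_true] at h5
  rcases h5 with h5 | h5
  · have := Nat.eq_of_beq_eq_true h5
    omega
  · exact h5

/-- A row of the table of the lowering lines. -/
noncomputable def lowRow (x : ℕ × ℕ × List ℕ × List ℕ) (done : List ℕ) : Bool :=
  and (Nat.blt x.1 251) (and (memB x.2.1 done) (and (Nat.beq (J x.1) (J x.2.1)) (and (low x.1) (and (allW isN x.2.2.1)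
    (and (eqL (tw x.1) (tw x.2.1 ++ (x.2.2.1 ++ [39]))) (rowB (cw x.1) (tw x.1) (cat (gs (J x.1)) x.2.2.2)))))))

/-- The table of the lowering lines. -/
noncomputable def lowTab (T : List (ℕ × ℕ × List ℕ × List ℕ)) : List ℕ → Bool :=
  List.rec (motive := fun _ => List ℕ → Bool) (fun _ => true) (fun x _ ih done => and (lowRow x done) (ih (x.1 :: done))) T

/-- A row of the table of the flat lines. -/
noncomputable def flatRow (x : ℕ × ℕ × List ℕ × List ℕ) : Bool :=
  and (Nat.blt x.2.1 251) (and (Nat.beq (J x.1) (J x.2.1)) (and (low x.2.1) (and (allW isN x.2.2.1)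
    (rowB (cw x.2.1) (cw x.1 ++ (x.2.2.1 ++ [39])) (cat (gs (J x.1)) x.2.2.2)))))

/-- The table of the flat lines. -/
noncomputable def flatTab (T : List (ℕ × ℕ × List ℕ × List ℕ)) : Bool :=
  List.rec (motive := fun _ => Bool) true (fun x _ ih => and (flatRow x) ih) T

/-- The first entries. -/
noncomputable def fsts (T : List (ℕ × ℕ × List ℕ × List ℕ)) : List ℕ :=
  List.rec (motive := fun _ => List ℕ) [] (fun x _ ih => x.1 :: ih) T

theorem low_ok : lowTab lowT baseT = true := by decide +kernel

theorem flat_ok : flatTab flatT = true := by decide +kernel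

theorem low_all : ∀ r, r < 251 → low r = true → r ∈ fsts lowT ∨ r ∈ baseT := by
  intro r hr hl
  have h := allB_sound (n := 251) (p := fun r => or (not (low r)) (or (memB r (fsts lowT)) (memB r baseT)))
    (by decide +kernel) r hr
  rw [hl, Bool.or_eq_true, Bool.or_eq_true] at h
  rcases h with h | h | h
  · exact absurd h (by simp)
  · exact Or.inl (memB_sound h)
  · exact Or.inr (memB_sound h)

theorem flat_all : ∀ r, r < 251 → 0 < J r → flat r = true → low r = true ∨ r ∈ fsts flatT := by
  intro r hr hj hl
  have h := allB_sound (n := 251) (p := fun r => or (Nat.beq (J r) 0) (or (not (flat r)) (or (low r) (memB r (fsts flatT)))))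
    (by decide +kernel) r hr
  rw [hl, Bool.or_eq_true, Bool.or_eq_true, Bool.or_eq_true] at h
  rcases h with h | h | h | h
  · have := Nat.eq_of_beq_eq_true h
    omega
  · exact absurd h (by simp)
  · exact Or.inl h
  · exact Or.inr (memB_sound h)

end Cfsg.Agent.MonsterU.LowChk
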