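import Cfsg.Agent.MonsterX.CertLj
import Cfsg.Agent.MonsterX.CertTab

/-!
# Level 1 of the Morse certificate: tables (helper911, `F/M2M3.txt`)

* `gT` : the generators of the groups `L j`;
* `baseT` : the representatives `d j` among the 251 representatives of the `D`-orbits;
* `kt r` : for a lowering representative `r` the word of a path from the base line to a line in the orbit of the line of
  `r`;
* `lowT` : rows `(r, p, n, H)` : `kt r = kt p ++ n ++ [39]`, `k_r⁻¹ y₀ = h c_r⁻¹ y₀`, `h` the product of the generators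
  with the indices `H`;
* `pkT r` : the place of `r` in the table `tauT` of `CertTab`;
* `flatT` : rows `(r, s, n, H)` : `(ξ n c_r)⁻¹ y₀ = h c_s⁻¹ y₀`, `s` lowering.
Generated.
-/

set_option autoImplicit false
set_option maxRecDepth 100000

namespace Cfsg.Agent.MonsterU.LowTab

open Cfsg.Agent.MonsterX.CertLj

/-- The generators of the groups `L j`. -/
noncomputable def gT : List (List (List ℕ)) :=
  [[l0_0, l0_1], [l1_0, l1_1, l1_2], [l2_0, l2_1], [l3_0, l3_1, l3_2], [l4_0, l4_1, l4_2, l4_3], [l5_0, l5_1],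
   [l6_0, l6_1, l6_2], [l7_0, l7_1], [l8_0, l8_1], [l9_0, l9_1, l9_2], [l10_0, l10_1], [l11_0, l11_1]]

/-- The representatives `d j`. -/
noncomputable def baseT : List ℕ := [0, 3, 8, 17, 33, 47, 57, 80, 88, 125, 148, 186]

/-- The words of the paths. -/
noncomputable def kt : List (List ℕ) :=
   [[], [], [], [], [], [], [], [], [], [39], [], [], [], [], [], [], [], [], [], [], [36, 38, 39], [], [], [36, 43,
   38, 39], [], [], [], [], [], [], [], [], [], [], [], [], [37, 39], [37, 38, 39], [43, 42, 39], [], [], [], [], [],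
   [], [], [], [], [39], [42, 39], [], [], [], [], [], [], [], [], [39], [38, 39], [], [37, 36, 39], [42, 42, 39],
   [43, 38, 39], [], [], [], [], [], [], [], [], [], [], [], [], [], [], [], [], [], [39], [], [], [], [], [], [], [],
   [39], [], [42, 39], [42, 43, 39], [37, 36, 37, 39], [], [], [39, 37, 39], [], [], [], [], [], [], [39, 42, 42, 39],
   [], [], [], [], [39, 42, 42, 43, 39], [], [37, 36, 37, 39, 43, 36, 43, 43, 36, 43, 38, 25, 39], [], [39, 42, 42,
   37, 42, 37, 39], [], [], [], [], [], [], [], [], [], [], [], [], [], [39], [42, 39], [43, 39], [37, 39], [36, 36,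
   39], [38, 42, 39], [43, 43, 39], [38, 36, 39], [], [], [37, 37, 42, 39], [43, 43, 36, 39], [36, 37, 37, 42, 39],
   [43, 42, 37, 37, 25, 39], [], [], [43, 39, 42, 39], [], [], [], [], [36, 36, 39, 36, 38, 25, 39], [], [39], [38,
   39], [43, 39], [38, 42, 39], [], [43, 43, 39], [36, 38, 39], [43, 42, 25, 39], [], [38, 42, 42, 39], [39, 42, 39],
   [], [39, 43, 39], [], [43, 39, 43, 39, 37, 39], [], [], [], [], [], [38, 39, 37, 39], [39, 36, 43, 39], [43, 39,
   38, 39, 37, 36, 39], [43, 39, 38, 39], [43, 39, 43, 39], [], [], [], [43, 42, 25, 39, 36, 37, 37, 42, 37, 39], [],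
   [], [38, 39, 37, 39, 42, 38, 39], [39, 36, 37, 36, 38, 39], [], [], [], [], [], [], [42, 39], [], [43, 39], [42,
   42, 39], [38, 42, 39], [36, 38, 39], [37, 37, 39], [], [43, 43, 39], [36, 43, 38, 39], [43, 38, 36, 39], [37, 37,
   42, 39], [38, 42, 42, 39], [42, 42, 42, 37, 39], [37, 38, 42, 37, 38, 39], [43, 39, 42, 43, 39, 36, 37, 42, 25,
   39], [], [43, 39, 42, 39], [], [43, 39, 43, 39], [], [42, 42, 42, 37, 39, 36, 43, 42, 43, 39], [42, 39, 43, 39],
   [38, 42, 39, 36, 39], [43, 39, 36, 36, 43, 43, 42, 39], [43, 39, 42, 39, 37, 38, 36, 39], [37, 38, 42, 37, 38, 39,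
   42, 38, 36, 36, 39, 37, 42, 37, 42, 39], [43, 39, 36, 43, 36, 36, 36, 37, 38, 39, 36, 43, 42, 39], [], [43, 39, 36,
   43, 36, 36, 36, 37, 38, 39], [], [], [37, 37, 42, 39, 38, 39], [], [42, 42, 39, 43, 39, 37, 37, 38, 36, 37, 25,
   39], [37, 37, 39, 38, 39], [38, 42, 39, 38, 42, 37, 38, 36, 38, 39, 38, 36, 37, 38, 39], [42, 39, 36, 43, 25, 39],
   [43, 39, 42, 43, 39], [38, 42, 39, 38, 39], [37, 37, 39, 38, 39, 38, 42, 25, 39], [38, 42, 39, 43, 39], [42, 42,
   39, 38, 39], [42, 39, 42, 43, 39], [], [38, 42, 42, 39, 37, 36, 25, 39], [42, 42, 39, 43, 39], [37, 37, 39, 42, 37,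
   38, 39], [43, 43, 39, 43, 25, 39], [38, 42, 39, 37, 37, 38, 36, 38, 25, 39], [37, 37, 39, 43, 38, 36, 43, 43, 39],
   [38, 42, 39, 38, 42, 37, 38, 36, 38, 39], [], [42, 42, 39, 36, 43, 42, 42, 42, 37, 39], [], [43, 39, 43, 39, 37,
   42, 43, 39], [42, 39, 42, 43, 39, 37, 36, 43, 39], [36, 38, 39, 43, 42, 43, 36, 37, 37, 39], [36, 38, 39, 38, 42,
   42, 25, 39], [43, 43, 39, 43, 25, 39, 37, 37, 36, 37, 37, 39], [43, 38, 36, 39, 37, 37, 42, 37, 36, 25, 39], [37,
   37, 42, 39, 38, 42, 43, 38, 36, 37, 39], [37, 38, 42, 37, 38, 39, 42, 38, 36, 36, 39]]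

/-- The links of the lowering lines. -/
noncomputable def lowT : List (ℕ × ℕ × List ℕ × List ℕ) :=
   [(9, 8, [], []), (20, 17, [36, 38], []), (23, 17, [36, 43, 38], []), (36, 33, [37], []), (37, 33, [37, 38], []),
   (38, 33, [43, 42], []), (48, 47, [], []), (49, 47, [42], []), (58, 57, [], []), (59, 57, [38], []), (61, 57, [37,
   36], []), (62, 57, [42, 42], []), (63, 57, [43, 38], []), (81, 80, [], []), (89, 88, [], []), (91, 88, [42], []),
   (96, 89, [37], []), (92, 88, [42, 43], []), (103, 89, [42, 42], []), (93, 88, [37, 36, 37], []), (108, 89, [42, 42,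
   43], []), (112, 89, [42, 42, 37, 42, 37], [0]), (110, 93, [43, 36, 43, 43, 36, 43, 38, 25], [1, 1, 0, 0, 1]), (126,
   125, [], []), (127, 125, [42], []), (128, 125, [43], []), (129, 125, [37], []), (142, 128, [42], []), (130, 125,
   [36, 36], []), (131, 125, [38, 42], []), (132, 125, [43, 43], []), (133, 125, [38, 36], []), (136, 125, [37, 37,
   42], []), (137, 125, [43, 43, 36], []), (138, 125, [36, 37, 37, 42], []), (139, 125, [43, 42, 37, 37, 25], []),
   (147, 130, [36, 38, 25], [0, 1, 0, 1, 1]), (149, 148, [], []), (150, 148, [38], []), (151, 148, [43], []), (159,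
   149, [42], []), (161, 149, [43], []), (169, 150, [37], []), (172, 151, [38], []), (173, 151, [43], []), (152, 148,
   [38, 42], []), (154, 148, [43, 43], []), (155, 148, [36, 38], []), (170, 149, [36, 43], []), (156, 148, [43, 42,
   25], []), (158, 148, [38, 42, 42], []), (177, 156, [36, 37, 37, 42, 37], []), (163, 173, [37], [1, 1, 0, 0, 1, 0,
   0, 0, 1, 0, 1, 0]), (171, 172, [37, 36], [1, 1, 1, 0, 0, 0, 0, 1, 1, 1, 0, 1]), (180, 169, [42, 38], [0, 0, 1, 0,
   0, 1, 1, 1, 1, 0, 1, 1]), (181, 149, [36, 37, 36, 38], [1, 0, 1, 1, 1, 0, 0, 1, 1, 1]), (188, 186, [42], []), (190,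
   186, [43], []), (205, 190, [42], []), (207, 190, [43], []), (210, 188, [43], []), (191, 186, [42, 42], []), (230,
   191, [38], []), (234, 191, [43], []), (192, 186, [38, 42], []), (211, 192, [36], []), (227, 192, [38], []), (229,
   192, [43], []), (193, 186, [36, 38], []), (194, 186, [37, 37], []), (223, 194, [38], []), (196, 186, [43, 43], []),
   (236, 196, [43, 25], []), (226, 190, [42, 43], []), (231, 188, [42, 43], []), (197, 186, [36, 43, 38], []), (198,
   186, [43, 38, 36], []), (199, 186, [37, 37, 42], []), (200, 186, [38, 42, 42], []), (225, 188, [36, 43, 25], []),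
   (201, 186, [42, 42, 42, 37], []), (202, 186, [37, 38, 42, 37, 38], []), (212, 190, [36, 36, 43, 43, 42], []), (235,
   194, [42, 37, 38], [0, 0, 0]), (250, 202, [42, 38, 36, 36], [0]), (247, 236, [37, 37, 36, 37, 37], [0]), (244, 231,
   [37, 36, 43], [1, 0, 0, 0]), (222, 234, [37, 37, 38, 36, 37, 25], [1]), (248, 198, [37, 37, 42, 37, 36, 25], [0]),
   (217, 190, [36, 43, 36, 36, 36, 37, 38], []), (215, 217, [36, 43, 42], [1, 1, 1, 1]), (249, 199, [38, 42, 43, 38,
   36, 37], [1]), (238, 194, [43, 38, 36, 43, 43], [1, 1, 1]), (203, 226, [36, 37, 42, 25], [0, 1, 1, 1, 0]), (228,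
   223, [38, 42, 25], [0, 1, 1, 1, 1, 0, 0]), (220, 199, [38], [0, 1, 1, 0, 0, 0, 0, 1, 1]), (214, 250, [37, 42, 37,
   42], [0, 1, 0, 0]), (237, 192, [37, 37, 38, 36, 38, 25], [0, 0, 0]), (239, 192, [38, 42, 37, 38, 36, 38], [0, 0,
   0]), (246, 193, [38, 42, 42, 25], [1, 1, 1, 1, 1, 1, 0]), (213, 205, [37, 38, 36], [0, 1, 1, 0, 1, 0, 1, 1]), (209,
   201, [36, 43, 42, 43], [1, 0, 0, 1, 0, 0]), (245, 193, [43, 42, 43, 36, 37, 37], [1, 1, 0, 0]), (224, 239, [38, 36,
   37, 38], [0, 1, 1, 1, 1]), (243, 207, [37, 42, 43], [0, 1, 1, 0, 1, 1, 0, 0, 0]), (233, 200, [37, 36, 25], [1, 0,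
   0, 1, 0, 1, 0, 1, 0, 0]), (241, 191, [36, 43, 42, 42, 42, 37], [0, 0, 1, 1, 1, 0])]

/-- The lowering neighbours of the flat lines. -/
noncomputable def flatT : List (ℕ × ℕ × List ℕ × List ℕ) :=
   [(4, 3, [], []), (10, 9, [], []), (18, 17, [], []), (21, 17, [], []), (22, 17, [], []), (34, 33, [], []), (35, 33,
   [], []), (53, 49, [43, 38, 42, 42, 43, 36], [0, 1, 1, 0, 1, 1]), (60, 57, [], []), (64, 57, [], []), (65, 58, [],
   []), (74, 59, [], []), (79, 62, [], []), (84, 81, [], []), (90, 88, [], []), (98, 89, [], []), (101, 91, [], []),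
   (102, 89, [], []), (114, 96, [37, 42, 38], [1, 0, 1, 1, 0, 0, 1, 0, 0, 1, 1]), (115, 103, [36], []), (119, 103, [],
   []), (120, 103, [42, 43, 42, 42, 38, 36, 25], [1, 1, 0, 1]), (121, 108, [37, 36, 38], [1, 0, 1, 1, 0, 0, 0]), (122,
   103, [], [0, 1, 0, 0, 1, 0, 1, 0, 0, 0, 1, 0, 0, 0, 0]), (145, 132, [42, 37, 37, 36, 38, 25], [0, 1, 1]), (153,
   148, [], []), (160, 149, [], []), (162, 149, [], []), (164, 149, [], []), (165, 149, [], []), (166, 149, [], []),
   (167, 149, [], []), (176, 171, [36, 36, 36, 43, 43], []), (178, 149, [], []), (182, 151, [], []), (185, 170, [38,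
   36, 37, 42, 37, 25], []), (187, 186, [], []), (189, 186, [], []), (195, 186, [], []), (204, 203, [25], [1, 0, 1, 1,
   0, 0, 0, 1]), (206, 188, [], []), (208, 209, [37, 42, 42, 37, 37, 38], []), (216, 190, [], []), (218, 190, [], []),
   (219, 190, [], []), (221, 188, [], []), (232, 188, [36, 37, 37, 42, 43], [1, 1, 1, 1]), (240, 192, [36, 37, 37, 42,
   43, 38], [1, 0, 1, 1]), (242, 190, [], [0, 0, 0])]

/-- The place of the index `r` in the table of the `τ`-orbits. -/
noncomputable def pkT : List (ℕ × ℕ) :=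
  [(0, 0), (1, 0), (2, 2), (1, 1), (3, 0), (4, 1), (5, 2), (6, 2), (2, 0), (4, 0), (7, 0), (8, 2), (9, 2),
   (10, 1), (11, 2), (12, 2), (13, 2), (5, 0), (14, 1), (15, 1), (8, 0), (16, 0), (17, 0), (9, 0), (18, 1),
   (19, 2), (20, 2), (21, 2), (22, 2), (23, 1), (24, 0), (25, 1), (26, 1), (6, 0), (27, 0), (28, 0), (15, 0),
   (10, 0), (14, 0), (29, 2), (30, 2), (31, 2), (32, 2), (33, 0), (34, 1), (35, 1), (36, 1), (11, 0), (24, 1),
   (23, 0), (37, 1), (38, 2), (39, 1), (40, 0), (41, 2), (42, 1), (43, 1), (12, 0), (18, 0), (20, 0), (44, 1),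
   (24, 2), (37, 0), (31, 0), (44, 0), (45, 0), (46, 0), (47, 0), (48, 0), (49, 1), (50, 2), (51, 1), (52, 1),
   (53, 1), (54, 0), (55, 1), (56, 2), (57, 2), (58, 1), (59, 0), (29, 0), (36, 0), (60, 1), (61, 1), (62, 1),
   (63, 1), (64, 1), (65, 2), (13, 0), (25, 0), (66, 0), (44, 2), (37, 2), (33, 1), (67, 0), (68, 0), (58, 0),
   (69, 1), (70, 0), (71, 0), (72, 0), (73, 1), (73, 0), (48, 1), (74, 1), (75, 2), (76, 1), (77, 0), (56, 0),
   (78, 2), (62, 0), (79, 1), (43, 0), (80, 0), (81, 0), (82, 0), (83, 1), (84, 1), (85, 2), (86, 0), (87, 0),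
   (87, 1), (88, 0), (89, 1), (90, 0), (21, 0), (34, 0), (55, 0), (72, 2), (69, 0), (78, 0), (49, 0), (46, 1),
   (68, 1), (91, 2), (92, 0), (45, 2), (67, 2), (38, 0), (41, 0), (93, 2), (94, 1), (81, 2), (95, 1), (96, 2),
   (97, 0), (98, 1), (86, 2), (19, 0), (35, 0), (47, 1), (75, 1), (72, 1), (99, 1), (92, 1), (79, 2), (30, 0),
   (100, 1), (51, 0), (93, 0), (101, 0), (76, 0), (102, 0), (52, 0), (103, 0), (102, 1), (104, 1), (103, 1),
   (105, 2), (87, 2), (63, 0), (85, 1), (90, 2), (84, 0), (106, 2), (107, 1), (108, 1), (60, 0), (109, 0),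
   (110, 1), (96, 0), (65, 0), (111, 1), (112, 1), (113, 0), (114, 0), (22, 0), (115, 0), (99, 0), (116, 1),
   (100, 0), (71, 1), (50, 0), (48, 2), (92, 2), (117, 2), (91, 0), (42, 0), (32, 0), (47, 2), (73, 2), (46,
   2), (26, 0), (61, 0), (116, 0), (83, 0), (118, 1), (111, 0), (119, 0), (102, 2), (106, 1), (107, 2), (57,
   0), (98, 0), (88, 1), (53, 0), (117, 0), (105, 0), (120, 0), (121, 1), (110, 0), (116, 2), (69, 2), (79,
   0), (89, 0), (65, 1), (104, 0), (85, 0), (90, 1), (108, 0), (107, 0), (112, 2), (121, 0), (112, 0), (113,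
   1), (75, 0), (82, 2), (95, 0), (80, 1), (89, 2), (118, 0), (64, 0), (122, 0), (106, 0), (77, 1), (83, 2),
   (94, 0), (74, 0), (67, 1), (78, 1), (39, 0)]

end Cfsg.Agent.MonsterU.LowTab
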