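import Mathlib.RepresentationTheory.Basic
import Mathlib.LinearAlgebra.Dimension.Constructions
import Mathlib.LinearAlgebra.FiniteDimensional.Lemmas
import Mathlib.FieldTheory.Finiteness
import Mathlib.Data.ZMod.Basic
import Mathlib.GroupTheory.Perm.Cycle.Type
import Mathlib.GroupTheory.SpecificGroups.Cyclic
import Mathlib.Algebra.CharP.Two
import Mathlib.Tactic

/-!
# Uniqueness of a monomial-type module in characteristic 2

Abstract part of the uniqueness of the 24-dimensional module of `Co₁` over `F₂`: `E` is an elementary abelian 3-group,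
`j` inverts `E`, the normaliser of `E` permutes transitively `n` hyperplanes `H i` of `E` and every other hyperplane has
more than `n` conjugates.  A module of order `4 ^ n` with nontrivial action of `E` is then determined.
-/

set_option autoImplicit false

namespace Cfsg.Agent.MonsterU.ModAbs

open Finset

variable {Γ : Type*} [Group Γ]

/-- `K` has index 3 in `E`. -/
structure Hyper (E K : Subgroup Γ) : Prop where
  le : K ≤ E
  ne : ∃ a ∈ E, a ∉ K
  cov : ∀ a ∈ E, a ∉ K → ∀ b ∈ E, b ∈ K ∨ a * b ∈ K ∨ a⁻¹ * b ∈ K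

/-- `E` is an elementary abelian 3-group. -/
structure Elem (E : Subgroup Γ) : Prop where
  comm : ∀ a ∈ E, ∀ b ∈ E, a * b = b * a
  cube : ∀ a ∈ E, a * a * a = 1
  fin : Finite E

theorem Elem.sq {E : Subgroup Γ} (hE : Elem E) {a : Γ} (ha : a ∈ E) : a * a = a⁻¹ :=
  eq_inv_of_mul_eq_one_left (hE.cube a ha)

/-- a hyperplane contained in another one is equal to it -/
theorem Hyper.eq_of_le {E K L : Subgroup Γ} (hK : Hyper E K) (hL : Hyper E L) (h : K ≤ L) : K = L := by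
  apply le_antisymm h
  intro b hb
  obtain ⟨a, ha, haL⟩ := hL.ne
  rcases hK.cov a ha (fun h' => haL (h h')) b (hL.le hb) with h1 | h1 | h1
  · exact h1
  · exact absurd (by simpa using L.mul_mem (h h1) (L.inv_mem hb)) haL
  · exact absurd (by simpa using L.mul_mem (h h1) (L.inv_mem hb)) haL

section rep

variable {V : Type*} [AddCommGroup V] [Module (ZMod 2) V] (ρ : Representation (ZMod 2) Γ V)

theorem add_self (v : V) : v + v = 0 := by
  have h : (2 : ZMod 2) • v = v + v := by rw [two_smul]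
  rw [← h, show (2 : ZMod 2) = 0 from rfl, zero_smul]

theorem eq_of_add_eq_zero {v w : V} (h : v + w = 0) : v = w := by
  have : v + w + w = w := by rw [h, zero_add]
  rwa [add_assoc, add_self, add_zero] at this

theorem rho_mul (g h : Γ) (v : V) : ρ (g * h) v = ρ g (ρ h v) := by
  rw [map_mul]; rfl

theorem rho_one (v : V) : ρ 1 v = v := by
  rw [map_one]; rfl

theorem rho_inv (g : Γ) (v : V) : ρ g⁻¹ (ρ g v) = v := by
  rw [← rho_mul, inv_mul_cancel, rho_one]

theorem rho_inv' (g : Γ) (v : V) : ρ g (ρ g⁻¹ v) = v := by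
  rw [← rho_mul, mul_inv_cancel, rho_one]

theorem rho_inj (g : Γ) : Function.Injective (ρ g) := fun v w h => by
  rw [← rho_inv ρ g v, h, rho_inv]

/-- The part of `V` belonging to the hyperplane `K`. -/
def VK (E K : Subgroup Γ) : Submodule (ZMod 2) V where
  carrier := {v | (∀ k ∈ K, ρ k v = v) ∧ ∀ e ∈ E, e ∉ K → v + ρ e v + ρ (e * e) v = 0}
  add_mem' := by
    rintro v w ⟨hv1, hv2⟩ ⟨hw1, hw2⟩
    refine ⟨fun k hk => by rw [map_add, hv1 k hk, hw1 k hk], fun e he heK => ?_⟩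
    rw [map_add, map_add]
    have h1 := hv2 e he heK
    have h2 := hw2 e he heK
    calc v + w + (ρ e v + ρ e w) + (ρ (e * e) v + ρ (e * e) w)
        = (v + ρ e v + ρ (e * e) v) + (w + ρ e w + ρ (e * e) w) := by abel
      _ = 0 := by rw [h1, h2, add_zero]
  zero_mem' := ⟨fun k _ => map_zero _, fun e _ _ => by simp⟩
  smul_mem' := by
    rintro c v ⟨hv1, hv2⟩
    refine ⟨fun k hk => by rw [map_smul, hv1 k hk], fun e he heK => ?_⟩
    rw [map_smul, map_smul, ← smul_add, ← smul_add, hv2 e he heK, smul_zero]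

theorem mem_VK {E K : Subgroup Γ} {v : V} : v ∈ VK ρ E K ↔
    (∀ k ∈ K, ρ k v = v) ∧ ∀ e ∈ E, e ∉ K → v + ρ e v + ρ (e * e) v = 0 := Iff.rfl

variable {ρ}

/-- one element outside `K` suffices -/
theorem mem_VK_of {E K : Subgroup Γ} (hE : Elem E) (hK : Hyper E K) {a : Γ} (ha : a ∈ E) (haK : a ∉ K) {v : V}
    (h1 : ∀ k ∈ K, ρ k v = v) (h2 : v + ρ a v + ρ (a * a) v = 0) : v ∈ VK ρ E K := by
  refine ⟨h1, fun e he heK => ?_⟩
  rcases hK.cov a ha haK e he with h | h | h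
  · exact absurd h heK
  · -- e = a⁻¹ k
    have e1 : ρ e v = ρ (a * a) v := by
      rw [hE.sq ha]
      have : ρ a⁻¹ (ρ (a * e) v) = ρ e v := by rw [← rho_mul]; congr 2; group
      rw [← this, h1 _ h]
    have e2 : ρ (e * e) v = ρ a v := by
      have h3 : ρ e (ρ (a * a) v) = ρ (a * a) (ρ e v) := by
        rw [← rho_mul, ← rho_mul, hE.comm e he _ (E.mul_mem ha ha)]
      rw [rho_mul, e1, h3, e1, ← rho_mul]
      congr 2
      rw [show a * a * (a * a) = a * a * a * a by group, hE.cube a ha, one_mul]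
    rw [e1, e2, ← h2]
    abel
  · -- e = a k
    have e1 : ρ e v = ρ a v := by
      have : ρ a (ρ (a⁻¹ * e) v) = ρ e v := by rw [← rho_mul]; congr 2; group
      rw [← this, h1 _ h]
    have e2 : ρ (e * e) v = ρ (a * a) v := by
      have h3 : ρ e (ρ a v) = ρ a (ρ e v) := by
        rw [← rho_mul, ← rho_mul, hE.comm e he _ ha]
      rw [rho_mul, e1, h3, e1, ← rho_mul]
    rw [e1, e2, ← h2]

/-- on the `K`-part `a⁻¹` is `1 + a` -/
theorem VK.inv {E K : Subgroup Γ} (hE : Elem E) {v : V} (hv : v ∈ VK ρ E K) {a : Γ} (ha : a ∈ E) (haK : a ∉ K) :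
    ρ a⁻¹ v = v + ρ a v := by
  have h := hv.2 a ha haK
  rw [hE.sq ha] at h
  exact (eq_of_add_eq_zero h).symm

/-! ### Independence -/

/-- sum over a finite subgroup -/
noncomputable def sumK (ρ : Representation (ZMod 2) Γ V) (K : Subgroup Γ) [Fintype K] : V →ₗ[ZMod 2] V :=
  ∑ k : K, ρ k

theorem sumK_apply (K : Subgroup Γ) [Fintype K] (v : V) : sumK ρ K v = ∑ k : K, ρ k v := by
  rw [sumK, LinearMap.sum_apply]

theorem sumK_mul (K : Subgroup Γ) [Fintype K] {x : Γ} (hx : x ∈ K) (v : V) : sumK ρ K (ρ x v) = sumK ρ K v := by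
  rw [sumK_apply, sumK_apply]
  refine Fintype.sum_equiv (Equiv.mulRight (⟨x, hx⟩ : K)) _ _ fun k => ?_
  rw [← rho_mul]
  rfl

/-- a finite elementary abelian 3-group has odd order -/
theorem odd_card {E K : Subgroup Γ} (hE : Elem E) (hK : K ≤ E) : Odd (Nat.card K) := by
  have : Finite E := hE.fin
  have : Finite K := Finite.of_injective (Subgroup.inclusion hK) (Subgroup.inclusion_injective hK)
  rw [← Nat.not_even_iff_odd]
  intro h
  obtain ⟨x, hx⟩ := exists_prime_orderOf_dvd_card' (G := K) 2 h.two_dvd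
  have h3 : x ^ 3 = 1 := by
    apply Subtype.ext
    have := hE.cube x (hK x.2)
    rw [pow_succ, pow_two]
    exact this
  have := orderOf_dvd_of_pow_eq_one h3
  rw [hx] at this
  norm_num at this

theorem sumK_fix {E K : Subgroup Γ} [Fintype K] (hE : Elem E) (hK : K ≤ E) {v : V} (hv : ∀ k ∈ K, ρ k v = v) :
    sumK ρ K v = v := by
  rw [sumK_apply, Finset.sum_congr rfl (fun k _ => hv (k : K) k.2), Finset.sum_const, Finset.card_univ,
    ← Nat.card_eq_fintype_card]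
  obtain ⟨m, hm⟩ := odd_card hE hK
  rw [hm, add_nsmul, mul_nsmul, one_nsmul, two_nsmul, add_self, nsmul_zero, zero_add]

theorem sumK_zero {E K L : Subgroup Γ} [Fintype K] (hK : Hyper E K) (hL : Hyper E L) (hne : K ≠ L) {v : V}
    (hv : v ∈ VK ρ E L) : sumK ρ K v = 0 := by
  have hnle : ¬ K ≤ L := fun h => hne (hK.eq_of_le hL h)
  obtain ⟨x, hxK, hxL⟩ := Set.not_subset.mp hnle
  have h := hv.2 x (hK.le hxK) hxL
  have h2 := congrArg (sumK ρ K) h
  rw [map_add, map_add, sumK_mul K hxK, sumK_mul K (K.mul_mem hxK hxK), map_zero, add_self, zero_add] at h2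
  exact h2

/-- the parts of pairwise different hyperplanes are independent -/
theorem indep {E : Subgroup Γ} (hE : Elem E) {ι : Type*} [Fintype ι] (K : ι → Subgroup Γ) (hK : ∀ i, Hyper E (K i))
    (hinj : Function.Injective K) (v : ι → V) (hv : ∀ i, v i ∈ VK ρ E (K i)) (h0 : ∑ i, v i = 0) : ∀ i, v i = 0 := by
  classical
  intro i
  have : Finite E := hE.fin
  have : Finite (K i) := Finite.of_injective (Subgroup.inclusion (hK i).le) (Subgroup.inclusion_injective (hK i).le)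
  have : Fintype (K i) := Fintype.ofFinite _
  have h1 := congrArg (sumK ρ (K i)) h0
  rw [map_sum, map_zero, Finset.sum_eq_single i] at h1
  · rwa [sumK_fix hE (hK i).le (hv i).1] at h1
  · intro l _ hl
    exact sumK_zero (hK i) (hK l) (fun h => hl (hinj h).symm) (hv l)
  · intro h
    exact absurd (mem_univ _) h

theorem indep' {E : Subgroup Γ} (hE : Elem E) {ι : Type*} [Fintype ι] (K : ι → Subgroup Γ) (hK : ∀ i, Hyper E (K i))
    (hinj : Function.Injective K) :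
    Function.Injective (fun v : (i : ι) → VK ρ E (K i) => ∑ i, (v i : V)) := by
  intro v w h
  have h1 : ∑ i, ((v i : V) - w i) = 0 := by
    rw [Finset.sum_sub_distrib]
    exact sub_eq_zero.mpr h
  funext i
  apply Subtype.ext
  exact sub_eq_zero.mp (indep hE K hK hinj (fun i => (v i : V) - w i)
    (fun i => (VK ρ E (K i)).sub_mem (v i).2 (w i).2) h1 i)

/-- `E` preserves its parts -/
theorem VK.rho_mem {E K : Subgroup Γ} (hE : Elem E) (hK : Hyper E K) {v : V} (hv : v ∈ VK ρ E K) {e : Γ} (he : e ∈ E) :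
    ρ e v ∈ VK ρ E K := by
  refine ⟨fun k hk => ?_, fun f hf hfK => ?_⟩
  · rw [← rho_mul, hE.comm k (hK.le hk) e he, rho_mul, hv.1 k hk]
  · have h1 : ρ f (ρ e v) = ρ e (ρ f v) := by rw [← rho_mul, ← rho_mul, hE.comm f hf e he]
    have h2 : ρ (f * f) (ρ e v) = ρ e (ρ (f * f) v) := by
      rw [← rho_mul, ← rho_mul, hE.comm (f * f) (E.mul_mem hf hf) e he]
    rw [h1, h2, ← map_add, ← map_add, hv.2 f hf hfK, map_zero]

theorem VK.ne {E K : Subgroup Γ} {v : V} (hv : v ∈ VK ρ E K) (h0 : v ≠ 0)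
    {a : Γ} (ha : a ∈ E) (haK : a ∉ K) : ρ a v ≠ v := by
  intro h
  have h1 := hv.2 a ha haK
  rw [rho_mul, h, h, add_self, zero_add] at h1
  exact h0 h1

/-- the four vectors `0, v, a v, a⁻¹ v` are different -/
theorem quad_inj {E K : Subgroup Γ} (hE : Elem E) (hK : Hyper E K) {v : V} (hv : v ∈ VK ρ E K) (h0 : v ≠ 0)
    {a : Γ} (ha : a ∈ E) (haK : a ∉ K) :
    Function.Injective (![0, ⟨v, hv⟩, ⟨ρ a v, VK.rho_mem hE hK hv ha⟩,
      ⟨ρ a⁻¹ v, VK.rho_mem hE hK hv (E.inv_mem ha)⟩] : Fin 4 → VK ρ E K) := by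
  have hmem : ∀ e ∈ E, ρ e v ∈ VK ρ E K := fun e he => VK.rho_mem hE hK hv he
  have hne : ρ a v ≠ v := VK.ne hv h0 ha haK
  have ha0 : ρ a v ≠ 0 := fun h => h0 (rho_inj ρ a (by rw [h, map_zero]))
  have hinv : ρ a⁻¹ v = v + ρ a v := VK.inv hE hv ha haK
  have h01 : (0 : VK ρ E K) ≠ ⟨v, hv⟩ := fun h => h0 (congrArg Subtype.val h).symm
  have h02 : (0 : VK ρ E K) ≠ ⟨ρ a v, hmem a ha⟩ := fun h => ha0 (congrArg Subtype.val h).symm
  have h03 : (0 : VK ρ E K) ≠ ⟨ρ a⁻¹ v, hmem _ (E.inv_mem ha)⟩ := by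
    intro h
    have h1 : (0 : V) = ρ a⁻¹ v := congrArg Subtype.val h
    rw [hinv] at h1
    exact hne (eq_of_add_eq_zero h1.symm).symm
  have h12 : (⟨v, hv⟩ : VK ρ E K) ≠ ⟨ρ a v, hmem a ha⟩ := fun h => hne (congrArg Subtype.val h).symm
  have h13 : (⟨v, hv⟩ : VK ρ E K) ≠ ⟨ρ a⁻¹ v, hmem _ (E.inv_mem ha)⟩ := by
    intro h
    have h1 : v = ρ a⁻¹ v := congrArg Subtype.val h
    rw [hinv] at h1
    exact ha0 (left_eq_add.mp h1)
  have h23 : (⟨ρ a v, hmem a ha⟩ : VK ρ E K) ≠ ⟨ρ a⁻¹ v, hmem _ (E.inv_mem ha)⟩ := by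
    intro h
    have h1 : ρ a v = ρ a⁻¹ v := congrArg Subtype.val h
    rw [hinv] at h1
    exact h0 (right_eq_add.mp h1)
  intro i k hik
  fin_cases i <;> fin_cases k <;> first
    | rfl
    | exact absurd hik h01
    | exact absurd hik h02
    | exact absurd hik h03
    | exact absurd hik h12
    | exact absurd hik h13
    | exact absurd hik h23
    | exact absurd hik.symm h01
    | exact absurd hik.symm h02
    | exact absurd hik.symm h03
    | exact absurd hik.symm h12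
    | exact absurd hik.symm h13
    | exact absurd hik.symm h23

/-- a nonzero part has at least 4 elements -/
theorem four_le {E K : Subgroup Γ} (hE : Elem E) (hK : Hyper E K) [Finite V] {v : V} (hv : v ∈ VK ρ E K) (h0 : v ≠ 0) :
    4 ≤ Nat.card (VK ρ E K) := by
  obtain ⟨a, ha, haK⟩ := hK.ne
  have := Nat.card_le_card_of_injective _ (quad_inj hE hK hv h0 ha haK)
  simpa using this

theorem card_ge {E : Subgroup Γ} (hE : Elem E) {ι : Type*} [Fintype ι] (K : ι → Subgroup Γ) (hK : ∀ i, Hyper E (K i))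
    (hinj : Function.Injective K) [Finite V] (hne : ∀ i, ∃ v ∈ VK ρ E (K i), v ≠ 0) :
    4 ^ Fintype.card ι ≤ Nat.card V := by
  have h1 := Nat.card_le_card_of_injective _ (indep' (ρ := ρ) hE K hK hinj)
  rw [Nat.card_pi] at h1
  refine le_trans ?_ h1
  rw [← Finset.card_univ, ← Finset.prod_const]
  refine Finset.prod_le_prod' fun i _ => ?_
  obtain ⟨v, hv, h0⟩ := hne i
  exact four_le hE (hK i) hv h0

/-! ### Existence of a hyperplane -/

/-- the projections onto the fixed points of `b`, `a b`, `a⁻¹ b` add up to the identity on `1 + a + a² = 0` -/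
theorem proj_sum {E : Subgroup Γ} (hE : Elem E) {a b : Γ} (ha : a ∈ E) (hb : b ∈ E) {w : V}
    (hw : w + ρ a w + ρ (a * a) w = 0) :
    (w + ρ b w + ρ (b * b) w) + (w + ρ (a * b) w + ρ (a * b * (a * b)) w) +
      (w + ρ (a⁻¹ * b) w + ρ (a⁻¹ * b * (a⁻¹ * b)) w) = w := by
  have hab := hE.comm a ha b hb
  have e1 : ρ (a * b) w = ρ b (ρ a w) := by rw [hab, rho_mul]
  have e2 : ρ (a⁻¹ * b) w = ρ b (ρ (a * a) w) := by
    rw [← hE.sq ha, hE.comm (a * a) (E.mul_mem ha ha) b hb, rho_mul]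
  have e3 : ρ (a * b * (a * b)) w = ρ (b * b) (ρ (a * a) w) := by
    rw [← rho_mul]
    congr 2
    rw [hE.comm (b * b) (E.mul_mem hb hb) (a * a) (E.mul_mem ha ha), mul_assoc a b (a * b), ← mul_assoc b a b, ← hab]
    group
  have e4 : ρ (a⁻¹ * b * (a⁻¹ * b)) w = ρ (b * b) (ρ a w) := by
    rw [← rho_mul]
    congr 2
    have hia : a⁻¹ * b = b * a⁻¹ := hE.comm a⁻¹ (E.inv_mem ha) b hb
    have h5 : a⁻¹ * a⁻¹ = a := by
      have := hE.sq (E.inv_mem ha)
      rwa [inv_inv] at this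
    rw [hia, mul_assoc b a⁻¹ (b * a⁻¹), ← mul_assoc a⁻¹ b a⁻¹, hia, mul_assoc b a⁻¹ a⁻¹, h5, ← mul_assoc]
  have h1 : ρ b w + ρ b (ρ a w) + ρ b (ρ (a * a) w) = 0 := by rw [← map_add, ← map_add, hw, map_zero]
  have h2 : ρ (b * b) w + ρ (b * b) (ρ a w) + ρ (b * b) (ρ (a * a) w) = 0 := by
    rw [← map_add, ← map_add, hw, map_zero]
  rw [e1, e2, e3, e4]
  calc _ = w + (w + w) + (ρ b w + ρ b (ρ a w) + ρ b (ρ (a * a) w)) +
        (ρ (b * b) w + ρ (b * b) (ρ a w) + ρ (b * b) (ρ (a * a) w)) := by abel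
    _ = w := by rw [h1, h2, add_self, add_zero, add_zero, add_zero]

/-- a nontrivial action of `E` has a nonzero part -/
theorem exists_hyper {E : Subgroup Γ} (hE : Elem E) {a : Γ} (ha : a ∈ E) {w : V} (haw : ρ a w ≠ w) :
    ∃ K, Hyper E K ∧ ∃ v ∈ VK ρ E K, v ≠ 0 := by
  classical
  have hfin : Finite E := hE.fin
  -- the set of candidate subgroups
  let P : Set (Subgroup E) := {F | ∃ v : V, v ≠ 0 ∧ (∀ k ∈ F, ρ (k : Γ) v = v) ∧ v + ρ a v + ρ (a * a) v = 0}
  have hbot : (⊥ : Subgroup E) ∈ P := by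
    refine ⟨w + ρ a w, ?_, ?_, ?_⟩
    · intro h
      exact haw (eq_of_add_eq_zero h).symm
    · intro k hk
      rw [Subgroup.mem_bot] at hk
      rw [hk, Subgroup.coe_one, rho_one]
    · have h3 : ρ (a * a) (ρ a w) = w := by rw [← rho_mul, hE.cube a ha, rho_one]
      rw [map_add, map_add, h3, rho_mul]
      calc w + ρ a w + (ρ a w + ρ a (ρ a w)) + (ρ a (ρ a w) + w)
          = (w + w) + (ρ a w + ρ a w) + (ρ a (ρ a w) + ρ a (ρ a w)) := by abel
        _ = 0 := by simp only [add_self]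
  obtain ⟨F, hF⟩ := (Set.toFinite P).exists_maximal ⟨⊥, hbot⟩
  obtain ⟨v, hv0, hvF, hva⟩ := hF.1
  have hmax : ∀ x : E, (∃ u : V, u ≠ 0 ∧ (∀ k ∈ F, ρ (k : Γ) u = u) ∧ ρ (x : Γ) u = u ∧
      u + ρ a u + ρ (a * a) u = 0) → x ∈ F := by
    rintro x ⟨u, hu0, huF, hux, hua⟩
    have hmem : F ⊔ Subgroup.zpowers x ∈ P := by
      refine ⟨u, hu0, ?_, hua⟩
      let S : Subgroup E :=
        { carrier := {k : E | ρ (k : Γ) u = u}
          mul_mem' := fun {p q} hp hq => by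
            simp only [Set.mem_ofPred_eq] at hp hq ⊢
            rw [Subgroup.coe_mul, rho_mul, hq, hp]
          one_mem' := by
            simp only [Set.mem_ofPred_eq]
            rw [Subgroup.coe_one, rho_one]
          inv_mem' := fun {p} hp => by
            simp only [Set.mem_ofPred_eq] at hp ⊢
            have := rho_inv ρ (p : Γ) u
            rw [hp] at this
            exact this }
      have hle : F ⊔ Subgroup.zpowers x ≤ S := by
        rw [sup_le_iff]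
        refine ⟨fun k hk => huF k hk, ?_⟩
        rw [Subgroup.zpowers_le]
        exact hux
      intro k hk
      exact hle hk
    have := hF.2 hmem le_sup_left
    exact this (Subgroup.mem_sup_right (Subgroup.mem_zpowers x))
  have haF : (⟨a, ha⟩ : E) ∉ F := by
    intro h
    have h1 := hvF _ h
    simp only at h1
    rw [rho_mul, h1, h1, add_self, zero_add] at hva
    exact hv0 hva
  -- covering for `a`
  have hcov : ∀ b : E, b ∈ F ∨ (⟨a, ha⟩ : E) * b ∈ F ∨ (⟨a, ha⟩ : E)⁻¹ * b ∈ F := by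
    intro b
    have hp := proj_sum hE ha b.2 hva
    have key : ∀ x : E, v + ρ (x : Γ) v + ρ ((x : Γ) * x) v ≠ 0 → x ∈ F := by
      intro x hx
      apply hmax x
      refine ⟨_, hx, ?_, ?_, ?_⟩
      · intro k hk
        rw [map_add, map_add, ← rho_mul, ← rho_mul, hE.comm k k.2 x x.2, hE.comm k k.2 _ (E.mul_mem x.2 x.2),
          rho_mul ρ (x : Γ) k, rho_mul ρ ((x : Γ) * x) k, hvF k hk]
      · rw [map_add, map_add, ← rho_mul, ← rho_mul, ← mul_assoc, hE.cube x x.2, rho_one]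
        abel
      · have hc : ∀ e ∈ E, ρ e (v + ρ (x : Γ) v + ρ ((x : Γ) * x) v) =
            ρ e v + ρ (x : Γ) (ρ e v) + ρ ((x : Γ) * x) (ρ e v) := by
          intro e he
          rw [map_add, map_add, ← rho_mul, ← rho_mul, ← rho_mul, ← rho_mul, hE.comm e he x x.2,
            hE.comm e he _ (E.mul_mem x.2 x.2)]
        rw [hc a ha, hc _ (E.mul_mem ha ha)]
        calc _ = (v + ρ a v + ρ (a * a) v) + ρ (x : Γ) (v + ρ a v + ρ (a * a) v) +
              ρ ((x : Γ) * x) (v + ρ a v + ρ (a * a) v) := by simp only [map_add]; abel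
          _ = 0 := by rw [hva, map_zero, map_zero, add_zero, add_zero]
    by_cases h1 : v + ρ (b : Γ) v + ρ ((b : Γ) * b) v = 0
    · by_cases h2 : v + ρ (a * b) v + ρ (a * b * (a * b)) v = 0
      · rw [h1, h2, zero_add, zero_add] at hp
        right; right
        apply key
        intro h3
        exact hv0 (hp.symm.trans h3)
      · right; left
        exact key (⟨a, ha⟩ * b) h2
    · left
      exact key b h1
  have hmapE : F.map E.subtype ≤ E := by
    rintro _ ⟨k, _, rfl⟩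
    exact k.2
  have hmem : ∀ x (hx : x ∈ E), x ∈ F.map E.subtype ↔ (⟨x, hx⟩ : E) ∈ F := by
    intro x hx
    constructor
    · rintro ⟨k, hk, rfl⟩
      exact hk
    · intro h
      exact ⟨_, h, rfl⟩
  have hyper : Hyper E (F.map E.subtype) := by
    refine ⟨hmapE, ⟨a, ha, fun h => haF ((hmem a ha).mp h)⟩, ?_⟩
    intro c hc hcF b hb
    have hcF' : (⟨c, hc⟩ : E) ∉ F := fun h => hcF ((hmem c hc).mpr h)
    have hcm : ∀ x y : E, x * y = y * x := fun x y => Subtype.ext (hE.comm x x.2 y y.2)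
    have h3 : ∀ x : E, x * x = x⁻¹ := fun x => Subtype.ext (hE.sq x.2)
    have key : (⟨b, hb⟩ : E) ∈ F ∨ (⟨c, hc⟩ : E) * ⟨b, hb⟩ ∈ F ∨ (⟨c, hc⟩ : E)⁻¹ * ⟨b, hb⟩ ∈ F := by
      generalize (⟨c, hc⟩ : E) = c' at hcF'
      generalize (⟨b, hb⟩ : E) = b'
      generalize (⟨a, ha⟩ : E) = a' at hcov haF
      have comb : ∀ {x y : E}, x ∈ F → y ∈ F → x * y ∈ F := fun hx hy => F.mul_mem hx hy
      have cbi : ∀ {x y : E}, x ∈ F → y ∈ F → x * y⁻¹ ∈ F := fun hx hy => F.mul_mem hx (F.inv_mem hy)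
      rcases hcov b' with hb1 | hb1 | hb1
      · exact Or.inl hb1
      · rcases hcov c' with hc1 | hc1 | hc1
        · exact absurd hc1 hcF'
        · right; right
          have := cbi hb1 hc1
          rwa [mul_inv_rev, show a' * b' * (c'⁻¹ * a'⁻¹) = c'⁻¹ * b' by
            rw [hcm c'⁻¹ a'⁻¹, hcm a' b', mul_assoc, mul_inv_cancel_left, hcm]] at this
        · right; left
          have := comb hb1 hc1
          rwa [show a' * b' * (a'⁻¹ * c') = c' * b' by
            rw [hcm a' b', mul_assoc, mul_inv_cancel_left, hcm]] at this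
      · rcases hcov c' with hc1 | hc1 | hc1
        · exact absurd hc1 hcF'
        · right; left
          have := comb hb1 hc1
          rwa [show a'⁻¹ * b' * (a' * c') = c' * b' by
            rw [hcm a'⁻¹ b', mul_assoc, inv_mul_cancel_left, hcm]] at this
        · right; right
          have := cbi hb1 hc1
          rwa [mul_inv_rev, inv_inv, show a'⁻¹ * b' * (c'⁻¹ * a') = c'⁻¹ * b' by
            rw [hcm c'⁻¹ a', hcm a'⁻¹ b', mul_assoc, inv_mul_cancel_left, hcm]] at this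
    rcases key with h | h | h
    · exact Or.inl ((hmem _ _).mpr h)
    · exact Or.inr (Or.inl ((hmem _ (E.mul_mem hc hb)).mpr h))
    · exact Or.inr (Or.inr ((hmem _ (E.mul_mem (E.inv_mem hc) hb)).mpr h))
  refine ⟨F.map E.subtype, hyper, v, ?_, hv0⟩
  refine mem_VK_of hE hyper ha (fun h => haF ((hmem a ha).mp h)) ?_ hva
  rintro _ ⟨k, hk, rfl⟩
  exact hvF k hk

end rep

/-! ### Conjugation -/

/-- the conjugate `x K x⁻¹` -/
def cj (x : Γ) (K : Subgroup Γ) : Subgroup Γ where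
  carrier := {k | x⁻¹ * k * x ∈ K}
  mul_mem' := fun {p q} hp hq => by
    simp only [Set.mem_ofPred_eq] at hp hq ⊢
    have := K.mul_mem hp hq
    rwa [show x⁻¹ * p * x * (x⁻¹ * q * x) = x⁻¹ * (p * q) * x by group] at this
  one_mem' := by
    simp only [Set.mem_ofPred_eq]
    rw [mul_one, inv_mul_cancel]
    exact K.one_mem
  inv_mem' := fun {p} hp => by
    simp only [Set.mem_ofPred_eq] at hp ⊢
    have := K.inv_mem hp
    rwa [show (x⁻¹ * p * x)⁻¹ = x⁻¹ * p⁻¹ * x by group] at this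

theorem mem_cj {x : Γ} {K : Subgroup Γ} {k : Γ} : k ∈ cj x K ↔ x⁻¹ * k * x ∈ K := Iff.rfl

theorem mem_cj' {x : Γ} {K : Subgroup Γ} {k : Γ} (hk : k ∈ K) : x * k * x⁻¹ ∈ cj x K := by
  rw [mem_cj, show x⁻¹ * (x * k * x⁻¹) * x = k by group]
  exact hk

theorem Hyper.cj {E K : Subgroup Γ} (hK : Hyper E K) {x : Γ} (hx : ModAbs.cj x E = E) :
    Hyper E (ModAbs.cj x K) := by
  have hin : ∀ {e : Γ}, e ∈ E → x⁻¹ * e * x ∈ E := fun {e} he => by
    rw [← hx] at he; exact he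
  refine ⟨?_, ?_, ?_⟩
  · intro k hk
    rw [← hx]
    exact hK.le hk
  · obtain ⟨a, ha, haK⟩ := hK.ne
    refine ⟨x * a * x⁻¹, ?_, ?_⟩
    · rw [← hx]; exact mem_cj' ha
    · rw [mem_cj, show x⁻¹ * (x * a * x⁻¹) * x = a by group]
      exact haK
  · intro a ha haK b hb
    rcases hK.cov _ (hin ha) haK _ (hin hb) with h | h | h
    · exact Or.inl h
    · right; left
      rwa [mem_cj, show x⁻¹ * (a * b) * x = x⁻¹ * a * x * (x⁻¹ * b * x) by group]
    · right; right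
      rwa [mem_cj, show x⁻¹ * (a⁻¹ * b) * x = (x⁻¹ * a * x)⁻¹ * (x⁻¹ * b * x) by group]

section rep

variable {V : Type*} [AddCommGroup V] [Module (ZMod 2) V] {ρ : Representation (ZMod 2) Γ V}

theorem VK.cj {E K : Subgroup Γ} {x : Γ} (hx : ModAbs.cj x E = E) {v : V} (hv : v ∈ VK ρ E K) :
    ρ x v ∈ VK ρ E (ModAbs.cj x K) := by
  refine ⟨fun k hk => ?_, fun e he heK => ?_⟩
  · have h := hv.1 _ (mem_cj.mp hk)
    have h2 : ρ k (ρ x v) = ρ x (ρ (x⁻¹ * k * x) v) := by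
      rw [← rho_mul, ← rho_mul]; congr 2; group
    rw [h2, h]
  · have he' : x⁻¹ * e * x ∈ E := by rw [← hx] at he; exact he
    have h := hv.2 _ he' heK
    have h2 : ρ e (ρ x v) = ρ x (ρ (x⁻¹ * e * x) v) := by
      rw [← rho_mul, ← rho_mul]; congr 2; group
    have h3 : ρ (e * e) (ρ x v) = ρ x (ρ (x⁻¹ * e * x * (x⁻¹ * e * x)) v) := by
      rw [← rho_mul, ← rho_mul]; congr 2; group
    rw [h2, h3, ← map_add, ← map_add, h, map_zero]

end rep

/-- The group-theoretic data. -/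
structure Setup (Γ : Type*) [Group Γ] (n : ℕ) where
  /-- the elementary abelian 3-group -/
  E : Subgroup Γ
  hE : Elem E
  /-- an involution inverting `E` -/
  j : Γ
  jj : j * j = 1
  inv : ∀ e ∈ E, j * e * j = e⁻¹
  /-- the small orbit of hyperplanes -/
  H : Fin n → Subgroup Γ
  hyp : ∀ i, Hyper E (H i)
  inj : Function.Injective H
  tr : ∀ i k, ∃ x, cj x E = E ∧ cj x (H i) = H k
  other : ∀ K, Hyper E K → (∃ i, K = H i) ∨
    ∃ c : Fin (n + 1) → Γ, (∀ i, cj (c i) E = E) ∧ Function.Injective fun i => cj (c i) K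

namespace Setup

variable {n : ℕ} (D : Setup Γ n)

/-- the part of the normaliser of `E` in which `φ` is automatically equivariant -/
def M : Set Γ := {x | cj x D.E = D.E ∧ D.j * x * D.j * x⁻¹ ∈ D.E}

theorem jinv : D.j⁻¹ = D.j := inv_eq_of_mul_eq_one_left D.jj

/-- `j` normalises every subgroup of `E` -/
theorem cj_j {K : Subgroup Γ} (hK : K ≤ D.E) : cj D.j K = K := by
  ext k
  rw [mem_cj, D.jinv]
  constructor
  · intro h
    have h1 := D.inv _ (hK h)
    rw [show D.j * (D.j * k * D.j) * D.j = (D.j * D.j) * k * (D.j * D.j) by group, D.jj, one_mul, mul_one] at h1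
    rw [h1]
    exact K.inv_mem h
  · intro h
    rw [D.inv k (hK h)]
    exact K.inv_mem h

/-- an element of `E` outside `H i` -/
noncomputable def a (i : Fin n) : Γ := (D.hyp i).ne.choose

theorem a_mem (i : Fin n) : D.a i ∈ D.E := (D.hyp i).ne.choose_spec.1

theorem a_not (i : Fin n) : D.a i ∉ D.H i := (D.hyp i).ne.choose_spec.2

end Setup

section rep

variable {n : ℕ} (D : Setup Γ n) {V : Type*} [AddCommGroup V] [Module (ZMod 2) V]

/-- the hypotheses on the module -/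
structure Good (ρ : Representation (ZMod 2) Γ V) : Prop where
  card : Nat.card V = 4 ^ n
  nontriv : ∃ e ∈ D.E, ∃ v, ρ e v ≠ v

variable {D} {ρ : Representation (ZMod 2) Γ V}

theorem Good.finite (hG : Good D ρ) : Finite V :=
  Nat.finite_of_card_ne_zero (by rw [hG.card]; positivity)

/-- a hyperplane with nonzero part is one of the `H i` -/
theorem Good.isH (hG : Good D ρ) {K : Subgroup Γ} (hK : Hyper D.E K) {v : V} (hv : v ∈ VK ρ D.E K) (h0 : v ≠ 0) :
    ∃ i, K = D.H i := by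
  have := hG.finite
  rcases D.other K hK with h | ⟨c, hc, hinj⟩
  · exact h
  · exfalso
    have h1 := card_ge (ρ := ρ) D.hE (fun i => cj (c i) K) (fun i => hK.cj (hc i)) hinj
      (fun i => ⟨_, VK.cj (hc i) hv, fun h => h0 (rho_inj ρ (c i) (by rw [h, map_zero]))⟩)
    rw [hG.card, Fintype.card_fin] at h1
    exact absurd h1 (not_le.mpr (Nat.pow_lt_pow_right (by norm_num) (Nat.lt_succ_self n)))

theorem Good.ne_bot (hG : Good D ρ) (i : Fin n) : ∃ v ∈ VK ρ D.E (D.H i), v ≠ 0 := by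
  obtain ⟨e, he, w, hw⟩ := hG.nontriv
  obtain ⟨K, hK, v, hv, h0⟩ := exists_hyper D.hE he hw
  obtain ⟨l, rfl⟩ := hG.isH hK hv h0
  obtain ⟨x, hx, hxl⟩ := D.tr l i
  refine ⟨ρ x v, ?_, fun h => h0 (rho_inj ρ x (by rw [h, map_zero]))⟩
  rw [← hxl]
  exact VK.cj hx hv

theorem Good.card_part (hG : Good D ρ) (i : Fin n) : Nat.card (VK ρ D.E (D.H i)) = 4 := by
  have := hG.finite
  have h1 := Nat.card_le_card_of_injective _ (indep' (ρ := ρ) D.hE D.H D.hyp D.inj)
  rw [Nat.card_pi, hG.card] at h1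
  have h4 : ∀ i, 4 ≤ Nat.card (VK ρ D.E (D.H i)) := by
    intro i
    obtain ⟨v, hv, h0⟩ := hG.ne_bot i
    exact four_le D.hE (D.hyp i) hv h0
  by_contra hne
  have hlt : 4 < Nat.card (VK ρ D.E (D.H i)) := lt_of_le_of_ne (h4 i) (Ne.symm hne)
  have h2 : ∏ _i : Fin n, 4 < ∏ i : Fin n, Nat.card (VK ρ D.E (D.H i)) :=
    Finset.prod_lt_prod (fun _ _ => by norm_num) (fun i _ => h4 i) ⟨i, mem_univ _, hlt⟩
  rw [Finset.prod_const, Finset.card_univ, Fintype.card_fin] at h2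
  exact absurd h1 (not_le.mpr h2)

theorem Good.bij (hG : Good D ρ) :
    Function.Bijective (fun v : (i : Fin n) → VK ρ D.E (D.H i) => ∑ i, (v i : V)) := by
  have := hG.finite
  rw [Nat.bijective_iff_injective_and_card]
  refine ⟨indep' (ρ := ρ) D.hE D.H D.hyp D.inj, ?_⟩
  rw [Nat.card_pi, hG.card, Finset.prod_congr rfl (fun i _ => hG.card_part i), Finset.prod_const, Finset.card_univ,
    Fintype.card_fin]

/-- the elements of the part of `H i` -/
theorem Good.cases (hG : Good D ρ) {i : Fin n} {v w : V} (hv : v ∈ VK ρ D.E (D.H i)) (h0 : v ≠ 0)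
    {a : Γ} (ha : a ∈ D.E) (haK : a ∉ D.H i)
    (hw : w ∈ VK ρ D.E (D.H i)) : w = 0 ∨ w = v ∨ w = ρ a v ∨ w = ρ a⁻¹ v := by
  have := hG.finite
  have hb : Function.Bijective (![0, ⟨v, hv⟩, ⟨ρ a v, VK.rho_mem D.hE (D.hyp i) hv ha⟩,
      ⟨ρ a⁻¹ v, VK.rho_mem D.hE (D.hyp i) hv (D.E.inv_mem ha)⟩] : Fin 4 → VK ρ D.E (D.H i)) := by
    rw [Nat.bijective_iff_injective_and_card]
    refine ⟨quad_inj D.hE (D.hyp i) hv h0 ha haK, ?_⟩
    rw [hG.card_part i, Nat.card_eq_fintype_card, Fintype.card_fin]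
  obtain ⟨k, hk⟩ := hb.2 ⟨w, hw⟩
  have hk' := (congrArg Subtype.val hk).symm
  fin_cases k
  · exact Or.inl hk'
  · exact Or.inr (Or.inl hk')
  · exact Or.inr (Or.inr (Or.inl hk'))
  · exact Or.inr (Or.inr (Or.inr hk'))

/-- every part contains a nonzero vector fixed by `j` -/
theorem Good.exists_fix (hG : Good D ρ) (i : Fin n) : ∃ v ∈ VK ρ D.E (D.H i), v ≠ 0 ∧ ρ D.j v = v := by
  obtain ⟨v, hv, h0⟩ := hG.ne_bot i
  by_cases h : ρ D.j v = v
  · exact ⟨v, hv, h0, h⟩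
  · have hj : ρ D.j v ∈ VK ρ D.E (D.H i) := by
      have := VK.cj (D.cj_j le_rfl) hv
      rwa [D.cj_j (D.hyp i).le] at this
    refine ⟨v + ρ D.j v, (VK ρ D.E (D.H i)).add_mem hv hj, fun h1 => h (eq_of_add_eq_zero h1).symm, ?_⟩
    rw [map_add, ← rho_mul, D.jj, rho_one, add_comm]

/-- the fixed vector of `j` in the part of `H i` -/
noncomputable def Good.v (hG : Good D ρ) (i : Fin n) : V := (hG.exists_fix i).choose

theorem Good.v_mem (hG : Good D ρ) (i : Fin n) : hG.v i ∈ VK ρ D.E (D.H i) := (hG.exists_fix i).choose_spec.1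

theorem Good.v_ne (hG : Good D ρ) (i : Fin n) : hG.v i ≠ 0 := (hG.exists_fix i).choose_spec.2.1

theorem Good.j_v (hG : Good D ρ) (i : Fin n) : ρ D.j (hG.v i) = hG.v i := (hG.exists_fix i).choose_spec.2.2

theorem rho_j (e : Γ) (he : e ∈ D.E) (v : V) : ρ D.j (ρ e v) = ρ e⁻¹ (ρ D.j v) := by
  rw [← rho_mul, ← rho_mul, ← D.inv e he, mul_assoc (D.j * e), D.jj, mul_one]

theorem Good.fix_unique (hG : Good D ρ) {i : Fin n} {w : V} (hw : w ∈ VK ρ D.E (D.H i)) (h0 : w ≠ 0)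
    (hj : ρ D.j w = w) : w = hG.v i := by
  have ha := D.a_mem i
  have haK := D.a_not i
  have key : ∀ e ∈ D.E, e ∉ D.H i → w ≠ ρ e (hG.v i) := by
    intro e he heK h
    have h1 : ρ e⁻¹ (hG.v i) = ρ e (hG.v i) := by
      rw [← h, ← hj, h, rho_j e he, hG.j_v i]
    have h2 : ρ e (ρ e (hG.v i)) = hG.v i := by rw [← h1, rho_inv']
    have h3 := (hG.v_mem i).2 e he heK
    rw [rho_mul, h2] at h3
    have h4 : ρ e (hG.v i) = 0 := by
      calc ρ e (hG.v i) = hG.v i + ρ e (hG.v i) + hG.v i := by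
            rw [add_comm (hG.v i), add_assoc, add_self, add_zero]
        _ = 0 := h3
    exact hG.v_ne i (rho_inj ρ e (by rw [h4, map_zero]))
  rcases hG.cases (hG.v_mem i) (hG.v_ne i) ha haK hw with h | h | h | h
  · exact absurd h h0
  · exact h
  · exact absurd h (key _ ha haK)
  · exact absurd h (key _ (D.E.inv_mem ha) (fun h' => haK (by simpa using (D.H i).inv_mem h')))

/-- the key formula -/
theorem Good.rho_v (hG : Good D ρ) {x : Γ} (hx : x ∈ D.M) {i k : Fin n} (hik : cj x (D.H i) = D.H k) :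
    ρ x (hG.v i) = ρ (D.j * x * D.j * x⁻¹) (hG.v k) := by
  obtain ⟨hx1, he⟩ := hx
  set e := D.j * x * D.j * x⁻¹ with hedef
  have hmem : ρ x (hG.v i) ∈ VK ρ D.E (D.H k) := by
    rw [← hik]
    exact VK.cj hx1 (hG.v_mem i)
  have hjx : ρ D.j (ρ x (hG.v i)) = ρ e (ρ x (hG.v i)) := by
    calc ρ D.j (ρ x (hG.v i)) = ρ (D.j * x) (hG.v i) := by rw [rho_mul]
      _ = ρ (D.j * x) (ρ D.j (hG.v i)) := by rw [hG.j_v i]
      _ = ρ e (ρ x (hG.v i)) := by
        rw [← rho_mul, ← rho_mul, hedef, inv_mul_cancel_right]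
  have hfix : ρ e⁻¹ (ρ x (hG.v i)) = hG.v k := by
    apply hG.fix_unique (VK.rho_mem D.hE (D.hyp k) hmem (D.E.inv_mem he))
    · intro h
      exact hG.v_ne i (rho_inj ρ x (rho_inj ρ e⁻¹ (by rw [h, map_zero, map_zero])))
    · rw [rho_j _ (D.E.inv_mem he), hjx, inv_inv, ← rho_mul, D.hE.sq he]
  rw [← hfix, rho_inv']

/-- elements of the normaliser permute the `H i` -/
theorem Good.perm (hG : Good D ρ) {x : Γ} (hx : cj x D.E = D.E) (i : Fin n) : ∃ k, cj x (D.H i) = D.H k :=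
  hG.isH ((D.hyp i).cj hx) (VK.cj hx (hG.v_mem i)) (fun h => hG.v_ne i (rho_inj ρ x (by rw [h, map_zero])))

/-! ### The isomorphism -/

/-- coordinates with respect to `v i`, `a i v i` -/
noncomputable def Good.coord (hG : Good D ρ) : (Fin n → ZMod 2 × ZMod 2) →ₗ[ZMod 2] V where
  toFun c := ∑ i, ((c i).1 • hG.v i + (c i).2 • ρ (D.a i) (hG.v i))
  map_add' c d := by
    rw [← Finset.sum_add_distrib]
    refine Finset.sum_congr rfl fun i _ => ?_
    rw [Pi.add_apply, Prod.fst_add, Prod.snd_add, add_smul, add_smul]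
    abel
  map_smul' r c := by
    rw [RingHom.id_apply, Finset.smul_sum]
    refine Finset.sum_congr rfl fun i _ => ?_
    rw [Pi.smul_apply, Prod.smul_fst, Prod.smul_snd, smul_add, smul_smul, smul_smul, smul_eq_mul, smul_eq_mul]

theorem Good.coord_apply (hG : Good D ρ) (c : Fin n → ZMod 2 × ZMod 2) :
    hG.coord c = ∑ i, ((c i).1 • hG.v i + (c i).2 • ρ (D.a i) (hG.v i)) := rfl

theorem Good.coord_bij (hG : Good D ρ) : Function.Bijective hG.coord := by
  have := hG.finite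
  rw [Nat.bijective_iff_injective_and_card]
  constructor
  · rw [← LinearMap.ker_eq_bot, LinearMap.ker_eq_bot']
    intro c hc
    have h1 := indep (ρ := ρ) D.hE D.H D.hyp D.inj
      (fun i => (c i).1 • hG.v i + (c i).2 • ρ (D.a i) (hG.v i))
      (fun i => (VK ρ D.E (D.H i)).add_mem ((VK ρ D.E (D.H i)).smul_mem _ (hG.v_mem i))
        ((VK ρ D.E (D.H i)).smul_mem _ (VK.rho_mem D.hE (D.hyp i) (hG.v_mem i) (D.a_mem i)))) hc
    funext i
    have h2 := h1 i
    have hz : ∀ r : ZMod 2, r = 0 ∨ r = 1 := by decide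
    rcases hz (c i).1 with h3 | h3 <;> rcases hz (c i).2 with h4 | h4
    · exact Prod.ext h3 h4
    · exfalso
      simp only [h3, h4, zero_smul, one_smul, zero_add] at h2
      exact hG.v_ne i (rho_inj ρ (D.a i) (by rw [h2, map_zero]))
    · exfalso
      simp only [h3, h4, zero_smul, one_smul, add_zero] at h2
      exact hG.v_ne i h2
    · exfalso
      simp only [h3, h4, one_smul] at h2
      exact VK.ne (hG.v_mem i) (hG.v_ne i) (D.a_mem i) (D.a_not i) (eq_of_add_eq_zero h2).symm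
  · rw [hG.card, Nat.card_fun, Nat.card_prod, Nat.card_zmod, Nat.card_eq_fintype_card (α := Fin n), Fintype.card_fin]

/-- coordinates as an equivalence -/
noncomputable def Good.coordE (hG : Good D ρ) : (Fin n → ZMod 2 × ZMod 2) ≃ₗ[ZMod 2] V :=
  LinearEquiv.ofBijective hG.coord hG.coord_bij

theorem Good.coordE_v (hG : Good D ρ) (i : Fin n) : hG.coordE (Pi.single i (1, 0)) = hG.v i := by
  change hG.coord _ = _
  rw [hG.coord_apply, Finset.sum_eq_single i]
  · rw [Pi.single_eq_same, one_smul, zero_smul, add_zero]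
  · intro k _ hk
    rw [Pi.single_eq_of_ne hk, Prod.fst_zero, Prod.snd_zero, zero_smul, zero_smul, add_zero]
  · intro h
    exact absurd (mem_univ _) h

theorem Good.coordE_av (hG : Good D ρ) (i : Fin n) : hG.coordE (Pi.single i (0, 1)) = ρ (D.a i) (hG.v i) := by
  change hG.coord _ = _
  rw [hG.coord_apply, Finset.sum_eq_single i]
  · rw [Pi.single_eq_same, one_smul, zero_smul, zero_add]
  · intro k _ hk
    rw [Pi.single_eq_of_ne hk, Prod.fst_zero, Prod.snd_zero, zero_smul, zero_smul, add_zero]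
  · intro h
    exact absurd (mem_univ _) h

/-- the action of `E` on `v i` in terms of `a i` -/
theorem Good.cov (hG : Good D ρ) {e : Γ} (he : e ∈ D.E) (i : Fin n) :
    (e ∈ D.H i ∧ ρ e (hG.v i) = hG.v i) ∨
    (D.a i * e ∈ D.H i ∧ ρ e (hG.v i) = hG.v i + ρ (D.a i) (hG.v i)) ∨
    ((D.a i)⁻¹ * e ∈ D.H i ∧ ρ e (hG.v i) = ρ (D.a i) (hG.v i)) := by
  have hv := hG.v_mem i
  rcases (D.hyp i).cov _ (D.a_mem i) (D.a_not i) e he with h | h | h
  · exact Or.inl ⟨h, hv.1 e h⟩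
  · refine Or.inr (Or.inl ⟨h, ?_⟩)
    rw [← VK.inv D.hE hv (D.a_mem i) (D.a_not i)]
    have : ρ (D.a i)⁻¹ (ρ (D.a i * e) (hG.v i)) = ρ e (hG.v i) := by rw [← rho_mul]; congr 2; group
    rw [← this, hv.1 _ h]
  · refine Or.inr (Or.inr ⟨h, ?_⟩)
    have : ρ (D.a i) (ρ ((D.a i)⁻¹ * e) (hG.v i)) = ρ e (hG.v i) := by rw [← rho_mul]; congr 2; group
    rw [← this, hv.1 _ h]

end rep

section two

variable {n : ℕ} {D : Setup Γ n} {V₀ V : Type*} [AddCommGroup V₀] [Module (ZMod 2) V₀] [AddCommGroup V]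
  [Module (ZMod 2) V] {ρ₀ : Representation (ZMod 2) Γ V₀} {ρ : Representation (ZMod 2) Γ V}

/-- the isomorphism of two good modules -/
noncomputable def iso (h₀ : Good D ρ₀) (h : Good D ρ) : V₀ ≃ₗ[ZMod 2] V := h₀.coordE.symm.trans h.coordE

theorem iso_v (h₀ : Good D ρ₀) (h : Good D ρ) (i : Fin n) : iso h₀ h (h₀.v i) = h.v i := by
  rw [iso, LinearEquiv.trans_apply, ← h₀.coordE_v i, LinearEquiv.symm_apply_apply, h.coordE_v]

theorem iso_av (h₀ : Good D ρ₀) (h : Good D ρ) (i : Fin n) :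
    iso h₀ h (ρ₀ (D.a i) (h₀.v i)) = ρ (D.a i) (h.v i) := by
  rw [iso, LinearEquiv.trans_apply, ← h₀.coordE_av i, LinearEquiv.symm_apply_apply, h.coordE_av]

theorem iso_E (h₀ : Good D ρ₀) (h : Good D ρ) {e : Γ} (he : e ∈ D.E) (i : Fin n) :
    iso h₀ h (ρ₀ e (h₀.v i)) = ρ e (h.v i) := by
  rcases h₀.cov he i with ⟨hK, h1⟩ | ⟨hK, h1⟩ | ⟨hK, h1⟩
  · rw [h1, iso_v, (h.v_mem i).1 e hK]
  · rw [h1, map_add, iso_v, iso_av, ← VK.inv D.hE (h.v_mem i) (D.a_mem i) (D.a_not i)]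
    have : ρ (D.a i)⁻¹ (ρ (D.a i * e) (h.v i)) = ρ e (h.v i) := by rw [← rho_mul]; congr 2; group
    rw [← this, (h.v_mem i).1 _ hK]
  · rw [h1, iso_av]
    have : ρ (D.a i) (ρ ((D.a i)⁻¹ * e) (h.v i)) = ρ e (h.v i) := by rw [← rho_mul]; congr 2; group
    rw [← this, (h.v_mem i).1 _ hK]

/-- two linear maps agreeing on all `v i`, `a i v i` are equal -/
theorem Good.ext (h₀ : Good D ρ₀) {f g : V₀ →ₗ[ZMod 2] V} (h1 : ∀ i, ∀ e ∈ D.E, f (ρ₀ e (h₀.v i)) = g (ρ₀ e (h₀.v i))) :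
    ∀ v, f v = g v := by
  intro v
  obtain ⟨c, rfl⟩ := h₀.coord_bij.2 v
  have h1' : ∀ i, f (h₀.v i) = g (h₀.v i) := by
    intro i
    have := h1 i 1 D.E.one_mem
    rwa [rho_one] at this
  rw [h₀.coord_apply, map_sum, map_sum]
  refine Finset.sum_congr rfl fun i _ => ?_
  rw [map_add, map_add, map_smul, map_smul, map_smul, map_smul, h1' i, h1 i _ (D.a_mem i)]

/-- `iso` commutes with `M` -/
theorem iso_M (h₀ : Good D ρ₀) (h : Good D ρ) {x : Γ} (hx : x ∈ D.M) (v : V₀) :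
    iso h₀ h (ρ₀ x v) = ρ x (iso h₀ h v) := by
  have hx1 := hx.1
  have key : ∀ i, ∀ e ∈ D.E, ((iso h₀ h).toLinearMap.comp (ρ₀ x)) (ρ₀ e (h₀.v i)) =
      ((ρ x).comp (iso h₀ h).toLinearMap) (ρ₀ e (h₀.v i)) := by
    intro i e he
    obtain ⟨k, hk⟩ := h₀.perm hx1 i
    rw [LinearMap.comp_apply, LinearMap.comp_apply, LinearEquiv.coe_coe, iso_E h₀ h he]
    have hxe : x * e * x⁻¹ ∈ D.E := by
      rw [← hx1]; exact mem_cj' he
    have e1 : ρ₀ x (ρ₀ e (h₀.v i)) = ρ₀ (x * e * x⁻¹ * (D.j * x * D.j * x⁻¹)) (h₀.v k) := by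
      rw [rho_mul ρ₀ (x * e * x⁻¹), ← h₀.rho_v hx hk, ← rho_mul, ← rho_mul, inv_mul_cancel_right]
    have e2 : ρ x (ρ e (h.v i)) = ρ (x * e * x⁻¹ * (D.j * x * D.j * x⁻¹)) (h.v k) := by
      rw [rho_mul ρ (x * e * x⁻¹), ← h.rho_v hx hk, ← rho_mul, ← rho_mul, inv_mul_cancel_right]
    rw [e1, e2, iso_E h₀ h (D.E.mul_mem hxe hx.2)]
  exact h₀.ext key v

/-- `iso` commutes with a further element `x`, if the common commutant is trivial -/
theorem iso_ext (h₀ : Good D ρ₀) (h : Good D ρ) (x : Γ)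
    (hc : ∀ c : V₀ ≃ₗ[ZMod 2] V₀, (∀ y ∈ D.M, x⁻¹ * y * x ∈ D.M → ∀ v, c (ρ₀ y v) = ρ₀ y (c v)) → ∀ v, c v = v) (v : V₀) :
    iso h₀ h (ρ₀ x v) = ρ x (iso h₀ h v) := by
  let R₀ : V₀ ≃ₗ[ZMod 2] V₀ := LinearEquiv.ofLinearMap (ρ₀ x) (ρ₀ x⁻¹)
    (LinearMap.ext fun v => rho_inv' ρ₀ x v) (LinearMap.ext fun v => rho_inv ρ₀ x v)
  let R : V ≃ₗ[ZMod 2] V := LinearEquiv.ofLinearMap (ρ x) (ρ x⁻¹)
    (LinearMap.ext fun v => rho_inv' ρ x v) (LinearMap.ext fun v => rho_inv ρ x v)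
  let c : V₀ ≃ₗ[ZMod 2] V₀ := ((R₀.symm.trans (iso h₀ h)).trans R).trans (iso h₀ h).symm
  have hc1 : ∀ v, c v = (iso h₀ h).symm (ρ x (iso h₀ h (ρ₀ x⁻¹ v))) := fun v => rfl
  have hcv := hc c (fun y hy hyx w => by
    rw [hc1, hc1, LinearEquiv.symm_apply_eq, iso_M h₀ h hy, LinearEquiv.apply_symm_apply]
    have e1 : ρ₀ x⁻¹ (ρ₀ y w) = ρ₀ (x⁻¹ * y * x) (ρ₀ x⁻¹ w) := by
      rw [← rho_mul, ← rho_mul]; congr 2; group
    rw [e1, iso_M h₀ h hyx, ← rho_mul, ← rho_mul]
    congr 2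
    group)
  have := hcv (ρ₀ x v)
  rw [hc1, rho_inv, LinearEquiv.symm_apply_eq] at this
  exact this.symm

/-- **Uniqueness of the module.** -/
theorem exists_iso (h₀ : Good D ρ₀) (h : Good D ρ) (x : Γ)
    (hc : ∀ c : V₀ ≃ₗ[ZMod 2] V₀, (∀ y ∈ D.M, x⁻¹ * y * x ∈ D.M → ∀ v, c (ρ₀ y v) = ρ₀ y (c v)) → ∀ v, c v = v)
    (htop : Subgroup.closure (insert x D.M) = ⊤) :
    ∃ f : V₀ ≃ₗ[ZMod 2] V, ∀ g v, f (ρ₀ g v) = ρ g (f v) := by
  refine ⟨iso h₀ h, fun g => ?_⟩
  have hg : g ∈ Subgroup.closure (insert x D.M) := by rw [htop]; exact Subgroup.mem_top g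
  induction hg using Subgroup.closure_induction with
  | mem y hy =>
    rcases Set.mem_insert_iff.mp hy with rfl | hy
    · exact iso_ext h₀ h _ hc
    · exact iso_M h₀ h hy
  | one => intro v; rw [rho_one, rho_one]
  | mul y z _ _ ihy ihz => intro v; rw [rho_mul, rho_mul, ihy, ihz]
  | inv y _ ih =>
    intro v
    apply rho_inj ρ y
    rw [← ih, rho_inv', rho_inv']

/-- A criterion for the trivial commutant: `w` is the only nonzero vector fixed by all of `S`, and its images span. -/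
theorem commutant_trivial (Y : Set Γ) (w : V₀) (hw : w ≠ 0)
    (hfix : ∀ v, (∀ y ∈ Y, ρ₀ y w = w → ρ₀ y v = v) → v = 0 ∨ v = w)
    (hspan : Submodule.span (ZMod 2) {v | ∃ g ∈ Submonoid.closure Y, v = ρ₀ g w} = ⊤)
    (c : V₀ ≃ₗ[ZMod 2] V₀) (hc : ∀ y ∈ Y, ∀ v, c (ρ₀ y v) = ρ₀ y (c v)) : ∀ v, c v = v := by
  have hcw : c w = w := by
    rcases hfix (c w) (fun y hy hyw => by rw [← hc y hy, hyw]) with h | h
    · exact absurd ((LinearEquiv.map_eq_zero_iff c).mp h) hw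
    · exact h
  have hc' : ∀ g ∈ Submonoid.closure Y, ∀ v, c (ρ₀ g v) = ρ₀ g (c v) := by
    intro g hg
    induction hg using Submonoid.closure_induction with
    | mem y hy => exact hc y hy
    | one => intro v; rw [rho_one, rho_one]
    | mul y z _ _ ihy ihz => intro v; rw [rho_mul, rho_mul, ihy, ihz]
  intro v
  have hv : v ∈ Submodule.span (ZMod 2) {v | ∃ g ∈ Submonoid.closure Y, v = ρ₀ g w} := by
    rw [hspan]; exact Submodule.mem_top
  induction hv using Submodule.span_induction with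
  | mem v hv =>
    obtain ⟨g, hg, rfl⟩ := hv
    rw [hc' g hg, hcw]
  | zero => exact map_zero c
  | add u v _ _ ihu ihv => rw [map_add, ihu, ihv]
  | smul r v _ ih => rw [map_smul, ih]

end two

end Cfsg.Agent.MonsterU.ModAbs
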