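import Cfsg.Agent.MonsterU.ModAbs
import Cfsg.Agent.MonsterU.ChartOf

/-!
# `ModuleThm` from the abstract uniqueness theorem

Glue between `ModAbs.exists_iso` (for `Γ = Co1`, `n = 12`) and `Ch.ModuleThm`.
-/

set_option autoImplicit false

universe u

namespace Cfsg.Agent.MonsterU.ModGlue

open Cfsg Cfsg.Spor Cfsg.Agent.MonsterU.Lam2 Cfsg.Agent.MonsterU.ModAbs

/-- a nontrivial representation of the simple group `Co1` is faithful -/
theorem faithful {V : Type*} [AddCommGroup V] [Module (ZMod 2) V] (ρ : Representation (ZMod 2) Co1 V)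
    (hne : ∃ g v, ρ g v ≠ v) {g : Co1} (hg : ∀ v, ρ g v = v) : g = 1 := by
  have hs : IsSimpleGroup (Co0 ⧸ Subgroup.center Co0) := Cfsg.Agent.S0399.result.1
  let N : Subgroup Co1 :=
    { carrier := {g | ∀ v, ρ g v = v}
      one_mem' := fun v => rho_one ρ v
      mul_mem' := fun {a b} ha hb v => by rw [rho_mul, hb v, ha v]
      inv_mem' := fun {a} ha v => by
        have := rho_inv ρ a v
        rwa [ha v] at this }
  have hN : N.Normal := ⟨fun n hn g v => by
    rw [rho_mul, rho_mul, hn, rho_inv']⟩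
  rcases hs.eq_bot_or_eq_top_of_normal N hN with h | h
  · have h1 : g ∈ N := hg
    rw [h, Subgroup.mem_bot] at h1
    exact h1
  · exfalso
    obtain ⟨k, v, hkv⟩ := hne
    apply hkv
    have h1 : k ∈ N := by rw [h]; trivial
    exact h1 v

/-- both modules are `Good` -/
theorem good (D : Setup Co1 12) {V : Type*} [AddCommGroup V] [Module (ZMod 2) V] (hV : Nat.card V = 2 ^ 24)
    (ρ : Representation (ZMod 2) Co1 V) (hne : ∃ g v, ρ g v ≠ v) : Good D ρ := by
  refine ⟨by rw [hV]; norm_num, ?_⟩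
  obtain ⟨a, ha, haH⟩ := (D.hyp 0).ne
  refine ⟨a, ha, ?_⟩
  by_contra hno
  push Not at hno
  have h1 := faithful ρ hne hno
  apply haH
  rw [h1]
  exact (D.H 0).one_mem

theorem rep1_ne : ∃ g v, rep1 g v ≠ v := by
  by_contra hno
  push Not at hno
  have hs : IsSimpleGroup (Co0 ⧸ Subgroup.center Co0) := Cfsg.Agent.S0399.result.1
  obtain ⟨a, b, hab⟩ := hs.exists_pair_ne
  exact hab (eq_of_smul fun x => by rw [← rep1_apply, ← rep1_apply, hno, hno])

/-- **The module theorem** from a `Setup` for `Co1`, an element `x` with trivial commutant condition and generation. -/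
theorem moduleThm (D : Setup Co1 12) (x : Co1)
    (hc : ∀ c : L2 ≃ₗ[ZMod 2] L2, (∀ y ∈ D.M, x⁻¹ * y * x ∈ D.M → ∀ v, c (rep1 y v) = rep1 y (c v)) → ∀ v, c v = v)
    (htop : Subgroup.closure (insert x D.M) = ⊤) : Ch.ModuleThm.{u} := by
  intro V _ _ hV ρ hne
  obtain ⟨f, hf⟩ := exists_iso (good D card_L2 rep1 rep1_ne) (good D hV ρ hne) x hc htop
  refine ⟨f.symm, fun g v => ?_⟩
  rw [LinearEquiv.symm_apply_eq, hf, LinearEquiv.apply_symm_apply]

end Cfsg.Agent.MonsterU.ModGlue
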