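import Cfsg.Agent.MonsterU.ModEv
import Mathlib.Tactic.IntervalCases
import Mathlib.Logic.Function.Iterate

/-!
# The orbits of `2.M12` on the functionals of `F₃⁶`

Codes `n < 729`; two matrices `A1`, `A2` and the sign.  Orbits of length 24 (the codes `hN i` and their negatives), 264, 440.
-/

set_option autoImplicit false

namespace Cfsg.Agent.MonsterU.ModOrb

open Cfsg.Agent.MonsterU.ModEv

/-- the matrix of the first generator -/
def A1 (k : ℕ) : ℕ := [9, 243, 641, 372, 385, 311].getD k 0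

/-- the matrix of the second generator -/
def A2 (k : ℕ) : ℕ := [680, 162, 311, 372, 27, 2].getD k 0

/-- the small orbit, up to sign -/
def hN (i : ℕ) : ℕ := [368, 373, 374, 392, 394, 403, 445, 448, 458, 473, 481, 485].getD i 0

/-- generators of the subgroup of order `3^5` -/
def al (m : ℕ) : ℕ := [27, 4, 10, 82, 246].getD m 0

/-- linear combinations of the `al m` -/
def comb (s : ℕ) : ℕ :=
  (dg s 0 * dg (al 0) 0 + dg s 1 * dg (al 1) 0 + dg s 2 * dg (al 2) 0 + dg s 3 * dg (al 3) 0 + dg s 4 * dg (al 4) 0) % 3 +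
  (dg s 0 * dg (al 0) 1 + dg s 1 * dg (al 1) 1 + dg s 2 * dg (al 2) 1 + dg s 3 * dg (al 3) 1 + dg s 4 * dg (al 4) 1) % 3 * 3 +
  (dg s 0 * dg (al 0) 2 + dg s 1 * dg (al 1) 2 + dg s 2 * dg (al 2) 2 + dg s 3 * dg (al 3) 2 + dg s 4 * dg (al 4) 2) % 3 * 9 +
  (dg s 0 * dg (al 0) 3 + dg s 1 * dg (al 1) 3 + dg s 2 * dg (al 2) 3 + dg s 3 * dg (al 3) 3 + dg s 4 * dg (al 4) 3) % 3 * 27 +
  (dg s 0 * dg (al 0) 4 + dg s 1 * dg (al 1) 4 + dg s 2 * dg (al 2) 4 + dg s 3 * dg (al 3) 4 + dg s 4 * dg (al 4) 4) % 3 * 81 +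
  (dg s 0 * dg (al 0) 5 + dg s 1 * dg (al 1) 5 + dg s 2 * dg (al 2) 5 + dg s 3 * dg (al 3) 5 + dg s 4 * dg (al 4) 5) % 3 * 243

/-- table of the tree, 10 bits for each code -/
def tab : ℕ := 0x1ab9b97e419705944eabcd35d66b300106ba3e2f04f13dcfb322b63aa7b20850dcdb11e5f279ca754798764e06dff2a5546222366163040da8529661c5790d64b12725051c8241f73d1e055423804428292b5d24b2c273fe2315e716040d71a853b911722585d43e9957596ab00681f9206d7d96634dca70c2f2b9781ee411e5ae1a4f94e2d6381665c16f4f5bc52d82851249aca0876ad9ad148150c015ad8480f5c5d12866a9621140a45889ad8ac4f49c860051484435435ec041e40c61a8fe235e1656ed47089537f9c29e567a319c28dff418ea996c525db2456986a28a28d956923f9cd9e5f9b67cc3352c52191a84e0904a2147c1730adc9491a65057a396866155a811e0694f555a38170679f836481c10be3f7a870a755d1622c5acb5358fd0355416d1d42d3700909064a7a1d8e87ccb765103b28c526853de6f9aec3b5534a9e2d956c73299890c1573acba097595c78540dab0c69102cc73e846501fa1dd60f80d178ae9148c63e712556b85870015f305d4087d480c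6604dd2390c296b985444e58a8024d4a124ddc8fecca74543fd1398e3d676a5a7c172546d99ace219ca704cd6964d0d9ad296c5575346cd1c0ae0d91417815d95c08d0a45e0a570816606ca48aad2509c9860aad5cd7869123074e6165798b44e6ed355b5137f8a5a325a03d3868c3e1c0e20d1bc9f87d3e5f606a798883a9362d8fd8cb219d21aa37d216ab8cf41e892b614b410793a6179dc3ad86f65cf82d58c9b95b2b5d635145334538f26014dc89dac2ac1011d6496ceab930aa6650da05fdb59251710654cf87e8950693d0eaa7718b306cfb664e051e93004b6a7d61039f71602f6c8d472c02b109d138a287685635beb1d7d1fe1f2dda19ec51741e33a8d44c83754a4c2d97e695e00fce45cd6497882b046436186a0c8c9b036751c29a46f51c282aa9f9f0427796d3e62241e8a6a2389c1563b6d6994240a0939f183489a10381914d412b5651b1e3708e97051a3124eaae61690c3a8dd34aac885e763781babe64140c615571a1a6a6f110ab9148fe040059f928cf100975be6c1465e33c7d7264f2898125c1d1ee915ad09771b60e1d6482d75dc3d716120ccb64454593c6f96142476b51fc0e289fe0a65770ea5514f5a4ca48f688151d5a00373aaad02171ad4c666ca27bd050541b6ee4807688661166384a010eb1a68a850ff7494f924520e85a4153cb1d4a03def1fdfa0380b0422e03d0f5860c16a141fd413f5954f1f84f24f5584a489a1094fd7e800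

/-- the next code towards the root -/
def par (n : ℕ) : ℕ := (tab >>> (10 * n)) % 1024

/-- one step -/
def step (n : ℕ) : Bool :=
  (Nat.blt 0 (par n) && Nat.blt (par n) 729) &&
  (Nat.beq (par n) n || Nat.beq (par n) (T A1 n) || Nat.beq (par n) (T A2 n) || Nat.beq (par n) (neg n) ||
    Nat.beq n (T A1 (par n)) || Nat.beq n (T A2 (par n)))

/-- the root -/
def root (n : ℕ) : ℕ := par^[7] n

/-- `p` for all `n < 729`, `0 < n` -/
def all (p : ℕ → Bool) : Bool := (List.range 728).all fun n => p (n + 1)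

theorem all_sound {p : ℕ → Bool} (h : all p = true) {n : ℕ} (h0 : 0 < n) (hn : n < 729) : p n = true := by
  have := List.all_eq_true.1 h (n - 1) (List.mem_range.2 (by omega))
  rwa [Nat.sub_add_cancel h0] at this

theorem step_ok : all step = true := by decide +kernel

/-- `a t = 0`, `b t ≠ 0` for some vector `t` -/
def sep (a b : ℕ) : Bool := (List.range 729).any fun t => Nat.beq (dot a t % 3) 0 && !Nat.beq (dot b t % 3) 0

theorem sep_sound {a b : ℕ} (h : sep a b = true) : ∃ t < 729, dot a t % 3 = 0 ∧ dot b t % 3 ≠ 0 := by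
  obtain ⟨t, ht, h1⟩ := List.any_eq_true.1 h
  rw [Bool.and_eq_true, Bool.not_eq_true', Nat.beq_eq] at h1
  refine ⟨t, List.mem_range.1 ht, h1.1, fun h2 => ?_⟩
  rw [h2] at h1
  exact absurd h1.2 (by decide)

/-- the same with `t` in the subgroup of order `3^5` -/
def sepA (a b : ℕ) : Bool :=
  (List.range 243).any fun s => Nat.beq (dot a (comb s) % 3) 0 && !Nat.beq (dot b (comb s) % 3) 0

theorem sepA_sound {a b : ℕ} (h : sepA a b = true) : ∃ s < 243, dot a (comb s) % 3 = 0 ∧ dot b (comb s) % 3 ≠ 0 := by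
  obtain ⟨t, ht, h1⟩ := List.any_eq_true.1 h
  rw [Bool.and_eq_true, Bool.not_eq_true', Nat.beq_eq] at h1
  refine ⟨t, List.mem_range.1 ht, h1.1, fun h2 => ?_⟩
  rw [h2] at h1
  exact absurd h1.2 (by decide)

/-- the small orbit contains `n` -/
def small (n : ℕ) : Bool := (List.range 12).any fun i => Nat.beq n (hN i) || Nat.beq (neg n) (hN i)

/-- 13 codes of the middle orbit -/
def c1 (i : ℕ) : ℕ := [1, 3, 4, 5, 9, 10, 11, 12, 13, 14, 15, 17, 27].getD i 0

/-- 13 codes of the large orbit -/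
def c2 (i : ℕ) : ℕ := [16, 31, 39, 41, 43, 44, 47, 49, 52, 53, 86, 94, 95].getD i 0

theorem root_ok : (all fun n => small n || Nat.beq (root n) 575 || Nat.beq (root n) 532) = true := by decide +kernel

theorem hN_root : ((List.range 12).all fun i => Nat.blt 0 (hN i) && Nat.blt (hN i) 729 && Nat.beq (root (hN i)) 368) = true := by
  decide +kernel

theorem c1_root : ((List.range 13).all fun i => Nat.blt 0 (c1 i) && Nat.blt (c1 i) 729 && Nat.beq (root (c1 i)) 575) = true := by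
  decide +kernel

theorem c2_root : ((List.range 13).all fun i => Nat.blt 0 (c2 i) && Nat.blt (c2 i) 729 && Nat.beq (root (c2 i)) 532) = true := by
  decide +kernel

theorem hN_sep : ((List.range 12).all fun i => (List.range 12).all fun k => Nat.beq i k || sep (hN i) (hN k)) = true := by
  decide +kernel

theorem hN_sepA : ((List.range 12).all fun i => (List.range 12).all fun k => Nat.beq i k || sepA (hN i) (hN k)) = true := by
  decide +kernel

theorem c1_sep : ((List.range 13).all fun i => (List.range 13).all fun k => Nat.beq i k || sep (c1 i) (c1 k)) = true := by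
  decide +kernel

theorem c2_sep : ((List.range 13).all fun i => (List.range 13).all fun k => Nat.beq i k || sep (c2 i) (c2 k)) = true := by
  decide +kernel

theorem all2 {m : ℕ} {p : ℕ → ℕ → Bool} (h : ((List.range m).all fun i => (List.range m).all fun k => Nat.beq i k || p i k) = true)
    {i k : ℕ} (hi : i < m) (hk : k < m) (hik : i ≠ k) : p i k = true := by
  have h1 := List.all_eq_true.1 (List.all_eq_true.1 h i (List.mem_range.2 hi)) k (List.mem_range.2 hk)
  rw [Bool.or_eq_true, Nat.beq_eq] at h1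
  exact h1.resolve_left hik

theorem all3 {m r : ℕ} {c : ℕ → ℕ}
    (h : ((List.range m).all fun i => Nat.blt 0 (c i) && Nat.blt (c i) 729 && Nat.beq (root (c i)) r) = true)
    {i : ℕ} (hi : i < m) : 0 < c i ∧ c i < 729 ∧ root (c i) = r := by
  have h1 := List.all_eq_true.1 h i (List.mem_range.2 hi)
  rw [Bool.and_eq_true, Bool.and_eq_true, Nat.beq_eq, Nat.blt_eq, Nat.blt_eq] at h1
  exact ⟨h1.1.1, h1.1.2, h1.2⟩

/-- an equivalence relation on the nonzero codes preserved by the generators -/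
structure Inv (R : ℕ → ℕ → Prop) : Prop where
  refl : ∀ n, 0 < n → n < 729 → R n n
  symm : ∀ n m, R n m → R m n
  trans : ∀ n m l, R n m → R m l → R n l
  r1 : ∀ n, 0 < n → n < 729 → R n (T A1 n)
  r2 : ∀ n, 0 < n → n < 729 → R n (T A2 n)
  rneg : ∀ n, 0 < n → n < 729 → R n (neg n)

namespace Inv

variable {R : ℕ → ℕ → Prop} (h : Inv R)
include h

theorem par_ok {n : ℕ} (h0 : 0 < n) (hn : n < 729) : 0 < par n ∧ par n < 729 ∧ R n (par n) := by
  have h1 := all_sound step_ok h0 hn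
  unfold step at h1
  simp only [Bool.and_eq_true, Bool.or_eq_true, Nat.beq_eq, Nat.blt_eq] at h1
  obtain ⟨⟨h2, h3⟩, h4⟩ := h1
  refine ⟨h2, h3, ?_⟩
  rcases h4 with ((((h4 | h4) | h4) | h4) | h4) | h4
  · rw [h4]; exact h.refl n h0 hn
  · rw [h4]; exact h.r1 n h0 hn
  · rw [h4]; exact h.r2 n h0 hn
  · rw [h4]; exact h.rneg n h0 hn
  · have h5 := h.r1 _ h2 h3
    rw [← h4] at h5
    exact h.symm _ _ h5
  · have h5 := h.r2 _ h2 h3
    rw [← h4] at h5
    exact h.symm _ _ h5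

theorem iter (k : ℕ) {n : ℕ} (h0 : 0 < n) (hn : n < 729) : 0 < par^[k] n ∧ par^[k] n < 729 ∧ R n (par^[k] n) := by
  induction k with
  | zero => exact ⟨h0, hn, h.refl n h0 hn⟩
  | succ k ih =>
    rw [Function.iterate_succ_apply']
    have h1 := h.par_ok ih.1 ih.2.1
    exact ⟨h1.1, h1.2.1, h.trans _ _ _ ih.2.2 h1.2.2⟩

theorem root_rel {n : ℕ} (h0 : 0 < n) (hn : n < 729) : R n (root n) := (h.iter 7 h0 hn).2.2

theorem rel_of_root {n m : ℕ} (h0 : 0 < n) (hn : n < 729) (m0 : 0 < m) (hm : m < 729) (he : root n = root m) : R n m := by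
  have h1 := h.root_rel h0 hn
  rw [he] at h1
  exact h.trans _ _ _ h1 (h.symm _ _ (h.root_rel m0 hm))

/-- (i) -/
theorem small_conn {i k : ℕ} (hi : i < 12) (hk : k < 12) : R (hN i) (hN k) := by
  obtain ⟨a1, a2, a3⟩ := all3 hN_root hi
  obtain ⟨b1, b2, b3⟩ := all3 hN_root hk
  exact h.rel_of_root a1 a2 b1 b2 (a3.trans b3.symm)

/-- (ii) -/
theorem cases {n : ℕ} (h0 : 0 < n) (hn : n < 729) : (∃ i < 12, n = hN i ∨ neg n = hN i) ∨
    ∃ c : Fin 13 → ℕ, (∀ i, 0 < c i ∧ c i < 729 ∧ R n (c i)) ∧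
      ∀ i k, i ≠ k → ∃ t < 729, dot (c i) t % 3 = 0 ∧ dot (c k) t % 3 ≠ 0 := by
  have h1 := all_sound root_ok h0 hn
  simp only [Bool.or_eq_true, Nat.beq_eq] at h1
  rcases h1 with (h1 | h1) | h1
  · left
    obtain ⟨i, hi, h2⟩ := List.any_eq_true.1 h1
    rw [Bool.or_eq_true, Nat.beq_eq, Nat.beq_eq] at h2
    exact ⟨i, List.mem_range.1 hi, h2⟩
  · right
    refine ⟨fun i => c1 i, fun i => ?_, fun i k hik => ?_⟩
    · obtain ⟨a1, a2, a3⟩ := all3 c1_root i.2
      exact ⟨a1, a2, h.rel_of_root h0 hn a1 a2 (h1.trans a3.symm)⟩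
    · exact sep_sound (all2 c1_sep i.2 k.2 (fun he => hik (Fin.ext he)))
  · right
    refine ⟨fun i => c2 i, fun i => ?_, fun i k hik => ?_⟩
    · obtain ⟨a1, a2, a3⟩ := all3 c2_root i.2
      exact ⟨a1, a2, h.rel_of_root h0 hn a1 a2 (h1.trans a3.symm)⟩
    · exact sep_sound (all2 c2_sep i.2 k.2 (fun he => hik (Fin.ext he)))

end Inv

/-- (iii) -/
theorem hN_sep' {i k : ℕ} (hi : i < 12) (hk : k < 12) (hik : i ≠ k) :
    ∃ t < 729, dot (hN i) t % 3 = 0 ∧ dot (hN k) t % 3 ≠ 0 := sep_sound (all2 hN_sep hi hk hik)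

/-- (iv) -/
theorem hN_sepA' {i k : ℕ} (hi : i < 12) (hk : k < 12) (hik : i ≠ k) :
    ∃ s < 243, dot (hN i) (comb s) % 3 = 0 ∧ dot (hN k) (comb s) % 3 ≠ 0 := sepA_sound (all2 hN_sepA hi hk hik)

/-- the codes `hN i` are codes of nonzero functionals -/
theorem hN_pos {i : ℕ} (hi : i < 12) : 0 < hN i ∧ hN i < 729 :=
  ⟨(all3 hN_root hi).1, (all3 hN_root hi).2.1⟩

end Cfsg.Agent.MonsterU.ModOrb
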