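import Cfsg.Agent.MonsterU.ModLin
import Cfsg.Agent.MonsterU.ModOrb
import Cfsg.Agent.MonsterU.ModGlue

/-!
# The module theorem from explicit relations in `Co1`

`Rels el`: the relations between the elements `el 0, …, el 5` (basis of `E = 3⁶`), `el 6 = j`, `el 7 = l₁`, `el 8 = l₂`,
`el 9 = h` of `Co1`.  They imply `ModuleThm`.
-/

set_option autoImplicit false

universe u

namespace Cfsg.Agent.MonsterU.ModThm

open Cfsg Cfsg.Spor Cfsg.Agent.MonsterU.Lam2 Cfsg.Agent.MonsterU.ModAbs Cfsg.Agent.MonsterU.ModComm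
open Cfsg.Agent.MonsterU.ModEv Cfsg.Agent.MonsterU.ModLin Cfsg.Agent.MonsterU.ModOrb

/-- the conjugation tables of `g_m = h⁻¹ (ev (al m)) h` (`m < 5`) and `g_5 = h⁻¹ j h` -/
def Bt (m k : ℕ) : ℕ :=
  (([[1, 3, 9, 27, 81, 243], [6, 81, 385, 27, 2, 641], [18, 385, 486, 27, 538, 1], [162, 2, 538, 27, 3, 125],
    [680, 538, 442, 27, 9, 6], [486, 125, 18, 54, 641, 2]] : List (List ℕ)).getD m []).getD k 0

/-- `j g_m j g_m⁻¹ = ev (beta m)` -/
def beta (m : ℕ) : ℕ := [27, 316, 0, 607, 551, 0].getD m 0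

/-- the elements `g_m` -/
def gm {Γ : Type*} [Group Γ] (el : ℕ → Γ) (m : ℕ) : Γ :=
  if m < 5 then (el 9)⁻¹ * ev el (dg (al m)) * el 9 else (el 9)⁻¹ * el 6 * el 9

/-- the relations -/
structure Rels (el : ℕ → Co1) : Prop where
  comm : ∀ k < 6, ∀ l < 6, el k * el l = el l * el k
  cube : ∀ k < 6, el k ^ 3 = 1
  indep : ∀ n, 0 < n → n < 729 → ev el (dg n) ≠ 1
  jj : el 6 * el 6 = 1
  jinv : ∀ k < 6, el 6 * el k * el 6 = (el k)⁻¹
  l1 : ∀ k < 6, el 7 * el k * (el 7)⁻¹ = ev el (dg (A1 k))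
  l2 : ∀ k < 6, el 8 * el k * (el 8)⁻¹ = ev el (dg (A2 k))
  l1j : el 6 * el 7 * el 6 * (el 7)⁻¹ = 1
  l2j : el 6 * el 8 * el 6 * (el 8)⁻¹ = 1
  gB : ∀ m < 6, ∀ k < 6, gm el m * el k * (gm el m)⁻¹ = ev el (dg (Bt m k))
  gj : ∀ m < 6, el 6 * gm el m * el 6 * (gm el m)⁻¹ = ev el (dg (beta m))
  gen : ∀ S : Subgroup Co1, el 0 ∈ S → el 1 ∈ S → el 7 ∈ S → el 8 ∈ S → el 9 ∈ S → S = ⊤

variable {el : ℕ → Co1}

theorem Rels.bas (R : Rels el) : Bas el := ⟨R.comm, R.cube, R.indep⟩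

theorem Rels.inv (R : Rels el) : Inv (Rel R.bas) where
  refl n _ _ := Rel.refl R.bas n
  symm _ _ h := h.symm
  trans _ _ _ h h' := h.trans h'
  r1 n _ _ := Rel.of_conj R.bas R.l1 n
  r2 n _ _ := Rel.of_conj R.bas R.l2 n
  rneg n _ _ := Rel.neg R.bas n

/-- the `Setup` for `Co1` -/
noncomputable def Rels.setup (R : Rels el) : Setup Co1 12 :=
  mkSetup R.bas (el 6) R.jj R.jinv hN (fun _ hi => hN_pos hi) (fun _ hi _ hk => R.inv.small_conn hi hk)
    (fun _ h0 hn => R.inv.cases h0 hn) (fun _ hi _ hk hik => hN_sep' hi hk hik)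

theorem comb_eq (s : ℕ) : comb s = cd (fun l => ∑ m ∈ Finset.range 5, dg s m * dg (al m) l) := by
  simp only [comb, cd, Finset.sum_range_succ, Finset.sum_range_zero, zero_add]

theorem ev_zero0 {Γ : Type*} [Group Γ] (e : ℕ → Γ) : ev e (dg 0) = 1 :=
  ev_zero' _ fun k _ => by unfold dg; simp

/-- the subgroup `A` of order `3⁵` -/
def Asub (el : ℕ → Co1) : Subgroup Co1 := Subgroup.closure {x | ∃ m < 5, x = ev el (dg (al m))}

theorem Rels.A_le (R : Rels el) : Asub el ≤ EE R.bas := by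
  unfold Asub
  rw [Subgroup.closure_le]
  rintro _ ⟨m, _, rfl⟩
  exact ev_mem R.bas _

theorem Rels.sep (R : Rels el) (i k : Fin 12) (hik : i ≠ k) :
    ∃ x ∈ Asub el, x ∈ R.setup.H i ∧ x ∉ R.setup.H k := by
  obtain ⟨s, _, h1, h2⟩ := hN_sepA' i.2 k.2 (fun h => hik (Fin.ext h))
  refine ⟨ev el (dg (comb s)), ?_, ?_, ?_⟩
  · rw [comb_eq, ev_code R.bas]
    exact comb_mem R.bas (Asub el) al (dg s) fun m hm => Subgroup.subset_closure ⟨m, hm, rfl⟩
  · rw [dot_eq] at h1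
    exact (mem_KK R.bas).2 h1
  · rw [dot_eq] at h2
    exact fun h => h2 ((mem_KK R.bas).1 h)

theorem Rels.gm_mem (R : Rels el) (m : ℕ) (hm : m < 6) : gm el m ∈ R.setup.M :=
  mem_M (B := R.bas) (D := R.setup) rfl (R.gB m hm) (R.gj m hm)

/-- **(A1)** -/
theorem Rels.moduleThm (R : Rels el) : Ch.ModuleThm.{u} := by
  refine ModGlue.moduleThm R.setup (el 9) ?_ ?_
  · intro c hc
    have hj : (el 9)⁻¹ * R.setup.j * el 9 ∈ R.setup.M := by
      have h := R.gm_mem 5 (by norm_num)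
      rwa [gm, if_neg (by norm_num)] at h
    have hA : ∀ y ∈ Asub el, (el 9)⁻¹ * y * el 9 ∈ Msub R.setup := by
      intro y hy
      unfold Asub at hy
      induction hy using Subgroup.closure_induction with
      | mem x hx =>
        obtain ⟨m, hm, rfl⟩ := hx
        have h := R.gm_mem m (by omega)
        rwa [gm, if_pos hm] at h
      | one =>
        rw [mul_one, inv_mul_cancel]
        exact (Msub R.setup).one_mem
      | mul x y _ _ hx hy =>
        have := (Msub R.setup).mul_mem hx hy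
        rwa [show (el 9)⁻¹ * x * el 9 * ((el 9)⁻¹ * y * el 9) = (el 9)⁻¹ * (x * y) * el 9 by group] at this
      | inv x _ hx =>
        have := (Msub R.setup).inv_mem hx
        rwa [show ((el 9)⁻¹ * x * el 9)⁻¹ = (el 9)⁻¹ * x⁻¹ * el 9 by group] at this
    have hG := ModGlue.good R.setup card_L2 rep1 ModGlue.rep1_ne
    have hout : ∀ i, ∃ x ∈ Asub el, x ∉ R.setup.H i := by
      intro i
      obtain ⟨k, hk⟩ : ∃ k : Fin 12, k ≠ i := exists_ne i
      obtain ⟨x, hx, _, h⟩ := R.sep k i hk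
      exact ⟨x, hx, h⟩
    exact commutant hG (Asub el) R.A_le (fun i k hik => R.sep i k hik) hout c
      (fun y hy => hc y (E_le R.setup (R.A_le hy)) (hA y hy)) (hc R.setup.j (j_mem R.setup) hj)
  · have hle : (Msub R.setup : Set Co1) ⊆ Subgroup.closure (insert (el 9) R.setup.M) :=
      fun x hx => Subgroup.subset_closure (Set.mem_insert_of_mem _ hx)
    apply R.gen
    · exact hle (E_le R.setup (e_mem R.bas (by norm_num)))
    · exact hle (E_le R.setup (e_mem R.bas (by norm_num)))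
    · exact hle (mem_M (B := R.bas) (D := R.setup) (b := 0) rfl R.l1 (by rw [ev_zero0]; exact R.l1j))
    · exact hle (mem_M (B := R.bas) (D := R.setup) (b := 0) rfl R.l2 (by rw [ev_zero0]; exact R.l2j))
    · exact Subgroup.subset_closure (Set.mem_insert _ _)

end Cfsg.Agent.MonsterU.ModThm
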