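import Cfsg.Agent.MonsterU.ModLet
import Cfsg.Agent.MonsterU.Lam2
import Cfsg.Agent.MonsterU.ModThm

/-!
# The relations in `Co1`

Words in explicit elements of `Co1` are compared on the 24 basis codes of `Λ / 2Λ`.
-/

set_option autoImplicit false
set_option maxRecDepth 100000

namespace Cfsg.Agent.MonsterU.ModCode

open Cfsg Cfsg.Spor Cfsg.Agent.MonsterU.Lam2 Cfsg.Agent.MonsterU.ModEv
open Cfsg.Agent.MonsterX.Lin24 Cfsg.Agent.MonsterX.FrameAct Cfsg.Agent.MonsterX.FrameLet
open Cfsg.Agent.MonsterX.FrameStab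

/-! ### Codes on `L2` -/

/-- the code of a class -/
noncomputable def code (x : L2) : ℕ := codeL (Function.surjInv cl_surjective x)

theorem code_cl (v : leechLattice) : code (cl v) = codeL v := by
  unfold code
  rw [codeL_eq_iff, ← cl_eq, Function.surjInv_eq cl_surjective]

theorem code_lt (x : L2) : code x < 2 ^ 24 := codeL_lt _

theorem code_inj {x y : L2} (h : code x = code y) : x = y := by
  obtain ⟨v, rfl⟩ := cl_surjective x
  obtain ⟨w, rfl⟩ := cl_surjective y
  rw [code_cl, code_cl, codeL_eq_iff] at h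
  exact cl_eq.2 h

/-- `g` acts through the matrix `c` -/
def Rp (g : Co1) (c : ℕ) : Prop := ∀ x : L2, code (g • x) = lin c (code x)

theorem Rp.of_co0 {A : Co0} {c : ℕ} (h : ∀ v, codeL (A • v) = lin c (codeL v)) : Rp (QuotientGroup.mk A) c := by
  intro x
  obtain ⟨v, rfl⟩ := cl_surjective x
  rw [mk_smul, smul_cl, code_cl, code_cl, h]

theorem eq_of_code {g h : Co1} (hgh : ∀ x : L2, code (g • x) = code (h • x)) : g = h :=
  eq_of_smul fun x => code_inj (hgh x)

theorem Rp.inv {g : Co1} {c d : ℕ} (hg : Rp g c) (h : cmpOK c d idc = true) : Rp g⁻¹ d := by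
  intro x
  have hy : ∃ y : L2, code y = lin d (code x) := by
    obtain ⟨v, hv⟩ := codeL_surj (lin_lt d (code x))
    exact ⟨cl v, by rw [code_cl, hv]⟩
  obtain ⟨y, hy⟩ := hy
  have h1 : code (g • y) = code x := by
    rw [hg, hy, ← lin_cmp h, lin_one (code_lt x)]
  rw [← code_inj h1, inv_smul_smul, hy, code_inj h1]

/-- the image of a code under a word -/
noncomputable def run (t : ℕ → ℕ) (w : List ℕ) (v : ℕ) : ℕ :=
  List.rec (motive := fun _ => ℕ) v (fun a _ r => lin (t a) r) w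

theorem run_cons (t : ℕ → ℕ) (a : ℕ) (w : List ℕ) (v : ℕ) : run t (a :: w) v = lin (t a) (run t w v) := rfl

theorem run_xor (t : ℕ → ℕ) (w : List ℕ) (a b : ℕ) : run t w (a ^^^ b) = run t w a ^^^ run t w b := by
  induction w with
  | nil => rfl
  | cons x w ih => rw [run_cons, run_cons, run_cons, ih, lin_xor]

theorem run_zero (t : ℕ → ℕ) (w : List ℕ) : run t w 0 = 0 := by
  induction w with
  | nil => rfl
  | cons x w ih => rw [run_cons, ih, lin_zero]

/-- the product of a word -/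
def W (g : ℕ → Co1) (w : List ℕ) : Co1 := (w.map g).prod

theorem W_cons (g : ℕ → Co1) (a : ℕ) (w : List ℕ) : W g (a :: w) = g a * W g w := by
  unfold W; rw [List.map_cons, List.prod_cons]

theorem W_append (g : ℕ → Co1) (w w' : List ℕ) : W g (w ++ w') = W g w * W g w' := by
  unfold W; rw [List.map_append, List.prod_append]

theorem code_W {t : ℕ → ℕ} {g : ℕ → Co1} {w : List ℕ} (h : ∀ a ∈ w, Rp (g a) (t a)) (x : L2) :
    code (W g w • x) = run t w (code x) := by
  induction w with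
  | nil => show code ((1 : Co1) • x) = code x; rw [one_smul]
  | cons a w ih =>
    rw [W_cons, mul_smul, h a List.mem_cons_self, ih fun b hb => h b (List.mem_cons_of_mem _ hb), run_cons]

/-- two additive maps on codes that agree on the basis agree -/
theorem ext_basis {f g : ℕ → ℕ} (hf0 : f 0 = 0) (hg0 : g 0 = 0) (hf : ∀ a b, f (a ^^^ b) = f a ^^^ f b)
    (hg : ∀ a b, g (a ^^^ b) = g a ^^^ g b) (h : ∀ i < 24, f (2 ^ i) = g (2 ^ i)) {v : ℕ} (hv : v < 2 ^ 24) :
    f v = g v := by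
  have h0 : allB 24 (fun i => Nat.beq (col idc i) (2 ^ i)) = true := by decide +kernel
  have h1 : ∀ n ≤ 24, f (linN idc v n) = g (linN idc v n) := by
    intro n
    induction n with
    | zero => intro _; rw [linN_zero, hf0, hg0]
    | succ n ih =>
      intro hn
      have h2 := Nat.eq_of_beq_eq_true (allB_sound h0 n (by omega))
      rw [linN_succ, hf, hg, ih (by omega), h2]
      cases v.testBit n
      · show _ ^^^ f 0 = _ ^^^ g 0
        rw [hf0, hg0]
      · show _ ^^^ f (2 ^ n) = _ ^^^ g (2 ^ n)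
        rw [h n (by omega)]
  have h2 := h1 24 le_rfl
  have h3 : linN idc v 24 = v := lin_one hv
  rwa [h3] at h2

/-- comparison of two words -/
noncomputable def same (t : ℕ → ℕ) (w₁ w₂ : List ℕ) : Bool :=
  allB 24 fun i => Nat.beq (run t w₁ (2 ^ i)) (run t w₂ (2 ^ i))

theorem W_eq {t : ℕ → ℕ} {g : ℕ → Co1} {w₁ w₂ : List ℕ} (h₁ : ∀ a ∈ w₁, Rp (g a) (t a))
    (h₂ : ∀ a ∈ w₂, Rp (g a) (t a)) (h : same t w₁ w₂ = true) : W g w₁ = W g w₂ := by
  apply eq_of_code
  intro x
  rw [code_W h₁, code_W h₂]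
  exact ext_basis (run_zero t w₁) (run_zero t w₂) (run_xor t w₁) (run_xor t w₂)
    (fun i hi => Nat.eq_of_beq_eq_true (allB_sound h i hi)) (code_lt x)

/-- the matrix of a word -/
noncomputable def isMat (t : ℕ → ℕ) (w : List ℕ) (c : ℕ) : Bool :=
  allB 24 fun i => Nat.beq (run t w (2 ^ i)) (lin c (2 ^ i))

theorem Rp.of_word {t : ℕ → ℕ} {g : ℕ → Co1} {w : List ℕ} {c : ℕ} (h : ∀ a ∈ w, Rp (g a) (t a))
    (hc : isMat t w c = true) : Rp (W g w) c := by
  intro x
  rw [code_W h]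
  exact ext_basis (run_zero t w) (lin_zero c) (run_xor t w) (lin_xor c)
    (fun i hi => Nat.eq_of_beq_eq_true (allB_sound hc i hi)) (code_lt x)

/-! ### The letters -/

/-- matrices of the letters `0..11` sign changes, `12` shift, `13` cube twist, `14` projective inversion, `15` ξ, `16`,
`17` inverses of `12`, `13` -/
noncomputable def lt (a : ℕ) : ℕ :=
  if a < 12 then yC.getD a 0 else [paC, pdC, pgC, xiC, paIC, pdIC].getD (a - 12) 0

theorem exists_letter (a : ℕ) : ∃ g : Co1, a < 18 → Rp g (lt a) := by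
  by_cases h : a < 12
  · obtain ⟨A, hA⟩ := ModLet.exists_y a h
    refine ⟨QuotientGroup.mk A, fun _ => ?_⟩
    rw [show lt a = yC.getD a 0 from if_pos h]
    exact Rp.of_co0 (code_sign h hA)
  · obtain ⟨S, hS⟩ := ModLet.exists_perm Cfsg.Agent.SporadicA.M24Gens.shift_mem
    obtain ⟨C, hC⟩ := ModLet.exists_perm Cfsg.Agent.SporadicA.M24Gens.cubeTwist_mem
    obtain ⟨I, hI⟩ := ModLet.exists_perm Cfsg.Agent.SporadicA.M24Gens.projInv_mem
    obtain ⟨X, hX⟩ := ModLet.exists_xi
    have hS' : Rp (QuotientGroup.mk S) paC := Rp.of_co0 (code_shift hS)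
    have hC' : Rp (QuotientGroup.mk C) pdC := Rp.of_co0 (code_cube hC)
    by_cases h2 : a < 18
    · have h3 : a = 12 ∨ a = 13 ∨ a = 14 ∨ a = 15 ∨ a = 16 ∨ a = 17 := by omega
      rcases h3 with rfl | rfl | rfl | rfl | rfl | rfl
      · exact ⟨_, fun _ => hS'⟩
      · exact ⟨_, fun _ => hC'⟩
      · exact ⟨_, fun _ => Rp.of_co0 (code_projInv hI)⟩
      · exact ⟨_, fun _ => Rp.of_co0 (code_xi hX)⟩
      · exact ⟨_, fun _ => hS'.inv pa_inv⟩
      · exact ⟨_, fun _ => hC'.inv pd_inv⟩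
    · exact ⟨1, fun h4 => absurd h4 h2⟩

/-- the letters -/
noncomputable def L (a : ℕ) : Co1 := (exists_letter a).choose

theorem rp_L {a : ℕ} (h : a < 18) : Rp (L a) (lt a) := (exists_letter a).choose_spec h

/-! ### The elements -/

/-- matrix of `e0` -/
def e0C : ℕ := 0xf247e10db91fa018975a0cc89b3b696db9856be8970336264f6580c256720336346beee0569284a04d6d504861ae988013b5699334089da99f0eb4eb9b34696008290f94f99da6d7
/-- matrix of `e1` -/
def e1C : ℕ := 0xba13be1700b10199a051bab63bdf1430901d1bdf1b199de44e08601939d1b969216bf466569002b15509414ac3c56cf602b83f9334488cbc897447a78a23f97100a71e9105ce2bf4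
/-- matrix of `e2` -/
def e2C : ℕ := 0xd0348defc8f99070f0ab90f1a91f6617e790e1d793a0576c9f3c17a0c89af980ad6bed2a3d67be214823d147b7ae9b4a92b50b9334081cb569e445fb1a356fe116718e9a4b1eebb9
/-- matrix of `e3` -/
def e3C : ℕ := 0x9540f159606e0c90ff3150b45ceb6de55eb5c76fd77d1b676756828127f240463c6beaf03d60640eb0fb955359ae9c90d6b611f8dab858b009a04d6d5e3289a50defca94a77ea359
/-- matrix of `e4` -/
def e4C : ℕ := 0x5cc11919729edde534001ae4cd454013f1a0ac535756ee27dd0c057ba7390084306be83c3d7aa8255e9dd55225ae8f5c96be2df8daf818a075e056dd1e2a5fe51ef58a8657ed4561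
/-- matrix of `e5` -/
def e5C : ℕ := 0xd3a34926813beb38e112dc5e921229660b3b02d6c9fa054f25fdf6c2011afa055d6bfef2568296a17e5751745bae88921282939334089c8fd7647a199a1d2161212d655a0b65a3a8
/-- matrix of `j` -/
def jC : ℕ := 0x8003a84002cc200d80101ae4081f0004051602191e010062009c200045600020700010000008000014000012000001000010800000400010200010100010080010040010026bf1a9
/-- matrix of `l1` -/
def l1C : ℕ := 0xc43df6068692fa0546abaee000e4d0fb3598b3e9684071be44dac6bf5a249f80f2001000000e3a00061a00162a00073a000f0400055c0006ba0005e0001cac0010f600043a018779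
/-- matrix of `l2` -/
def l2C : ℕ := 0x940026561df66814ae240ac6e40b1ef00a5a901bbc3497fae4480c502738a11778001000001f6800002000008000163a00193e001d980003da000008000004000002000010a408c7
/-- matrix of `h` -/
def hC : ℕ := 0xceff2e6de951b2de7fa0ed35814a0467267b828809024191dce8e5348be8a289990014a2cb3ce04a3336b581fe0004024a361a0004804a3de6cb24f0b58c666e3a02cb2398eaf627
/-- matrix of the inverse of `l1` -/
def l1iC : ℕ := 0x88892cffbfc0fa150c1d1a7003cdda055baab3f936d67cd2f6b0700cca1cf26e1a001000000b66000a58000364000266000346000c0e0007660011660015aa0000bc0009f020c85d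
/-- matrix of the inverse of `l2` -/
def l2iC : ℕ := 0x8c15e89406169201f68e04b6261730821552d80e361e24f69f02fe089fa81a5fd00010000018ea0006cc0013da000c74000200001d980004000000020000100000080000049c0633
/-- matrix of the inverse of `h` -/
def hiC : ℕ := 0x82cfae9f9b41487ac4622d16a7201fa3864ce39b4d692752282a66629b887ada4100177aa1bbaacb7c4820d74620820ccb7c0820cc4ccb7a72a1a4c0209f2e001f98cb7d48ca5a01

/-- matrices of `e0, …, e5, j, l1, l2, h, h⁻¹, l1⁻¹, l2⁻¹` -/
noncomputable def mt (a : ℕ) : ℕ := [e0C, e1C, e2C, e3C, e4C, e5C, jC, l1C, l2C, hC, hiC, l1iC, l2iC].getD a 0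

/-- words of the elements in the letters -/
def wd (a : ℕ) : List ℕ :=
  ([[1, 15, 12, 12, 12, 15, 14, 12, 12, 12, 14, 15, 6, 11, 17, 17, 12, 17, 16, 16, 16, 13, 16, 14, 13, 16, 13, 12, 13, 16, 14],
    [15, 14, 13, 12, 12, 15, 14, 12, 12, 13, 12, 15, 1, 2, 5, 6, 7, 8, 9, 17, 16, 17, 12, 17, 12, 17, 16, 17, 14, 12, 12, 13, 12, 13],
    [15, 14, 13, 12, 12, 15, 2, 5, 6, 8, 11, 12, 12, 12, 14, 16, 15, 1, 3, 12, 13, 13, 16, 16, 13, 12, 13, 12, 17, 14, 12, 12, 12, 14],
    [15, 14, 16, 16, 13, 12, 15, 16, 13, 12, 14, 13, 15, 4, 5, 8, 9, 10, 13, 12, 12, 13, 13, 12, 13, 16, 16, 14, 13, 12, 13, 13, 16, 14, 13],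
    [15, 13, 13, 12, 13, 12, 15, 14, 12, 12, 13, 12, 12, 12, 15, 1, 2, 4, 8, 9, 14, 16, 16, 17, 12, 13, 12, 14, 16, 16, 16, 16, 13, 12, 17],
    [1, 15, 13, 12, 12, 13, 13, 15, 16, 16, 13, 12, 12, 12, 15, 1, 2, 9, 11, 14, 16, 13, 16, 13, 16, 13, 12, 17, 12, 13, 16, 17, 16, 17, 14, 12],
    [1, 2, 3, 4, 5, 7, 9, 10],
    [3, 4, 12, 13, 16, 16, 16, 17, 16, 17, 16, 14, 12, 17, 16],
    [6, 9, 11, 16, 17, 17, 12, 17, 17, 16, 16, 13, 12, 13, 12],
    [13, 13, 16, 16, 13, 12, 15, 10, 14, 13, 13, 16, 17, 17, 16, 17, 16, 13, 16, 17, 12, 12]] : List (List ℕ)).getD a []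

theorem wd_lt : ∀ a < 10, ∀ b ∈ wd a, b < 18 := by decide +kernel

theorem mat_e0 : isMat lt (wd 0) e0C = true := by decide +kernel
theorem mat_e1 : isMat lt (wd 1) e1C = true := by decide +kernel
theorem mat_e2 : isMat lt (wd 2) e2C = true := by decide +kernel
theorem mat_e3 : isMat lt (wd 3) e3C = true := by decide +kernel
theorem mat_e4 : isMat lt (wd 4) e4C = true := by decide +kernel
theorem mat_e5 : isMat lt (wd 5) e5C = true := by decide +kernel
theorem mat_j : isMat lt (wd 6) jC = true := by decide +kernel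
theorem mat_l1 : isMat lt (wd 7) l1C = true := by decide +kernel
theorem mat_l2 : isMat lt (wd 8) l2C = true := by decide +kernel
theorem mat_h : isMat lt (wd 9) hC = true := by decide +kernel

end Cfsg.Agent.MonsterU.ModCode
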