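import Cfsg.Agent.MonsterU.ModAbs

/-!
# The commutant of an index 3 subgroup of `E` and `j`

Continuation of `ModAbs`: if `A ≤ E` separates the hyperplanes `H i` and `h⁻¹ A h`, `h⁻¹ j h` lie in `M`, then the
isomorphism of two good modules commutes with `h`.
-/

set_option autoImplicit false

namespace Cfsg.Agent.MonsterU.ModComm

open Finset Cfsg.Agent.MonsterU.ModAbs

variable {Γ : Type*} [Group Γ] {n : ℕ}

theorem mem_of_cj_eq {x : Γ} {E : Subgroup Γ} (hx : cj x E = E) {e : Γ} (he : e ∈ E) : x * e * x⁻¹ ∈ E := by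
  have h := mem_cj' (x := x) he
  rwa [hx] at h

theorem cj_mul (x y : Γ) (K : Subgroup Γ) : cj (x * y) K = cj x (cj y K) := by
  ext k
  rw [mem_cj, mem_cj, mem_cj, show (x * y)⁻¹ * k * (x * y) = y⁻¹ * (x⁻¹ * k * x) * y by group]

theorem cj_one (K : Subgroup Γ) : cj 1 K = K := by
  ext k
  rw [mem_cj, inv_one, one_mul, mul_one]

theorem cj_inv_eq {x : Γ} {K L : Subgroup Γ} (h : cj x K = L) : cj x⁻¹ L = K := by
  rw [← h, ← cj_mul, inv_mul_cancel, cj_one]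

/-- conjugation by `x` maps the finite group `E` into itself, hence onto itself -/
theorem cj_eq_of_le {E : Subgroup Γ} (hfin : Finite E) {x : Γ} (h : ∀ e ∈ E, x * e * x⁻¹ ∈ E) : cj x E = E := by
  have hsurj : Function.Surjective (fun e : E => (⟨x * e * x⁻¹, h e e.2⟩ : E)) := by
    apply Finite.injective_iff_surjective.mp
    intro a b hab
    have h1 : x * (a : Γ) * x⁻¹ = x * (b : Γ) * x⁻¹ := congrArg Subtype.val hab
    exact Subtype.ext (mul_left_cancel (mul_right_cancel h1))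
  apply le_antisymm
  · intro k hk
    have h1 := h _ (mem_cj.mp hk)
    rwa [show x * (x⁻¹ * k * x) * x⁻¹ = k by group] at h1
  · intro k hk
    obtain ⟨e, he⟩ := hsurj ⟨k, hk⟩
    have h1 : x * (e : Γ) * x⁻¹ = k := congrArg Subtype.val he
    rw [mem_cj, ← h1, show x⁻¹ * (x * (e : Γ) * x⁻¹) * x = e by group]
    exact e.2

/-- `M` as a subgroup -/
def Msub (D : Setup Γ n) : Subgroup Γ where
  carrier := D.M
  mul_mem' := by
    rintro x y ⟨hx1, hx2⟩ ⟨hy1, hy2⟩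
    refine ⟨by rw [cj_mul, hy1, hx1], ?_⟩
    have h1 := D.E.mul_mem hx2 (mem_of_cj_eq hx1 hy2)
    have h2 : D.j * x * D.j * x⁻¹ * (x * (D.j * y * D.j * y⁻¹) * x⁻¹) = D.j * x * (D.j * D.j) * y * D.j * y⁻¹ * x⁻¹ := by
      group
    rw [h2, D.jj, mul_one] at h1
    rwa [show D.j * (x * y) * D.j * (x * y)⁻¹ = D.j * x * y * D.j * y⁻¹ * x⁻¹ by group]
  one_mem' := by
    refine ⟨cj_one _, ?_⟩
    rw [mul_one, D.jj, one_mul, inv_one]
    exact D.E.one_mem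
  inv_mem' := by
    rintro x ⟨hx1, hx2⟩
    have hx1' := cj_inv_eq hx1
    refine ⟨hx1', ?_⟩
    have h1 := mem_of_cj_eq hx1' (D.E.inv_mem hx2)
    have h2 : x⁻¹ * (D.j * x * D.j * x⁻¹)⁻¹ * x⁻¹⁻¹ = D.j⁻¹ * x⁻¹ * D.j⁻¹ * x⁻¹⁻¹ := by group
    rwa [h2, D.jinv] at h1

theorem mem_Msub {D : Setup Γ n} {x : Γ} : x ∈ Msub D ↔ x ∈ D.M := Iff.rfl

theorem E_le (D : Setup Γ n) : D.E ≤ Msub D := by
  intro e he
  refine ⟨cj_eq_of_le D.hE.fin fun k hk => D.E.mul_mem (D.E.mul_mem he hk) (D.E.inv_mem he), ?_⟩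
  rw [D.inv e he]
  exact D.E.mul_mem (D.E.inv_mem he) (D.E.inv_mem he)

theorem j_mem (D : Setup Γ n) : D.j ∈ Msub D := by
  refine ⟨D.cj_j le_rfl, ?_⟩
  rw [D.jj, one_mul, mul_inv_cancel]
  exact D.E.one_mem

variable {D : Setup Γ n} {V₀ V : Type*} [AddCommGroup V₀] [Module (ZMod 2) V₀] [AddCommGroup V]
  [Module (ZMod 2) V] {ρ₀ : Representation (ZMod 2) Γ V₀} {ρ : Representation (ZMod 2) Γ V}

theorem elem_of_le {E A : Subgroup Γ} (hE : Elem E) (hA : A ≤ E) : Elem A where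
  comm a ha b hb := hE.comm a (hA ha) b (hA hb)
  cube a ha := hE.cube a (hA ha)
  fin := by
    have := hE.fin
    exact Finite.of_injective (Subgroup.inclusion hA) (Subgroup.inclusion_injective hA)

theorem hyper_inf {E K A : Subgroup Γ} (hK : Hyper E K) (hA : A ≤ E) (hout : ∃ x ∈ A, x ∉ K) :
    Hyper A (K ⊓ A) where
  le := inf_le_right
  ne := by
    obtain ⟨x, hx, hxK⟩ := hout
    exact ⟨x, hx, fun h => hxK h.1⟩
  cov a ha haK b hb := by
    have haK' : a ∉ K := fun h => haK ⟨h, ha⟩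
    rcases hK.cov a (hA ha) haK' b (hA hb) with h | h | h
    · exact Or.inl ⟨h, hb⟩
    · exact Or.inr (Or.inl ⟨h, A.mul_mem ha hb⟩)
    · exact Or.inr (Or.inr ⟨h, A.mul_mem (A.inv_mem ha) hb⟩)

/-- an automorphism commuting with `A` and `j` is trivial -/
theorem commutant (h₀ : Good D ρ₀) (A : Subgroup Γ) (hA : A ≤ D.E)
    (hsep : ∀ i k, i ≠ k → ∃ x ∈ A, x ∈ D.H i ∧ x ∉ D.H k) (hout : ∀ i, ∃ x ∈ A, x ∉ D.H i)
    (c : V₀ ≃ₗ[ZMod 2] V₀) (hcA : ∀ y ∈ A, ∀ v, c (ρ₀ y v) = ρ₀ y (c v))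
    (hcj : ∀ v, c (ρ₀ D.j v) = ρ₀ D.j (c v)) : ∀ v, c v = v := by
  classical
  have hEA := elem_of_le D.hE hA
  have hyp : ∀ i, Hyper A (D.H i ⊓ A) := fun i => hyper_inf (D.hyp i) hA (hout i)
  have hinj : Function.Injective fun i => D.H i ⊓ A := by
    intro i k hik
    by_contra hne
    obtain ⟨x, hxA, hxi, hxk⟩ := hsep i k hne
    have h1 : x ∈ D.H i ⊓ A := ⟨hxi, hxA⟩
    have h2 : x ∈ D.H k ⊓ A := by
      have h3 : D.H i ⊓ A = D.H k ⊓ A := hik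
      rw [← h3]; exact h1
    exact hxk h2.1
  have hsub : ∀ i (v : V₀), v ∈ VK ρ₀ D.E (D.H i) → v ∈ VK ρ₀ A (D.H i ⊓ A) := by
    rintro i v ⟨hv1, hv2⟩
    exact ⟨fun k hk => hv1 k hk.1, fun e he heK => hv2 e (hA he) fun h => heK ⟨h, he⟩⟩
  have hcv : ∀ i, c (h₀.v i) = h₀.v i := by
    intro i
    have hw1 : c (h₀.v i) ∈ VK ρ₀ A (D.H i ⊓ A) := by
      have h1 := hsub i _ (h₀.v_mem i)
      refine ⟨fun k hk => ?_, fun e he heK => ?_⟩
      · rw [← hcA k hk.2, h1.1 k hk]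
      · rw [← hcA e he, ← hcA _ (A.mul_mem he he), ← map_add, ← map_add, h1.2 e he heK, map_zero]
    obtain ⟨w, hw⟩ := h₀.bij.2 (c (h₀.v i))
    have hw' : ∑ k, (w k : V₀) = c (h₀.v i) := hw
    have h2 := indep (ρ := ρ₀) hEA (fun k => D.H k ⊓ A) hyp hinj
      (fun k => if k = i then (w i : V₀) - c (h₀.v i) else w k) (fun k => by
        split
        · rename_i hki
          subst hki
          exact (VK ρ₀ A _).sub_mem (hsub _ _ (w k).2) hw1
        · exact hsub _ _ (w k).2) (by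
        have h3 : ∀ k, (if k = i then (w i : V₀) - c (h₀.v i) else w k) =
            (w k : V₀) - if k = i then c (h₀.v i) else 0 := by
          intro k
          by_cases hk : k = i
          · subst hk; rw [if_pos rfl, if_pos rfl]
          · rw [if_neg hk, if_neg hk, sub_zero]
        rw [Finset.sum_congr rfl fun k _ => h3 k, Finset.sum_sub_distrib, hw', Finset.sum_ite_eq', if_pos (mem_univ _),
          sub_self]) i
    rw [if_pos rfl, sub_eq_zero] at h2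
    have h0 : c (h₀.v i) ≠ 0 := fun h => h₀.v_ne i ((LinearEquiv.map_eq_zero_iff c).mp h)
    refine h₀.fix_unique ?_ h0 ?_
    · rw [← h2]; exact (w i).2
    · rw [← hcj, h₀.j_v i]
  intro v
  refine h₀.ext (f := c.toLinearMap) (g := LinearMap.id) (fun i e he => ?_) v
  rw [LinearEquiv.coe_coe, LinearMap.id_apply]
  obtain ⟨a, ha, haK⟩ := hout i
  have hv := h₀.v_mem i
  rcases (D.hyp i).cov a (hA ha) haK e he with h | h | h
  · rw [hv.1 e h, hcv i]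
  · have h1 : ρ₀ a⁻¹ (ρ₀ (a * e) (h₀.v i)) = ρ₀ e (h₀.v i) := by rw [← rho_mul]; congr 2; group
    rw [← h1, hv.1 _ h, hcA _ (A.inv_mem ha), hcv i]
  · have h1 : ρ₀ a (ρ₀ (a⁻¹ * e) (h₀.v i)) = ρ₀ e (h₀.v i) := by rw [← rho_mul]; congr 2; group
    rw [← h1, hv.1 _ h, hcA _ ha, hcv i]

/-- **Uniqueness of the module**, the criterion used for `Co₁`. -/
theorem exists_iso_of (h₀ : Good D ρ₀) (h : Good D ρ) (x : Γ) (A : Subgroup Γ) (hA : A ≤ D.E)
    (hsep : ∀ i k, i ≠ k → ∃ y ∈ A, y ∈ D.H i ∧ y ∉ D.H k) (hout : ∀ i, ∃ y ∈ A, y ∉ D.H i)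
    (hAx : ∀ y ∈ A, x⁻¹ * y * x ∈ D.M) (hjx : x⁻¹ * D.j * x ∈ D.M)
    (htop : Subgroup.closure (insert x D.M) = ⊤) :
    ∃ f : V₀ ≃ₗ[ZMod 2] V, ∀ g v, f (ρ₀ g v) = ρ g (f v) :=
  exists_iso h₀ h x (fun c hc => commutant h₀ A hA hsep hout c
    (fun y hy => hc y (E_le D (hA hy)) (hAx y hy)) (hc D.j (j_mem D) hjx)) htop

/-- The commutant of the whole group is trivial. -/
theorem commutant_all (h₀ : Good D ρ₀) (hsep : ∀ i k, i ≠ k → ∃ y ∈ D.E, y ∈ D.H i ∧ y ∉ D.H k)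
    (c : V₀ ≃ₗ[ZMod 2] V₀) (hc : ∀ y v, c (ρ₀ y v) = ρ₀ y (c v)) : ∀ v, c v = v :=
  commutant h₀ D.E le_rfl hsep (fun i => (D.hyp i).ne) c (fun y _ => hc y) (hc D.j)

end Cfsg.Agent.MonsterU.ModComm
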