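import Mathlib.Algebra.Group.Basic
import Mathlib.Algebra.BigOperators.Group.Finset.Basic

/-!
# Ternary digits and words in six commuting elements

`ev e c = e 0 ^ c 0 * ⋯ * e 5 ^ c 5`; functionals and vectors of `F₃⁶` are coded by numbers `< 729` with digits `dg`.
-/

set_option autoImplicit false

namespace Cfsg.Agent.MonsterU.ModEv

/-- ternary digit -/
def dg (n k : ℕ) : ℕ := n / 3 ^ k % 3

/-- `e 0 ^ c 0 * ⋯ * e 5 ^ c 5` -/
def ev {Γ : Type*} [Group Γ] (e : ℕ → Γ) (c : ℕ → ℕ) : Γ :=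
  e 0 ^ c 0 * e 1 ^ c 1 * e 2 ^ c 2 * e 3 ^ c 3 * e 4 ^ c 4 * e 5 ^ c 5

/-- the scalar product (not reduced) of two codes -/
def dot (n m : ℕ) : ℕ :=
  dg n 0 * dg m 0 + dg n 1 * dg m 1 + dg n 2 * dg m 2 + dg n 3 * dg m 3 + dg n 4 * dg m 4 + dg n 5 * dg m 5

/-- The functional `n` composed with the matrix `A` (`A k` is the code of the image of the `k`-th basis vector). -/
def T (A : ℕ → ℕ) (n : ℕ) : ℕ :=
  dot n (A 0) % 3 + dot n (A 1) % 3 * 3 + dot n (A 2) % 3 * 9 + dot n (A 3) % 3 * 27 + dot n (A 4) % 3 * 81 +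
    dot n (A 5) % 3 * 243

/-- The negative functional. -/
def neg (n : ℕ) : ℕ :=
  2 * dg n 0 % 3 + 2 * dg n 1 % 3 * 3 + 2 * dg n 2 % 3 * 9 + 2 * dg n 3 % 3 * 27 + 2 * dg n 4 % 3 * 81 +
    2 * dg n 5 % 3 * 243

end Cfsg.Agent.MonsterU.ModEv
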