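import Cfsg.Agent.MonsterX.FrameLet
import Cfsg.Agent.Leech.Co0Elts
import Cfsg.Agent.SporadicStructure.XiMap

/-!
# The letters as elements of `Co0`

Existence of elements of `Co0` inducing the sign changes at the basis `cb` of the code, the three standard permutations
and the sextet element `ξ`.
-/

set_option autoImplicit false

namespace Cfsg.Agent.MonsterU.ModLet

open Cfsg
open Cfsg.Agent.LeechMat.Code (pos pos_lt)
open Cfsg.Agent.MonsterX.FrameStab Cfsg.Agent.MonsterX.FrameLet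
open Cfsg.Agent.SporadicA.M24Gens

theorem exists_sign {m : ℕ} (h : word m ∈ golayCode) : ∃ A : Co0, IsSign A m := by
  have hc : support₂ (word m) ∈ Cfsg.Agent.Leech.Code.Words := ⟨word m, h, rfl⟩
  refine ⟨Cfsg.Agent.Leech.Co0Elts.sgn _ hc, fun v p => ?_⟩
  rw [Cfsg.Agent.Leech.Co0Elts.sgn_coe, Cfsg.Agent.Leech.Co0Elts.sgnMap_apply]
  have h1 : p ∈ support₂ (word m) ↔ m.testBit (pidx p) = true := by
    unfold support₂ word
    rw [Finset.mem_filter]
    cases m.testBit (pidx p) <;> simp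
  by_cases h2 : m.testBit (pidx p) = true
  · rw [if_pos (h1.2 h2), if_pos h2]
  · rw [if_neg (fun h => h2 (h1.1 h)), if_neg h2]

/-- the basis of the code in terms of the standard generators -/
def cbL : List (List ℕ) :=
  [[23], [2, 3, 7], [3, 4, 8], [2, 3, 4, 5, 7, 9], [3, 4, 5, 6, 8, 10], [0, 1, 2, 3, 4, 7], [1, 4, 5, 7, 8],
    [3, 5, 6, 7, 8, 9], [4, 6, 7, 8, 9, 10], [0, 1, 6, 8, 10], [0, 2, 5, 6], [1, 2, 6]]

theorem cb_eq : ∀ i < 12, cb.getD i 0 = combo (cbL.getD i []) := by decide +kernel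

theorem exists_y (i : ℕ) (hi : i < 12) : ∃ A : Co0, IsSign A (cb.getD i 0) := by
  apply exists_sign
  rw [cb_eq i hi]
  exact word_combo_mem _

theorem exists_perm {σ : Equiv.Perm GolayPt} (h : σ ∈ M24) : ∃ A : Co0, IsPerm A σ :=
  ⟨Cfsg.Agent.Leech.Co0Elts.perm σ h, fun v p => by
    rw [Cfsg.Agent.Leech.Co0Elts.perm_coe, Cfsg.Agent.Leech.Co0Elts.permMap_apply]⟩

/-! ### The sextet element -/

/-- the colouring of the points by the tetrads of the sextet -/
def T (p : GolayPt) : Fin 6 := if h : tetL.getD (pos p) 0 < 6 then ⟨_, h⟩ else 0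

theorem T_val (p : GolayPt) : (T p).val = tetL.getD (pos p) 0 := by
  unfold T
  rw [dif_pos (tet_lt _ (pos_lt p))]

/-- the octads `t ∪ u` in terms of the standard generators -/
def octL (t u : ℕ) : List ℕ :=
  ([[], [0, 3, 4, 6, 8], [0, 1, 2, 6, 7, 8, 23], [0, 2, 3, 4, 6, 7, 8, 10], [0, 1, 4, 8, 9], [4, 6, 9, 10],
    [0, 3, 4, 6, 8], [], [1, 2, 3, 4, 7, 23], [2, 7, 10], [1, 3, 6, 9], [0, 3, 8, 9, 10],
    [0, 1, 2, 6, 7, 8, 23], [1, 2, 3, 4, 7, 23], [], [1, 3, 4, 10, 23], [2, 4, 6, 7, 9, 23],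
    [0, 1, 2, 4, 7, 8, 9, 10, 23],
    [0, 2, 3, 4, 6, 7, 8, 10], [2, 7, 10], [1, 3, 4, 10, 23], [], [1, 2, 3, 6, 7, 9, 10], [0, 2, 3, 7, 8, 9],
    [0, 1, 4, 8, 9], [1, 3, 6, 9], [2, 4, 6, 7, 9, 23], [1, 2, 3, 6, 7, 9, 10], [], [0, 1, 6, 8, 10],
    [4, 6, 9, 10], [0, 3, 8, 9, 10], [0, 1, 2, 4, 7, 8, 9, 10, 23], [0, 2, 3, 7, 8, 9], [0, 1, 6, 8, 10], []] :
    List (List ℕ)).getD (6 * t + u) []

theorem oct_ok : ∀ t < 6, ∀ u < 6, t ≠ u → ∀ i < 24,
    (combo (octL t u)).testBit i = (Nat.beq (tetL.getD i 0) t || Nat.beq (tetL.getD i 0) u) := by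
  decide +kernel

theorem card_ok : ∀ t : Fin 6, (Finset.univ.filter fun q => T q = t).card = 4 := by decide +kernel

theorem isSextetMap : Cfsg.Agent.SporadicStructure.XiMap.IsSextetMap T where
  card_fiber := card_ok
  union_mem := by
    intro t u htu
    have h : (fun p => if T p = t ∨ T p = u then (1 : ZMod 2) else 0) = word (combo (octL t.val u.val)) := by
      funext p
      unfold word
      rw [show pidx p = pos p from pidx_eq p,
        oct_ok t.val t.isLt u.val u.isLt (fun h => htu (Fin.ext h)) (pos p) (pos_lt p)]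
      have h1 : T p = t ↔ Nat.beq (tetL.getD (pos p) 0) t.val = true := by
        rw [Nat.beq_eq, ← T_val]
        exact Fin.ext_iff
      have h2 : T p = u ↔ Nat.beq (tetL.getD (pos p) 0) u.val = true := by
        rw [Nat.beq_eq, ← T_val]
        exact Fin.ext_iff
      have h12 : (T p = t ∨ T p = u) ↔
          (Nat.beq (tetL.getD (pos p) 0) t.val || Nat.beq (tetL.getD (pos p) 0) u.val) = true := by
        rw [Bool.or_eq_true, ← h1, ← h2]
      by_cases h3 : (Nat.beq (tetL.getD (pos p) 0) t.val || Nat.beq (tetL.getD (pos p) 0) u.val) = true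
      · rw [if_pos h3, if_pos (h12.2 h3)]
      · rw [if_neg h3, if_neg (fun h => h3 (h12.1 h))]
    rw [h]
    exact word_combo_mem _

theorem exists_xi : ∃ A : Co0, IsXi A := by
  refine ⟨Cfsg.Agent.SporadicStructure.XiMap.xiCo0 T isSextetMap, fun v p => ?_⟩
  rw [Cfsg.Agent.SporadicStructure.XiMap.two_mul_xiCo0 isSextetMap v p]
  have h1 : Cfsg.Agent.SporadicStructure.XiMap.sgn (T p) = if tetL.getD (pos p) 0 = 0 then -1 else 1 := by
    unfold Cfsg.Agent.SporadicStructure.XiMap.sgn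
    rw [← T_val]
    by_cases h : T p = 0
    · rw [if_pos h, if_pos (by rw [h]; rfl)]
    · rw [if_neg h, if_neg (fun h' => h (Fin.ext (by rw [h']; rfl)))]
  have h2 : Cfsg.Agent.SporadicStructure.XiMap.blockSum T v (T p) =
      ∑ q : GolayPt, if tetL.getD (pos q) 0 = tetL.getD (pos p) 0 then (v : GolayPt → ℤ) q else 0 := by
    unfold Cfsg.Agent.SporadicStructure.XiMap.blockSum
    rw [Finset.sum_filter]
    refine Finset.sum_congr rfl fun q _ => ?_
    have h3 : T q = T p ↔ tetL.getD (pos q) 0 = tetL.getD (pos p) 0 := by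
      rw [← T_val, ← T_val]
      exact Fin.ext_iff
    by_cases h : T q = T p
    · rw [if_pos h, if_pos (h3.1 h)]
    · rw [if_neg h, if_neg (fun h' => h (h3.2 h'))]
  rw [h1, h2]

end Cfsg.Agent.MonsterU.ModLet
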