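import Cfsg.Agent.MonsterU.ModEv
import Cfsg.Agent.MonsterU.ModComm

/-!
# Coordinates for an elementary abelian group of order `3⁶`

From six commuting independent elements of order 3 to the `Setup` of `ModAbs`: the hyperplanes are the kernels `KK` of
the functionals, coded by numbers below `729`, and the normaliser acts on them through `T`.
-/

set_option autoImplicit false

namespace Cfsg.Agent.MonsterU.ModLin

open Cfsg.Agent.MonsterU.ModEv Cfsg.Agent.MonsterU.ModAbs Cfsg.Agent.MonsterU.ModComm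

variable {Γ : Type*} [Group Γ] {e : ℕ → Γ}

/-- six independent commuting elements of order 3 -/
structure Bas (e : ℕ → Γ) : Prop where
  comm : ∀ k < 6, ∀ l < 6, e k * e l = e l * e k
  cube : ∀ k < 6, e k ^ 3 = 1
  indep : ∀ n, 0 < n → n < 729 → ev e (dg n) ≠ 1

/-- the partial products -/
def evN (e : ℕ → Γ) (c : ℕ → ℕ) : ℕ → Γ
  | 0 => 1
  | n + 1 => evN e c n * e n ^ c n

theorem ev_eq (c : ℕ → ℕ) : ev e c = evN e c 6 := by
  simp only [ev, evN, one_mul]

/-! ### Sums -/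

/-- the scalar product -/
def dt (a c : ℕ → ℕ) : ℕ := ∑ k ∈ Finset.range 6, a k * c k

theorem dot_eq (n m : ℕ) : dot n m = dt (dg n) (dg m) := by
  simp only [dot, dt, Finset.sum_range_succ, Finset.sum_range_zero, zero_add]

theorem dt_add (a c d : ℕ → ℕ) : dt a (fun k => c k + d k) = dt a c + dt a d := by
  unfold dt
  rw [← Finset.sum_add_distrib]
  exact Finset.sum_congr rfl fun k _ => by ring

theorem dt_two (a c : ℕ → ℕ) : dt a (fun k => 2 * c k) = 2 * dt a c := by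
  unfold dt
  rw [Finset.mul_sum]
  exact Finset.sum_congr rfl fun k _ => by ring

theorem dt_congr {a b c d : ℕ → ℕ} (h : ∀ k < 6, a k % 3 = b k % 3) (h' : ∀ k < 6, c k % 3 = d k % 3) :
    dt a c % 3 = dt b d % 3 := by
  unfold dt
  rw [Finset.sum_nat_mod, Finset.sum_nat_mod (f := fun k => b k * d k)]
  congr 1
  refine Finset.sum_congr rfl fun k hk => ?_
  rw [Nat.mul_mod, h k (Finset.mem_range.mp hk), h' k (Finset.mem_range.mp hk), ← Nat.mul_mod]

/-- the code of a vector -/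
def cd (c : ℕ → ℕ) : ℕ :=
  c 0 % 3 + c 1 % 3 * 3 + c 2 % 3 * 9 + c 3 % 3 * 27 + c 4 % 3 * 81 + c 5 % 3 * 243

theorem cd_lt (c : ℕ → ℕ) : cd c < 729 := by
  unfold cd; omega

theorem dg_cd (c : ℕ → ℕ) : ∀ k < 6, dg (cd c) k = c k % 3 := by
  intro k hk
  have h : k = 0 ∨ k = 1 ∨ k = 2 ∨ k = 3 ∨ k = 4 ∨ k = 5 := by omega
  unfold dg cd
  rcases h with rfl | rfl | rfl | rfl | rfl | rfl <;> norm_num <;> omega

theorem dg_mod (n k : ℕ) : dg n k % 3 = dg n k := Nat.mod_mod _ _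

theorem eq_zero_of_dg {n : ℕ} (hn : n < 729) (h : ∀ k < 6, dg n k = 0) : n = 0 := by
  have h0 := h 0 (by norm_num)
  have h1 := h 1 (by norm_num)
  have h2 := h 2 (by norm_num)
  have h3 := h 3 (by norm_num)
  have h4 := h 4 (by norm_num)
  have h5 := h 5 (by norm_num)
  unfold dg at h0 h1 h2 h3 h4 h5
  norm_num at h0 h1 h2 h3 h4 h5
  omega

theorem T_eq (A : ℕ → ℕ) (n : ℕ) : T A n = cd (fun k => dot n (A k)) := rfl

theorem neg_eq (n : ℕ) : neg n = cd (fun k => 2 * dg n k) := rfl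

/-! ### The group -/

theorem commute_evN (B : Bas e) (c : ℕ → ℕ) {n : ℕ} (hn : n ≤ 6) {l : ℕ} (hl : l < 6) :
    Commute (evN e c n) (e l) := by
  induction n with
  | zero => exact Commute.one_left _
  | succ n ih => exact (ih (by omega)).mul_left (Commute.pow_left (B.comm n (by omega) l hl) _)

theorem commute_evN_evN (B : Bas e) (c d : ℕ → ℕ) {n m : ℕ} (hn : n ≤ 6) (hm : m ≤ 6) :
    Commute (evN e c n) (evN e d m) := by
  induction m with
  | zero => exact Commute.one_right _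
  | succ m ih => exact (ih (by omega)).mul_right (Commute.pow_right (commute_evN B c hn (by omega)) _)

theorem commute_ev (B : Bas e) (c d : ℕ → ℕ) : ev e c * ev e d = ev e d * ev e c := by
  rw [ev_eq, ev_eq]
  exact commute_evN_evN B c d le_rfl le_rfl

theorem ev_add (B : Bas e) (c d : ℕ → ℕ) : ev e (fun k => c k + d k) = ev e c * ev e d := by
  have h : ∀ n ≤ 6, evN e (fun k => c k + d k) n = evN e c n * evN e d n := by
    intro n
    induction n with
    | zero => intro _; exact (one_mul _).symm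
    | succ n ih =>
      intro hn
      have h1 : Commute (evN e d n) (e n ^ c n) := (commute_evN B d (by omega) (by omega)).pow_right _
      show evN e (fun k => c k + d k) n * e n ^ (c n + d n) = evN e c n * e n ^ c n * (evN e d n * e n ^ d n)
      rw [ih (by omega), pow_add, mul_assoc, mul_assoc, ← mul_assoc (evN e d n), h1.eq, mul_assoc]
  rw [ev_eq, ev_eq, ev_eq]
  exact h 6 le_rfl

theorem ev_congr (B : Bas e) {c d : ℕ → ℕ} (h : ∀ k < 6, c k % 3 = d k % 3) : ev e c = ev e d := by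
  have h' : ∀ n ≤ 6, evN e c n = evN e d n := by
    intro n
    induction n with
    | zero => intro _; rfl
    | succ n ih =>
      intro hn
      have hc := B.cube n (by omega)
      show evN e c n * e n ^ c n = evN e d n * e n ^ d n
      rw [ih (by omega), pow_eq_pow_mod (c n) hc, pow_eq_pow_mod (d n) hc, h n (by omega)]
  rw [ev_eq, ev_eq]
  exact h' 6 le_rfl

theorem ev_zero' (c : ℕ → ℕ) (h : ∀ k < 6, c k = 0) : ev e c = 1 := by
  unfold ev
  rw [h 0 (by norm_num), h 1 (by norm_num), h 2 (by norm_num), h 3 (by norm_num), h 4 (by norm_num),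
    h 5 (by norm_num)]
  simp only [pow_zero, one_mul]

theorem ev_zero (B : Bas e) {c : ℕ → ℕ} (h : ∀ k < 6, c k % 3 = 0) : ev e c = 1 := by
  rw [ev_congr B (d := fun _ => 0) (fun k hk => by rw [h k hk])]
  exact ev_zero' _ fun _ _ => rfl

theorem ev_inv (B : Bas e) (c : ℕ → ℕ) : (ev e c)⁻¹ = ev e (fun k => 2 * c k) := by
  rw [inv_eq_iff_mul_eq_one, ← ev_add B]
  exact ev_zero B fun k _ => by
    show (c k + 2 * c k) % 3 = 0
    omega

theorem ev_code (B : Bas e) (c : ℕ → ℕ) : ev e (dg (cd c)) = ev e c :=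
  ev_congr B fun k hk => by rw [dg_cd c k hk, Nat.mod_mod]

theorem ev_eq_one (B : Bas e) {c : ℕ → ℕ} (h : ev e c = 1) : ∀ k < 6, c k % 3 = 0 := by
  have h1 : cd c = 0 := by
    by_contra hne
    exact B.indep (cd c) (Nat.pos_of_ne_zero hne) (cd_lt c) (by rw [ev_code B, h])
  intro k hk
  rw [← dg_cd c k hk, h1]
  exact by unfold dg; simp

theorem ev_inj (B : Bas e) {c d : ℕ → ℕ} (h : ev e c = ev e d) : ∀ k < 6, c k % 3 = d k % 3 := by
  have h1 : ev e (fun k => c k + 2 * d k) = 1 := by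
    rw [ev_add B c (fun k => 2 * d k), ← ev_inv B, h, mul_inv_cancel]
  intro k hk
  have h2 := ev_eq_one B h1 k hk
  omega

/-- the unit vectors -/
def un (k l : ℕ) : ℕ := if l = k then 1 else 0

theorem ev_un {k : ℕ} (hk : k < 6) : ev e (un k) = e k := by
  have h : k = 0 ∨ k = 1 ∨ k = 2 ∨ k = 3 ∨ k = 4 ∨ k = 5 := by omega
  unfold ev un
  rcases h with rfl | rfl | rfl | rfl | rfl | rfl <;> simp

theorem dt_un (a : ℕ → ℕ) {k : ℕ} (hk : k < 6) : dt a (un k) = a k := by
  unfold dt un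
  rw [Finset.sum_eq_single k]
  · rw [if_pos rfl, mul_one]
  · intro l _ hl
    rw [if_neg hl, mul_zero]
  · intro h
    exact absurd (Finset.mem_range.mpr hk) h

/-- the elementary abelian group -/
def EE (B : Bas e) : Subgroup Γ where
  carrier := {x | ∃ c, x = ev e c}
  mul_mem' := by
    rintro _ _ ⟨c, rfl⟩ ⟨d, rfl⟩
    exact ⟨_, (ev_add B c d).symm⟩
  one_mem' := ⟨fun _ => 0, (ev_zero' _ fun _ _ => rfl).symm⟩
  inv_mem' := by
    rintro _ ⟨c, rfl⟩
    exact ⟨_, ev_inv B c⟩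

theorem mem_EE {B : Bas e} {x : Γ} : x ∈ EE B ↔ ∃ c, x = ev e c := Iff.rfl

theorem ev_mem (B : Bas e) (c : ℕ → ℕ) : ev e c ∈ EE B := ⟨c, rfl⟩

theorem e_mem (B : Bas e) {k : ℕ} (hk : k < 6) : e k ∈ EE B := ⟨un k, (ev_un hk).symm⟩

theorem elem (B : Bas e) : Elem (EE B) where
  comm := by
    rintro _ ⟨c, rfl⟩ _ ⟨d, rfl⟩
    exact commute_ev B c d
  cube := by
    rintro _ ⟨c, rfl⟩
    rw [← ev_add B, ← ev_add B]
    exact ev_zero B fun k _ => by
      show (c k + c k + c k) % 3 = 0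
      omega
  fin := by
    refine Finite.of_surjective (fun n : Fin 729 => (⟨ev e (dg n), ev_mem B _⟩ : EE B)) ?_
    rintro ⟨_, c, rfl⟩
    exact ⟨⟨cd c, cd_lt c⟩, Subtype.ext (ev_code B c)⟩

/-- the kernel of a functional -/
def KK (B : Bas e) (a : ℕ → ℕ) : Subgroup Γ where
  carrier := {x | ∃ c, x = ev e c ∧ dt a c % 3 = 0}
  mul_mem' := by
    rintro _ _ ⟨c, rfl, hc⟩ ⟨d, rfl, hd⟩
    refine ⟨_, (ev_add B c d).symm, ?_⟩
    rw [dt_add]
    omega
  one_mem' := ⟨fun _ => 0, (ev_zero' _ fun _ _ => rfl).symm, by simp [dt]⟩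
  inv_mem' := by
    rintro _ ⟨c, rfl, hc⟩
    refine ⟨_, ev_inv B c, ?_⟩
    rw [dt_two]
    omega

theorem mem_KK (B : Bas e) {a c : ℕ → ℕ} : ev e c ∈ KK B a ↔ dt a c % 3 = 0 := by
  constructor
  · rintro ⟨d, hd, h⟩
    rw [dt_congr (fun _ _ => rfl) (ev_inj B hd)]
    exact h
  · intro h
    exact ⟨c, rfl, h⟩

theorem KK_le (B : Bas e) (a : ℕ → ℕ) : KK B a ≤ EE B := by
  rintro _ ⟨c, rfl, _⟩
  exact ev_mem B c

theorem KK_congr (B : Bas e) {a b : ℕ → ℕ} (h : ∀ k < 6, a k % 3 = b k % 3) : KK B a = KK B b := by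
  ext x
  constructor
  · rintro ⟨c, rfl, hc⟩
    exact ⟨c, rfl, by rw [← dt_congr h fun _ _ => rfl]; exact hc⟩
  · rintro ⟨c, rfl, hc⟩
    exact ⟨c, rfl, by rw [dt_congr h fun _ _ => rfl]; exact hc⟩

theorem KK_code (B : Bas e) (a : ℕ → ℕ) : KK B (dg (cd a)) = KK B a :=
  KK_congr B fun k hk => by rw [dg_cd a k hk, Nat.mod_mod]

theorem KK_neg (B : Bas e) (n : ℕ) : KK B (dg (neg n)) = KK B (dg n) := by
  rw [neg_eq, KK_code]
  ext x
  have key : ∀ c, dt (fun k => 2 * dg n k) c % 3 = 0 ↔ dt (dg n) c % 3 = 0 := by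
    intro c
    have h : dt (fun k => 2 * dg n k) c = 2 * dt (dg n) c := by
      unfold dt
      rw [Finset.mul_sum]
      exact Finset.sum_congr rfl fun k _ => by ring
    rw [h]
    omega
  constructor
  · rintro ⟨c, rfl, hc⟩
    exact ⟨c, rfl, (key c).1 hc⟩
  · rintro ⟨c, rfl, hc⟩
    exact ⟨c, rfl, (key c).2 hc⟩

theorem hyper_KK (B : Bas e) {a : ℕ → ℕ} (ha : ∃ k < 6, a k % 3 ≠ 0) : Hyper (EE B) (KK B a) where
  le := KK_le B a
  ne := by
    obtain ⟨k, hk, h⟩ := ha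
    refine ⟨e k, e_mem B hk, ?_⟩
    rw [← ev_un (e := e) hk, mem_KK B, dt_un a hk]
    exact h
  cov := by
    rintro _ ⟨c, rfl⟩ hc _ ⟨d, rfl⟩
    rw [mem_KK B] at hc ⊢
    rw [ev_inv B, ← ev_add B, ← ev_add B, mem_KK B, mem_KK B, dt_add, dt_add, dt_two]
    have h1 : dt a c % 3 = 1 ∨ dt a c % 3 = 2 := by omega
    have h2 : dt a d % 3 = 0 ∨ dt a d % 3 = 1 ∨ dt a d % 3 = 2 := by omega
    rcases h1 with h1 | h1 <;> rcases h2 with h2 | h2 | h2 <;> omega

theorem hyper_code (B : Bas e) {n : ℕ} (h0 : 0 < n) (hn : n < 729) : Hyper (EE B) (KK B (dg n)) := by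
  apply hyper_KK
  by_contra h
  push Not at h
  have := eq_zero_of_dg hn fun k hk => by rw [← dg_mod]; exact h k hk
  omega

/-- every hyperplane is the kernel of a functional -/
theorem exists_code (B : Bas e) {K : Subgroup Γ} (hK : Hyper (EE B) K) :
    ∃ n, 0 < n ∧ n < 729 ∧ K = KK B (dg n) := by
  obtain ⟨a, ha, haK⟩ := hK.ne
  have hE := elem B
  have ha3 : a * a * a = 1 := hE.cube a ha
  have hex : ∀ k, ∃ m, k < 6 → e k * a ^ m ∈ K := by
    intro k
    by_cases hk : k < 6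
    · rcases hK.cov a ha haK (e k) (e_mem B hk) with h | h | h
      · exact ⟨0, fun _ => by rwa [pow_zero, mul_one]⟩
      · exact ⟨1, fun _ => by rwa [pow_one, ← hE.comm a ha _ (e_mem B hk)]⟩
      · refine ⟨2, fun _ => ?_⟩
        rwa [pow_two, hE.sq ha, ← hE.comm a⁻¹ ((EE B).inv_mem ha) _ (e_mem B hk)]
    · exact ⟨0, fun h => absurd h hk⟩
  choose m hm using hex
  have hcom : ∀ {n : ℕ}, n < 6 → Commute (e n) a := fun hn => hE.comm _ (e_mem B hn) a ha
  -- the main membership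
  have key : ∀ c, ev e c * a ^ dt m c ∈ K := by
    intro c
    have h : ∀ n ≤ 6, evN e c n * a ^ (∑ k ∈ Finset.range n, m k * c k) ∈ K := by
      intro n
      induction n with
      | zero =>
        intro _
        rw [Finset.sum_range_zero, pow_zero, mul_one]
        exact K.one_mem
      | succ n ih =>
        intro hn
        have h1 := K.mul_mem (ih (by omega)) (K.pow_mem (hm n (by omega)) (c n))
        have h2 : Commute (e n) (a ^ m n) := (hcom (by omega)).pow_right _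
        rw [h2.mul_pow, ← pow_mul] at h1
        have h3 : Commute (a ^ (∑ k ∈ Finset.range n, m k * c k)) (e n ^ c n) :=
          ((hcom (by omega)).pow_pow _ _).symm
        rw [Finset.sum_range_succ, pow_add]
        show evN e c n * e n ^ c n * _ ∈ K
        rwa [mul_assoc, ← mul_assoc (a ^ _), h3.eq, mul_assoc (e n ^ c n), ← mul_assoc] at h1
    rw [ev_eq]
    exact h 6 le_rfl
  have hpow : ∀ t, a ^ t ∈ K ↔ t % 3 = 0 := by
    intro t
    have h3 : a ^ 3 = 1 := by rw [pow_succ, pow_two]; exact ha3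
    rw [pow_eq_pow_mod t h3]
    have ht : t % 3 = 0 ∨ t % 3 = 1 ∨ t % 3 = 2 := by omega
    rcases ht with h | h | h
    · rw [h, pow_zero]; exact ⟨fun _ => rfl, fun _ => K.one_mem⟩
    · rw [h, pow_one]; exact ⟨fun h' => absurd h' haK, fun h' => absurd h' (by norm_num)⟩
    · rw [h, pow_two, hE.sq ha]
      exact ⟨fun h' => absurd (by simpa using K.inv_mem h') haK, fun h' => absurd h' (by norm_num)⟩
  have hmem : ∀ c, ev e c ∈ K ↔ dt m c % 3 = 0 := by
    intro c
    rw [← hpow]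
    constructor
    · intro h
      have := K.mul_mem (K.inv_mem h) (key c)
      rwa [inv_mul_cancel_left] at this
    · intro h
      have := K.mul_mem (key c) (K.inv_mem h)
      rwa [mul_inv_cancel_right] at this
  have hKK : K = KK B m := by
    ext x
    constructor
    · intro hx
      obtain ⟨c, rfl⟩ := hK.le hx
      exact ⟨c, rfl, (hmem c).1 hx⟩
    · rintro ⟨c, rfl, hc⟩
      exact (hmem c).2 hc
  refine ⟨cd m, ?_, cd_lt m, by rw [KK_code, hKK]⟩
  rw [Nat.pos_iff_ne_zero]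
  intro h0
  apply haK
  obtain ⟨c, rfl⟩ := ha
  rw [hmem, ← dt_congr (a := dg (cd m)) (c := c) (d := c) (fun k hk => by rw [dg_cd m k hk, Nat.mod_mod])
    fun _ _ => rfl, h0]
  have : ∀ k, dg 0 k = 0 := fun k => by unfold dg; simp
  unfold dt
  simp [this]

/-! ### Conjugation -/

theorem conj_ev (B : Bas e) {x : Γ} {A : ℕ → ℕ} (hx : ∀ k < 6, x * e k * x⁻¹ = ev e (dg (A k))) (c : ℕ → ℕ) :
    x * ev e c * x⁻¹ = ev e (fun l => ∑ k ∈ Finset.range 6, c k * dg (A k) l) := by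
  have hpow : ∀ (d : ℕ → ℕ) (m : ℕ), ev e d ^ m = ev e (fun l => m * d l) := by
    intro d m
    induction m with
    | zero =>
      rw [pow_zero]
      exact (ev_zero' _ fun k _ => zero_mul _).symm
    | succ m ih =>
      rw [pow_succ, ih, ← ev_add B]
      congr 1
      funext l
      ring
  have h : ∀ n ≤ 6, x * evN e c n * x⁻¹ = ev e (fun l => ∑ k ∈ Finset.range n, c k * dg (A k) l) := by
    intro n
    induction n with
    | zero =>
      intro _
      show x * 1 * x⁻¹ = _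
      rw [mul_one, mul_inv_cancel]
      exact (ev_zero' _ fun k _ => by rw [Finset.sum_range_zero]).symm
    | succ n ih =>
      intro hn
      have h1 : x * e n ^ c n * x⁻¹ = ev e (fun l => c n * dg (A n) l) := by
        rw [← hpow, ← hx n (by omega), conj_pow]
      show x * (evN e c n * e n ^ c n) * x⁻¹ = _
      have h2 : x * (evN e c n * e n ^ c n) * x⁻¹ = (x * evN e c n * x⁻¹) * (x * e n ^ c n * x⁻¹) := by group
      rw [h2, ih (by omega), h1, ← ev_add B]
      congr 1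
      funext l
      rw [Finset.sum_range_succ]
  rw [ev_eq]
  exact h 6 le_rfl

theorem cj_EE (B : Bas e) {x : Γ} {A : ℕ → ℕ} (hx : ∀ k < 6, x * e k * x⁻¹ = ev e (dg (A k))) :
    cj x (EE B) = EE B := by
  apply cj_eq_of_le (elem B).fin
  rintro _ ⟨c, rfl⟩
  rw [conj_ev B hx]
  exact ev_mem B _

theorem cj_KK (B : Bas e) {x : Γ} {A : ℕ → ℕ} (hx : ∀ k < 6, x * e k * x⁻¹ = ev e (dg (A k))) (n : ℕ) :
    cj x⁻¹ (KK B (dg n)) = KK B (dg (T A n)) := by
  have key : ∀ c, dt (dg n) (fun l => ∑ k ∈ Finset.range 6, c k * dg (A k) l) = dt (fun k => dot n (A k)) c := by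
    intro c
    unfold dt
    simp only [dot_eq, dt, Finset.mul_sum, Finset.sum_mul]
    rw [Finset.sum_comm]
    refine Finset.sum_congr rfl fun k _ => Finset.sum_congr rfl fun l _ => by ring
  rw [T_eq, KK_code]
  ext y
  rw [mem_cj, inv_inv]
  constructor
  · intro h
    have hy : y ∈ EE B := by
      rw [← cj_inv_eq (cj_EE B hx), mem_cj, inv_inv]
      exact KK_le B _ h
    obtain ⟨c, rfl⟩ := hy
    rw [conj_ev B hx, mem_KK B, key] at h
    exact ⟨c, rfl, h⟩
  · rintro ⟨c, rfl, hc⟩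
    rw [conj_ev B hx, mem_KK B, key]
    exact hc

/-- conjugacy of hyperplanes under the normaliser -/
def Rel (B : Bas e) (n m : ℕ) : Prop := ∃ x, cj x (EE B) = EE B ∧ cj x (KK B (dg n)) = KK B (dg m)

theorem Rel.refl (B : Bas e) (n : ℕ) : Rel B n n := ⟨1, cj_one _, cj_one _⟩

theorem Rel.symm {B : Bas e} {n m : ℕ} (h : Rel B n m) : Rel B m n := by
  obtain ⟨x, h1, h2⟩ := h
  exact ⟨x⁻¹, cj_inv_eq h1, cj_inv_eq h2⟩

theorem Rel.trans {B : Bas e} {n m k : ℕ} (h : Rel B n m) (h' : Rel B m k) : Rel B n k := by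
  obtain ⟨x, h1, h2⟩ := h
  obtain ⟨y, h3, h4⟩ := h'
  exact ⟨y * x, by rw [cj_mul, h1, h3], by rw [cj_mul, h2, h4]⟩

theorem Rel.of_conj (B : Bas e) {x : Γ} {A : ℕ → ℕ} (hx : ∀ k < 6, x * e k * x⁻¹ = ev e (dg (A k))) (n : ℕ) :
    Rel B n (T A n) := ⟨x⁻¹, cj_inv_eq (cj_EE B hx), cj_KK B hx n⟩

theorem Rel.neg (B : Bas e) (n : ℕ) : Rel B n (neg n) := ⟨1, cj_one _, by rw [cj_one, KK_neg]⟩

theorem ne_of_sep (B : Bas e) {n m : ℕ} (h : ∃ t < 729, dot n t % 3 = 0 ∧ dot m t % 3 ≠ 0) :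
    KK B (dg n) ≠ KK B (dg m) := by
  obtain ⟨t, _, h1, h2⟩ := h
  intro heq
  rw [dot_eq] at h1 h2
  have h3 : ev e (dg t) ∈ KK B (dg n) := (mem_KK B).2 h1
  rw [heq, mem_KK B] at h3
  exact h2 h3

theorem inv_EE (B : Bas e) {j : Γ} (hjj : j * j = 1) (hj : ∀ k < 6, j * e k * j = (e k)⁻¹) :
    ∀ x ∈ EE B, j * x * j = x⁻¹ := by
  rintro _ ⟨c, rfl⟩
  have hji : j⁻¹ = j := inv_eq_of_mul_eq_one_left hjj
  have h : ∀ n ≤ 6, j * evN e c n * j = (evN e c n)⁻¹ := by
    intro n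
    induction n with
    | zero => intro _; show j * 1 * j = 1⁻¹; rw [mul_one, hjj, inv_one]
    | succ n ih =>
      intro hn
      have h1 : j * e n ^ c n * j = (e n ^ c n)⁻¹ := by
        have h2 := conj_pow (i := c n) (a := j) (b := e n)
        rw [hji, hj n (by omega)] at h2
        rw [← h2, inv_pow]
      have h3 : Commute (evN e c n) (e n ^ c n) := (commute_evN B c (by omega) (by omega)).pow_right _
      show j * (evN e c n * e n ^ c n) * j = (evN e c n * e n ^ c n)⁻¹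
      rw [h3.eq, mul_inv_rev, ← ih (by omega), ← h1]
      have h4 : j * (e n ^ c n * evN e c n) * j = j * e n ^ c n * (j * j) * evN e c n * j := by
        rw [hjj, mul_one]; group
      have h5 : j * evN e c n * j * (j * e n ^ c n * j) = j * evN e c n * (j * j) * e n ^ c n * j := by group
      rw [h5, hjj, mul_one, mul_assoc j (evN e c n), h3.eq]
  rw [ev_eq]
  exact h 6 le_rfl

/-- The `Setup` of `ModAbs`. -/
def mkSetup (B : Bas e) (j : Γ) (hjj : j * j = 1) (hj : ∀ k < 6, j * e k * j = (e k)⁻¹) (hN : ℕ → ℕ)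
    (hpos : ∀ i < 12, 0 < hN i ∧ hN i < 729)
    (h1 : ∀ i < 12, ∀ k < 12, Rel B (hN i) (hN k))
    (h2 : ∀ n, 0 < n → n < 729 → (∃ i < 12, n = hN i ∨ neg n = hN i) ∨
      ∃ c : Fin 13 → ℕ, (∀ i, 0 < c i ∧ c i < 729 ∧ Rel B n (c i)) ∧
        ∀ i k, i ≠ k → ∃ t < 729, dot (c i) t % 3 = 0 ∧ dot (c k) t % 3 ≠ 0)
    (h3 : ∀ i < 12, ∀ k < 12, i ≠ k → ∃ t < 729, dot (hN i) t % 3 = 0 ∧ dot (hN k) t % 3 ≠ 0) :
    Setup Γ 12 where
  E := EE B
  hE := elem B
  j := j
  jj := hjj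
  inv := inv_EE B hjj hj
  H i := KK B (dg (hN i))
  hyp i := hyper_code B (hpos i i.2).1 (hpos i i.2).2
  inj i k hik := by
    by_contra hne
    exact ne_of_sep B (h3 i i.2 k k.2 fun h => hne (Fin.ext h)) hik
  tr i k := by
    obtain ⟨x, hx1, hx2⟩ := h1 i i.2 k k.2
    exact ⟨x, hx1, hx2⟩
  other K hK := by
    obtain ⟨n, h0, hn, rfl⟩ := exists_code B hK
    rcases h2 n h0 hn with ⟨i, hi, h⟩ | ⟨c, hc, hsep⟩
    · left
      refine ⟨⟨i, hi⟩, ?_⟩
      rcases h with h | h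
      · rw [h]
      · rw [← KK_neg B n, h]
    · right
      choose x hx1 hx2 using fun i => (hc i).2.2
      refine ⟨x, hx1, fun i k hik => ?_⟩
      by_contra hne
      have h4 : cj (x i) (KK B (dg n)) = cj (x k) (KK B (dg n)) := hik
      rw [hx2, hx2] at h4
      exact ne_of_sep B (hsep i k hne) h4

/-- membership in `M` from the conjugation table -/
theorem mem_M {B : Bas e} {D : Setup Γ 12} (hD : D.E = EE B) {x : Γ} {A : ℕ → ℕ} {b : ℕ}
    (hx : ∀ k < 6, x * e k * x⁻¹ = ev e (dg (A k))) (hj : D.j * x * D.j * x⁻¹ = ev e (dg b)) : x ∈ D.M := by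
  refine ⟨?_, ?_⟩
  · rw [hD]; exact cj_EE B hx
  · rw [hj, hD]; exact ev_mem B _

/-- combinations of the generators `al m` -/
theorem comb_mem (B : Bas e) (A : Subgroup Γ) (al s : ℕ → ℕ) (h : ∀ m < 5, ev e (dg (al m)) ∈ A) :
    ev e (fun l => ∑ m ∈ Finset.range 5, s m * dg (al m) l) ∈ A := by
  have hpow : ∀ (d : ℕ → ℕ) (m : ℕ), ev e (fun l => m * d l) = ev e d ^ m := by
    intro d m
    induction m with
    | zero =>
      rw [pow_zero]
      exact ev_zero' _ fun k _ => zero_mul _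
    | succ m ih =>
      rw [pow_succ, ← ih, ← ev_add B]
      congr 1
      funext l
      ring
  have h' : ∀ n ≤ 5, ev e (fun l => ∑ m ∈ Finset.range n, s m * dg (al m) l) ∈ A := by
    intro n
    induction n with
    | zero =>
      intro _
      rw [ev_zero' _ fun k _ => by rw [Finset.sum_range_zero]]
      exact A.one_mem
    | succ n ih =>
      intro hn
      have h1 := A.mul_mem (ih (by omega)) (A.pow_mem (h n (by omega)) (s n))
      rw [← hpow, ← ev_add B] at h1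
      have h2 : (fun k => ∑ m ∈ Finset.range n, s m * dg (al m) k + s n * dg (al n) k) =
          fun l => ∑ m ∈ Finset.range (n + 1), s m * dg (al m) l := by
        funext l
        rw [Finset.sum_range_succ]
      rwa [h2] at h1
  exact h' 5 le_rfl

end Cfsg.Agent.MonsterU.ModLin
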