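import Cfsg.Agent.MonsterX.Lin24

/-!
# Fast products of `24 × 24` matrices over the field with two elements

`mulC a b` is the matrix of the composition `a ∘ b` (columns packed in fields of `24` bits): `24` steps with
numbers of `576` bits.  `linF` is a fast form of `lin`.
-/

set_option autoImplicit false

namespace Cfsg.Agent.MonsterU.ModMul

open Cfsg.Agent.MonsterX.Lin24

/-! ### Fields of 24 bits -/

/-- The number with the digits `f 0, …, f (n - 1)` in base `2 ^ 24`. -/
def packN (f : ℕ → ℕ) : ℕ → ℕ
  | 0 => 0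
  | n + 1 => packN f n + f n * 2 ^ (24 * n)

theorem packN_lt {f : ℕ → ℕ} (hf : ∀ i, f i < 2 ^ 24) (n : ℕ) : packN f n < 2 ^ (24 * n) := by
  induction n with
  | zero => exact Nat.one_pos
  | succ n ih =>
    have h1 := hf n
    calc packN f n + f n * 2 ^ (24 * n) < 2 ^ (24 * n) + f n * 2 ^ (24 * n) := by omega
      _ = (f n + 1) * 2 ^ (24 * n) := by ring
      _ ≤ 2 ^ 24 * 2 ^ (24 * n) := Nat.mul_le_mul_right _ (by omega)
      _ = 2 ^ (24 * (n + 1)) := by ring

theorem packN_mul (f : ℕ → ℕ) (x n : ℕ) : packN f n * x = packN (fun i => f i * x) n := by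
  induction n with
  | zero => exact Nat.zero_mul x
  | succ n ih =>
    show (packN f n + f n * 2 ^ (24 * n)) * x = packN (fun i => f i * x) n + f n * x * 2 ^ (24 * n)
    rw [← ih]; ring

theorem packN_congr {f g : ℕ → ℕ} {n : ℕ} (h : ∀ i < n, f i = g i) : packN f n = packN g n := by
  induction n with
  | zero => rfl
  | succ n ih =>
    show packN f n + f n * 2 ^ (24 * n) = packN g n + g n * 2 ^ (24 * n)
    rw [ih fun i hi => h i (by omega), h n (by omega)]

theorem col_packN {f : ℕ → ℕ} (hf : ∀ i, f i < 2 ^ 24) {i n : ℕ} (hi : i < n) :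
    col (packN f n) i = f i := by
  unfold col
  rw [Nat.shiftRight_eq_div_pow]
  induction n with
  | zero => omega
  | succ n ih =>
    show (packN f n + f n * 2 ^ (24 * n)) / 2 ^ (24 * i) % 16777216 = f i
    rcases Nat.lt_succ_iff_lt_or_eq.1 hi with h | h
    · rw [← ih h]
      obtain ⟨d, rfl⟩ : ∃ d, n = i + 1 + d := ⟨n - (i + 1), by omega⟩
      have e : f (i + 1 + d) * 2 ^ (24 * (i + 1 + d)) =
          f (i + 1 + d) * 2 ^ (24 * d) * 16777216 * 2 ^ (24 * i) := by
        rw [show 24 * (i + 1 + d) = 24 * d + 24 + 24 * i by ring, pow_add, pow_add]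
        ring
      rw [e, Nat.add_mul_div_right _ _ (by positivity), Nat.add_mul_mod_self_right]
    · subst h
      rw [Nat.add_mul_div_right _ _ (by positivity), Nat.div_eq_of_lt (packN_lt hf i), zero_add]
      exact Nat.mod_eq_of_lt (hf i)

theorem testBit_col (c i : ℕ) {k : ℕ} (hk : k < 24) : (col c i).testBit k = c.testBit (24 * i + k) := by
  unfold col
  rw [show (16777216 : ℕ) = 2 ^ 24 by norm_num, Nat.testBit_mod_two_pow, Nat.testBit_shiftRight]
  simp [hk]

theorem eq_of_col {a b : ℕ} (ha : a < 2 ^ (24 * 24)) (hb : b < 2 ^ (24 * 24)) (h : ∀ i < 24, col a i = col b i) :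
    a = b := by
  apply Nat.eq_of_testBit_eq
  intro t
  by_cases ht : t < 576
  · have h1 : t = 24 * (t / 24) + t % 24 := (Nat.div_add_mod t 24).symm
    rw [h1, ← testBit_col a _ (Nat.mod_lt _ (by norm_num)), ← testBit_col b _ (Nat.mod_lt _ (by norm_num)),
      h _ (by omega)]
  · rw [Nat.testBit_lt_two_pow (lt_of_lt_of_le ha (Nat.pow_le_pow_right (by norm_num) (by omega))),
      Nat.testBit_lt_two_pow (lt_of_lt_of_le hb (Nat.pow_le_pow_right (by norm_num) (by omega)))]

theorem col_xor (a b i : ℕ) : col (a ^^^ b) i = col a i ^^^ col b i := by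
  apply Nat.eq_of_testBit_eq
  intro k
  by_cases hk : k < 24
  · rw [testBit_col _ _ hk, Nat.testBit_xor, Nat.testBit_xor, testBit_col _ _ hk, testBit_col _ _ hk]
  · have h : ∀ c, (col c i).testBit k = false := fun c =>
      Nat.testBit_lt_two_pow (lt_of_lt_of_le (col_lt c i) (by
        rw [show (16777216 : ℕ) = 2 ^ 24 by norm_num]
        exact Nat.pow_le_pow_right (by norm_num) (by omega)))
    rw [h, Nat.testBit_xor, h, h]; rfl

/-! ### The mask of the lowest bits -/

/-- `1` in every field. -/
def MM : ℕ := 0x1000001000001000001000001000001000001000001000001000001000001000001000001000001000001000001000001000001000001000001000001000001000001000001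

theorem MM_eq : MM = packN (fun _ => 1) 24 := by decide +kernel

/-- The bits `i` of the fields. -/
theorem land_MM (b i : ℕ) : Nat.land (Nat.shiftRight b i) MM =
    packN (fun j => (b >>> (24 * j + i)) % 2) 24 := by
  have hf1 : ∀ _j : ℕ, (1 : ℕ) < 2 ^ 24 := fun _ => by norm_num
  have hf2 : ∀ j, (b >>> (24 * j + i)) % 2 < 2 ^ 24 := fun j =>
    lt_of_lt_of_le (Nat.mod_lt _ (by norm_num)) (by norm_num)
  have hM : MM < 2 ^ (24 * 24) := by rw [MM_eq]; exact packN_lt (f := fun _ => 1) hf1 24
  apply eq_of_col (lt_of_le_of_lt Nat.and_le_right hM) (packN_lt hf2 24)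
  intro j hj
  rw [col_packN hf2 hj]
  apply Nat.eq_of_testBit_eq
  intro k
  by_cases hk : k < 24
  · rw [testBit_col _ _ hk]
    show ((b >>> i) &&& MM).testBit (24 * j + k) = _
    rw [Nat.testBit_and, Nat.testBit_shiftRight]
    have h1 : MM.testBit (24 * j + k) = decide (k = 0) := by
      rw [← testBit_col _ _ hk, MM_eq, col_packN (f := fun _ => 1) hf1 hj]
      cases k with
      | zero => rfl
      | succ k =>
        rw [decide_eq_false (by omega)]
        apply Nat.testBit_lt_two_pow
        exact Nat.one_lt_two_pow (by omega)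
    rw [h1]
    cases k with
    | zero =>
      rw [Nat.add_zero, decide_eq_true rfl, Bool.and_true, Nat.testBit_zero, Nat.mod_mod,
        show i + 24 * j = 24 * j + i by ring]
      rw [← Nat.testBit_zero, Nat.testBit_shiftRight, Nat.add_zero]
    | succ k =>
      rw [decide_eq_false (by omega), Bool.and_false]
      symm
      apply Nat.testBit_lt_two_pow
      calc _ < 2 := Nat.mod_lt _ (by norm_num)
        _ = 2 ^ 1 := rfl
        _ ≤ 2 ^ (k + 1) := Nat.pow_le_pow_right (by norm_num) (by omega)
  · have h : 24 ≤ k := by omega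
    rw [Nat.testBit_lt_two_pow (lt_of_lt_of_le (col_lt _ _) (by
        rw [show (16777216 : ℕ) = 2 ^ 24 by norm_num]
        exact Nat.pow_le_pow_right (by norm_num) h)),
      Nat.testBit_lt_two_pow (lt_of_lt_of_le (hf2 j) (Nat.pow_le_pow_right (by norm_num) h))]

/-! ### The product -/

/-- The partial product. -/
noncomputable def mulN (a b n : ℕ) : ℕ :=
  Nat.rec (motive := fun _ => ℕ) 0
    (fun i r => Nat.xor r (Nat.mul (Nat.land (Nat.shiftRight b i) MM)
      (Nat.mod (Nat.shiftRight a (Nat.mul 24 i)) 16777216))) n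

/-- The product `a ∘ b` of two matrices. -/
noncomputable def mulC (a b : ℕ) : ℕ := mulN a b 24

theorem bit_mul (b t x : ℕ) : (b >>> t) % 2 * x = cond (b.testBit t) x 0 := by
  have h := Nat.testBit_zero (b >>> t)
  rw [Nat.testBit_shiftRight, Nat.add_zero] at h
  rcases Nat.mod_two_eq_zero_or_one (b >>> t) with h0 | h0
  · rw [h0] at h ⊢
    rw [h]; simp
  · rw [h0] at h ⊢
    rw [h]; simp

theorem col_mulN (a b : ℕ) {n j : ℕ} (hn : n ≤ 24) (hj : j < 24) :
    col (mulN a b n) j = linN a (col b j) n := by
  induction n with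
  | zero => show col 0 j = 0; simp [col]
  | succ n ih =>
    show col (mulN a b n ^^^ (Nat.land (Nat.shiftRight b n) MM * col a n)) j = _
    rw [col_xor, ih (by omega), linN_succ, land_MM, packN_mul, col_packN _ hj, bit_mul,
      testBit_col b j (by omega)]
    intro i
    rw [bit_mul]
    cases b.testBit (24 * i + n)
    · show 0 < _; norm_num
    · exact col_lt a n

theorem allB_of {n : ℕ} {p : ℕ → Bool} (h : ∀ i, i < n → p i = true) : allB n p = true := by
  induction n with
  | zero => rfl
  | succ n ih =>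
    show cond (p n) (allB n p) false = true
    rw [h n (by omega), ih fun i hi => h i (by omega)]
    rfl

theorem mulC_ok (a b : ℕ) : cmpOK a b (mulC a b) = true := by
  apply allB_of
  intro i hi
  show Nat.beq (col (mulN a b 24) i) (lin a (col b i)) = true
  rw [col_mulN a b le_rfl hi]
  exact Nat.beq_refl _

theorem lin_mulC (a b v : ℕ) : lin (mulC a b) v = lin a (lin b v) := lin_cmp (mulC_ok a b) v

/-- Fast form of `cmpOK`. -/
theorem cmp_of {a b c : ℕ} (h : Nat.beq (mulC a b) c = true) : cmpOK a b c = true := by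
  rw [← Nat.eq_of_beq_eq_true h]
  exact mulC_ok a b

/-! ### Images of vectors -/

/-- Fast form of `lin`. -/
noncomputable def linF (c v : ℕ) : ℕ :=
  Nat.rec (motive := fun _ => ℕ) 0
    (fun i r => Nat.xor r (Nat.mul (Nat.mod (Nat.shiftRight v i) 2)
      (Nat.mod (Nat.shiftRight c (Nat.mul 24 i)) 16777216))) 24

theorem linF_eq (c v : ℕ) : linF c v = lin c v := by
  have h : ∀ n, (Nat.rec (motive := fun _ => ℕ) 0
    (fun i r => Nat.xor r (Nat.mul (Nat.mod (Nat.shiftRight v i) 2)
      (Nat.mod (Nat.shiftRight c (Nat.mul 24 i)) 16777216))) n : ℕ) = linN c v n := by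
    intro n
    induction n with
    | zero => rfl
    | succ n ih =>
      rw [linN_succ, ← ih, ← bit_mul]
      rfl
  exact h 24

/-! ### Words -/

/-- The product of the matrices of a word. -/
noncomputable def wc (tab w : List ℕ) : ℕ := w.foldr (fun i c => mulC (tab.getD i idc) c) idc

/-- The image of a vector under a word. -/
noncomputable def wv (tab w : List ℕ) (v : ℕ) : ℕ := w.foldr (fun i u => linF (tab.getD i idc) u) v

theorem lin_wc (tab w : List ℕ) {v : ℕ} (hv : v < 2 ^ 24) : lin (wc tab w) v = wv tab w v := by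
  induction w with
  | nil => exact lin_one hv
  | cons i w ih =>
    show lin (mulC (tab.getD i idc) (wc tab w)) v = linF (tab.getD i idc) (wv tab w v)
    rw [lin_mulC, ih, linF_eq]

end Cfsg.Agent.MonsterU.ModMul
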