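import Cfsg.Agent.MonsterU.ModCode

/-!
# The relations in `Co1`, kernel checks

The relations (all fields of `ModThm.Rels` but the generation).
-/

set_option autoImplicit false
set_option maxRecDepth 100000

namespace Cfsg.Agent.MonsterU.ModRel

open Cfsg Cfsg.Spor Cfsg.Agent.MonsterU.Lam2 Cfsg.Agent.MonsterU.ModEv Cfsg.Agent.MonsterU.ModCode
open Cfsg.Agent.MonsterU.ModOrb Cfsg.Agent.MonsterU.ModThm
open Cfsg.Agent.MonsterX.Lin24

/-- `e0, …, e5, j, l1, l2, h, h⁻¹, l1⁻¹, l2⁻¹` -/
noncomputable def el (a : ℕ) : Co1 :=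
  if a < 10 then W L (wd a) else if a = 10 then (W L (wd 9))⁻¹ else if a = 11 then (W L (wd 7))⁻¹
  else (W L (wd 8))⁻¹

theorem rp_wd {a c : ℕ} (ha : a < 10) (h : isMat lt (wd a) c = true) : Rp (W L (wd a)) c :=
  Rp.of_word (fun b hb => rp_L (wd_lt a ha b hb)) h

theorem inv_h : cmpOK hC hiC idc = true := by decide +kernel
theorem inv_l1 : cmpOK l1C l1iC idc = true := by decide +kernel
theorem inv_l2 : cmpOK l2C l2iC idc = true := by decide +kernel

theorem rp_el {a : ℕ} (ha : a < 13) : Rp (el a) (mt a) := by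
  have h : a = 0 ∨ a = 1 ∨ a = 2 ∨ a = 3 ∨ a = 4 ∨ a = 5 ∨ a = 6 ∨ a = 7 ∨ a = 8 ∨ a = 9 ∨ a = 10 ∨ a = 11 ∨
      a = 12 := by omega
  rcases h with rfl | rfl | rfl | rfl | rfl | rfl | rfl | rfl | rfl | rfl | rfl | rfl | rfl
  · exact rp_wd (by norm_num) mat_e0
  · exact rp_wd (by norm_num) mat_e1
  · exact rp_wd (by norm_num) mat_e2
  · exact rp_wd (by norm_num) mat_e3
  · exact rp_wd (by norm_num) mat_e4
  · exact rp_wd (by norm_num) mat_e5
  · exact rp_wd (by norm_num) mat_j
  · exact rp_wd (by norm_num) mat_l1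
  · exact rp_wd (by norm_num) mat_l2
  · exact rp_wd (by norm_num) mat_h
  · exact (rp_wd (a := 9) (by norm_num) mat_h).inv inv_h
  · exact (rp_wd (a := 7) (by norm_num) mat_l1).inv inv_l1
  · exact (rp_wd (a := 8) (by norm_num) mat_l2).inv inv_l2

theorem el_inv_h : (el 9)⁻¹ = el 10 := rfl
theorem el_inv_l1 : (el 7)⁻¹ = el 11 := rfl
theorem el_inv_l2 : (el 8)⁻¹ = el 12 := rfl

/-- the check of a relation -/
noncomputable def chk (w₁ w₂ : List ℕ) : Bool :=
  w₁.all (fun a => Nat.blt a 13) && (w₂.all (fun a => Nat.blt a 13) && same mt w₁ w₂)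

theorem rel {w₁ w₂ : List ℕ} (h : chk w₁ w₂ = true) : W el w₁ = W el w₂ := by
  unfold chk at h
  rw [Bool.and_eq_true, Bool.and_eq_true, List.all_eq_true, List.all_eq_true] at h
  exact W_eq (fun a ha => rp_el (by simpa [Nat.blt_eq] using h.1 a ha))
    (fun a ha => rp_el (by simpa [Nat.blt_eq] using h.2.1 a ha)) h.2.2

/-- the word of `ev` -/
def wv (c : ℕ → ℕ) : List ℕ :=
  List.replicate (c 0) 0 ++ (List.replicate (c 1) 1 ++ (List.replicate (c 2) 2 ++ (List.replicate (c 3) 3 ++
    (List.replicate (c 4) 4 ++ List.replicate (c 5) 5))))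

theorem W_replicate (g : ℕ → Co1) (n a : ℕ) : W g (List.replicate n a) = g a ^ n := by
  unfold W
  rw [List.map_replicate, List.prod_replicate]

theorem W_wv (g : ℕ → Co1) (c : ℕ → ℕ) : W g (wv c) = ev g c := by
  unfold wv ev
  simp only [W_append, W_replicate, mul_assoc]

theorem W_nil (g : ℕ → Co1) : W g [] = 1 := rfl

theorem W_one (g : ℕ → Co1) (a : ℕ) : W g [a] = g a := by rw [W_cons, W_nil, mul_one]

/-! ### Checks -/

theorem c_comm : ((List.range 6).all fun k => (List.range 6).all fun l => chk [k, l] [l, k]) = true := by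
  decide +kernel

theorem c_cube : ((List.range 6).all fun k => chk [k, k, k] []) = true := by decide +kernel

theorem c_jj : chk [6, 6] [] = true := by decide +kernel

theorem c_jinv : ((List.range 6).all fun k => chk [6, k, 6, k] []) = true := by decide +kernel

theorem c_l1 : ((List.range 6).all fun k => chk [7, k] (wv (dg (A1 k)) ++ [7])) = true := by decide +kernel

theorem c_l2 : ((List.range 6).all fun k => chk [8, k] (wv (dg (A2 k)) ++ [8])) = true := by decide +kernel

theorem c_l1j : chk [6, 7, 6] [7] = true := by decide +kernel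

theorem c_l2j : chk [6, 8, 6] [8] = true := by decide +kernel

/-- the word of `g_m` -/
def gw (m : ℕ) : List ℕ := if m < 5 then 10 :: (wv (dg (al m)) ++ [9]) else [10, 6, 9]

theorem c_gB : ((List.range 6).all fun m => (List.range 6).all fun k =>
    chk (gw m ++ [k]) (wv (dg (Bt m k)) ++ gw m)) = true := by decide +kernel

theorem c_gj : ((List.range 6).all fun m => chk (6 :: (gw m ++ [6])) (wv (dg (beta m)) ++ gw m)) = true := by
  decide +kernel

theorem c_indep : ((List.range 728).all fun n =>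
    (wv (dg (n + 1))).all (fun a => Nat.blt a 13) && !Nat.beq (run mt (wv (dg (n + 1))) 1) 1) = true := by
  decide +kernel

/-! ### The relations -/

theorem W_gw (m : ℕ) : W el (gw m) = gm el m := by
  unfold gw gm
  by_cases h : m < 5
  · rw [if_pos h, if_pos h, W_cons, W_append, W_wv, W_one, el_inv_h, mul_assoc]
  · rw [if_neg h, if_neg h, W_cons, W_cons, W_one, el_inv_h, mul_assoc]

theorem eq_conj {a b c : Co1} (h : a * b = c * a) : a * b * a⁻¹ = c := by rw [h, mul_inv_cancel_right]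

theorem all1 {n : ℕ} {p : ℕ → Bool} (h : (List.range n).all p = true) {k : ℕ} (hk : k < n) : p k = true :=
  List.all_eq_true.1 h k (List.mem_range.2 hk)

theorem comm (k : ℕ) (hk : k < 6) (l : ℕ) (hl : l < 6) : el k * el l = el l * el k := by
  have h := rel (all1 (all1 c_comm hk) hl)
  rwa [W_cons, W_one, W_cons, W_one] at h

theorem cube (k : ℕ) (hk : k < 6) : el k ^ 3 = 1 := by
  have h := rel (all1 c_cube hk)
  rw [W_cons, W_cons, W_one, W_nil] at h
  rw [pow_succ, pow_two, mul_assoc]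
  exact h

theorem jj : el 6 * el 6 = 1 := by
  have h := rel c_jj
  rwa [W_cons, W_one, W_nil] at h

theorem jinv (k : ℕ) (hk : k < 6) : el 6 * el k * el 6 = (el k)⁻¹ := by
  have h := rel (all1 c_jinv hk)
  rw [W_cons, W_cons, W_cons, W_one, W_nil] at h
  rw [eq_inv_iff_mul_eq_one, mul_assoc, mul_assoc]
  exact h

theorem l1 (k : ℕ) (hk : k < 6) : el 7 * el k * (el 7)⁻¹ = ev el (dg (A1 k)) := by
  have h := rel (all1 c_l1 hk)
  rw [W_cons, W_one, W_append, W_wv, W_one] at h
  exact eq_conj h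

theorem l2 (k : ℕ) (hk : k < 6) : el 8 * el k * (el 8)⁻¹ = ev el (dg (A2 k)) := by
  have h := rel (all1 c_l2 hk)
  rw [W_cons, W_one, W_append, W_wv, W_one] at h
  exact eq_conj h

theorem l1j : el 6 * el 7 * el 6 * (el 7)⁻¹ = 1 := by
  have h := rel c_l1j
  rw [W_cons, W_cons, W_one, W_one] at h
  rw [mul_assoc (el 6), h, mul_inv_cancel]

theorem l2j : el 6 * el 8 * el 6 * (el 8)⁻¹ = 1 := by
  have h := rel c_l2j
  rw [W_cons, W_cons, W_one, W_one] at h
  rw [mul_assoc (el 6), h, mul_inv_cancel]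

theorem gB (m : ℕ) (hm : m < 6) (k : ℕ) (hk : k < 6) :
    gm el m * el k * (gm el m)⁻¹ = ev el (dg (Bt m k)) := by
  have h := rel (all1 (all1 c_gB hm) hk)
  rw [W_append, W_one, W_append, W_wv, W_gw] at h
  exact eq_conj h

theorem gj (m : ℕ) (hm : m < 6) : el 6 * gm el m * el 6 * (gm el m)⁻¹ = ev el (dg (beta m)) := by
  have h := rel (all1 c_gj hm)
  rw [W_cons, W_append, W_one, W_append, W_wv, W_gw] at h
  rw [mul_assoc (el 6), h, mul_inv_cancel_right]

theorem indep (n : ℕ) (h0 : 0 < n) (hn : n < 729) : ev el (dg n) ≠ 1 := by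
  intro h
  have h1 := all1 c_indep (k := n - 1) (by omega)
  rw [Nat.sub_add_cancel h0, Bool.and_eq_true, List.all_eq_true, Bool.not_eq_true'] at h1
  obtain ⟨v, hv⟩ := Cfsg.Agent.MonsterX.FrameAct.codeL_surj (n := 1) (by norm_num)
  have h2 := code_W (g := el) (t := mt) (w := wv (dg n)) (fun a ha => rp_el (by simpa [Nat.blt_eq] using h1.1 a ha))
    (cl v)
  rw [W_wv, h, one_smul, code_cl, hv] at h2
  rw [← h2] at h1
  exact absurd h1.2 (by decide)

/-- all relations; `hgen` is the generation -/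
theorem rels (hgen : ∀ S : Subgroup Co1, el 0 ∈ S → el 1 ∈ S → el 7 ∈ S → el 8 ∈ S → el 9 ∈ S → S = ⊤) :
    Rels el where
  comm := comm
  cube := cube
  indep := indep
  jj := jj
  jinv := jinv
  l1 := l1
  l2 := l2
  l1j := l1j
  l2j := l2j
  gB := gB
  gj := gj
  gen := hgen

end Cfsg.Agent.MonsterU.ModRel
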