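import Cfsg.Agent.MonsterU.PlaneGeo
import Cfsg.Agent.MonsterX.FieldsO
import Cfsg.Agent.MonsterX.RelXiX
import Cfsg.Agent.MonsterX.RelXiT
import Cfsg.Agent.MonsterX.MainTrans

/-!
# The point-line-plane geometry of the concrete model

`Γ` = the group of the model, `zE, aE = x_Ω, bE = x_δ` (`δ` the sextet of `ξ`), `τE`, `ξE`, `yE` elements of `Γ`,
`plane : Plane zE aE bE τE ξE yE`; `K = C(z)`, `N = N(⟨z, x_Ω⟩)`.
-/

set_option autoImplicit false
set_option maxRecDepth 100000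

namespace Cfsg.Agent.MonsterU.ModelGeo

open Cfsg.Agent.MonsterX Cfsg.Agent.MonsterX.Space
open Cfsg.Agent.MonsterX.Conc Cfsg.Agent.MonsterX.Model Cfsg.Agent.MonsterX.InstData
open Cfsg.Agent.MonsterX.ConcMono Cfsg.Agent.MonsterX.TauRel Cfsg.Agent.MonsterX.RelAll
open Cfsg.Agent.MonsterU.PlaneGeo Cfsg.Agent.MonsterU.Glue

/-- The group of the model. -/
abbrev Γ : Type := ↥M.G

/-- The sextet element. -/
noncomputable def xT : V ≃ₗ[ℚ] V := W [13, 14, 15, 16]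

theorem mem_G_of_C {g : V ≃ₗ[ℚ] V} (h : g ∈ C) : g ∈ M.G := C_le_G h

theorem xT_mem_Q : xT ∈ Q := W_mem fun n hn => E_mem_Q (by
  simp only [List.mem_cons, List.not_mem_nil, or_false] at hn
  omega)

noncomputable def zE : Γ := ⟨z, C_le_G (Q_le_C ProgM.Inv.z_mem_Q)⟩
noncomputable def aE : Γ := ⟨E 0, C_le_G (E_mem_C (by norm_num))⟩
noncomputable def bE : Γ := ⟨xT, C_le_G (Q_le_C xT_mem_Q)⟩
noncomputable def τE : Γ := ⟨τ, τ_mem_G⟩
noncomputable def ξE : Γ := ⟨ξ, C_le_G (E_mem_C (by norm_num))⟩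
noncomputable def yE : Γ := ⟨E 25, C_le_G (E_mem_C (by norm_num))⟩

/-! ### The relations -/

theorem z_C {g : V ≃ₗ[ℚ] V} (h : g ∈ C) : z * g = g * z := (z_comm_C g h).symm

theorem xT_sq : xT * xT = 1 := by
  have h : W ([13, 14, 15, 16] ++ [13, 14, 15, 16]) = W [] := W_eq_of_same (by decide +kernel)
  rw [W_append, W_nil] at h
  exact h

theorem a_b : E 0 * xT = xT * E 0 := by
  have h : W ([13, 14, 15, 16] ++ [0]) = W ([0] ++ [13, 14, 15, 16]) := W_eq_of_same (by decide +kernel)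
  rw [W_append, W_append, W_single] at h
  exact h

theorem τ_b : τ * xT * τ⁻¹ = xT := by
  have h : τ * W [13, 14, 15, 16] = W ([13, 14, 15, 16].map st) * τ := τ_word (by decide)
  have e : [13, 14, 15, 16].map st = [13, 14, 15, 16] := by decide
  rw [e] at h
  show τ * W [13, 14, 15, 16] * τ⁻¹ = W [13, 14, 15, 16]
  rw [h, mul_inv_cancel_right]

theorem ξ_inv : ξ⁻¹ = ξ := inv_eq_of_mul_eq_one_right ξ_sq

theorem ξ_a : ξ * E 0 * ξ⁻¹ = E 0 * xT := by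
  have h := RelXiX.xi_x
  have e1 : W [0, 39] = ξ * E 0 := W2 0 39
  have e2 : W [39, 0, 13, 14, 15, 16] = xT * E 0 * ξ := by
    rw [W_cons, W_cons]
    rfl
  rw [e1, e2] at h
  rw [h, mul_inv_cancel_right, a_b]

theorem ξ_b : ξ * xT * ξ⁻¹ = xT := by
  have h := RelXiT.xi_t
  have e1 : W [39, 13, 14, 15, 16] = xT * ξ := W_cons 39 [13, 14, 15, 16]
  have e2 : W [13, 14, 15, 16, 39] = ξ * xT := by
    have : W ([13, 14, 15, 16] ++ [39]) = W [39] * W [13, 14, 15, 16] := W_append _ _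
    rw [W_single] at this
    exact this
  rw [e1, e2] at h
  rw [← h, mul_inv_cancel_right]

theorem y_a : E 25 * E 0 = E 0 * E 25 := by
  have h : W [0, 25] = W [25, 0] := W_eq_of_same (by decide +kernel)
  rw [W2, W2] at h
  exact h

theorem y_sq : E 25 * E 25 = 1 := by
  have h : W [25, 25] = W [] := W_eq_of_same (by decide +kernel)
  rw [W2, W_nil] at h
  exact h

theorem y_b : E 25 * xT * (E 25)⁻¹ = E 0 * xT := by
  have h : W ([25] ++ ([13, 14, 15, 16] ++ [25])) = W ([0] ++ [13, 14, 15, 16]) := W_eq_of_same (by decide +kernel)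
  rw [W_append, W_append, W_append, W_single, W_single] at h
  rw [inv_eq_of_mul_eq_one_right y_sq, a_b]
  exact h

theorem plane : Plane zE aE bE τE ξE yE where
  z_ne h := ConcGrp.z_ne_one (congrArg Subtype.val h)
  z_sq := Subtype.ext RelAll.z_sq
  a_sq := Subtype.ext (E_sq sq0)
  b_sq := Subtype.ext xT_sq
  za := Subtype.ext RelAll.z_x0
  zb := Subtype.ext (z_C (Q_le_C xT_mem_Q))
  ab := Subtype.ext a_b
  τ_z := Subtype.ext RelAll.τ_z
  τ_a := Subtype.ext RelAll.τ_x0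
  τ_b := Subtype.ext ModelGeo.τ_b
  ξ_z := Subtype.ext (by
    show ξ * z * ξ⁻¹ = z
    rw [RelAll.ξ_z, mul_inv_cancel_right])
  ξ_a := Subtype.ext ModelGeo.ξ_a
  ξ_b := Subtype.ext ModelGeo.ξ_b
  y_z := Subtype.ext (by
    show E 25 * z * (E 25)⁻¹ = z
    rw [z_comm_C _ (E_mem_C (by norm_num)), mul_inv_cancel_right])
  y_a := Subtype.ext (by
    show E 25 * E 0 * (E 25)⁻¹ = E 0
    rw [ModelGeo.y_a, mul_inv_cancel_right])
  y_b := Subtype.ext ModelGeo.y_b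

/-! ### The subgroups -/

/-- The stabiliser of the point. -/
noncomputable abbrev KΓ : Subgroup Γ := K zE

/-- The stabiliser of the line. -/
noncomputable abbrev NΓ : Subgroup Γ := N zE aE

/-- The stabiliser of the plane. -/
noncomputable abbrev PΓ : Subgroup Γ := P zE aE bE

theorem mem_KΓ_of_C {g : Γ} (h : (g : V ≃ₗ[ℚ] V) ∈ C) : g ∈ KΓ :=
  mem_K.2 (Subtype.ext (by
    show (g : V ≃ₗ[ℚ] V) * z * (g : V ≃ₗ[ℚ] V)⁻¹ = z
    rw [z_comm_C _ h, mul_inv_cancel_right]))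

/-- The centraliser of `z` is `C` (from `cent_z`). -/
theorem mem_KΓ (hc : ∀ g ∈ M.G, g * M.z = M.z * g → g ∈ M.C) {g : Γ} : g ∈ KΓ ↔ (g : V ≃ₗ[ℚ] V) ∈ C := by
  constructor
  · intro h
    refine hc g.1 g.2 ?_
    have h1 := congrArg Subtype.val (mem_K.1 h)
    have h2 : (g : V ≃ₗ[ℚ] V) * z * (g : V ≃ₗ[ℚ] V)⁻¹ = z := h1
    exact mul_inv_eq_iff_eq_mul.1 h2
  · exact mem_KΓ_of_C

/-- `C(z)` and `τ` generate. -/
theorem gen_τ : Subgroup.closure ((KΓ : Set Γ) ∪ {τE}) = ⊤ := by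
  rw [eq_top_iff]
  rintro ⟨g, hg⟩ -
  have hg' : g ∈ Subgroup.closure ((C : Set (V ≃ₗ[ℚ] V)) ∪ {τ}) := hg
  refine Subgroup.closure_induction (p := fun x hx => (⟨x, hx⟩ : Γ) ∈
    Subgroup.closure ((KΓ : Set Γ) ∪ {τE})) ?_ ?_ ?_ ?_ hg'
  · rintro x (hx | hx)
    · exact Subgroup.subset_closure (Or.inl (mem_KΓ_of_C hx))
    · apply Subgroup.subset_closure
      right
      rw [Set.mem_singleton_iff] at hx ⊢
      exact Subtype.ext hx
  · exact one_mem _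
  · intro x y hx hy h1 h2
    exact mul_mem h1 h2
  · intro x hx h1
    exact inv_mem h1

theorem gen : Subgroup.closure ((KΓ : Set Γ) ∪ (NΓ : Set Γ)) = ⊤ := plane.gen gen_τ

theorem geo : Geo KΓ NΓ PΓ := plane.geo

theorem τ_mem : τE ∈ NΓ := plane.τ_mem_N

theorem ξ_mem : ξE ∈ KΓ := plane.ξ_mem_K

/-- `unique` in the form of `GlueP`. -/
theorem unique : ∀ m ∈ KΓ, ∀ n ∈ NΓ, ∀ n' ∈ NΓ, n' ∉ KΓ → n⁻¹ * m * n' ∈ KΓ → m ∈ NΓ := geo.unique

end Cfsg.Agent.MonsterU.ModelGeo
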