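import Cfsg.Agent.MonsterU.PlaneM2E
import Cfsg.Agent.MonsterU.ModelGeo
import Cfsg.Agent.MonsterX.KDone
import Cfsg.Agent.LeechMat.Words

/-!
# The elements `x_Ω`, `x_T` of the model and the remaining fields of `PlaneE.Data` (helper235)
-/

set_option autoImplicit false
set_option maxRecDepth 100000

namespace Cfsg.Agent.MonsterU.ModelQ

open Cfsg Cfsg.Agent.LeechMat.Core Cfsg.Agent.LeechMat.Elements Cfsg.Agent.LeechMat.Code
open Cfsg.Agent.MonsterX Cfsg.Agent.MonsterX.Space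
open Cfsg.Agent.MonsterX.KSide Cfsg.Agent.MonsterX.KLift Cfsg.Agent.MonsterX.KAsm Cfsg.Agent.MonsterX.KInst
open Cfsg.Agent.MonsterX.KDone Cfsg.Agent.MonsterX.KRowsInst Cfsg.Agent.MonsterX.Psi
open Cfsg.Agent.Monster.PauliBasic Cfsg.Agent.Monster.PauliClif
open Cfsg.Agent.SporadicStructure.Co0Base (e8 e8_coe)
open Cfsg.Agent.MonsterU.ModelGeo

/-! ### The classes -/

theorem pe8 : ((e8 none : leechLattice) : GolayPt → ℤ) = vec 0xc42108421084210842108421084210 := by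
  rw [← Cfsg.Agent.LeechMat.Words.vec_c8 none]
  rfl

theorem isLeech_w : isLeech 0x8421084210842108421084210a5294 = true := by decide +kernel

/-- `4` on the tetrad `{0, 1, 2, 3}`. -/
def wT : leechLattice := ⟨vec 0x8421084210842108421084210a5294, isLeech_sound isLeech_w⟩

theorem e8_Z : ∀ k : Fin 12, blc 0xc42108421084210842108421084210 (zs.getD k 0) = (((g 0).a k).val : ℤ) := by
  decide +kernel

theorem e8_X : ∀ k : Fin 12, blc 0xc42108421084210842108421084210 (xs.getD k 0) = (((g 0).b k).val : ℤ) := by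
  decide +kernel

theorem w_Z : ∀ k : Fin 12, blc 0x8421084210842108421084210a5294 (zs.getD k 0) =
    (((g 16 * g 15 * g 14 * g 13).a k).val : ℤ) := by
  decide +kernel

theorem w_X : ∀ k : Fin 12, blc 0x8421084210842108421084210a5294 (xs.getD k 0) =
    (((g 16 * g 15 * g 14 * g 13).b k).val : ℤ) := by
  decide +kernel

theorem cast_val (a : ZMod 2) : (((a.val : ℤ)) : ZMod 2) = a := by
  revert a; decide

theorem ab_g0 : ab (g 0) = psi (e8 none) := by
  apply Prod.ext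
  · funext k
    rw [psi_fst, bl_of_blc pe8 rfl (e8_Z k), cast_val]
    rfl
  · funext k
    rw [psi_snd, bl_of_blc pe8 rfl (e8_X k), cast_val]
    rfl

theorem ab_gT : ab (g 16 * g 15 * g 14 * g 13) = psi wT := by
  apply Prod.ext
  · funext k
    rw [psi_fst, bl_of_blc rfl rfl (w_Z k), cast_val]
    rfl
  · funext k
    rw [psi_snd, bl_of_blc rfl rfl (w_X k), cast_val]
    rfl

theorem zc_eq : K.zc = Pauli.z 12 := rfl

theorem eqz_of_ab {x y : Pauli 12} (h : ab x = ab y) : Eqz K x y := (ab_eq_iff x y).1 h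

theorem ab_of_eqz {x y : Pauli 12} (h : Eqz K x y) : ab x = ab y := (ab_eq_iff x y).2 h

theorem eqz_0 : Eqz K (g 0) (ShortQ.theta (e8 none)) :=
  eqz_of_ab (by rw [ab_g0, ShortQ.ab_theta])

theorem eqz_T : Eqz K (g 16 * g 15 * g 14 * g 13) (ShortQ.theta wT) :=
  eqz_of_ab (by rw [ab_gT, ShortQ.ab_theta])

theorem four_e8 (i : GolayPt) : (4 : ℤ) ∣ ((e8 none : leechLattice) : GolayPt → ℤ) i := by
  rw [e8_coe, Pi.single_apply]
  split_ifs
  · norm_num
  · exact dvd_zero _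

theorem four_w_dig : ∀ k < 24, (sdig 0x8421084210842108421084210a5294 k) % 4 = 0 := by decide +kernel

theorem pos_lt' (p : GolayPt) : pos p < 24 := by
  cases p with
  | none => exact (by norm_num : 23 < 24)
  | some x => exact lt_trans (ZMod.val_lt x) (by norm_num)

theorem four_w (i : GolayPt) : (4 : ℤ) ∣ (wT : GolayPt → ℤ) i :=
  Int.dvd_of_emod_eq_zero (four_w_dig (pos i) (pos_lt' i))

/-! ### The elements of `Γ` -/

theorem ι_g {n : ℕ} (hn : n < 24) : ((K.ι (g n) : G) : V ≃ₗ[ℚ] V) = Conc.E n :=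
  iotaE_eq R labFacts (pair_g R hn)

theorem z_coe : K.z = zE := by
  apply Subtype.ext
  exact lnk.z_eq.symm

theorem a_coe : K.ι (g 0) = aE := Subtype.ext (ι_g (by norm_num))

theorem b_coe : K.ι (g 16 * g 15 * g 14 * g 13) = bE := by
  apply Subtype.ext
  rw [map_mul, map_mul, map_mul]
  show ((K.ι (g 16) : G) : V ≃ₗ[ℚ] V) * ((K.ι (g 15) : G) : V ≃ₗ[ℚ] V) * ((K.ι (g 14) : G) : V ≃ₗ[ℚ] V) *
    ((K.ι (g 13) : G) : V ≃ₗ[ℚ] V) = Conc.W [13, 14, 15, 16]
  rw [ι_g (by norm_num), ι_g (by norm_num), ι_g (by norm_num), ι_g (by norm_num), Conc.W_cons, Conc.W_cons,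
    Conc.W_cons, Conc.W_cons, Conc.W_nil, one_mul]

theorem ne_one : ¬ Eqz K (g 0) 1 := by
  intro h
  have h1 := congrArg (fun x : B 12 × B 12 => x.2 11) (ab_of_eqz h)
  exact absurd h1 (by decide +kernel)

theorem ne_T : ¬ Eqz K (g 0) (g 16 * g 15 * g 14 * g 13) := by
  intro h
  have h1 := congrArg (fun x : B 12 × B 12 => x.2 11) (ab_of_eqz h)
  exact absurd h1 (by decide +kernel)

/-- Fields `q_z`, `q_a`, `q_b` of `PlaneE.Data`. -/
theorem exists_q : ∃ q : Γ, (q : V ≃ₗ[ℚ] V) ∈ Conc.Q ∧ q * zE * q⁻¹ = zE ∧ q * aE * q⁻¹ = zE * aE ∧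
    q * bE * q⁻¹ = bE := by
  obtain ⟨x, h1, h2, h3⟩ := PlaneM2E.exists_q lft ne_one ne_T
  rw [z_coe] at h1 h2
  rw [a_coe] at h2
  rw [b_coe] at h3
  exact ⟨K.ι x, (mem_Q_iff R labFacts _).2 ⟨x, rfl⟩, h1, h2, h3⟩

/-- Field `cent` of `PlaneE.Data`. -/
theorem cent (hc : ∀ g ∈ InstData.M.G, g * InstData.M.z = InstData.M.z * g → g ∈ InstData.M.C) :
    ∀ k ∈ PlaneGeo.K zE, (∀ x ∈ PlaneE.X zE aE bE, k * x = x * k) → ∃ v, k = PlaneAct.ev zE aE bE v := by
  have h := PlaneM2E.cent (M := K) lft (by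
    intro g hg
    refine (lnk.C_iff g).2 (hc g.1 g.2 ?_)
    have h1 := congrArg Subtype.val hg
    rw [z_coe] at h1
    exact h1) eqz_0 eqz_T four_e8 four_w
  rw [z_coe, a_coe, b_coe] at h
  exact h

end Cfsg.Agent.MonsterU.ModelQ
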