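import Mathlib

/-!
# Simple connectivity by a Morse function, abstract form

`Cover`: a covering `π : P' → P` of point graphs which lifts the triangles `T`.
`Sheet`: a partial section of `π` preserving adjacency.
`Sheet.extend`: a sheet on the bottom extends to everything if every point above the bottom has a lower
neighbour, the lower neighbours are connected through triangles, and flat edges lie in triangles with a
lower third point.
`injective_of_sheet`: a global sheet and connectedness of `P'` make `π` injective.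
-/

set_option autoImplicit false

namespace Cfsg.Agent.MonsterU.Morse

/-- A covering of point graphs lifting triangles. -/
structure Cover {P P' : Type*} (A : P → P → Prop) (A' : P' → P' → Prop)
    (T : P → P → P → Prop) (π : P' → P) : Prop where
  symm : ∀ {x y}, A x y → A y x
  symm' : ∀ {x y}, A' x y → A' y x
  map : ∀ {x y}, A' x y → A (π x) (π y)
  lift : ∀ x' y, A (π x') y → ∃ y', π y' = y ∧ A' x' y'
  uniq : ∀ x' y' y'', A' x' y' → A' x' y'' → π y' = π y'' → y' = y''
  rot : ∀ {x y w}, T x y w → T y w x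
  swap : ∀ {x y w}, T x y w → T x w y
  adj : ∀ {x y w}, T x y w → A x y
  tri : ∀ x' y' w', T (π x') (π y') (π w') → A' x' y' → A' x' w' → A' y' w'

/-- A sheet over a set of points. -/
structure Sheet {P P' : Type*} (A : P → P → Prop) (A' : P' → P' → Prop) (π : P' → P)
    (D : Set P) (s : P → P') : Prop where
  sec : ∀ x ∈ D, π (s x) = x
  adj : ∀ x ∈ D, ∀ y ∈ D, A x y → A' (s x) (s y)

/-- The lower neighbours of a point (inside `E`). -/
def Low {P : Type*} (A : P → P → Prop) (E : Set P) (ht : P → ℕ) (x : P) : Set P :=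
  {q | q ∈ E ∧ A x q ∧ ht q < ht x}

/-- Two lower neighbours are linked if they form a triangle with the point. -/
def Link {P : Type*} (A : P → P → Prop) (T : P → P → P → Prop) (E : Set P) (ht : P → ℕ) (x : P)
    (q q' : P) : Prop :=
  q ∈ Low A E ht x ∧ q' ∈ Low A E ht x ∧ T x q q'

/-- The local hypotheses of the Morse argument at all points of `E` which are not at the bottom. -/
structure MorseHyp {P : Type*} (A : P → P → Prop) (T : P → P → P → Prop) (E : Set P) (ht : P → ℕ) :
    Prop where
  m1 : ∀ x ∈ E, 0 < ht x → (Low A E ht x).Nonempty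
  m2 : ∀ x ∈ E, 0 < ht x → ∀ q ∈ Low A E ht x, ∀ q' ∈ Low A E ht x,
    Relation.ReflTransGen (Link A T E ht x) q q'
  m3 : ∀ x ∈ E, ∀ y ∈ E, A x y → ht x = ht y → 0 < ht x → ∃ q ∈ Low A E ht x, T x y q

variable {P P' : Type*} {A : P → P → Prop} {A' : P' → P' → Prop} {T : P → P → P → Prop} {π : P' → P}

theorem Sheet.mono {D D' : Set P} {s : P → P'} (h : Sheet A A' π D s) (hD : D' ⊆ D) :
    Sheet A A' π D' s :=
  ⟨fun x hx => h.sec x (hD hx), fun x hx y hy => h.adj x (hD hx) y (hD hy)⟩

/-- One step of the Morse argument. -/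
theorem Sheet.step (hc : Cover A A' T π) {E : Set P} {ht : P → ℕ} (hm : MorseHyp A T E ht) (n : ℕ)
    (s : P → P') (hs : Sheet A A' π {x | x ∈ E ∧ ht x ≤ n} s) :
    ∃ s' : P → P', Sheet A A' π {x | x ∈ E ∧ ht x ≤ n + 1} s' := by
  classical
  -- choose a lower neighbour and the lift
  have key : ∀ x, ∃ x', x ∈ E → ht x = n + 1 → π x' = x ∧ ∀ q ∈ Low A E ht x, A' (s q) x' := by
    intro x
    by_cases hx : x ∈ E
    swap
    · exact ⟨s x, fun h => absurd h hx⟩
    by_cases hxn : ht x = n + 1
    swap
    · exact ⟨s x, fun _ h => absurd h hxn⟩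
    have hpos : 0 < ht x := by omega
    obtain ⟨q₀, hq₀⟩ := hm.m1 x hx hpos
    have hmem : ∀ q ∈ Low A E ht x, q ∈ {x | x ∈ E ∧ ht x ≤ n} := by
      intro q hq
      have := hq.2.2
      exact ⟨hq.1, by omega⟩
    have hq₀s : π (s q₀) = q₀ := hs.sec q₀ (hmem q₀ hq₀)
    obtain ⟨x', hx', hax⟩ := hc.lift (s q₀) x (by rw [hq₀s]; exact hc.symm hq₀.2.1)
    refine ⟨x', fun _ _ => ⟨hx', ?_⟩⟩
    intro q hq
    have hchain := hm.m2 x hx hpos q₀ hq₀ q hq
    induction hchain with
    | refl => exact hax
    | @tail b c hab hbc ih =>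
      obtain ⟨hb, hc', ht'⟩ := hbc
      have hb' := ih hb
      have hbs : π (s b) = b := hs.sec b (hmem b hb)
      have hcs : π (s c) = c := hs.sec c (hmem c hc')
      have hbc' : A' (s b) (s c) :=
        hs.adj b (hmem b hb) c (hmem c hc') (hc.adj (hc.rot ht'))
      have htri : T (π (s b)) (π (s c)) (π x') := by
        rw [hbs, hcs, hx']
        exact hc.rot ht'
      exact hc.tri _ _ _ htri hbc' hb'
  choose f hf using key
  refine ⟨fun x => if ht x ≤ n then s x else f x, ?_, ?_⟩
  · intro x hx
    by_cases h : ht x ≤ n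
    · simp only [h, if_true]; exact hs.sec x ⟨hx.1, h⟩
    · simp only [h, if_false]
      have : ht x = n + 1 := by have := hx.2; omega
      exact (hf x hx.1 this).1
  · intro x hx y hy hxy
    by_cases h : ht x ≤ n
    · by_cases h' : ht y ≤ n
      · simp only [h, h', if_true]; exact hs.adj x ⟨hx.1, h⟩ y ⟨hy.1, h'⟩ hxy
      · simp only [h, h', if_true, if_false]
        have hyn : ht y = n + 1 := by have := hy.2; omega
        exact (hf y hy.1 hyn).2 x ⟨hx.1, hc.symm hxy, by omega⟩
    · have hxn : ht x = n + 1 := by have := hx.2; omega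
      by_cases h' : ht y ≤ n
      · simp only [h, h', if_true, if_false]
        exact hc.symm' ((hf x hx.1 hxn).2 y ⟨hy.1, hxy, by omega⟩)
      · simp only [h, h', if_false]
        have hyn : ht y = n + 1 := by have := hy.2; omega
        obtain ⟨q, hq, ht'⟩ := hm.m3 x hx.1 y hy.1 hxy (by omega) (by omega)
        have h1 : A' (s q) (f x) := (hf x hx.1 hxn).2 q hq
        have hyq : A y q := by
          have := hc.rot ht'
          exact hc.adj this
        have hqy : q ∈ Low A E ht y := ⟨hq.1, hyq, by have := hq.2.2; omega⟩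
        have h2 : A' (s q) (f y) := (hf y hy.1 hyn).2 q hqy
        have hqs : π (s q) = q := hs.sec q ⟨hq.1, by have := hq.2.2; omega⟩
        have htri : T (π (s q)) (π (f x)) (π (f y)) := by
          rw [hqs, (hf x hx.1 hxn).1, (hf y hy.1 hyn).1]
          exact hc.rot (hc.rot ht')
        exact hc.tri _ _ _ htri h1 h2

/-- **The Morse argument.** -/
theorem Sheet.extend (hc : Cover A A' T π) {E : Set P} {ht : P → ℕ} (hm : MorseHyp A T E ht)
    (hb : ∃ N, ∀ x ∈ E, ht x ≤ N) {s : P → P'} (hs : Sheet A A' π {x | x ∈ E ∧ ht x = 0} s) :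
    ∃ s' : P → P', Sheet A A' π E s' := by
  have key : ∀ n : ℕ, ∃ s' : P → P', Sheet A A' π {x | x ∈ E ∧ ht x ≤ n} s' := by
    intro n
    induction n with
    | zero =>
      refine ⟨s, hs.mono ?_⟩
      rintro x ⟨hx, hx'⟩
      exact ⟨hx, by omega⟩
    | succ n ih =>
      obtain ⟨s', hs'⟩ := ih
      exact hs'.step hc hm n
  obtain ⟨N, hN⟩ := hb
  obtain ⟨s', hs'⟩ := key N
  exact ⟨s', hs'.mono fun x hx => ⟨hx, hN x hx⟩⟩

/-- A global sheet and connectedness of the covering make the covering injective. -/
theorem injective_of_sheet (hc : Cover A A' T π) {s : P → P'} (hs : Sheet A A' π Set.univ s) (x₀ : P)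
    (hconn : ∀ x', Relation.ReflTransGen A' (s x₀) x') : Function.Injective π := by
  have key : ∀ x', s (π x') = x' := by
    intro x'
    have h := hconn x'
    induction h with
    | refl => rw [hs.sec x₀ (Set.mem_univ _)]
    | @tail b c hab hbc ih =>
      have h1 : A' (s (π b)) (s (π c)) :=
        hs.adj _ (Set.mem_univ _) _ (Set.mem_univ _) (hc.map hbc)
      rw [ih] at h1
      exact (hc.uniq b c (s (π c)) hbc h1 (by rw [hs.sec _ (Set.mem_univ _)])).symm
  intro a b hab
  rw [← key a, ← key b, hab]

/-- The connectivity condition (M2) from generators of a group acting on the lower neighbours. -/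
theorem conn_of_gens {L : Type*} [Group L] {Q : Type*} [MulAction L Q] (R : Q → Q → Prop)
    (hR : ∀ (l : L) {x y : Q}, R x y → R (l • x) (l • y)) (hsymm : ∀ {x y : Q}, R x y → R y x)
    (y₀ : Q) (S : Set L) (hS : Subgroup.closure S = ⊤)
    (hgen : ∀ l ∈ S, Relation.ReflTransGen R y₀ (l • y₀)) (Y : Set Q)
    (hY : ∀ y ∈ Y, ∃ (l : L) (r : Q), y = l • r ∧ ∃ l' : L, Relation.ReflTransGen R r (l' • y₀)) :
    ∀ y ∈ Y, ∀ y' ∈ Y, Relation.ReflTransGen R y y' := by
  have hsm : ∀ (l : L) {x y : Q}, Relation.ReflTransGen R x y →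
      Relation.ReflTransGen R (l • x) (l • y) := by
    intro l x y h
    induction h with
    | refl => exact Relation.ReflTransGen.refl
    | tail _ h2 ih => exact ih.tail (hR l h2)
  have hsy : ∀ {x y : Q}, Relation.ReflTransGen R x y → Relation.ReflTransGen R y x := by
    intro x y h
    induction h with
    | refl => exact Relation.ReflTransGen.refl
    | tail _ h2 ih => exact (Relation.ReflTransGen.single (hsymm h2)).trans ih
  have hall : ∀ l : L, Relation.ReflTransGen R y₀ (l • y₀) := by
    intro l
    have hl : l ∈ Subgroup.closure S := by rw [hS]; trivial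
    induction hl using Subgroup.closure_induction with
    | mem x hx => exact hgen x hx
    | one => rw [one_smul]
    | mul x y _ _ hx hy =>
      rw [mul_smul]
      exact hx.trans (hsm x hy)
    | inv x _ hx =>
      have := hsm x⁻¹ hx
      rw [inv_smul_smul] at this
      exact hsy this
  have hto : ∀ y ∈ Y, Relation.ReflTransGen R y₀ y := by
    intro y hy
    obtain ⟨l, r, rfl, l', h⟩ := hY y hy
    have h1 := hsm l h
    rw [smul_smul] at h1
    exact (hall (l * l')).trans (hsy h1)
  intro y hy y' hy'
  exact (hsy (hto y hy)).trans (hto y' hy')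

end Cfsg.Agent.MonsterU.Morse
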