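import Cfsg.Agent.MonsterU.Uncond
import Cfsg.Agent.MonsterP.NodesNe
import Cfsg.Agent.MonsterX.InstanceFinal

/-!
# The nodes of the Monster model and the centraliser of the second involution

`nodes` : the data of `Assembly.s1647` on the nodes; `second` : the statement S1647 from the fact `IsB` on the
presented Baby Monster.
-/

set_option autoImplicit false

namespace Cfsg.Agent.MonsterU.NodesU

open Cfsg Cfsg.Agent.MonsterX Cfsg.Agent.MonsterX.Model Cfsg.Agent.MonsterX.Space Cfsg.Agent.MonsterX.Conc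
open Cfsg.Agent.MonsterP

/-- The hypotheses of the nodes. -/
theorem hyp : NodesConj.Hyp Spor.Co1 := ⟨InstanceFinal.pack, Instance.mTrans, Instance.inv⟩

/-- The node `10` is conjugate to the base involution. -/
theorem conj_ten : ∃ g : InstData.M.G,
    g * MainPack.tG Uncond.all.hG Uncond.all.hR * g⁻¹ = NodesGrp.y hyp 10 :=
  ⟨⟨W (NodeData.aw 10), hyp.W_mem (NodeQ.aw_lt 10 (by norm_num))⟩,
    Subtype.ext (NodesGrp.y_conj hyp (by norm_num)).symm⟩

/-- **S1647 from the fact on the presented Baby Monster.** -/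
theorem second.{u} (hB : Cfsg.IsB Cfsg.Spor.BabyMonster) {G : Type u} [Group G] [Finite G] [IsSimpleGroup G]
    (h : Assembly.Lit G) : ∃ x : G, orderOf x = 2 ∧
      Cfsg.IsNonsplitDoubleCover (Subgroup.centralizer ({x} : Set G)) Cfsg.Spor.BabyMonster :=
  Assembly.s1647 Uncond.all Uncond.embSt.{u} (NodesGrp.prel hyp) (NodesNe.ne hyp) conj_ten hB h

end Cfsg.Agent.MonsterU.NodesU
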