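import Cfsg.Agent.MonsterU.PlaneGeo

/-!
# The action on the plane `V8 = ⟨z, a, b⟩`

`ev z a b v = z^i a^j b^k`, `Act z a b g f`: conjugation by `g` is the map `f` on exponent vectors.
-/

set_option autoImplicit false

namespace Cfsg.Agent.MonsterU.PlaneAct

open Cfsg.Agent.MonsterU.PlaneGeo

/-- exponent vectors -/
abbrev V := Bool × Bool × Bool

/-- addition of exponent vectors -/
def add (v w : V) : V := (xor v.1 w.1, xor v.2.1 w.2.1, xor v.2.2 w.2.2)

theorem add_ne : ∀ v w : V, v ≠ w → add v w ≠ (false, false, false) := by decide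

theorem add_self : ∀ w : V, add w w = (false, false, false) := by decide

/-- the action of `τ` -/
def fτ (v : V) : V := (v.2.1, xor v.1 v.2.1, v.2.2)
/-- the action of `τ⁻¹` -/
def fτ' (v : V) : V := (xor v.1 v.2.1, v.1, v.2.2)
/-- the action of `ξ` -/
def fξ (v : V) : V := (v.1, v.2.1, xor v.2.1 v.2.2)
/-- the action of `y` -/
def fy (v : V) : V := (v.1, xor v.2.1 v.2.2, v.2.2)
/-- the action of `q` -/
def fq (v : V) : V := (xor v.1 v.2.1, v.2.1, v.2.2)

variable {Γ : Type*} [Group Γ] {z a b τ ξ y q : Γ}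

/-- the factor of a generator -/
def cf (i : Bool) (g : Γ) : Γ := cond i g 1

/-- evaluation of an exponent vector -/
def ev (z a b : Γ) (v : V) : Γ := cf v.1 z * cf v.2.1 a * cf v.2.2 b

theorem cf_xor {g : Γ} (hg : g * g = 1) (i j : Bool) : cf (xor i j) g = cf i g * cf j g := by
  cases i <;> cases j <;> simp [cf, hg]

theorem cf_comm {g k : Γ} (hgk : g * k = k * g) (i j : Bool) : cf i g * cf j k = cf j k * cf i g := by
  cases i <;> cases j <;> simp [cf, hgk]

/-- conjugation by `g` acts as `f` -/
def Act (z a b g : Γ) (f : V → V) : Prop := ∀ v, g * ev z a b v * g⁻¹ = ev z a b (f v)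

theorem Act.mul {g k : Γ} {f f' : V → V} (h : Act z a b g f) (h' : Act z a b k f') :
    Act z a b (g * k) (fun v => f (f' v)) := by
  intro v
  rw [← h (f' v), ← h' v]
  group

theorem Act.congr {g : Γ} {f f' : V → V} (h : Act z a b g f) (hf : ∀ v, f v = f' v) :
    Act z a b g f' := by
  intro v
  rw [← hf]; exact h v

theorem Act.inv {g : Γ} {f f' : V → V} (h : Act z a b g f) (hf : ∀ v, f (f' v) = v) :
    Act z a b g⁻¹ f' := by
  intro v
  have h1 := h (f' v)
  rw [hf] at h1
  rw [← h1]
  group

section plane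

variable (h : Plane z a b τ ξ y)
include h

theorem ev_add (v w : V) : ev z a b (add v w) = ev z a b v * ev z a b w := by
  obtain ⟨i, j, k⟩ := v
  obtain ⟨i', j', k'⟩ := w
  simp only [ev, add]
  rw [cf_xor h.z_sq, cf_xor h.a_sq, cf_xor h.b_sq]
  calc cf i z * cf i' z * (cf j a * cf j' a) * (cf k b * cf k' b)
      = cf i z * (cf i' z * cf j a) * (cf j' a * cf k b) * cf k' b := by simp only [mul_assoc]
    _ = cf i z * (cf j a * cf i' z) * (cf k b * cf j' a) * cf k' b := by
      rw [cf_comm h.za, cf_comm h.ab j' k]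
    _ = cf i z * cf j a * (cf i' z * cf k b) * cf j' a * cf k' b := by simp only [mul_assoc]
    _ = cf i z * cf j a * (cf k b * cf i' z) * cf j' a * cf k' b := by rw [cf_comm h.zb]
    _ = cf i z * cf j a * cf k b * (cf i' z * cf j' a * cf k' b) := by simp only [mul_assoc]

theorem act_of {g : Γ} {f : V → V} (hadd : ∀ v w, f (add v w) = add (f v) (f w))
    (h0 : f (false, false, false) = (false, false, false))
    (h1 : g * z * g⁻¹ = ev z a b (f (true, false, false)))
    (h2 : g * a * g⁻¹ = ev z a b (f (false, true, false)))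
    (h3 : g * b * g⁻¹ = ev z a b (f (false, false, true))) : Act z a b g f := by
  have hmul : ∀ v w, g * ev z a b v * g⁻¹ = ev z a b (f v) → g * ev z a b w * g⁻¹ = ev z a b (f w) →
      g * ev z a b (add v w) * g⁻¹ = ev z a b (f (add v w)) := by
    intro v w hv hw
    rw [hadd, ev_add h, ev_add h, ← hv, ← hw]
    group
  have e0 : g * ev z a b (false, false, false) * g⁻¹ = ev z a b (f (false, false, false)) := by
    rw [h0]; simp [ev, cf]
  have e1 : g * ev z a b (true, false, false) * g⁻¹ = ev z a b (f (true, false, false)) := by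
    rw [← h1]; simp [ev, cf]
  have e2 : g * ev z a b (false, true, false) * g⁻¹ = ev z a b (f (false, true, false)) := by
    rw [← h2]; simp [ev, cf]
  have e3 : g * ev z a b (false, false, true) * g⁻¹ = ev z a b (f (false, false, true)) := by
    rw [← h3]; simp [ev, cf]
  have e12 := hmul _ _ e1 e2
  intro v
  obtain ⟨i, j, k⟩ := v
  cases i <;> cases j <;> cases k
  · exact e0
  · exact e3
  · exact e2
  · exact hmul _ _ e2 e3
  · exact e1
  · exact hmul _ _ e1 e3
  · exact e12
  · exact hmul _ _ e12 e3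

theorem act_τ : Act z a b τ fτ :=
  act_of h (by decide) (by decide) (by rw [h.τ_z]; simp [ev, cf, fτ])
    (by rw [h.τ_a]; simp [ev, cf, fτ]) (by rw [h.τ_b]; simp [ev, cf, fτ])

theorem act_τ' : Act z a b τ⁻¹ fτ' := (act_τ h).inv (by decide)

theorem act_ξ : Act z a b ξ fξ :=
  act_of h (by decide) (by decide) (by rw [h.ξ_z]; simp [ev, cf, fξ])
    (by rw [h.ξ_a]; simp [ev, cf, fξ]) (by rw [h.ξ_b]; simp [ev, cf, fξ])

theorem act_y : Act z a b y fy :=
  act_of h (by decide) (by decide) (by rw [h.y_z]; simp [ev, cf, fy])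
    (by rw [h.y_a]; simp [ev, cf, fy]) (by rw [h.y_b]; simp [ev, cf, fy])

theorem act_q (hz : q * z * q⁻¹ = z) (ha : q * a * q⁻¹ = z * a) (hb : q * b * q⁻¹ = b) :
    Act z a b q fq :=
  act_of h (by decide) (by decide) (by rw [hz]; simp [ev, cf, fq])
    (by rw [ha]; simp [ev, cf, fq]) (by rw [hb]; simp [ev, cf, fq])

/-- exponent vectors are determined by their value -/
theorem ev_ne {v : V} (hv : v ≠ (false, false, false)) : ev z a b v ≠ 1 := by
  intro e
  -- the trivial values are invariant
  have hinv : ∀ {g : Γ} {f : V → V}, Act z a b g f → ∀ w, ev z a b w = 1 → ev z a b (f w) = 1 := by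
    intro g f hg w hw
    rw [← hg w, hw, mul_one, mul_inv_cancel]
  have hz : ev z a b (true, false, false) ≠ 1 := by
    intro e1
    apply h.z_ne
    simpa [ev, cf] using e1
  have t := act_τ h
  have x := act_ξ h
  have u := act_y h
  have h110 : ev z a b (true, true, false) ≠ 1 := fun e1 => hz (hinv t _ e1)
  have h010 : ev z a b (false, true, false) ≠ 1 := fun e1 => h110 (hinv t _ e1)
  have h011 : ev z a b (false, true, true) ≠ 1 := fun e1 => h010 (hinv x _ e1)
  have h001 : ev z a b (false, false, true) ≠ 1 := fun e1 => h011 (hinv u _ e1)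
  have h111 : ev z a b (true, true, true) ≠ 1 := fun e1 => h110 (hinv x _ e1)
  have h101 : ev z a b (true, false, true) ≠ 1 := fun e1 => h111 (hinv u _ e1)
  obtain ⟨i, j, k⟩ := v
  cases i <;> cases j <;> cases k
  · exact hv rfl
  · exact h001 e
  · exact h010 e
  · exact h011 e
  · exact hz e
  · exact h101 e
  · exact h110 e
  · exact h111 e

theorem ev_inj {v w : V} (e : ev z a b v = ev z a b w) : v = w := by
  by_contra hne
  apply ev_ne h (add_ne v w hne)
  have h2 : ev z a b (add w w) = 1 := by
    rw [add_self w]; simp [ev, cf]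
  rw [ev_add h, e, ← ev_add h, h2]

end plane

end Cfsg.Agent.MonsterU.PlaneAct
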