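import Mathlib

/-!
# The plane group, part 1: amalgams of two `S₄`'s acting on `2³`

`ι : 2³ → X` injective with self-centralizing image, `X₁`, `X₂` subgroups of `X` acting faithfully on it, containing
elements `a, b, t` resp. `a, b, s` acting as the upper unitriangular root elements and the two simple reflections.
Then `⟨a, b, s, t⟩` acts faithfully on `2³`.
-/

set_option autoImplicit false

namespace Cfsg.Agent.MonsterU.PlaneX

/-- the space -/
abbrev W := Fin 3 → ZMod 2

/-- 3 by 3 matrices -/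
abbrev Mt := Matrix (Fin 3) (Fin 3) (ZMod 2)

def Ma : Mt := !![1, 1, 0; 0, 1, 0; 0, 0, 1]
def Mb : Mt := !![1, 0, 0; 0, 1, 1; 0, 0, 1]
def Ms : Mt := !![0, 1, 0; 1, 0, 0; 0, 0, 1]
def Mtt : Mt := !![1, 0, 0; 0, 0, 1; 0, 1, 0]

variable {X : Type*} [Group X]

/-- `x` acts on `ι(2³)` as the matrix `A` -/
def Act (ι : Multiplicative W →* X) (x : X) (A : Mt) : Prop :=
  ∀ w : W, x * ι (Multiplicative.ofAdd w) * x⁻¹ = ι (Multiplicative.ofAdd (A.mulVec w))

section

variable {ι : Multiplicative W →* X}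

theorem Act.one : Act ι 1 1 := by
  intro w
  rw [Matrix.one_mulVec]; group

theorem Act.mul {x y : X} {A B : Mt} (hx : Act ι x A) (hy : Act ι y B) : Act ι (x * y) (A * B) := by
  intro w
  have e : x * y * ι (Multiplicative.ofAdd w) * (x * y)⁻¹ =
      x * (y * ι (Multiplicative.ofAdd w) * y⁻¹) * x⁻¹ := by group
  rw [e, hy, hx, Matrix.mulVec_mulVec]

theorem Act.inv' {x : X} {A B : Mt} (hx : Act ι x A) (hAB : A * B = 1) : Act ι x⁻¹ B := by
  intro w
  have h := hx (B.mulVec w)
  rw [Matrix.mulVec_mulVec, hAB, Matrix.one_mulVec] at h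
  rw [← h]; group

theorem Act.cast {x : X} {A B : Mt} (hx : Act ι x A) (h : A = B) : Act ι x B := h ▸ hx

theorem Act.pow {x : X} {A : Mt} (hx : Act ι x A) (n : ℕ) : Act ι (x ^ n) (A ^ n) := by
  induction n with
  | zero => simpa using Act.one
  | succ n ih => rw [pow_succ, pow_succ]; exact ih.mul hx

theorem Act.unique (hinj : Function.Injective ι) {x : X} {A B : Mt} (hA : Act ι x A)
    (hB : Act ι x B) : A = B := by
  have h : ∀ w, A.mulVec w = B.mulVec w := by
    intro w
    have := (hA w).symm.trans (hB w)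
    exact Multiplicative.ofAdd.injective (hinj this)
  ext i j
  have := congrFun (h (Pi.single j 1)) i
  simpa using this

end

/-- The hypotheses. -/
structure XH (ι : Multiplicative W →* X) (X₁ X₂ : Subgroup X) (a b s t : X) : Prop where
  inj : Function.Injective ι
  a1 : a ∈ X₁
  a2 : a ∈ X₂
  b1 : b ∈ X₁
  b2 : b ∈ X₂
  t1 : t ∈ X₁
  s2 : s ∈ X₂
  acta : Act ι a Ma
  actb : Act ι b Mb
  acts : Act ι s Ms
  actt : Act ι t Mtt
  f1 : ∀ x ∈ X₁, Act ι x 1 → x = 1
  f2 : ∀ x ∈ X₂, Act ι x 1 → x = 1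
  self : ∀ x, Act ι x 1 → ∃ w, x = ι w

section

variable {ι : Multiplicative W →* X} {X₁ X₂ : Subgroup X} {a b s t : X} (h : XH ι X₁ X₂ a b s t)

include h

theorem aa : a * a = 1 := h.f1 _ (mul_mem h.a1 h.a1) ((h.acta.mul h.acta).cast (by decide))

theorem bb : b * b = 1 := h.f1 _ (mul_mem h.b1 h.b1) ((h.actb.mul h.actb).cast (by decide))

theorem ss : s * s = 1 := h.f2 _ (mul_mem h.s2 h.s2) ((h.acts.mul h.acts).cast (by decide))

theorem tt : t * t = 1 := h.f1 _ (mul_mem h.t1 h.t1) ((h.actt.mul h.actt).cast (by decide))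

omit h in
theorem eq_of_rel {x y : X} (hy : y * y = 1) (h : x * y = 1) : x = y := by
  calc x = x * (y * y) := by rw [hy, mul_one]
    _ = (x * y) * y := by group
    _ = y := by rw [h, one_mul]

theorem cc : (a * b * a * b) * (a * b * a * b) = 1 :=
  h.f1 _ (mul_mem (mul_mem (mul_mem (mul_mem h.a1 h.b1) h.a1) h.b1)
    (mul_mem (mul_mem (mul_mem h.a1 h.b1) h.a1) h.b1))
    (((((h.acta.mul h.actb).mul h.acta).mul h.actb).mul
      (((h.acta.mul h.actb).mul h.acta).mul h.actb)).cast (by decide))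

theorem actc : Act ι (a * b * a * b) (Ma * Mb * Ma * Mb) :=
  ((h.acta.mul h.actb).mul h.acta).mul h.actb

theorem c1 : a * b * a * b ∈ X₁ := mul_mem (mul_mem (mul_mem h.a1 h.b1) h.a1) h.b1

theorem c2 : a * b * a * b ∈ X₂ := mul_mem (mul_mem (mul_mem h.a2 h.b2) h.a2) h.b2

theorem sbs : s * b * s = a * b * a * b := by
  refine eq_of_rel (cc h) (h.f2 _ (mul_mem (mul_mem (mul_mem h.s2 h.b2) h.s2) (c2 h)) ?_)
  exact (((h.acts.mul h.actb).mul h.acts).mul (actc h)).cast (by decide)

theorem tat : t * a * t = a * b * a * b := by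
  refine eq_of_rel (cc h) (h.f1 _ (mul_mem (mul_mem (mul_mem h.t1 h.a1) h.t1) (c1 h)) ?_)
  exact (((h.actt.mul h.acta).mul h.actt).mul (actc h)).cast (by decide)

theorem asa : (a * s) * (a * s) * (a * s) = 1 :=
  h.f2 _ (mul_mem (mul_mem (mul_mem h.a2 h.s2) (mul_mem h.a2 h.s2)) (mul_mem h.a2 h.s2))
    ((((h.acta.mul h.acts).mul (h.acta.mul h.acts)).mul (h.acta.mul h.acts)).cast (by decide))

theorem btb : (b * t) * (b * t) * (b * t) = 1 :=
  h.f1 _ (mul_mem (mul_mem (mul_mem h.b1 h.t1) (mul_mem h.b1 h.t1)) (mul_mem h.b1 h.t1))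
    ((((h.actb.mul h.actt).mul (h.actb.mul h.actt)).mul (h.actb.mul h.actt)).cast (by decide))

theorem ac : a * (a * b * a * b) = (a * b * a * b) * a := by
  have h1 : a * (a * b * a * b) * ((a * b * a * b) * a)⁻¹ = 1 :=
    h.f1 _ (mul_mem (mul_mem h.a1 (c1 h)) (inv_mem (mul_mem (c1 h) h.a1)))
      (((h.acta.mul (actc h)).mul (((actc h).mul h.acta).inv' (B := Ma * (Ma * Mb * Ma * Mb))
        (by decide))).cast (by decide))
  exact mul_inv_eq_one.1 h1

theorem bc : b * (a * b * a * b) = (a * b * a * b) * b := by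
  have h1 : b * (a * b * a * b) * ((a * b * a * b) * b)⁻¹ = 1 :=
    h.f1 _ (mul_mem (mul_mem h.b1 (c1 h)) (inv_mem (mul_mem (c1 h) h.b1)))
      (((h.actb.mul (actc h)).mul (((actc h).mul h.actb).inv' (B := Mb * (Ma * Mb * Ma * Mb))
        (by decide))).cast (by decide))
  exact mul_inv_eq_one.1 h1

omit h in
/-- `x y x = y x y` for involutions with `(x y)^3 = 1` -/
theorem braid {x y : X} (hx : x * x = 1) (hy : y * y = 1) (hxy : (x * y) * (x * y) * (x * y) = 1) :
    x * y * x = y * x * y := by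
  have e : (x * y * x) * (y * x * y) = 1 := by
    calc (x * y * x) * (y * x * y) = (x * y) * (x * y) * (x * y) := by group
      _ = 1 := hxy
  have hi : (y * x * y) * (y * x * y) = 1 := by
    calc (y * x * y) * (y * x * y) = y * x * (y * y) * x * y := by group
      _ = 1 := by rw [hy, mul_one, mul_assoc y x x, hx, mul_one, hy]
  exact eq_of_rel hi e

omit h in
theorem cube_of_braid {x y : X} (hx : x * x = 1) (hy : y * y = 1) (hxy : x * y * x = y * x * y) :
    (x * y) * (x * y) * (x * y) = 1 := by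
  calc (x * y) * (x * y) * (x * y) = (x * y * x) * (y * x * y) := by group
    _ = (y * x * y) * (y * x * y) := by rw [hxy]
    _ = y * x * (y * y) * x * y := by group
    _ = 1 := by rw [hy, mul_one, mul_assoc y x x, hx, mul_one, hy]

omit h in
/-- the computation of `(c w)^3` for `w = s t s` -/
theorem cw_cube {c p q r : X} (hc : c * c = 1) (hp : p * p = 1) (hq : q * q = 1)
    (hr : r * r = 1) (hrq : (r * q) * (r * q) * (r * q) = 1) (hprp : p * r * p = c) :
    (c * (p * q * p)) * (c * (p * q * p)) * (c * (p * q * p)) = 1 := by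
  -- `w = p q p`, `q = r q' r`, `q' = q r q`
  have hb : r * q * r = q * r * q := braid hr hq hrq
  have hpi : ∀ g : X, p * (p * g) = g := fun g => by rw [← mul_assoc, hp, one_mul]
  have hri : ∀ g : X, r * (r * g) = g := fun g => by rw [← mul_assoc, hr, one_mul]
  have hww : (p * q * p) * (p * q * p) = 1 := by
    calc (p * q * p) * (p * q * p) = p * q * (p * p) * q * p := by group
      _ = 1 := by rw [hp, mul_one, mul_assoc p q q, hq, mul_one, hp]
  refine cube_of_braid hc hww ?_
  -- `c w c = w c w`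
  have h1 : (p * q * p) * c * (p * q * p) = p * (q * r * q) * p := by
    rw [← hprp]
    calc (p * q * p) * (p * r * p) * (p * q * p) = p * q * (p * p) * r * (p * p) * q * p := by group
      _ = p * (q * r * q) * p := by rw [hp, mul_one, mul_one]; group
  have h2 : c * (p * q * p) * c = p * (r * q * r) * p := by
    rw [← hprp]
    calc (p * r * p) * (p * q * p) * (p * r * p) = p * r * (p * p) * q * (p * p) * r * p := by group
      _ = p * (r * q * r) * p := by rw [hp, mul_one, mul_one]; group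
  rw [h1, h2, hb]

theorem st3 : (s * t) * (s * t) * (s * t) = 1 := by
  set c := a * b * a * b with hc
  have hcc : c * c = 1 := cc h
  obtain ⟨v, hv⟩ := h.self ((s * t) * (s * t) * (s * t))
    ((((h.acts.mul h.actt).mul (h.acts.mul h.actt)).mul (h.acts.mul h.actt)).cast (by decide))
  -- `e² = 1`
  have hee : ((s * t) * (s * t) * (s * t)) * ((s * t) * (s * t) * (s * t)) = 1 := by
    rw [hv, ← map_mul]
    have : v * v = 1 := by
      have : ∀ w : W, w + w = 0 := by decide
      exact this v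
    rw [this, map_one]
  have hs : Ms.mulVec (Multiplicative.toAdd v) = Multiplicative.toAdd v := by
    have h1 := h.acts (Multiplicative.toAdd v)
    have h2 : s * ι v * s⁻¹ = ι v := by
      rw [← hv]
      have hsi : s⁻¹ = s := inv_eq_of_mul_eq_one_left (ss h)
      rw [hsi]
      refine eq_of_rel hee ?_
      calc s * (s * t * (s * t) * (s * t)) * s * (s * t * (s * t) * (s * t))
          = (s * s) * t * s * t * s * t * (s * s) * t * s * t * s * t := by group
        _ = t * s * t * s * (t * t) * s * t * s * t := by rw [ss h]; group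
        _ = t * s * t * (s * s) * t * s * t := by rw [tt h]; group
        _ = t * s * (t * t) * s * t := by rw [ss h]; group
        _ = t * (s * s) * t := by rw [tt h]; group
        _ = 1 := by rw [ss h, mul_one, tt h]
    exact Multiplicative.ofAdd.injective (h.inj (h1.symm.trans h2))
  have ht : Mtt.mulVec (Multiplicative.toAdd v) = Multiplicative.toAdd v := by
    have h1 := h.actt (Multiplicative.toAdd v)
    have h2 : t * ι v * t⁻¹ = ι v := by
      rw [← hv]
      have hti : t⁻¹ = t := inv_eq_of_mul_eq_one_left (tt h)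
      rw [hti]
      refine eq_of_rel hee ?_
      calc t * (s * t * (s * t) * (s * t)) * t * (s * t * (s * t) * (s * t))
          = t * s * t * s * t * s * (t * t) * s * t * s * t * s * t := by group
        _ = t * s * t * s * t * (s * s) * t * s * t * s * t := by rw [tt h]; group
        _ = t * s * t * s * (t * t) * s * t * s * t := by rw [ss h]; group
        _ = t * s * t * (s * s) * t * s * t := by rw [tt h]; group
        _ = t * s * (t * t) * s * t := by rw [ss h]; group
        _ = t * (s * s) * t := by rw [tt h]; group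
        _ = 1 := by rw [ss h, mul_one, tt h]
    exact Multiplicative.ofAdd.injective (h.inj (h1.symm.trans h2))
  -- `(c w₁)³ = (c w₂)³ = 1`
  have hw1 : (c * (s * t * s)) * (c * (s * t * s)) * (c * (s * t * s)) = 1 :=
    cw_cube hcc (ss h) (tt h) (bb h) (btb h) (sbs h)
  have hw2 : (c * (t * s * t)) * (c * (t * s * t)) * (c * (t * s * t)) = 1 :=
    cw_cube hcc (tt h) (ss h) (aa h) (asa h) (tat h)
  have hww : (s * t * s) * (s * t * s) = 1 := by
    calc (s * t * s) * (s * t * s) = s * t * (s * s) * t * s := by group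
      _ = 1 := by rw [ss h, mul_one, mul_assoc s t t, tt h, mul_one, ss h]
  have hw : t * s * t = (s * t * s) * ι v := by
    rw [← hv]
    calc t * s * t = ((s * t * s) * (s * t * s)) * (t * s * t) := by rw [hww, one_mul]
      _ = _ := by group
  set g := c * (s * t * s) with hg
  have hgG : Act ι g ((Ma * Mb * Ma * Mb) * (Ms * Mtt * Ms)) :=
    (actc h).mul ((h.acts.mul h.actt).mul h.acts)
  have hcw2 : c * (t * s * t) = g * ι v := by rw [hw, hg]; group
  rw [hcw2] at hw2
  -- `e^g e^{g²} e = 1`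
  have hggg : g * g * g = 1 := hw1
  have hprod : (g * ι v * g⁻¹) * (g * g * ι v * (g * g)⁻¹) * ι v = 1 := by
    calc (g * ι v * g⁻¹) * (g * g * ι v * (g * g)⁻¹) * ι v
        = (g * ι v) * (g * ι v) * (g * g * g)⁻¹ * (g * ι v) := by group
      _ = 1 := by rw [hggg, inv_one, mul_one, hw2]
  have h1 := hgG (Multiplicative.toAdd v)
  have h2 := (hgG.mul hgG) (Multiplicative.toAdd v)
  rw [ofAdd_toAdd] at h1 h2
  rw [h1, h2] at hprod
  have hzero : ((Ma * Mb * Ma * Mb) * (Ms * Mtt * Ms)).mulVec (Multiplicative.toAdd v) +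
      ((Ma * Mb * Ma * Mb) * (Ms * Mtt * Ms) * ((Ma * Mb * Ma * Mb) * (Ms * Mtt * Ms))).mulVec
        (Multiplicative.toAdd v) + Multiplicative.toAdd v = 0 := by
    have h3 : ι (Multiplicative.ofAdd
        (((Ma * Mb * Ma * Mb) * (Ms * Mtt * Ms)).mulVec (Multiplicative.toAdd v) +
      ((Ma * Mb * Ma * Mb) * (Ms * Mtt * Ms) * ((Ma * Mb * Ma * Mb) * (Ms * Mtt * Ms))).mulVec
        (Multiplicative.toAdd v) + Multiplicative.toAdd v)) = ι (Multiplicative.ofAdd 0) := by
      rw [ofAdd_add, ofAdd_add, map_mul, map_mul, ofAdd_toAdd, hprod, ofAdd_zero, map_one]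
    exact Multiplicative.ofAdd.injective (h.inj h3)
  have hfin : ∀ v : W, Ms.mulVec v = v → Mtt.mulVec v = v →
      ((Ma * Mb * Ma * Mb) * (Ms * Mtt * Ms)).mulVec v +
      ((Ma * Mb * Ma * Mb) * (Ms * Mtt * Ms) * ((Ma * Mb * Ma * Mb) * (Ms * Mtt * Ms))).mulVec
        v + v = 0 → v = 0 := by
    decide +kernel
  have hv0 := hfin _ hs ht hzero
  have hv1 : v = 1 := hv0
  rw [hv, hv1, map_one]

end

/-! ### Bruhat decomposition -/

/-- Relations. -/
structure Rel (a b s t c : X) : Prop where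
  aa : a * a = 1
  bb : b * b = 1
  ss : s * s = 1
  tt : t * t = 1
  cc : c * c = 1
  ac : a * c = c * a
  bc : b * c = c * b
  aba : a * b * a = c * b
  bab : b * a * b = c * a
  sbs : s * b * s = c
  tat : t * a * t = c
  asa : a * s * a = s * a * s
  btb : b * t * b = t * b * t
  sts : s * t * s = t * s * t

theorem Rel.symm {a b s t c : X} (r : Rel a b s t c) : Rel b a t s c where
  aa := r.bb
  bb := r.aa
  ss := r.tt
  tt := r.ss
  cc := r.cc
  ac := r.bc
  bc := r.ac
  aba := r.bab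
  bab := r.aba
  sbs := r.tat
  tat := r.sbs
  asa := r.btb
  btb := r.asa
  sts := r.sts.symm

/-- the Weyl group -/
def WS (s t : X) : Set X := {w | w = 1 ∨ w = s ∨ w = t ∨ w = s * t ∨ w = t * s ∨ w = s * t * s}

/-- `U W U` -/
def Bru (a b s t : X) : Set X :=
  {x | ∃ u ∈ Subgroup.closure ({a, b} : Set X), ∃ w ∈ WS s t,
    ∃ u' ∈ Subgroup.closure ({a, b} : Set X), x = u * w * u'}

theorem Bru_swap {a b s t c : X} (r : Rel a b s t c) : Bru a b s t = Bru b a t s := by
  have h1 : WS s t = WS t s := by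
    ext w
    unfold WS
    simp only [Set.mem_setOf_eq]
    rw [r.sts]
    tauto
  unfold Bru
  rw [h1, Set.pair_comm]

theorem Bru_left {a b s t : X} {u x : X} (hu : u ∈ Subgroup.closure ({a, b} : Set X))
    (hx : x ∈ Bru a b s t) : u * x ∈ Bru a b s t := by
  obtain ⟨u1, h1, w, hw, u2, h2, rfl⟩ := hx
  exact ⟨u * u1, mul_mem hu h1, w, hw, u2, h2, by group⟩

/-- decomposition of `⟨a, b⟩` -/
theorem split_a {a b s t c : X} (r : Rel a b s t c) {u : X}
    (hu : u ∈ Subgroup.closure ({a, b} : Set X)) :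
    ∃ k ∈ Subgroup.closure ({b, c} : Set X), u = k ∨ u = k * a := by
  have hb : b ∈ Subgroup.closure ({b, c} : Set X) := Subgroup.subset_closure (by simp)
  have hc : c ∈ Subgroup.closure ({b, c} : Set X) := Subgroup.subset_closure (by simp)
  -- `a` normalises
  have hconj : ∀ k ∈ Subgroup.closure ({b, c} : Set X), a * k * a⁻¹ ∈
      Subgroup.closure ({b, c} : Set X) := by
    intro k hk
    induction hk using Subgroup.closure_induction with
    | mem x hx =>
      have hai : a⁻¹ = a := inv_eq_of_mul_eq_one_left r.aa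
      rcases hx with rfl | rfl
      · rw [hai, r.aba]; exact mul_mem hc hb
      · rw [r.ac]; simpa using hc
    | one => simp
    | mul x y _ _ hx hy =>
      have e : a * (x * y) * a⁻¹ = (a * x * a⁻¹) * (a * y * a⁻¹) := by group
      rw [e]; exact mul_mem hx hy
    | inv x _ hx =>
      have e : a * x⁻¹ * a⁻¹ = (a * x * a⁻¹)⁻¹ := by group
      rw [e]; exact inv_mem hx
  have hai : a⁻¹ = a := inv_eq_of_mul_eq_one_left r.aa
  have hbi : b⁻¹ = b := inv_eq_of_mul_eq_one_left r.bb
  have ha : ∀ u, (∃ k ∈ Subgroup.closure ({b, c} : Set X), u = k ∨ u = k * a) →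
      ∃ k ∈ Subgroup.closure ({b, c} : Set X), a * u = k ∨ a * u = k * a := by
    rintro u ⟨k, hk, rfl | rfl⟩
    · exact ⟨a * u * a⁻¹, hconj u hk, Or.inr (by group)⟩
    · refine ⟨a * k * a⁻¹, hconj k hk, Or.inl ?_⟩
      rw [hai]; group
  have hbb : ∀ u, (∃ k ∈ Subgroup.closure ({b, c} : Set X), u = k ∨ u = k * a) →
      ∃ k ∈ Subgroup.closure ({b, c} : Set X), b * u = k ∨ b * u = k * a := by
    rintro u ⟨k, hk, rfl | rfl⟩
    · exact ⟨b * u, mul_mem hb hk, Or.inl rfl⟩
    · exact ⟨b * k, mul_mem hb hk, Or.inr (by group)⟩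
  induction hu using Subgroup.closure_induction_left with
  | one => exact ⟨1, one_mem _, Or.inl rfl⟩
  | mul_left x hx y _ ih =>
    rcases hx with rfl | rfl
    · exact ha _ ih
    · exact hbb _ ih
  | inv_mul_cancel x hx y _ ih =>
    rcases hx with rfl | rfl
    · rw [hai]; exact ha _ ih
    · rw [hbi]; exact hbb _ ih

theorem Bru_s {a b s t c : X} (r : Rel a b s t c) {x : X} (hx : x ∈ Bru a b s t) :
    s * x ∈ Bru a b s t := by
  obtain ⟨u, hu, w, hw, u', hu', rfl⟩ := hx
  have haU : a ∈ Subgroup.closure ({a, b} : Set X) := Subgroup.subset_closure (by simp)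
  have hbU : b ∈ Subgroup.closure ({a, b} : Set X) := Subgroup.subset_closure (by simp)
  have hcU : c ∈ Subgroup.closure ({a, b} : Set X) := by
    have : c = a * b * a * b := by
      rw [r.aba, mul_assoc, r.bb, mul_one]
    rw [this]
    exact mul_mem (mul_mem (mul_mem haU hbU) haU) hbU
  have hle : Subgroup.closure ({b, c} : Set X) ≤ Subgroup.closure ({a, b} : Set X) := by
    rw [Subgroup.closure_le]
    rintro y (rfl | rfl)
    · exact hbU
    · exact hcU
  have hsi : s⁻¹ = s := inv_eq_of_mul_eq_one_left r.ss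
  have hbK : b ∈ Subgroup.closure ({b, c} : Set X) := Subgroup.subset_closure (by simp)
  have hcK : c ∈ Subgroup.closure ({b, c} : Set X) := Subgroup.subset_closure (by simp)
  have hscs : s * c * s = b := by
    rw [← r.sbs]
    calc s * (s * b * s) * s = (s * s) * b * (s * s) := by group
      _ = b := by rw [r.ss, one_mul, mul_one]
  have hconj : ∀ k ∈ Subgroup.closure ({b, c} : Set X), s * k * s⁻¹ ∈
      Subgroup.closure ({b, c} : Set X) := by
    intro k hk
    induction hk using Subgroup.closure_induction with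
    | mem x hx =>
      rcases hx with rfl | rfl
      · rw [hsi, r.sbs]; exact hcK
      · rw [hsi, hscs]; exact hbK
    | one => simp
    | mul x y _ _ hx hy =>
      have e : s * (x * y) * s⁻¹ = (s * x * s⁻¹) * (s * y * s⁻¹) := by group
      rw [e]; exact mul_mem hx hy
    | inv x _ hx =>
      have e : s * x⁻¹ * s⁻¹ = (s * x * s⁻¹)⁻¹ := by group
      rw [e]; exact inv_mem hx
  -- the decomposition of `w`
  have hsplit : ∃ w', (w' = 1 ∨ w' = t ∨ w' = t * s) ∧ (w = w' ∨ w = s * w') := by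
    rcases hw with rfl | rfl | rfl | rfl | rfl | rfl
    · exact ⟨1, Or.inl rfl, Or.inl rfl⟩
    · exact ⟨1, Or.inl rfl, Or.inr (mul_one _).symm⟩
    · exact ⟨w, Or.inr (Or.inl rfl), Or.inl rfl⟩
    · exact ⟨t, Or.inr (Or.inl rfl), Or.inr rfl⟩
    · exact ⟨t * s, Or.inr (Or.inr rfl), Or.inl rfl⟩
    · exact ⟨t * s, Or.inr (Or.inr rfl), Or.inr (by group)⟩
  obtain ⟨w', hw', hww⟩ := hsplit
  have hWS : w' ∈ WS s t ∧ s * w' ∈ WS s t := by
    rcases hw' with rfl | rfl | rfl
    · exact ⟨Or.inl rfl, Or.inr (Or.inl (mul_one _))⟩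
    · exact ⟨Or.inr (Or.inr (Or.inl rfl)), Or.inr (Or.inr (Or.inr (Or.inl rfl)))⟩
    · exact ⟨Or.inr (Or.inr (Or.inr (Or.inr (Or.inl rfl)))),
        Or.inr (Or.inr (Or.inr (Or.inr (Or.inr (by group)))))⟩
  -- `a w' = w' a'`
  have haw : ∃ a' ∈ Subgroup.closure ({a, b} : Set X), a * w' = w' * a' := by
    have hti : t⁻¹ = t := inv_eq_of_mul_eq_one_left r.tt
    rcases hw' with rfl | rfl | rfl
    · exact ⟨a, haU, by group⟩
    · refine ⟨c, hcU, ?_⟩
      rw [← r.tat]
      calc a * w' = (w' * w') * a * w' := by rw [r.tt, one_mul]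
        _ = _ := by group
    · refine ⟨b, hbU, ?_⟩
      rw [← hscs, ← r.tat]
      calc a * (t * s) = (t * (s * s) * t) * a * t * s := by
            rw [r.ss, mul_one, r.tt]; group
        _ = _ := by group
  obtain ⟨a', ha', haw⟩ := haw
  obtain ⟨k, hk, hka⟩ := split_a r hu
  have hk' := hle (hconj k hk)
  rcases hka with rfl | rfl
  · rcases hww with rfl | rfl
    · exact ⟨s * u * s⁻¹, hk', s * w, hWS.2, u', hu', by group⟩
    · refine ⟨s * u * s⁻¹, hk', w', hWS.1, u', hu', ?_⟩
      calc s * (u * (s * w') * u') = (s * u * s⁻¹) * (s * s) * w' * u' := by group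
        _ = _ := by rw [r.ss, mul_one]
  · rcases hww with rfl | rfl
    · refine ⟨s * k * s⁻¹, hk', s * w, hWS.2, a' * u', mul_mem ha' hu', ?_⟩
      calc s * (k * a * w * u') = (s * k * s⁻¹) * s * (a * w) * u' := by group
        _ = _ := by rw [haw]; group
    · refine ⟨(s * k * s⁻¹) * a, mul_mem hk' haU, s * w', hWS.2, a' * u', mul_mem ha' hu', ?_⟩
      calc s * (k * a * (s * w') * u') = (s * k * s⁻¹) * (s * a * s) * w' * u' := by group
        _ = (s * k * s⁻¹) * (a * s) * (a * w') * u' := by rw [← r.asa]; group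
        _ = _ := by rw [haw]; group

theorem Bru_all {a b s t c : X} (r : Rel a b s t c) {x : X}
    (hx : x ∈ Subgroup.closure ({a, b, s, t} : Set X)) : x ∈ Bru a b s t := by
  have haU : a ∈ Subgroup.closure ({a, b} : Set X) := Subgroup.subset_closure (by simp)
  have hbU : b ∈ Subgroup.closure ({a, b} : Set X) := Subgroup.subset_closure (by simp)
  have key : ∀ g ∈ ({a, b, s, t} : Set X), ∀ y ∈ Bru a b s t, g * y ∈ Bru a b s t := by
    rintro g (rfl | rfl | rfl | rfl) y hy
    · exact Bru_left haU hy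
    · exact Bru_left hbU hy
    · exact Bru_s r hy
    · rw [Bru_swap r] at hy ⊢
      exact Bru_s r.symm hy
  have hinv : ∀ g ∈ ({a, b, s, t} : Set X), g⁻¹ = g := by
    rintro g (rfl | rfl | rfl | rfl)
    · exact inv_eq_of_mul_eq_one_left r.aa
    · exact inv_eq_of_mul_eq_one_left r.bb
    · exact inv_eq_of_mul_eq_one_left r.ss
    · exact inv_eq_of_mul_eq_one_left r.tt
  induction hx using Subgroup.closure_induction_left with
  | one => exact ⟨1, one_mem _, 1, Or.inl rfl, 1, one_mem _, by group⟩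
  | mul_left g hg y _ ih => exact key g hg y ih
  | inv_mul_cancel g hg y _ ih => rw [hinv g hg]; exact key g hg y ih

section

variable {ι : Multiplicative W →* X} {X₁ X₂ : Subgroup X} {a b s t : X} (h : XH ι X₁ X₂ a b s t)

include h

theorem rel : Rel a b s t (a * b * a * b) where
  aa := aa h
  bb := bb h
  ss := ss h
  tt := tt h
  cc := cc h
  ac := ac h
  bc := bc h
  aba := by rw [mul_assoc (a * b * a) b b, bb h, mul_one]
  bab := by
    have h1 := ac h
    rw [← h1]
    calc b * a * b = (a * a) * (b * a * b) := by rw [aa h, one_mul]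
      _ = _ := by group
  sbs := sbs h
  tat := tat h
  asa := braid (aa h) (ss h) (asa h)
  btb := braid (bb h) (tt h) (btb h)
  sts := braid (ss h) (tt h) (st3 h)

/-- unitriangular matrices -/
def UT (A : Mt) : Prop := A 0 0 = 1 ∧ A 1 1 = 1 ∧ A 2 2 = 1 ∧ A 1 0 = 0 ∧ A 2 0 = 0 ∧ A 2 1 = 0

omit h in
instance (A : Mt) : Decidable (UT A) := by unfold UT; infer_instance

omit h in
theorem UT_mul_a (A : Mt) (hA : UT A) : UT (Ma * A) := by
  obtain ⟨h1, h2, h3, h4, h5, h6⟩ := hA
  refine ⟨?_, ?_, ?_, ?_, ?_, ?_⟩ <;>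
    simp [Ma, Matrix.mul_apply, Fin.sum_univ_three, h1, h2, h3, h4, h5, h6]

omit h in
theorem UT_mul_b (A : Mt) (hA : UT A) : UT (Mb * A) := by
  obtain ⟨h1, h2, h3, h4, h5, h6⟩ := hA
  refine ⟨?_, ?_, ?_, ?_, ?_, ?_⟩ <;>
    simp [Mb, Matrix.mul_apply, Fin.sum_univ_three, h1, h2, h3, h4, h5, h6]

theorem act_U {u : X} (hu : u ∈ Subgroup.closure ({a, b} : Set X)) : ∃ A, UT A ∧ Act ι u A := by
  have hai : a⁻¹ = a := inv_eq_of_mul_eq_one_left (aa h)
  have hbi : b⁻¹ = b := inv_eq_of_mul_eq_one_left (bb h)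
  have ha : ∀ u, (∃ A, UT A ∧ Act ι u A) → ∃ A, UT A ∧ Act ι (a * u) A := by
    rintro u ⟨A, h1, h2⟩
    exact ⟨Ma * A, UT_mul_a A h1, h.acta.mul h2⟩
  have hb : ∀ u, (∃ A, UT A ∧ Act ι u A) → ∃ A, UT A ∧ Act ι (b * u) A := by
    rintro u ⟨A, h1, h2⟩
    exact ⟨Mb * A, UT_mul_b A h1, h.actb.mul h2⟩
  induction hu using Subgroup.closure_induction_left with
  | one => exact ⟨1, by decide, Act.one⟩
  | mul_left g hg y _ ih =>
    rcases hg with rfl | rfl
    · exact ha _ ih
    · exact hb _ ih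
  | inv_mul_cancel g hg y _ ih =>
    rcases hg with rfl | rfl
    · rw [hai]; exact ha _ ih
    · rw [hbi]; exact hb _ ih

/-- **`⟨a, b, s, t⟩` acts faithfully.** -/
theorem faithful {x : X} (hx : x ∈ Subgroup.closure ({a, b, s, t} : Set X)) (hx1 : Act ι x 1) :
    x = 1 := by
  obtain ⟨u, hu, w, hw, u', hu', rfl⟩ := Bru_all (rel h) hx
  have hUX : Subgroup.closure ({a, b} : Set X) ≤ X₁ := by
    rw [Subgroup.closure_le]
    rintro y (rfl | rfl)
    · exact h.a1
    · exact h.b1
  obtain ⟨A, hA, hAu⟩ := act_U h (inv_mem hu)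
  obtain ⟨B, hB, hBu⟩ := act_U h (inv_mem hu')
  -- the matrix of `w`
  have hwA : Act ι w (A * B) := by
    have h1 := (hAu.mul hx1).mul hBu
    rw [mul_one] at h1
    have e : u⁻¹ * (u * w * u') * u'⁻¹ = w := by group
    rwa [e] at h1
  have hUT : UT (A * B) := by
    obtain ⟨a1, a2, a3, a4, a5, a6⟩ := hA
    obtain ⟨b1, b2, b3, b4, b5, b6⟩ := hB
    refine ⟨?_, ?_, ?_, ?_, ?_, ?_⟩ <;>
      simp [Matrix.mul_apply, Fin.sum_univ_three, a1, a2, a3, a4, a5, a6, b1, b2, b3, b4, b5, b6]
  have hw1 : w = 1 := by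
    rcases hw with h1 | h1 | h1 | h1 | h1 | h1
    · exact h1
    · exfalso
      have h2 := Act.unique h.inj hwA (h1 ▸ h.acts)
      rw [h2] at hUT
      revert hUT; decide
    · exfalso
      have h2 := Act.unique h.inj hwA (h1 ▸ h.actt)
      rw [h2] at hUT
      revert hUT; decide
    · exfalso
      have h2 := Act.unique h.inj hwA (h1 ▸ h.acts.mul h.actt)
      rw [h2] at hUT
      revert hUT; decide
    · exfalso
      have h2 := Act.unique h.inj hwA (h1 ▸ h.actt.mul h.acts)
      rw [h2] at hUT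
      revert hUT; decide
    · exfalso
      have h2 := Act.unique h.inj hwA (h1 ▸ (h.acts.mul h.actt).mul h.acts)
      rw [h2] at hUT
      revert hUT; decide
  rw [hw1, mul_one] at hx1 ⊢
  exact h.f1 _ (mul_mem (hUX hu) (hUX hu')) hx1

end

end Cfsg.Agent.MonsterU.PlaneX
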