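import Cfsg.Agent.MonsterU.LaneS
import Cfsg.Agent.MonsterU.FactorTwo
import Cfsg.Agent.MonsterU.CovS2A
import Cfsg.Agent.MonsterU.VecLink
import Cfsg.Agent.MonsterU.VecLinkA

/-!
# The axes `s ∈ S` with `F s a₀ = 1` up to the stabiliser of a pair

`srep`: up to the group of the generators of the class `t` of `VecTwo`, `s = (W w)⁻¹ a₀` with one of the words
`w = g ++ [1]^b` of `VecLink.srep`; `srepA`: the same for the stabiliser of `a₀`, `a'` and `VecLinkA.srep`.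
-/

set_option autoImplicit false
set_option Elab.async false
set_option maxRecDepth 100000

namespace Cfsg.Agent.MonsterU.SrepTwo

open Cfsg Cfsg.Agent.MonsterX Cfsg.Agent.MonsterX.Space Cfsg.Agent.MonsterX.Conc Cfsg.Agent.MonsterX.InstData
open Cfsg.Agent.MonsterX.FrameAct Cfsg.Agent.MonsterX.FrameInst Cfsg.Agent.MonsterX.FrameCover
open Cfsg.Agent.MonsterX.FrameGam Cfsg.Agent.MonsterX.FrameConc Cfsg.Agent.MonsterX.Lin24
open Cfsg.Agent.MonsterX.CertLin Cfsg.Agent.MonsterX.CertSPl Cfsg.Agent.MonsterX.CertCov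
open Cfsg.Agent.MonsterX.CertCovB Cfsg.Agent.MonsterU.CovBase Cfsg.Agent.MonsterU.RowGlue
open Cfsg.Agent.MonsterX.CertCovD Cfsg.Agent.MonsterU.CovFactor Cfsg.Agent.MonsterX.CertV
open Cfsg.Agent.MonsterU.LaneOf Cfsg.Agent.MonsterU.LaneS Cfsg.Agent.MonsterU.FactorTwo Cfsg.Agent.MonsterU.VecTwo

variable {u : leechLattice → V} {U : ULink u}

/-- The entry `i` is of class `t`, has the code `c` and its word maps `c` to `6`. -/
noncomputable def entB (t c i : ℕ) : Bool :=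
  and (Nat.beq (VecLink.sr i).1 t) (and (Nat.beq (VecLink.sr i).2.1 c)
    (and (okW (VecLink.sr i).2.2.1) (Nat.beq (linW (VecLink.sr i).2.2.1 c) 6)))

/-- The check of a list of codes. -/
noncomputable def chkS (t : ℕ) (cs : List ℕ) : Bool :=
  cs.all fun c => Nat.beq c 0 || (List.range 16).any fun i => entB t c i

theorem chkS_sound {t : ℕ} {cs : List ℕ} (h : chkS t cs = true) {c : ℕ} (hc : c ∈ cs) (h0 : c ≠ 0) :
    ∃ i, (i < 16 ∧ (VecLink.sr i).1 = t) ∧ okW (VecLink.sr i).2.2.1 = true ∧ linW (VecLink.sr i).2.2.1 c = 6 := by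
  have h1 := List.all_eq_true.1 h c hc
  rw [Bool.or_eq_true, Nat.beq_eq] at h1
  rcases h1 with h1 | h1
  · exact absurd h1 h0
  · obtain ⟨i, hi, h2⟩ := List.any_eq_true.1 h1
    unfold entB at h2
    rw [Bool.and_eq_true, Bool.and_eq_true, Bool.and_eq_true, Nat.beq_eq, Nat.beq_eq, Nat.beq_eq] at h2
    exact ⟨i, ⟨List.mem_range.1 hi, h2.1⟩, h2.2.2.1, h2.2.2.2⟩

theorem s0 : chkS 0 (CovS2B.short.map Prod.snd) = true := by decide +kernel

theorem s1 : chkS 1 (CovS4A.short.map Prod.snd) = true := by decide +kernel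

theorem s2 : chkS 2 (CovS4B.short.map Prod.snd) = true := by decide +kernel

theorem s3 : chkS 3 (CovS6A.short.map Prod.snd) = true := by decide +kernel

theorem n0 : ∀ c ∈ CovS2B.codes, notShort c = true := by decide +kernel

theorem n1 : ∀ c ∈ CovS4A.codes, notShort c = true := by decide +kernel

theorem n2 : ∀ c ∈ CovS4B.codes, notShort c = true := by decide +kernel

theorem n3 : ∀ c ∈ CovS6A.codes, notShort c = true := by decide +kernel

theorem nA : ∀ c ∈ CovS2A.codes, notShort c = true := by decide +kernel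

theorem fin_of (H : LineStab U) {t : ℕ} {g : C} {cs : List ℕ} (hs : chkS t cs = true) {L : Subgroup (V ≃ₗ[ℚ] V)}
    (h : ∃ c ∈ cs, c ≠ 0 ∧ ∃ l : C, (l : V ≃ₗ[ℚ] V) ∈ L ∧ (coded U.ind).code (l • g • y₁ U) = c) :
    ∃ i, (i < 16 ∧ (VecLink.sr i).1 = t) ∧ ∃ b : Bool, ∃ l : C, (l : V ≃ₗ[ℚ] V) ∈ L ∧
      W ((VecLink.sr i).2.2.1 ++ (if b then [1] else [])) ((l : V ≃ₗ[ℚ] V) ((g : V ≃ₗ[ℚ] V) ax)) = ax := by
  obtain ⟨c, hc, h0, l, hl, e⟩ := h
  obtain ⟨i, hi, h1, h2⟩ := chkS_sound hs hc h0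
  obtain ⟨b, h3⟩ := eq_of_class H h1 e h2
  exact ⟨i, hi, b, l, hl, h3⟩

/-- **The axes `s = g a₀` with `F s a₀ = 1` up to the group of the class `t`.** -/
theorem srep (H : LineStab U) (hF : FixLine U) {t : ℕ} (ht : t < 4) {g : C}
    (h : F ((g : V ≃ₗ[ℚ] V) ax) ax = 1) :
    ∃ i, (i < 16 ∧ (VecLink.sr i).1 = t) ∧ ∃ b : Bool, ∃ l : C, (l : V ≃ₗ[ℚ] V) ∈ Lw (gs t) ∧
      W ((VecLink.sr i).2.2.1 ++ (if b then [1] else [])) ((l : V ≃ₗ[ℚ] V) ((g : V ≃ₗ[ℚ] V) ax)) = ax := by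
  obtain ⟨i, hi, hf, hx⟩ := lane_of_pair H hF h
  interval_cases t
  · exact fin_of H s0 (short_of n0 (CovS2B.cover (S := coded U.ind)
      (inL_gs U (gg_mem_gs 0 (by norm_num)) (gg_ok 0 (by norm_num)) c0_0)
      (inL_gs U (gg_mem_gs 1 (by norm_num)) (gg_ok 1 (by norm_num)) c0_1) hi hf hx))
  · exact fin_of H s1 (short_of n1 (CovS4A.cover (S := coded U.ind)
      (inL_gs U (gg_mem_gs 2 (by norm_num)) (gg_ok 2 (by norm_num)) c1_0)
      (inL_gs U (gg_mem_gs 3 (by norm_num)) (gg_ok 3 (by norm_num)) c1_1) hi hf hx))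
  · exact fin_of H s2 (short_of n2 (CovS4B.cover (S := coded U.ind)
      (inL_gs U (gg_mem_gs 4 (by norm_num)) (gg_ok 4 (by norm_num)) c2_0)
      (inL_gs U (gg_mem_gs 5 (by norm_num)) (gg_ok 5 (by norm_num)) c2_1)
      (inL_gs U (gg_mem_gs 6 (by norm_num)) (gg_ok 6 (by norm_num)) c2_2) hi hf hx))
  · exact fin_of H s3 (short_of n3 (CovS6A.cover (S := coded U.ind)
      (inL_gs U (gg_mem_gs 7 (by norm_num)) (gg_ok 7 (by norm_num)) c3_0)
      (inL_gs U (gg_mem_gs 8 (by norm_num)) (gg_ok 8 (by norm_num)) c3_1) hi hf hx))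

/-! ### Class 2A -/

/-- The generators of the stabiliser of `a₀` and `a'`. -/
noncomputable def gA : List (List ℕ) := [[39], VecLink.k2g]

theorem cA_0 : Nat.beq (evalF ltc [39]) CovS2A.e0 = true := by decide +kernel

theorem cA_1 : Nat.beq (evalF ltc VecLink.k2g) CovS2A.e1 = true := by decide +kernel

theorem ok_A : okW [39] = true ∧ okW VecLink.k2g = true := by
  constructor <;> decide +kernel

/-- The group fixes `a₀` and `a'`. -/
theorem fix_A : ∀ l ∈ Lw gA, l • ax = ax ∧ l • VecThree.ax2 = VecThree.ax2 := by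
  intro l hl
  refine ⟨Lw_fix (fun w hw => ?_) l hl, Lw_fix (fun w hw => ?_) l hl⟩
  · rcases List.mem_cons.1 hw with rfl | hw
    · exact VecThree.fix_letters.2.2.1
    · rw [List.mem_singleton] at hw
      subst hw
      exact VecLink.k2_fix.1
  · rcases List.mem_cons.1 hw with rfl | hw
    · exact VecThree.fix_letters.1
    · rw [List.mem_singleton] at hw
      subst hw
      exact VecLink.k2_fix.2

/-- The entry `i` of the class 2A. -/
noncomputable def entA (c i : ℕ) : Bool :=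
  and (Nat.beq (VecLinkA.sr i).1 c) (and (okW (VecLinkA.sr i).2.1) (Nat.beq (linW (VecLinkA.sr i).2.1 c) 6))

theorem sA : ((CovS2A.short.map Prod.snd).all fun c => Nat.beq c 0 || (List.range 5).any fun i => entA c i) =
    true := by decide +kernel

/-- **The axes `s = g a₀` with `F s a₀ = 1` up to the group of `a₀`, `a'`.** -/
theorem srepA (H : LineStab U) (hF : FixLine U) {g : C} (h : F ((g : V ≃ₗ[ℚ] V) ax) ax = 1) :
    ∃ i, i < 5 ∧ ∃ b : Bool, ∃ l : C, (l : V ≃ₗ[ℚ] V) ∈ Lw gA ∧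
      W ((VecLinkA.sr i).2.1 ++ (if b then [1] else [])) ((l : V ≃ₗ[ℚ] V) ((g : V ≃ₗ[ℚ] V) ax)) = ax := by
  obtain ⟨i, hi, hf, hx⟩ := lane_of_pair H hF h
  obtain ⟨c, hc, h0, l, hl, e⟩ := short_of nA (CovS2A.cover (S := coded U.ind)
      (inL_gs (gs := gA) U List.mem_cons_self ok_A.1 cA_0)
      (inL_gs (gs := gA) U (List.mem_cons_of_mem _ List.mem_cons_self) ok_A.2 cA_1) hi hf hx)
  have h1 := List.all_eq_true.1 sA c hc
  rw [Bool.or_eq_true, Nat.beq_eq] at h1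
  rcases h1 with h1 | h1
  · exact absurd h1 h0
  · obtain ⟨i, hi, h2⟩ := List.any_eq_true.1 h1
    unfold entA at h2
    rw [Bool.and_eq_true, Bool.and_eq_true, Nat.beq_eq, Nat.beq_eq] at h2
    obtain ⟨b, h3⟩ := eq_of_class H h2.2.1 e h2.2.2
    exact ⟨i, List.mem_range.1 hi, b, l, hl, h3⟩

end Cfsg.Agent.MonsterU.SrepTwo
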