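import Cfsg.Agent.MonsterU.ModelCent
import Cfsg.Agent.MonsterU.InvTwo

/-!
# The facts on the triality element of the concrete model (`InvTwo.TauHyp`)
-/

set_option autoImplicit false
set_option maxRecDepth 100000

namespace Cfsg.Agent.MonsterU.TauInst

open Cfsg Cfsg.Agent.LeechMat.Core Cfsg.Agent.LeechMat.Code Cfsg.Agent.LeechMat.Elements
open Cfsg.Agent.Monster.PauliBasic Cfsg.Agent.Monster.PauliClif Cfsg.Agent.Monster.PauliGates
open Cfsg.Agent.MonsterX Cfsg.Agent.MonsterX.Space Cfsg.Agent.MonsterX.Psi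
open Cfsg.Agent.MonsterX.Conc Cfsg.Agent.MonsterX.Model Cfsg.Agent.MonsterX.InstData
open Cfsg.Agent.MonsterX.ConcMono Cfsg.Agent.MonsterX.TauRel
open Cfsg.Agent.MonsterX.KSide Cfsg.Agent.MonsterX.KLift Cfsg.Agent.MonsterX.KRowsInst
open Cfsg.Agent.MonsterU.ModelGeo Cfsg.Agent.MonsterU.ModelCent
open Cfsg.Agent.SporadicStructure.Co0Base (e8)
open Cfsg.Agent.SporadicA.Co0Mono (signCo0)
open Cfsg.Agent.MonsterX.FrameStab

/-! ### The elements of the Pauli group in `Y` -/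

/-- The elements `p` with `ι p ∈ τ ι(P) τ⁻¹`. -/
noncomputable def Y : Subgroup (Pauli 12) where
  carrier := {p | ∃ q, KDone.K.ι p = τE * KDone.K.ι q * τE⁻¹}
  one_mem' := ⟨1, by rw [map_one, mul_one, mul_inv_cancel]⟩
  mul_mem' := by
    rintro p p' ⟨q, hq⟩ ⟨q', hq'⟩
    exact ⟨q * q', by rw [map_mul, map_mul, hq, hq']; group⟩
  inv_mem' := by
    rintro p ⟨q, hq⟩
    exact ⟨q⁻¹, by rw [map_inv, map_inv, hq]; group⟩

theorem mem_Y {p : Pauli 12} : p ∈ Y ↔ ∃ q, KDone.K.ι p = τE * KDone.K.ι q * τE⁻¹ := Iff.rfl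

theorem ι_z : KDone.K.ι (Pauli.z 12) = zE := z_eq

theorem z_mem : Pauli.z 12 ∈ Y := by
  refine ⟨Pauli.z 12 * pa, ?_⟩
  rw [map_mul, ι_z, ι_a]
  exact Subtype.ext RelAll.τ_zx0.symm

theorem ι_g {n : ℕ} (hn : n < 24) : KDone.K.ι (KRowsInst.g n) = ⟨E n, C_le_G (E_mem_C (by omega))⟩ :=
  ι_eq (pair_g hn) _

theorem g0_mem : KRowsInst.g 0 ∈ Y := by
  refine ⟨Pauli.z 12, ?_⟩
  rw [ι_z, ι_g (by norm_num)]
  exact Subtype.ext RelAll.τ_z.symm

theorem gn_mem {n : ℕ} (h : 12 < n) (h' : n < 24) : KRowsInst.g n ∈ Y := by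
  refine ⟨KRowsInst.g n, ?_⟩
  rw [ι_g h']
  refine Subtype.ext ?_
  show E n = τ * E n * τ⁻¹
  rw [τ_d h h', mul_inv_cancel_right]

theorem wZ_ok : ∀ k < 12, ∀ n ∈ wZ.getD k [], n = 0 ∨ (12 < n ∧ n < 24) := by decide +kernel

theorem gwZ_mem (k : Fin 12) : gw (wZ.getD k []) ∈ Y := by
  unfold gw
  apply Subgroup.list_prod_mem
  intro x hx
  obtain ⟨n, hn, rfl⟩ := List.mem_map.1 hx
  rcases wZ_ok k k.2 n hn with rfl | ⟨h1, h2⟩
  · exact g0_mem
  · exact gn_mem h1 h2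

/-- The second components of the elements of `Y` with first component `0`. -/
def im : AddSubgroup (B 12) where
  carrier := {b | ∃ h ∈ Y, ab h = (0, b)}
  zero_mem' := ⟨1, Y.one_mem, rfl⟩
  add_mem' := by
    rintro _ _ ⟨h, hh, e⟩ ⟨k, hk, e'⟩
    refine ⟨h * k, Y.mul_mem hh hk, ?_⟩
    rw [ab_mul, e, e', Prod.mk_add_mk, add_zero]
  neg_mem' := by
    rintro _ ⟨h, hh, e⟩
    refine ⟨h, hh, ?_⟩
    rw [e]
    exact Prod.ext rfl (neg_eq _).symm

theorem dl_mem (k : Fin 12) : dl k ∈ im :=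
  ⟨gw (wZ.getD k []), gwZ_mem k, Prod.ext (funext (gw_Z k).2) (funext (gw_Z k).1)⟩

theorem im_top (w : B 12) : w ∈ im := by
  have h1 : ∑ k, w k • dl k = w := by
    funext i
    rw [Finset.sum_apply, Finset.sum_eq_single i]
    · simp
    · intro j _ hj
      rw [Pi.smul_apply, dl_ne hj.symm, smul_zero]
    · intro h; exact absurd (Finset.mem_univ _) h
  rw [← h1]
  refine im.sum_mem fun k _ => ?_
  rcases zmod2_cases (w k) with h | h
  · rw [h, zero_smul]; exact im.zero_mem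
  · rw [h, one_smul]; exact dl_mem k

theorem mem_Y_of_a {p : Pauli 12} (h : p.a = 0) : p ∈ Y := by
  obtain ⟨q, hq, e⟩ := im_top p.b
  have h1 : ab p = ab q := by
    rw [e]
    exact Prod.ext h rfl
  rcases (ab_eq_iff p q).1 h1 with h2 | h2
  · rw [h2]; exact hq
  · rw [h2]; exact Y.mul_mem z_mem hq

/-! ### The lattice vectors with coordinates divisible by four -/

theorem four_zs : ∀ k : Fin 12, ∀ i < 24, (4 : ℤ) ∣ sdig (zs.getD k 0) i := by decide +kernel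

theorem four_vZ (k : Fin 12) (i : GolayPt) : (4 : ℤ) ∣ (vZ k : GolayPt → ℤ) i := four_zs k _ (pos_lt i)

theorem psi_fst_of_four {x : leechLattice} (hx : ∀ p, (4 : ℤ) ∣ (x : GolayPt → ℤ) p) : (psi x).1 = 0 := by
  funext k
  rw [psi_fst]
  obtain ⟨t, ht⟩ := PlaneM2.dvd_dot_of_four hx (four_vZ k)
  show ((dotInt (x : GolayPt → ℤ) (vZ k : GolayPt → ℤ) / 8 : ℤ) : ZMod 2) = 0
  have h1 : dotInt (x : GolayPt → ℤ) (vZ k : GolayPt → ℤ) = 16 * t := ht
  rw [h1, show (16 : ℤ) * t / 8 = 2 * t by omega]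
  push_cast
  have : (2 : ZMod 2) = 0 := by decide
  rw [this, zero_mul]

theorem E_mem (x : leechLattice) (hx : ∀ p, (4 : ℤ) ∣ (x : GolayPt → ℤ) p) :
    ∃ q, KDone.K.ι (ShortQ.theta x) = τE * KDone.K.ι q * τE⁻¹ := by
  refine mem_Y_of_a ?_
  have h1 : (ab (ShortQ.theta x)).1 = (psi x).1 := by rw [ShortQ.ab_theta]
  exact h1.trans (psi_fst_of_four hx)

/-- The packed vector `8 e_∞`. -/
def nInf : ℕ := 0xc42108421084210842108421084210

theorem e8_none : ((e8 none : leechLattice) : GolayPt → ℤ) = vec nInf := by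
  have h : ∀ i : GolayPt, (if i = none then (8 : ℤ) else 0) = vec nInf i := by decide +kernel
  funext i
  rw [← h i]
  show (Pi.single none 8 : GolayPt → ℤ) i = _
  rw [Pi.single_apply]

theorem inf_snd : ∀ k : Fin 12, ((blc nInf (xs.getD k 0) : ℤ) : ZMod 2) = pa.b k := by decide +kernel

theorem pa_a : pa.a = 0 := by
  have h : ∀ k : Fin 12, pa.a k = 0 := by decide +kernel
  exact funext h

theorem four_e8 (i : GolayPt) : (4 : ℤ) ∣ ((e8 none : leechLattice) : GolayPt → ℤ) i := by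
  show (4 : ℤ) ∣ (Pi.single none 8 : GolayPt → ℤ) i
  rw [Pi.single_apply]
  split_ifs
  · norm_num
  · exact dvd_zero _

theorem y_eq : Eqz KDone.K pa (ShortQ.theta (e8 none)) := by
  apply eqz_of_psi
  apply Prod.ext
  · rw [psi_fst_of_four four_e8]
    exact pa_a.symm
  · funext k
    rw [psi_snd]
    exact (bl_of_blc e8_none rfl rfl).trans (inf_snd k)

/-! ### Sign changes -/

/-- The subgroup of `K` of the elements in `τ ι(P) τ⁻¹`. -/
noncomputable def D : Subgroup InstData.M.G := KDone.K.K ⊓ (KDone.K.ι.range.map (MulAut.conj τE).toMonoidHom)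

theorem mem_D {g : InstData.M.G} : g ∈ D ↔ g ∈ KDone.K.K ∧ ∃ q, g = τE * KDone.K.ι q * τE⁻¹ := by
  constructor
  · rintro ⟨h1, _, ⟨q, rfl⟩, rfl⟩
    exact ⟨h1, q, rfl⟩
  · rintro ⟨h1, q, rfl⟩
    exact ⟨h1, _, ⟨q, rfl⟩, rfl⟩

theorem sign_gen (i : ℕ) (hi : i < 12) : ∃ d ∈ D, FrameKS.Ind KDone.K d (CoGens.sg i) := by
  refine ⟨⟨E (24 + i), C_le_G (E_mem_C (by omega))⟩, mem_D.2 ⟨?_, KRowsInst.g i, ?_⟩, ?_⟩
  · exact (KDone.lnk.C_iff _).2 (E_mem_C (by omega))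
  · rw [ι_g (by omega)]
    refine Subtype.ext ?_
    show E (24 + i) = τ * E i * τ⁻¹
    rw [τ_x hi, mul_inv_cancel_right]
  · intro v
    have h := UOnto.ind_E (n := 24 + i) (by omega) v
    rw [CoGens.A_sg hi] at h
    exact h

theorem sgn (c : golayCode) : ∃ q : Pauli 12, τE * KDone.K.ι q * τE⁻¹ ∈ KDone.K.K ∧
    FrameKS.Ind KDone.K (τE * KDone.K.ι q * τE⁻¹) (signCo0 c) := by
  obtain ⟨A, ⟨d, hd, hdA⟩, hA⟩ := sign_mem (FrameKS.indSub KDone.K D) (by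
    intro i hi
    exact ⟨CoGens.sg i, sign_gen i hi, CoGens.isSign_sg hi⟩) c.2
  obtain ⟨hdK, q, rfl⟩ := mem_D.1 hd
  have e : A = signCo0 c := by
    apply Cfsg.Agent.SporadicA.Co0Mono.ext
    intro v
    apply Subtype.ext
    rw [Cfsg.Agent.SporadicA.Co0Mono.signCo0_smul]
    funext i
    rw [hA v i, Cfsg.Agent.SporadicA.Co0Mono.signMap_apply]
    unfold Cfsg.Agent.SporadicA.Co0Mono.sgn
    split_ifs <;> ring
  rw [e] at hdA
  exact ⟨q, hdK, hdA⟩

/-- **The facts on `τ` for the concrete model.** -/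
theorem tauHyp (hc : ∀ g ∈ InstData.M.G, g * InstData.M.z = InstData.M.z * g → g ∈ InstData.M.C) :
    InvTwo.TauHyp KDone.K ShortQ.theta ⊤ τE pa where
  K_le := le_top
  τ_mem := Subgroup.mem_top _
  cent g _ h := by
    rw [z_eq] at h
    exact (KDone.lnk.C_iff g).2 (hc g.1 g.2 (congrArg Subtype.val h))
  y_eq := y_eq
  τ_z := by
    rw [z_eq, ι_a]
    exact plane.τ_z
  z_mem := by
    obtain ⟨q, hq⟩ := z_mem
    refine ⟨q, ?_⟩
    rw [← hq]
    rfl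
  E_mem := E_mem
  sgn := sgn

end Cfsg.Agent.MonsterU.TauInst
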