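import Cfsg.Agent.MonsterX.KModel
import Cfsg.Agent.MonsterU.Lam2

/-!
# The class in `Λ / 2Λ` of an element of the extraspecial group

For `L : Lift M θ` the map `clP L : P → L2` (with `L2 = Λ / 2Λ` of `Lam2`) is the quotient map
`P → P / ⟨zc⟩ = Λ / 2Λ`.
-/

set_option autoImplicit false

namespace Cfsg.Agent.MonsterU.TwoCls

open Cfsg Cfsg.Agent.LeechMat.Core Cfsg.Agent.MonsterX.KSide Cfsg.Agent.MonsterX.KLift
open Cfsg.Agent.MonsterU.Lam2

variable {G V P W : Type*} [Group G] [AddCommGroup V] [Module ℚ V]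
  [DistribMulAction G V] [SMulCommClass G ℚ V] [Group P] [AddCommGroup W] [Module ℚ W]
  {M : KS G V P W} {θ : leechLattice → P}

theorem Eqz_one {x : P} : Eqz M x 1 ↔ x = 1 ∨ x = M.zc := by
  unfold Eqz
  rw [mul_one]

theorem θ_cong (L : Lift M θ) {v w : leechLattice} (h : cl v = cl w) : Eqz M (θ v) (θ w) := by
  obtain ⟨u, hu⟩ := cl_eq.1 h
  have e : v = 2 • u + w := by rw [← hu]; abel
  have h1 : Eqz M (θ (2 • u + w)) (θ (2 • u) * θ w) := L.add _ _
  rw [e]
  refine h1.trans ?_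
  have h2 := (θ_two L u).mul (Eqz.refl (M := M) (θ w))
  rwa [one_mul] at h2

theorem cong_of_θ (L : Lift M θ) {v w : leechLattice} (h : Eqz M (θ v) (θ w)) : cl v = cl w := by
  have h1 : Eqz M (θ (v + -w)) (θ v * θ (-w)) := L.add _ _
  have h2 : Eqz M (θ (w + -w)) (θ w * θ (-w)) := L.add _ _
  rw [add_neg_cancel] at h2
  have h3 : Eqz M (θ (v + -w)) 1 :=
    (h1.trans (h.mul (Eqz.refl _))).trans (h2.symm.trans (θ_zero L))
  obtain ⟨t, ht⟩ := L.ker _ (Eqz_one.1 h3)
  exact cl_eq.2 ⟨t, by rw [← ht, sub_eq_add_neg]⟩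

/-- The class of an element of the extraspecial group in `Λ / 2Λ`. -/
noncomputable def clP (L : Lift M θ) (p : P) : L2 := cl (Classical.choose (L.surj p))

theorem clP_eq_cl (L : Lift M θ) {p : P} {v : leechLattice} : clP L p = cl v ↔ Eqz M p (θ v) := by
  have h : Eqz M p (θ (Classical.choose (L.surj p))) := Classical.choose_spec (L.surj p)
  constructor
  · intro e
    exact h.trans (θ_cong L e)
  · intro e
    exact cong_of_θ L (h.symm.trans e)

theorem clP_θ (L : Lift M θ) (v : leechLattice) : clP L (θ v) = cl v :=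
  (clP_eq_cl L).2 (Eqz.refl _)

theorem clP_eq (L : Lift M θ) {p q : P} : clP L p = clP L q ↔ Eqz M p q := by
  obtain ⟨v, hv⟩ := L.surj q
  have hv' : Eqz M q (θ v) := hv
  rw [(clP_eq_cl L).2 hv', clP_eq_cl]
  exact ⟨fun h => h.trans hv'.symm, fun h => h.trans hv'⟩

theorem clP_eq' (L : Lift M θ) {p q : P} : clP L p = clP L q ↔ p = q ∨ p = M.zc * q := clP_eq L

theorem clP_surjective (L : Lift M θ) (x : L2) : ∃ p, clP L p = x := by
  obtain ⟨v, rfl⟩ := cl_surjective x
  exact ⟨θ v, clP_θ L v⟩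

theorem clP_mul (L : Lift M θ) (p q : P) : clP L (p * q) = clP L p + clP L q := by
  obtain ⟨v, hv⟩ := L.surj p
  obtain ⟨w, hw⟩ := L.surj q
  have hv' : Eqz M p (θ v) := hv
  have hw' : Eqz M q (θ w) := hw
  rw [(clP_eq_cl L).2 hv', (clP_eq_cl L).2 hw', ← map_add, clP_eq_cl]
  have h1 : Eqz M (θ (v + w)) (θ v * θ w) := L.add _ _
  exact (hv'.mul hw').trans h1.symm

theorem clP_one (L : Lift M θ) : clP L 1 = 0 := by
  rw [← map_zero cl, clP_eq_cl]
  exact (θ_zero L).symm

theorem clP_eq_zero (L : Lift M θ) {p : P} : clP L p = 0 ↔ p = 1 ∨ p = M.zc := by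
  rw [← clP_one L, clP_eq, Eqz_one]

theorem clP_zc (L : Lift M θ) : clP L M.zc = 0 := (clP_eq_zero L).2 (Or.inr rfl)

theorem clP_inv (L : Lift M θ) (p : P) : clP L p⁻¹ = clP L p := by
  have h := clP_mul L p p⁻¹
  rw [mul_inv_cancel, clP_one] at h
  exact (eq_of_add_eq_zero h.symm).symm

theorem clP_zc_mul (L : Lift M θ) (p : P) : clP L (M.zc * p) = clP L p := by
  rw [clP_mul, clP_zc, zero_add]

theorem clP_conj (L : Lift M θ) (q p : P) : clP L (q * p * q⁻¹) = clP L p := by
  rw [clP_mul, clP_mul, clP_inv, add_comm (clP L q), add_assoc, add_self, add_zero]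

/-- Commutation up to the centre. -/
theorem comm_of_Eqz {x y x' y' : P} (h1 : Eqz M x x') (h2 : Eqz M y y') (h3 : x * y = y * x) :
    x' * y' = y' * x' := by
  rcases h1 with rfl | rfl <;> rcases h2 with rfl | rfl
  · exact h3
  · rw [← mul_assoc, ← M.zc_comm, mul_assoc, mul_assoc] at h3
    exact mul_left_cancel h3
  · rw [mul_assoc, ← mul_assoc y, ← M.zc_comm y, mul_assoc] at h3
    exact mul_left_cancel h3
  · have h4 : M.zc * x' * (M.zc * y') = x' * y' := by
      rw [mul_assoc, ← mul_assoc x', ← M.zc_comm x', mul_assoc, M.zc_zc]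
    have h5 : M.zc * y' * (M.zc * x') = y' * x' := by
      rw [mul_assoc, ← mul_assoc y', ← M.zc_comm y', mul_assoc, M.zc_zc]
    rw [h4, h5] at h3
    exact h3

theorem comm_iff_bf (L : Lift M θ) (p q : P) : p * q = q * p ↔ bf (clP L p) (clP L q) = 0 := by
  obtain ⟨v, hv⟩ := L.surj p
  obtain ⟨w, hw⟩ := L.surj q
  have hv' : Eqz M p (θ v) := hv
  have hw' : Eqz M q (θ w) := hw
  rw [(clP_eq_cl L).2 hv', (clP_eq_cl L).2 hw', bf_cl_eq_zero]
  have h1 : (16 : ℤ) ∣ dotInt (v : GolayPt → ℤ) (w : GolayPt → ℤ) ↔ θ v * θ w = θ w * θ v :=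
    L.comm v w
  rw [h1]
  exact ⟨comm_of_Eqz hv' hw', comm_of_Eqz hv'.symm hw'.symm⟩

theorem sq_zc_mul (p : P) : (M.zc * p) * (M.zc * p) = p * p := by
  rw [mul_assoc, ← mul_assoc p, ← M.zc_comm p, mul_assoc, M.zc_zc]

theorem sq_of_Eqz {x y : P} (h : Eqz M x y) : x * x = y * y := by
  rcases h with rfl | rfl
  · rfl
  · exact sq_zc_mul y

theorem comm_or' (p q : P) : p * q = q * p ∨ p * q = M.zc * (q * p) := by
  rcases M.comm_or p q with e | e
  · left; exact mul_inv_eq_iff_eq_mul.1 e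
  · right
    rw [mul_inv_eq_iff_eq_mul] at e
    rw [e, mul_assoc]

theorem zmod2 (x : ZMod 2) : x = 0 ∨ x = 1 := by
  fin_cases x
  · exact Or.inl rfl
  · exact Or.inr rfl

/-- the square of a product, commuting case -/
theorem sq_mul_comm {p q : P} (h : p * q = q * p) :
    (p * q) * (p * q) = (p * p) * (q * q) := by
  have h1 : (p * q) * (p * q) = p * (q * p) * q := by group
  rw [h1, ← h]
  group

/-- the square of a product, the other case -/
theorem sq_mul_ncomm {p q : P} (h : ¬ p * q = q * p) :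
    (p * q) * (p * q) = M.zc * ((p * p) * (q * q)) := by
  have h1 : (p * q) * (p * q) = p * (q * p) * q := by group
  have h2 : p * q = M.zc * (q * p) := (comm_or' (M := M) p q).resolve_left h
  have h3 : q * p = M.zc * (p * q) := by rw [h2, M.zc_zc]
  rw [h1, h3, ← mul_assoc p M.zc, ← M.zc_comm p]
  group

/-- The value of the quadratic form is the square. -/
theorem sq_iff_q0 (L : Lift M θ) (v : leechLattice) : θ v * θ v = 1 ↔ q0 v = 0 := by
  classical
  refine min_induction (p := fun v => θ v * θ v = 1 ↔ q0 v = 0) ?_ ?_ ?_ ?_ v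
  · rw [sq_of_Eqz (θ_zero L), mul_one]
    have h := q0_two 0
    rw [smul_zero] at h
    exact ⟨fun _ => h, fun _ => rfl⟩
  · intro v w hv hw
    have h1 : Eqz M (θ (v + w)) (θ v * θ w) := L.add v w
    rw [sq_of_Eqz h1, q0_add]
    have h2 : (θ v * θ w = θ w * θ v) ↔ b0 v w = 0 := by
      rw [comm_iff_bf L, clP_θ, clP_θ, bf_cl]
    have hzne : M.zc ≠ 1 := M.zc_ne
    have hz2 := M.zc_mul
    have hv' : q0 v = if θ v * θ v = M.zc then 1 else 0 := by
      rcases L.sq (θ v) with e | e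
      · rw [e, if_neg (fun h => hzne h.symm)]; exact hv.1 e
      · rw [if_pos e]
        rcases zmod2 (q0 v) with f | f
        · exact absurd (hv.2 f) (by rw [e]; exact hzne)
        · exact f
    have hw' : q0 w = if θ w * θ w = M.zc then 1 else 0 := by
      rcases L.sq (θ w) with e | e
      · rw [e, if_neg (fun h => hzne h.symm)]; exact hw.1 e
      · rw [if_pos e]
        rcases zmod2 (q0 w) with f | f
        · exact absurd (hw.2 f) (by rw [e]; exact hzne)
        · exact f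
    rw [hv', hw']
    have hne : ¬ (1 : P) = M.zc := fun h => hzne h.symm
    by_cases h : θ v * θ w = θ w * θ v
    · rw [sq_mul_comm h, h2.1 h, add_zero]
      rcases L.sq (θ v) with ev | ev <;> rcases L.sq (θ w) with ew | ew <;> rw [ev, ew]
      · rw [mul_one, if_neg hne]
        exact ⟨fun _ => by decide, fun _ => rfl⟩
      · rw [one_mul, if_neg hne, if_pos rfl]
        exact ⟨fun h => absurd h hzne, fun h => absurd h (by decide)⟩
      · rw [mul_one, if_neg hne, if_pos rfl]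
        exact ⟨fun h => absurd h hzne, fun h => absurd h (by decide)⟩
      · rw [hz2, if_pos rfl]
        exact ⟨fun _ => by decide, fun _ => rfl⟩
    · have hb : b0 v w = 1 := (zmod2 (b0 v w)).resolve_left fun e => h (h2.2 e)
      rw [sq_mul_ncomm (M := M) h, hb]
      rcases L.sq (θ v) with ev | ev <;> rcases L.sq (θ w) with ew | ew <;> rw [ev, ew]
      · rw [mul_one, mul_one, if_neg hne]
        exact ⟨fun h => absurd h hzne, fun h => absurd h (by decide)⟩
      · rw [one_mul, hz2, if_neg hne, if_pos rfl]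
        exact ⟨fun _ => by decide, fun _ => rfl⟩
      · rw [mul_one, hz2, if_neg hne, if_pos rfl]
        exact ⟨fun _ => by decide, fun _ => rfl⟩
      · rw [hz2, mul_one, if_pos rfl]
        exact ⟨fun h => absurd h hzne, fun h => absurd h (by decide)⟩
  · intro v hv
    have h1 := sq_of_Eqz (θ_neg L v)
    rw [h1, hv]
    have h2 : q0 (-v) = q0 v := q0_congr (cl_neg v)
    rw [h2]
  · intro v hv
    obtain ⟨x, hx, hxv⟩ := M.lam_surj v hv
    have h1 : Eqz M (θ v) x := (θ_pm L hxv).trans (L.lam x hx)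
    rw [sq_of_Eqz h1, L.sh_sq x hx]
    have h2 : q0 v = 0 := by
      unfold q0
      have : sqNorm (v : GolayPt → ℤ) = 32 := hv
      rw [this]
      decide
    exact ⟨fun _ => h2, fun _ => rfl⟩

theorem sq_iff_qf (L : Lift M θ) (p : P) : p * p = 1 ↔ qf (clP L p) = 0 := by
  obtain ⟨v, hv⟩ := L.surj p
  have hv' : Eqz M p (θ v) := hv
  rw [sq_of_Eqz hv', (clP_eq_cl L).2 hv', qf_cl, sq_iff_q0 L]

theorem clP_act (L : Lift M θ) {k : G} {A : Co0} {α : P ≃* P} {T : Module.End ℚ W}
    (hA : Acts M.Sh M.lam M.u M.X M.Θ M.ρ k A α T) (p : P) : clP L (α p) = A • clP L p := by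
  obtain ⟨v, hv⟩ := L.surj p
  have hv' : Eqz M p (θ v) := hv
  rw [(clP_eq_cl L).2 hv', smul_cl, clP_eq_cl]
  have h1 := hv'.map α (α_zc L α)
  exact h1.trans (act_θ L hA v).symm

/-- a noncentral element is conjugate to its product with the centre -/
theorem exists_flip' (L : Lift M θ) (p : P) (hp : clP L p ≠ 0) :
    ∃ q, q * p * q⁻¹ = M.zc * p := by
  by_contra hcon
  push Not at hcon
  apply hp
  rw [clP_eq_zero]
  refine L.center p fun q => ?_
  rcases M.comm_or q p with e | e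
  · exact (mul_inv_eq_iff_eq_mul.1 e).symm
  · exact absurd e (hcon q)

/-- short elements are the elements over the vectors of type 2 -/
theorem mem_Sh_iff (L : Lift M θ) (p : P) : p ∈ M.Sh ↔ IsType 2 (clP L p) := by
  constructor
  · intro h
    refine ⟨M.lam p, ?_, ?_⟩
    · have := M.lam_norm p h
      show nrm _ = _
      rw [this]; norm_num
    · rw [eq_comm, clP_eq_cl]
      have h1 : Eqz M (θ (M.lam p)) p := L.lam p h
      exact h1.symm
  · rintro ⟨v, hv, hc⟩
    have hv' : nrm v = 32 := by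
      show sqNorm _ = _
      rw [hv]; norm_num
    obtain ⟨x, hx, hxv⟩ := M.lam_surj v hv'
    have h1 : Eqz M (θ v) x := (θ_pm L hxv).trans (L.lam x hx)
    have h2 : Eqz M p (θ v) := (clP_eq_cl L).1 hc.symm
    rcases h2.trans h1 with e | e
    · rw [e]; exact hx
    · rw [e]; exact M.Sh_z x hx

theorem qf_type2 {x : L2} (h : IsType 2 x) : qf x = 0 := by
  obtain ⟨v, hv, rfl⟩ := h
  rw [qf_cl_eq_zero, hv]
  norm_num

theorem qf_type3 {x : L2} (h : IsType 3 x) : qf x ≠ 0 := by
  obtain ⟨v, hv, rfl⟩ := h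
  rw [Ne, qf_cl_eq_zero, hv]
  norm_num

theorem qf_type4 {x : L2} (h : IsType 4 x) : qf x = 0 := by
  obtain ⟨v, hv, rfl⟩ := h
  rw [qf_cl_eq_zero, hv]
  norm_num

end Cfsg.Agent.MonsterU.TwoCls
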