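import Cfsg.Agent.MonsterU.ClassCert
import Cfsg.Agent.MonsterX.CertOrbNZero

/-!
# The height of an axis and its values on the standard lines

`hgt M num x` : the number of the `C`-orbit of the axis `x` (`0` if `x` is not an axis).
From an orbit table: `Lo` and `Flat` for the `D`-orbit of `v r`.
-/

set_option autoImplicit false

namespace Cfsg.Agent.MonsterU.Types

open Cfsg.Agent.MonsterX.Model Cfsg.Agent.MonsterX.CertOrb Cfsg.Agent.MonsterX.CertOrbModel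
open Cfsg.Agent.MonsterU.Local

variable {W : Type} [AddCommGroup W] [Module ℚ W]

open Classical in
/-- The number of the `C`-orbit. -/
noncomputable def hgt (M : MData W) (num : M.J → ℕ) (x : W) : ℕ :=
  if h : ∃ j, ∃ g ∈ M.C, x = g (M.d j) then num h.choose else 0

variable {M : MData W} {num : M.J → ℕ}

/-- Elements of different orbits. -/
def Disj (M : MData W) : Prop := ∀ j k, ∀ g ∈ M.C, g (M.d j) = M.d k → j = k

theorem hgt_eq (hd : Disj M) {j : M.J} {g : W ≃ₗ[ℚ] W} (hg : g ∈ M.C) :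
    hgt M num (g (M.d j)) = num j := by
  have h : ∃ k, ∃ g' ∈ M.C, g (M.d j) = g' (M.d k) := ⟨j, g, hg, rfl⟩
  unfold hgt
  rw [dif_pos h]
  obtain ⟨g', hg', e⟩ := h.choose_spec
  congr 1
  refine (hd j h.choose (g'⁻¹ * g) (M.C.mul_mem (M.C.inv_mem hg') hg) ?_).symm
  exact (congrArg (fun x => g'⁻¹ x) e).trans (g'.symm_apply_apply _)

theorem hgt_d (hd : Disj M) (j : M.J) : hgt M num (M.d j) = num j := hgt_eq hd (g := 1) M.C.one_mem

theorem hgt_orbit (hd : Disj M) {j : M.J} {x : W} (hx : x ∈ MulAction.orbit M.C (M.d j)) :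
    hgt M num x = num j := by
  obtain ⟨g, rfl⟩ := hx
  exact hgt_eq hd g.2

theorem hgt_of_not (x : W) (hx : x ∉ M.X) : hgt M num x = 0 := by
  unfold hgt
  exact dif_neg hx

theorem X_smul {k : W ≃ₗ[ℚ] W} (hk : k ∈ M.C) {x : W} (hx : x ∈ M.X) : k x ∈ M.X := by
  obtain ⟨j, g, hg, rfl⟩ := hx
  exact ⟨j, k * g, M.C.mul_mem hk hg, rfl⟩

theorem X_smul_iff {k : W ≃ₗ[ℚ] W} (hk : k ∈ M.C) {x : W} : k x ∈ M.X ↔ x ∈ M.X := by
  refine ⟨fun h => ?_, X_smul hk⟩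
  have h1 := X_smul (M.C.inv_mem hk) h
  have e : k⁻¹ (k x) = x := k.symm_apply_apply x
  rwa [e] at h1

theorem S_smul {k : W ≃ₗ[ℚ] W} (hk : k ∈ M.C) {x : W} (hx : x ∈ M.S) : k x ∈ M.S := by
  obtain ⟨g, hg, rfl⟩ := hx
  exact ⟨k * g, M.C.mul_mem hk hg, rfl⟩

theorem S_smul_iff {k : W ≃ₗ[ℚ] W} (hk : k ∈ M.C) {x : W} : k x ∈ M.S ↔ x ∈ M.S := by
  refine ⟨fun h => ?_, S_smul hk⟩
  have h1 := S_smul (M.C.inv_mem hk) h
  have e : k⁻¹ (k x) = x := k.symm_apply_apply x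
  rwa [e] at h1

theorem hgt_smul (hd : Disj M) {k : W ≃ₗ[ℚ] W} (hk : k ∈ M.C) (x : W) :
    hgt M num (k x) = hgt M num x := by
  by_cases hx : x ∈ M.X
  · obtain ⟨j, g, hg, rfl⟩ := hx
    rw [hgt_eq hd hg]
    exact hgt_eq hd (g := k * g) (M.C.mul_mem hk hg)
  · rw [hgt_of_not _ hx, hgt_of_not _ (fun h => hx ((X_smul_iff hk).1 h))]

/-- Invariance of the height. -/
theorem inv₁ (hd : Disj M) : Inv M.C (fun x => x ∈ M.X) (hgt M num) where
  P_smul := fun _ hk _ hw => X_smul hk hw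
  h_smul := fun _ hk w => hgt_smul hd hk w

/-! ### The standard lines -/

section Tab

variable {ρ : Type*} {N D D₀ : Subgroup (W ≃ₗ[ℚ] W)} {e ξ : W ≃ₗ[ℚ] W} {v : ρ → W}
  {jof : ρ → M.J} {tp tm : ρ → ρ}

theorem _root_.Cfsg.Agent.MonsterX.CertOrbModel.OrbTable.disj' (O : OrbTable M D D₀ e v jof tp tm) : Disj M :=
  O.disjoint

theorem v_mem_X (O : OrbTable M D D₀ e v jof tp tm) (r : ρ) : v r ∈ M.X := by
  obtain ⟨g, hg⟩ := O.ref.rep r
  exact ⟨jof r, g, g.2, hg.symm⟩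

theorem hgt_v (O : OrbTable M D D₀ e v jof tp tm) {r : ρ} {x : W} (hx : x ∈ MulAction.orbit D (v r)) :
    x ∈ M.X ∧ hgt M num x = num (jof r) := by
  have h1 := O.ref.mem_K hx
  refine ⟨?_, hgt_orbit O.disj' h1⟩
  obtain ⟨g, hg⟩ := h1
  exact ⟨jof r, g, g.2, hg.symm⟩

/-- The axes are mapped to axes. -/
theorem tau_X (O : OrbTable M D D₀ e v jof tp tm) {x : W} (hx : x ∈ M.X) : M.τ x ∈ M.X := by
  obtain ⟨j, g, hg, rfl⟩ := hx
  obtain ⟨k, g', hg', e⟩ := O.closed j g hg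
  rw [e]
  exact ⟨k, g', hg', rfl⟩

theorem tauInv_X (h3 : M.τ * M.τ * M.τ = 1) (O : OrbTable M D D₀ e v jof tp tm) {x : W} (hx : x ∈ M.X) :
    M.τ⁻¹ x ∈ M.X := by
  have h2 : M.τ⁻¹ = M.τ * M.τ := (eq_inv_of_mul_eq_one_left h3).symm
  rw [h2]
  exact tau_X O (tau_X O hx)

theorem lo_v (O : OrbTable M D D₀ e v jof tp tm) (r : ρ) :
    Lo M.τ (fun x => x ∈ M.X) (hgt M num) (v r) ↔
      num (jof (tp r)) < num (jof r) ∨ num (jof (tm r)) < num (jof r) := by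
  have h0 := hgt_v (num := num) O (MulAction.mem_orbit_self (v r) : v r ∈ MulAction.orbit D (v r))
  have h1 := hgt_v (num := num) O (O.htp r)
  have h2 := hgt_v (num := num) O (O.htm r)
  unfold Lo
  rw [h0.2, h1.2, h2.2]
  exact ⟨fun h => h.imp And.right And.right, fun h => h.imp (fun h => ⟨h1.1, h⟩) (fun h => ⟨h2.1, h⟩)⟩

theorem flat_v (O : OrbTable M D D₀ e v jof tp tm) (r : ρ) :
    Flat M.τ (fun x => x ∈ M.X) (hgt M num) (v r) ↔
      num (jof (tp r)) = num (jof r) ∨ num (jof (tm r)) = num (jof r) := by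
  have h0 := hgt_v (num := num) O (MulAction.mem_orbit_self (v r) : v r ∈ MulAction.orbit D (v r))
  have h1 := hgt_v (num := num) O (O.htp r)
  have h2 := hgt_v (num := num) O (O.htm r)
  unfold Flat
  rw [h0.2, h1.2, h2.2]
  exact ⟨fun h => h.imp And.right And.right, fun h => h.imp (fun h => ⟨h1.1, h⟩) (fun h => ⟨h2.1, h⟩)⟩

/-- Lowering lines of axes. -/
theorem lo_orbit (O : OrbTable M D D₀ e v jof tp tm) (hG : Geom M.C N D M.τ ξ) {r : ρ} {x : W}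
    (hx : x ∈ MulAction.orbit D (v r)) : Lo M.τ (fun x => x ∈ M.X) (hgt M num) x ↔
      num (jof (tp r)) < num (jof r) ∨ num (jof (tm r)) < num (jof r) := by
  obtain ⟨d, rfl⟩ := hx
  rw [← lo_v O r]
  exact Lo.smul_D_iff hG (inv₁ O.disj') d.2

/-- Flat lines of axes. -/
theorem flat_orbit (O : OrbTable M D D₀ e v jof tp tm) (hG : Geom M.C N D M.τ ξ) {r : ρ} {x : W}
    (hx : x ∈ MulAction.orbit D (v r)) : Flat M.τ (fun x => x ∈ M.X) (hgt M num) x ↔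
      num (jof (tp r)) = num (jof r) ∨ num (jof (tm r)) = num (jof r) := by
  obtain ⟨d, rfl⟩ := hx
  rw [← flat_v O r]
  exact Flat.smul_D_iff hG (inv₁ O.disj') d.2 (v_mem_X O r)

end Tab

end Cfsg.Agent.MonsterU.Types
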