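import Cfsg.Agent.MonsterU.LevFinal
import Cfsg.Agent.MonsterX.OrbDone
import Cfsg.Agent.MonsterX.KStabSpan
import Cfsg.Agent.MonsterX.KStabDone

/-!
# The facts on the concrete model without hypotheses

`mOrbit` : the structure `MOrbit` for the concrete data; `all` : the structure `Assembly.All` consumed by the three
statements; `embSt` : the embedding statement.
-/

set_option autoImplicit false

namespace Cfsg.Agent.MonsterU.Uncond

open Cfsg Cfsg.Agent.MonsterX Cfsg.Agent.MonsterX.Model

/-- **`MOrbit`** for the concrete data. -/
theorem mOrbit : MOrbit InstData.M :=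
  Instance.mOrbit OrbDone.closed OrbDone.disjoint KStabSpan.X_span OrbDone.card_X OrbDone.card_pairs KStabDone.stab

/-- **The facts consumed by the assembly.** -/
theorem all : Assembly.All InstData.M Spor.Co1 := Final.all mOrbit Instance.mTrans

/-- **The embedding statement.** -/
theorem embSt.{u} : Assembly.EmbSt.{u} InstData.M all.hG := LevFinal.embSt.{u} mOrbit Instance.mTrans

end Cfsg.Agent.MonsterU.Uncond
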